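import Cfsg.Agent.LFourB.MathieuFus_m3
import Cfsg.Agent.Lib.AutSL2Out
import Cfsg.Agent.Lib.SylowNormalInf
import Cfsg.Agent.LThreeExt.Num
import Cfsg.Agent.Transfer.Residual
import Cfsg.Agent.LThreeModel.SU3_m3
import Cfsg.Agent.LThreeExt.SU3
import Cfsg.Agent.LThreeModel.SL3
import Mathlib
import Cfsg.Agent.LFourA.KlGlue_m3
import Cfsg.Agent.LFourB.KSL
import Cfsg.Agent.LFourR.QThree
import Cfsg.Agent.TwoFusion.SLTwoFacts
import Cfsg.Agent.SylowSp4.Extremal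
import Cfsg.Agent.SylowSp4.ExtTransfer
import Cfsg.Agent.Transfer.FusionBasic
import Cfsg.Agent.TwoFusion.IndexTwo
import Cfsg.Agent.TwoFusion.OneClass
import Cfsg.Agent.SporRec.LyReduce
import Cfsg.Agent.LFourR.FixTorus_m3
import Cfsg.Agent.GH.Q2.ModelSp4_m3
import Cfsg.Agent.Lib.Cores
import Cfsg.Agent.Transfer.Tate
import Cfsg.Agent.Transfer.ResidualComplement
import Cfsg.Agent.TwoFusion.SimpleOddIndex
import Cfsg.Agent.TwoFusion.SylowTypeTransfer
import Cfsg.Agent.TwoFusion.IsolatedCenter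
import Cfsg.Agent.S0215
import Mathlib.GroupTheory.Perm.Closure
import Mathlib.GroupTheory.Perm.Fin
import Cfsg.Agent.LFourB.ProdAut
import Cfsg.Agent.SpFourOdd.LnLine_m3
import Cfsg.Agent.TwoFusion.PResidual
import Cfsg.Agent.CTFrame.Root
import Cfsg.Agent.LieClassical.SLGen
import Cfsg.Agent.ClassicalGeometry.PSL2Klein
import Cfsg.Agent.Lib.KleinGen
import Cfsg.Agent.ClassicalGeometry.PSL2Basic
import Cfsg.Agent.SylowL5.LiftQuot
import Cfsg.Agent.Lib.Hoist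
import Cfsg.Agent.SylowSp4.Closed
import Cfsg.Agent.SylowSp4.QuatId
import Cfsg.Agent.TwoFusion.ClosedZ_m3
import Cfsg.Agent.LFourA.Quot
import Cfsg.Agent.FastGrp
import Cfsg.Agent.Prune
set_option linter.all false

section
prune_inst 0x7f00000000000000000000000000000000000000000000000000000000000000000000000000000000000000000000000000000000000000000000000000000000000000000000000000000000000000003fffffffffffffffffffffffffffbeffbdffffffff

section
prune_inst 0xbcbcfbaff8addfffff7e7ffedddffdfdb8ffffffdff9fbffe069ffafdf6b02c9e56b8d6fe852ff1ed6e0b610f87b13fdffcabfee6bdc7ffffd5ff45ffbff9fedf7bd0c51d6a83e0fbc6fffe3f0778e7f000000000000000000000000000000004200000000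

-- part: LFourB/StepSixFive_mg
section
prune_inst 0x43000001122000000180012000020045000000200600001c92000000000c360290429010080001200208a400004002001540010020000000000080000040000802a120011400104000001801084000000000000000000000000000000000000000000000
set_option linter.all false
open scoped Cfsg.Agent.FastGrp

-- part: LFourB/StepSixFive
section
/-!
# Type B5, case (a2): centralisers of the factors of `C(z)/O(C(z))`

Input: `CZL (φ z) F p K₁ K₂`, `SPos φ p K₁ K₂`.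

* `two₁`, `two₂` : a 2-element centralising `K₁` lies in `K₂`, and conversely;
* `ker_cases` : if `|F|` is a prime, the elements normalising `K₁` and `K₂` lie in `K₁K₂ ∪ K₁K₂ s`;
* `cent₁`, `cent₂` : if `|F|` is a prime, `C(K₁) ≤ K₂` and `C(K₂) ≤ K₁`.
-/

set_option autoImplicit false

namespace Cfsg.Agent.LFourB.StepSixFive

open Subgroup Cfsg.Agent.LFourB M7 StepSixModel StepSixOut
open Cfsg.Agent.LFourA.CzCt
open Cfsg.Agent.Lib.SL2Mat Cfsg.Agent.Lib.AutSL2 Cfsg.Agent.Lib.AutSL2Out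

universe u

/-! ### Facts on `M7` -/

theorem cent_Q1 : ∀ m : M7, tU m = true → m * a1 = a1 * m → m * b1 = b1 * m → m ∈ Q2 := by decide +kernel
theorem cent_Q2 : ∀ m : M7, tU m = true → m * a2 = a2 * m → m * b2 = b2 * m → m ∈ Q1 := by decide +kernel
theorem b1_mem : b1 ∈ Q1 := by decide
theorem a2_mem : a2 ∈ Q2 := by decide
theorem b2_mem : b2 ∈ Q2 := by decide
theorem a1_not : a1 ∉ Q2 := by decide
theorem a2_not : a2 ∉ Q1 := by decide

/-! ### Squares of automorphisms of `SL(2,F)`, `|F|` a prime -/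

theorem ringEquiv_eq {F : Type*} [Field F] [Fintype F] (hF : (Fintype.card F).Prime) (σ : F ≃+* F) (x : F) :
    σ x = x := by
  have : Fact (Fintype.card F).Prime := ⟨hF⟩
  let e := ZMod.ringEquivOfPrime F hF rfl
  have h1 : σ.toRingHom.comp e.toRingHom = e.toRingHom := RingHom.ext_zmod _ _
  have h2 := RingHom.congr_fun h1 (e.symm x)
  have h3 : σ (e (e.symm x)) = e (e.symm x) := h2
  rwa [e.apply_symm_apply] at h3

theorem sq_inner {F : Type*} [Field F] [Fintype F] (hF : (Fintype.card F).Prime)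
    (α : MulAut (Matrix.SpecialLinearGroup (Fin 2) F)) :
    ∃ s : Matrix.SpecialLinearGroup (Fin 2) F, ∀ x, α (α x) = s * x * s⁻¹ := by
  obtain ⟨g, σ, rfl⟩ := exists_eq α
  have h1 : fieldAut σ = 1 := by
    ext x i j
    exact ringEquiv_eq hF σ _
  rw [h1, mul_one]
  obtain ⟨s, hs⟩ := conjGL_of_det_sq (g * g) g.1.det (Matrix.GeneralLinearGroup.det g).ne_zero (by
    rw [pow_two]
    exact Matrix.det_mul _ _)
  refine ⟨s, fun x => ?_⟩
  rw [← hs, map_mul]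
  rfl

theorem mem_norm {X : Type*} [Group X] [Finite X] {K : Subgroup X} {g : X} (h : ∀ x ∈ K, g * x * g⁻¹ ∈ K) :
    g ∈ normalizer (K : Set X) := by
  have h1 : K.map (MulAut.conj g).toMonoidHom = K := by
    apply Subgroup.eq_of_le_of_card_ge
    · rintro _ ⟨x, hx, rfl⟩
      exact h x hx
    · have hinj : Function.Injective (MulAut.conj g).toMonoidHom := (MulAut.conj g).injective
      exact (Subgroup.card_map_of_injective hinj).ge
  rw [Subgroup.mem_normalizer_iff]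
  intro x
  constructor
  · exact h x
  · intro hx
    rw [← h1] at hx
    obtain ⟨y, hy, e⟩ := hx
    have e' : g * y * g⁻¹ = g * x * g⁻¹ := e
    have e2 : y = x := mul_left_cancel (mul_right_cancel e')
    rwa [← e2]

/-- the square of an element normalising `K` acts on `K` as an element of `K` -/
theorem exists_sq {X : Type*} [Group X] [Finite X] {K : Subgroup X} {F : Type*} [Field F] [Fintype F]
    (hF : (Fintype.card F).Prime) (e : K ≃* Matrix.SpecialLinearGroup (Fin 2) F) {g : X}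
    (hg : ∀ x ∈ K, g * x * g⁻¹ ∈ K) : ∃ s ∈ K, ∀ y ∈ K, g * g * y * (g * g)⁻¹ = s * y * s⁻¹ := by
  obtain ⟨s, hs⟩ := sq_inner hF ((e.symm.trans (K.normalizerMonoidHom ⟨g, mem_norm hg⟩)).trans e)
  refine ⟨e.symm s, (e.symm s).2, fun y hy => ?_⟩
  have h1 := congrArg e.symm (hs (e ⟨y, hy⟩))
  rw [map_mul, map_mul, map_inv, e.symm_apply_apply] at h1
  simp only [MulEquiv.trans_apply, MulEquiv.symm_apply_apply] at h1
  have h2 := congrArg Subtype.val h1
  have h3 : g * (g * y * g⁻¹) * g⁻¹ = (e.symm s : X) * y * (e.symm s : X)⁻¹ := h2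
  rw [← h3]; group

section

variable {G X : Type*} [Group G] [Group X] [Finite X] {z' : G} {p : centralizer ({z'} : Set G) →* X}
  {K₁ K₂ : Subgroup X} {F : Type*} [Field F] [Fintype F]

theorem sq_mem (hF : (Fintype.card F).Prime) (hC : CZL z' F p K₁ K₂) {g : X}
    (h1 : ∀ x ∈ K₁, g * x * g⁻¹ ∈ K₁) (h2 : ∀ x ∈ K₂, g * x * g⁻¹ ∈ K₂) : ∃ k₁ ∈ K₁, ∃ k₂ ∈ K₂, g * g = k₁ * k₂ := by
  obtain ⟨e₁⟩ := hC.e₁
  obtain ⟨e₂⟩ := hC.e₂
  obtain ⟨s₁, hs₁, a₁⟩ := exists_sq hF e₁ h1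
  obtain ⟨s₂, hs₂, a₂⟩ := exists_sq hF e₂ h2
  have h3 := hC.cent (s₂⁻¹ * s₁⁻¹ * (g * g)) (by
    intro y hy
    have e3 : s₂⁻¹ * s₁⁻¹ * (g * g) * y = s₂⁻¹ * s₁⁻¹ * (g * g * y * (g * g)⁻¹) * (g * g) := by group
    have e4 := hC.comm y hy (s₂⁻¹) (inv_mem hs₂)
    rw [e3, a₁ y hy]
    calc s₂⁻¹ * s₁⁻¹ * (s₁ * y * s₁⁻¹) * (g * g) = s₂⁻¹ * y * s₁⁻¹ * (g * g) := by group
      _ = y * s₂⁻¹ * s₁⁻¹ * (g * g) := by rw [e4]
      _ = _ := by group) (by
    intro y hy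
    have e3 : s₂⁻¹ * s₁⁻¹ * (g * g) * y = s₂⁻¹ * s₁⁻¹ * (g * g * y * (g * g)⁻¹) * (g * g) := by group
    have e4 := hC.comm (s₁⁻¹) (inv_mem hs₁) (s₂ * y * s₂⁻¹) (mul_mem (mul_mem hs₂ hy) (inv_mem hs₂))
    rw [e3, a₂ y hy]
    calc s₂⁻¹ * s₁⁻¹ * (s₂ * y * s₂⁻¹) * (g * g) = s₂⁻¹ * (s₁⁻¹ * (s₂ * y * s₂⁻¹)) * (g * g) := by group
      _ = s₂⁻¹ * (s₂ * y * s₂⁻¹ * s₁⁻¹) * (g * g) := by rw [e4]
      _ = _ := by group)
  have h4 : ∃ t ∈ K₂, s₂⁻¹ * s₁⁻¹ * (g * g) = t := by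
    rcases h3 with h3 | h3
    · exact ⟨1, one_mem _, h3⟩
    · exact ⟨_, hC.z₂, h3⟩
  obtain ⟨t, ht, e⟩ := h4
  refine ⟨s₁, hs₁, s₂ * t, mul_mem hs₂ ht, ?_⟩
  rw [← e]; group

/-- The join of two commuting subgroups is the set of products. -/
theorem mem_sup_comm {Y : Type*} [Group Y] {A B : Subgroup Y} (comm : ∀ x ∈ A, ∀ y ∈ B, x * y = y * x) {g : Y}
    (hg : g ∈ A ⊔ B) : ∃ x ∈ A, ∃ y ∈ B, g = x * y := by
  let H : Subgroup Y :=
    { carrier := {g | ∃ x ∈ A, ∃ y ∈ B, g = x * y}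
      one_mem' := ⟨1, one_mem _, 1, one_mem _, (one_mul 1).symm⟩
      mul_mem' := by
        rintro _ _ ⟨x, hx, y, hy, rfl⟩ ⟨x', hx', y', hy', rfl⟩
        refine ⟨x * x', mul_mem hx hx', y * y', mul_mem hy hy', ?_⟩
        rw [mul_assoc, ← mul_assoc y, ← comm x' hx' y hy, mul_assoc x' y, mul_assoc]
      inv_mem' := by
        rintro _ ⟨x, hx, y, hy, rfl⟩
        refine ⟨x⁻¹, inv_mem hx, y⁻¹, inv_mem hy, ?_⟩
        rw [mul_inv_rev, comm x⁻¹ (inv_mem hx) y⁻¹ (inv_mem hy)] }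
  have h : A ⊔ B ≤ H := by
    refine sup_le (fun x hx => ⟨x, hx, 1, one_mem _, (mul_one x).symm⟩) (fun y hy => ⟨1, one_mem _, y, hy, (one_mul y).symm⟩)
  exact h hg

end

section

variable {G X : Type*} [Group G] [Finite G] [Group X] [Finite X] {S : Sylow 2 G} {φ : M7 →* G}
  {p : centralizer ({φ z} : Set G) →* X} {K₁ K₂ : Subgroup X} {F : Type*} [Field F] [Fintype F]

omit [Finite G] [Finite X] in
theorem mem₁ (hS : SPos φ p K₁ K₂) {m : M7} (hm : m ∈ Q1) : p (res φ m) ∈ K₁ := by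
  obtain ⟨_, h⟩ := mem_up.1 (hS.q₁ m hm)
  exact h

omit [Finite G] [Finite X] in
theorem mem₂ (hS : SPos φ p K₁ K₂) {m : M7} (hm : m ∈ Q2) : p (res φ m) ∈ K₂ := by
  obtain ⟨_, h⟩ := mem_up.1 (hS.q₂ m hm)
  exact h

omit [Finite G] [Finite X] in
theorem of_mem₁ (hS : SPos φ p K₁ K₂) {m : M7} (hm : p (res φ m) ∈ K₁) : m ∈ Q1 :=
  hS.inf₁ m (mem_up.2 ⟨mem_cent φ m, hm⟩)

omit [Finite G] [Finite X] in
theorem of_mem₂ (hS : SPos φ p K₁ K₂) {m : M7} (hm : p (res φ m) ∈ K₂) : m ∈ Q2 :=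
  hS.inf₂ m (mem_up.2 ⟨mem_cent φ m, hm⟩)

omit [Finite X] in
/-- the Sylow subgroup of the quotient -/
theorem exists_sylow (h : Emb7 (S : Subgroup G) φ) (hp : Function.Surjective p) :
    ∃ P : Sylow 2 X, ∀ x, x ∈ P ↔ ∃ m, p (res φ m) = x := by
  have hle : (S : Subgroup G) ≤ centralizer ({φ z} : Set G) := by
    intro x hx
    obtain ⟨m, rfl⟩ := h.exists_eq hx
    exact mem_cent φ m
  refine ⟨(S.subtype hle).mapSurjective hp, fun x => ?_⟩
  change x ∈ ((S.subtype hle : Sylow 2 (centralizer ({φ z} : Set G))) : Subgroup _).map p ↔ _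
  constructor
  · rintro ⟨y, hy, rfl⟩
    have hy' : (y : G) ∈ (S : Subgroup G) := hy
    obtain ⟨m, hm⟩ := h.exists_eq hy'
    refine ⟨m, ?_⟩
    congr 1
    exact Subtype.ext hm
  · rintro ⟨m, rfl⟩
    exact ⟨res φ m, h.mem m, rfl⟩

omit [Finite G] [Finite X] in
theorem U_of_cent₁ (hS : SPos φ p K₁ K₂) {U : X →* ℤˣ}
    (hU : ∀ g, U g ≠ 1 → ∀ x, (x ∈ K₁ → g * x * g⁻¹ ∈ K₂) ∧ (x ∈ K₂ → g * x * g⁻¹ ∈ K₁)) {g : X}
    (hg : ∀ x ∈ K₁, g * x = x * g) : U g = 1 := by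
  by_contra h1
  have h2 := (hU g h1 _).1 (mem₁ hS a1_mem)
  rw [hg _ (mem₁ hS a1_mem), mul_inv_cancel_right] at h2
  exact a1_not (of_mem₂ hS h2)

omit [Finite G] [Finite X] in
theorem U_of_cent₂ (hS : SPos φ p K₁ K₂) {U : X →* ℤˣ}
    (hU : ∀ g, U g ≠ 1 → ∀ x, (x ∈ K₁ → g * x * g⁻¹ ∈ K₂) ∧ (x ∈ K₂ → g * x * g⁻¹ ∈ K₁)) {g : X}
    (hg : ∀ x ∈ K₂, g * x = x * g) : U g = 1 := by
  by_contra h1
  have h2 := (hU g h1 _).2 (mem₂ hS a2_mem)
  rw [hg _ (mem₂ hS a2_mem), mul_inv_cancel_right] at h2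
  exact a2_not (of_mem₁ hS h2)

/-- a 2-element is conjugate to an element of the Sylow subgroup -/
theorem exists_conj (h : Emb7 (S : Subgroup G) φ) (hp : Function.Surjective p) {x : X} {k : ℕ}
    (hx : x ^ 2 ^ k = 1) : ∃ (g : X) (m : M7), g * x * g⁻¹ = p (res φ m) := by
  obtain ⟨P, hP⟩ := exists_sylow h hp
  have f2 : Fact (Nat.Prime 2) := ⟨Nat.prime_two⟩
  have h1 : IsPGroup 2 (zpowers x) := by
    obtain ⟨j, -, hj⟩ := (Nat.dvd_prime_pow Nat.prime_two).1 (orderOf_dvd_of_pow_eq_one hx)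
    exact IsPGroup.of_card (n := j) (by rw [Nat.card_zpowers, hj])
  obtain ⟨Q, hQ⟩ := h1.exists_le_sylow
  obtain ⟨g, hg⟩ := MulAction.exists_smul_eq X Q P
  have h2 : g * x * g⁻¹ ∈ P := by
    rw [← hg]
    exact ⟨x, hQ (mem_zpowers x), rfl⟩
  obtain ⟨m, hm⟩ := (hP _).1 h2
  exact ⟨g, m, hm.symm⟩

omit [Finite X] in
theorem comm_of {A : Subgroup X} {g x y : X} (hx : ∀ a ∈ A, x * a = a * x) (hg : g⁻¹ * y * g ∈ A) :
    g * x * g⁻¹ * y = y * (g * x * g⁻¹) := by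
  have h1 := hx _ hg
  calc g * x * g⁻¹ * y = g * (x * (g⁻¹ * y * g)) * g⁻¹ := by group
    _ = g * (g⁻¹ * y * g * x) * g⁻¹ := by rw [h1]
    _ = y * (g * x * g⁻¹) := by group

/-- a 2-element centralising `K₁` lies in `K₂` -/
theorem two₁ (h : Emb7 (S : Subgroup G) φ) (hp : Function.Surjective p) (hinj : ∀ m n, p (res φ m) = p (res φ n) → m = n)
    (hS : SPos φ p K₁ K₂) {x : X} {k : ℕ} (hk : x ^ 2 ^ k = 1) (hx : ∀ a ∈ K₁, x * a = a * x) : x ∈ K₂ := by
  obtain ⟨U, U1, U2, U3, -⟩ := hS.char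
  obtain ⟨g, m, e⟩ := exists_conj h hp hk
  have hUx := U_of_cent₁ hS U3 hx
  have hUm : tU m = true := by
    rw [← U1, ← e, map_mul, map_mul, hUx, map_inv, mul_one, mul_inv_cancel]
  have hgi : ∀ y, g⁻¹ * y * g = g⁻¹ * y * g⁻¹⁻¹ := fun y => by rw [inv_inv]
  have back : x = g⁻¹ * p (res φ m) * g⁻¹⁻¹ := by rw [← e]; group
  have hUg : U g = U g⁻¹ := by rw [map_inv]; rcases Int.units_eq_one_or (U g) with h1 | h1 <;> rw [h1] <;> rfl
  have key : ∀ n : M7, g⁻¹ * p (res φ n) * g ∈ K₁ → m * n = n * m := by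
    intro n hn
    have h1 := comm_of hx hn
    rw [e, ← map_mul, ← map_mul, ← map_mul, ← map_mul] at h1
    exact hinj _ _ h1
  by_cases hg : U g = 1
  · have hm : m ∈ Q2 := by
      apply cent_Q1 m hUm
      · exact key _ (by rw [hgi]; exact (U2 g⁻¹ (hUg ▸ hg) _).1 (mem₁ hS a1_mem))
      · exact key _ (by rw [hgi]; exact (U2 g⁻¹ (hUg ▸ hg) _).1 (mem₁ hS b1_mem))
    rw [back]
    exact (U2 g⁻¹ (hUg ▸ hg) _).2 (mem₂ hS hm)
  · have hm : m ∈ Q1 := by
      apply cent_Q2 m hUm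
      · exact key _ (by rw [hgi]; exact (U3 g⁻¹ (hUg ▸ hg) _).2 (mem₂ hS a2_mem))
      · exact key _ (by rw [hgi]; exact (U3 g⁻¹ (hUg ▸ hg) _).2 (mem₂ hS b2_mem))
    rw [back]
    exact (U3 g⁻¹ (hUg ▸ hg) _).1 (mem₁ hS hm)

/-- a 2-element centralising `K₂` lies in `K₁` -/
theorem two₂ (h : Emb7 (S : Subgroup G) φ) (hp : Function.Surjective p) (hinj : ∀ m n, p (res φ m) = p (res φ n) → m = n)
    (hS : SPos φ p K₁ K₂) {x : X} {k : ℕ} (hk : x ^ 2 ^ k = 1) (hx : ∀ a ∈ K₂, x * a = a * x) : x ∈ K₁ := by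
  obtain ⟨U, U1, U2, U3, -⟩ := hS.char
  obtain ⟨g, m, e⟩ := exists_conj h hp hk
  have hUx := U_of_cent₂ hS U3 hx
  have hUm : tU m = true := by
    rw [← U1, ← e, map_mul, map_mul, hUx, map_inv, mul_one, mul_inv_cancel]
  have hgi : ∀ y, g⁻¹ * y * g = g⁻¹ * y * g⁻¹⁻¹ := fun y => by rw [inv_inv]
  have back : x = g⁻¹ * p (res φ m) * g⁻¹⁻¹ := by rw [← e]; group
  have hUg : U g = U g⁻¹ := by rw [map_inv]; rcases Int.units_eq_one_or (U g) with h1 | h1 <;> rw [h1] <;> rfl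
  have key : ∀ n : M7, g⁻¹ * p (res φ n) * g ∈ K₂ → m * n = n * m := by
    intro n hn
    have h1 := comm_of hx hn
    rw [e, ← map_mul, ← map_mul, ← map_mul, ← map_mul] at h1
    exact hinj _ _ h1
  by_cases hg : U g = 1
  · have hm : m ∈ Q1 := by
      apply cent_Q2 m hUm
      · exact key _ (by rw [hgi]; exact (U2 g⁻¹ (hUg ▸ hg) _).2 (mem₂ hS a2_mem))
      · exact key _ (by rw [hgi]; exact (U2 g⁻¹ (hUg ▸ hg) _).2 (mem₂ hS b2_mem))
    rw [back]
    exact (U2 g⁻¹ (hUg ▸ hg) _).1 (mem₁ hS hm)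
  · have hm : m ∈ Q2 := by
      apply cent_Q1 m hUm
      · exact key _ (by rw [hgi]; exact (U3 g⁻¹ (hUg ▸ hg) _).1 (mem₁ hS a1_mem))
      · exact key _ (by rw [hgi]; exact (U3 g⁻¹ (hUg ▸ hg) _).1 (mem₁ hS b1_mem))
    rw [back]
    exact (U3 g⁻¹ (hUg ▸ hg) _).2 (mem₂ hS hm)

omit [Finite X] [Fintype F] in
theorem inj (h : Emb7 (S : Subgroup G) φ) (hC : CZL (φ z) F p K₁ K₂) {m n : M7} (e : p (res φ m) = p (res φ n)) :
    m = n := by
  have h1 : p (res φ (m * n⁻¹)) = 1 := by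
    rw [map_mul, map_mul, map_inv, map_inv, e, mul_inv_cancel]
  have h2 : φ (m * n⁻¹) ∈ Cfsg.centralizerPPrimeCore 2 (φ z) := (hC.ker _).1 h1
  have h3 : (orderOf (φ (m * n⁻¹))).Coprime 2 := by
    obtain ⟨y, hy, e2⟩ := h2
    have h4 : orderOf y ∣ Nat.card (Cfsg.pPrimeCore 2 ↥(centralizer ({φ z} : Set G))) := by
      have := orderOf_dvd_natCard (⟨y, hy⟩ : Cfsg.pPrimeCore 2 ↥(centralizer ({φ z} : Set G)))
      rwa [← Subgroup.orderOf_coe] at this
    have h5 : (Nat.card (Cfsg.pPrimeCore 2 ↥(centralizer ({φ z} : Set G)))).Coprime 2 :=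
      Cfsg.Agent.Lib.Cores.pPrimeCore_coprime 2
    rw [← e2, Subgroup.coe_subtype, Subgroup.orderOf_coe]
    exact Nat.Coprime.coprime_dvd_left h4 h5
  have h4 : m * n⁻¹ = 1 := by
    obtain ⟨k, hk⟩ := S.isPGroup' ⟨φ (m * n⁻¹), h.mem _⟩
    have hk' : φ (m * n⁻¹) ^ 2 ^ k = 1 := congrArg Subtype.val hk
    have h5 := orderOf_dvd_of_pow_eq_one hk'
    have h6 : orderOf (φ (m * n⁻¹)) = 1 :=
      Nat.eq_one_of_dvd_coprimes (Nat.Coprime.pow_right k h3) dvd_rfl h5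
    exact h.inj (by rw [orderOf_eq_one_iff.1 h6, map_one])
  exact mul_inv_eq_one.1 h4

theorem two (h : Emb7 (S : Subgroup G) φ) (hC : CZL (φ z) F p K₁ K₂) (hS : SPos φ p K₁ K₂) {x : X} {k : ℕ}
    (hk : x ^ 2 ^ k = 1) : ((∀ a ∈ K₁, x * a = a * x) → x ∈ K₂) ∧ ((∀ a ∈ K₂, x * a = a * x) → x ∈ K₁) :=
  ⟨two₁ h hC.surj (fun _ _ e => inj h hC e) hS hk, two₂ h hC.surj (fun _ _ e => inj h hC e) hS hk⟩

/-- the elements normalising `K₁` and `K₂`, `|F|` a prime -/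
theorem ker_cases (hF : (Fintype.card F).Prime) (h : Emb7 (S : Subgroup G) φ) (hC : CZL (φ z) F p K₁ K₂)
    (hS : SPos φ p K₁ K₂) {g : X} (h1 : ∀ x ∈ K₁, g * x * g⁻¹ ∈ K₁) :
    ∃ k₁ ∈ K₁, ∃ k₂ ∈ K₂, g = k₁ * k₂ ∨ g = k₁ * k₂ * p (res φ s) := by
  obtain ⟨U, U1, U2, U3, -⟩ := hS.char
  have hg : U g = 1 := by
    by_contra h2
    have h3 := (U3 g h2 _).1 (mem₁ hS a1_mem)
    have h4 := h1 _ (mem₁ hS a1_mem)
    have h5 : g * p (res φ a1) * g⁻¹ = g * p (res φ z) * g⁻¹ := by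
      rcases hC.inf _ h4 h3 with e | e
      · exfalso
        have h6 : p (res φ a1) = p (res φ 1) := by
          have h7 : g⁻¹ * (g * p (res φ a1) * g⁻¹) * g = p (res φ a1) := by group
          rw [← h7, e, map_one, map_one, mul_one, inv_mul_cancel]
        exact absurd (inj h hC h6) (by decide)
      · rw [e]
        have h7 : g * p (res φ z) = p (res φ z) * g := by
          obtain ⟨y, rfl⟩ := hC.surj g
          rw [← map_mul, ← map_mul]
          congr 1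
          apply Subtype.ext
          exact mem_centralizer_singleton_iff.1 y.2
        rw [h7, mul_inv_cancel_right]
        rfl
    exact absurd (inj h hC (mul_left_cancel (mul_right_cancel h5))) (by decide)
  obtain ⟨P, hP⟩ := exists_sylow h hC.surj
  have f2 : Fact (Nat.Prime 2) := ⟨Nat.prime_two⟩
  have hn : (K₁ ⊔ K₂).Normal := by
    refine ⟨fun y hy x => ?_⟩
    obtain ⟨a, ha, b, hb, rfl⟩ := mem_sup_comm hC.comm hy
    have e : x * (a * b) * x⁻¹ = (x * a * x⁻¹) * (x * b * x⁻¹) := by group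
    rw [e]
    rcases hC.norm x with ⟨i1, i2⟩ | ⟨i1, i2⟩
    · exact mul_mem (mem_sup_left (i1 a ha)) (mem_sup_right (i2 b hb))
    · exact mul_mem (mem_sup_right (i1 a ha)) (mem_sup_left (i2 b hb))
  have h2 := Cfsg.Agent.Lib.SylowNormalInf.le_sup_inf P U.ker (K₁ ⊔ K₂) (fun x hx => by
    refine ⟨1, ?_⟩
    rw [pow_one, pow_two]
    obtain ⟨k₁, hk₁, k₂, hk₂, e⟩ := sq_mem hF hC (fun y hy => (U2 x hx y).1 hy) (fun y hy => (U2 x hx y).2 hy)
    rw [e]
    exact mul_mem (mem_sup_left hk₁) (mem_sup_right hk₂))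
  have h3 : g ∈ K₁ ⊔ K₂ ⊔ ((P : Subgroup X) ⊓ U.ker) := h2 hg
  obtain ⟨y, hy, u, hu, e⟩ := Subgroup.mem_sup_of_normal_left.1 h3
  obtain ⟨m, hm⟩ := (hP u).1 hu.1
  have hUm : tU m = true := by
    rw [← U1, hm]
    exact hu.2
  have split : ∀ n : M7, n ∈ M7.Q → p (res φ n) ∈ K₁ ⊔ K₂ := by
    intro n hn
    obtain ⟨i1, i2⟩ := Q_split n hn
    have e3 : p (res φ n) = p (res φ (p1 n)) * p (res φ ((p1 n)⁻¹ * n)) := by
      rw [← map_mul, ← map_mul, mul_inv_cancel_left]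
    rw [e3]
    exact mul_mem (mem_sup_left (mem₁ hS i1)) (mem_sup_right (mem₂ hS i2))
  rcases tU_cases m hUm with h4 | h4
  · have h5 : g ∈ K₁ ⊔ K₂ := by
      rw [← e, ← hm]
      exact mul_mem hy (split m h4)
    obtain ⟨k₁, hk₁, k₂, hk₂, e4⟩ := mem_sup_comm hC.comm h5
    exact ⟨k₁, hk₁, k₂, hk₂, Or.inl e4⟩
  · have h5 : g * (p (res φ s))⁻¹ ∈ K₁ ⊔ K₂ := by
      rw [← e, ← hm, mul_assoc, ← map_inv, ← map_mul, ← map_inv, ← map_mul]
      exact mul_mem hy (split _ h4)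
    obtain ⟨k₁, hk₁, k₂, hk₂, e4⟩ := mem_sup_comm hC.comm h5
    exact ⟨k₁, hk₁, k₂, hk₂, Or.inr (by rw [← e4, inv_mul_cancel_right])⟩

/-- `C(K₁) ≤ K₂`, `|F|` a prime -/
theorem cent₁ (hF : (Fintype.card F).Prime) (h : Emb7 (S : Subgroup G) φ) (hC : CZL (φ z) F p K₁ K₂)
    (hS : SPos φ p K₁ K₂) {g : X} (hg : ∀ x ∈ K₁, g * x = x * g) : g ∈ K₂ := by
  obtain ⟨U, U1, U2, U3, -⟩ := hS.char
  have hU := U_of_cent₁ hS U3 hg
  obtain ⟨k₁, hk₁, k₂, hk₂, e⟩ := sq_mem hF hC (fun y hy => (U2 g hU y).1 hy) (fun y hy => (U2 g hU y).2 hy)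
  have h2 : g * g ∈ K₂ := by
    have h3 : k₁ ∈ K₂ := by
      have h4 : k₁ = g * g * k₂⁻¹ := by rw [e, mul_inv_cancel_right]
      have h5 := hC.cent k₁ (fun x hx => by
        have h6 := hC.comm x hx k₂⁻¹ (inv_mem hk₂)
        rw [h4, mul_assoc, ← h6, ← mul_assoc, mul_assoc g, hg x hx, ← mul_assoc, hg x hx, mul_assoc x, mul_assoc x])
        (fun x hx => hC.comm k₁ hk₁ x hx)
      rcases h5 with h5 | h5
      · rw [h5]; exact one_mem _
      · rw [h5]; exact hC.z₂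
    rw [e]
    exact mul_mem h3 hk₂
  obtain ⟨m, k, ⟨j, hj⟩, hk⟩ := MSevenFa.exists_odd_pow g
  have h3 : g ^ m ∈ K₂ := (two h hC hS hk).1 (fun a ha => (Commute.pow_left (hg a ha) m).eq)
  have h4 : g = (g * g) ^ (-(j : ℤ)) * g ^ m := by
    rw [hj, ← pow_two, ← zpow_natCast, ← zpow_natCast, ← zpow_mul, ← zpow_add]
    push_cast
    rw [show (2 : ℤ) * (-j) + (2 * j + 1) = 1 by ring, zpow_one]
  rw [h4]
  exact mul_mem (zpow_mem h2 _) h3

end

end Cfsg.Agent.LFourB.StepSixFive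
end

-- part: LFourB/MSevenRho
section
/-!
# The element `ρ` of `N(S0)` (S0510, piece F-B5, case (a2))

`ρ` normalises `V1` and `V2`, maps `z → ze → ze z`, and multiplies the coordinates `a`, `b` by `ω ^ 2`.
-/

set_option autoImplicit false

namespace Cfsg.Agent.LFourB.MQ

open Subgroup Cfsg.Agent.Lib.GoldschmidtFusion M7

/-! ### Kernel facts -/

theorem V1_index' : ∀ u v : M7, u ∈ V1 → v ∈ V1 → u ∈ Q ∨ v ∈ Q ∨ v * u ∈ Q := by decide +kernel

theorem W1_types : ∀ u : M7, u ∈ V1 → u ∈ Q → u = 1 ∨ u = z ∨ (∃ s : M7, s * ze * s⁻¹ = u) ∨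
    ((∃ s : M7, s * x1 * s⁻¹ = u) ∧ ∃ s : M7, s * (x1 * z) * s⁻¹ = u) := by decide +kernel

section

variable {G : Type*} [Group G] [Finite G] {P : Sylow 2 G} {φ : M7 →* G}

/-- **Perp lemma.** If `N(V1) ∩ C(z)` normalises `W1 = V1 ⊓ Q` and `N(V1)` is transitive on `V1 \ {1}`, then no element of
`N(V1) ∩ N(W1)` maps `z` to `ze`. -/
theorem perp (h : Emb7 (P : Subgroup G) φ) {σ : G} (hσ : Sig φ σ)
    (htr : ∃ n : G, Nm φ V1 n ∧ n * φ z * n⁻¹ = φ x2)
    (hiso : ∀ n ∈ Cz φ, Nm φ V1 n → Nm φ W1 n) {ρ : G} (hV : Nm φ V1 ρ) (hW : Nm φ W1 ρ)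
    (hρ : ρ * φ z * ρ⁻¹ = φ ze) : False := by
  -- the elements `n_u`
  have hn : ∀ u : M7, u ∈ V1 → u ∈ Q → u ≠ 1 → ∃ n : G, Nm φ V1 n ∧ Nm φ W1 n ∧ n * φ z * n⁻¹ = φ u := by
    intro u hu huQ hu1
    rcases W1_types u hu huQ with h1 | h1 | ⟨s, hs⟩ | ⟨⟨s, hs⟩, ⟨s', hs'⟩⟩
    · exact absurd h1 hu1
    · exact ⟨1, Nm.one, Nm.one, by rw [h1]; simp⟩
    · refine ⟨φ s * ρ, (Nm.image φ V1_normal s).mul hV, (Nm.image φ W1_normal s).mul hW, ?_⟩
      rw [← hs, map_mul, map_mul, map_inv, ← hρ]; group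
    · obtain ⟨m, hm, hm'⟩ := hσ.aze
      have hσW : Nm φ W1 σ := hiso σ hσ.cz hσ.nV1
      rcases Z1_cases m hm with h1 | h1
      · refine ⟨φ s * (σ * ρ), (Nm.image φ V1_normal s).mul (hσ.nV1.mul hV),
          (Nm.image φ W1_normal s).mul (hσW.mul hW), ?_⟩
        rw [← hs, map_mul, map_mul, map_inv]
        rw [h1, mul_one] at hm'
        rw [← hm', ← hρ]; group
      · refine ⟨φ s' * (σ * ρ), (Nm.image φ V1_normal s').mul (hσ.nV1.mul hV),
          (Nm.image φ W1_normal s').mul (hσW.mul hW), ?_⟩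
        rw [h1] at hm'
        rw [← hs', map_mul φ (s' * (x1 * z)), map_mul φ s', map_inv, ← hm', ← hρ]; group
  obtain ⟨n, hnV, hnz⟩ := htr
  -- an element of `W1 ⊓ n W1 n⁻¹`
  have hu : ∃ u' u : M7, u' ∈ V1 ∧ u' ∈ Q ∧ u' ≠ 1 ∧ u ∈ V1 ∧ u ∈ Q ∧ n * φ u' * n⁻¹ = φ u := by
    obtain ⟨a, ha, ha'⟩ := hnV.exists (m := ze) (by decide)
    obtain ⟨b, hb, hb'⟩ := hnV.exists (m := x1) (by decide)
    rcases V1_index' a b ha hb with h1 | h1 | h1
    · exact ⟨ze, a, by decide, by decide, by decide, ha, h1, ha'⟩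
    · exact ⟨x1, b, by decide, by decide, by decide, hb, h1, hb'⟩
    · refine ⟨x1 * ze, b * a, by decide, by decide, by decide, V1.mul_mem hb ha, h1, ?_⟩
      rw [map_mul, map_mul, ← ha', ← hb']; group
  obtain ⟨u', u, hu', huQ', hu1', hu, huQ, huu⟩ := hu
  have hu1 : u ≠ 1 := by
    intro h1
    apply hu1'
    apply h.inj
    rw [h1, map_one] at huu
    have h2 : φ u' = n⁻¹ * (n * φ u' * n⁻¹) * n := by group
    rw [h2, huu, map_one]; group
  obtain ⟨c, hcV, hcW, hcz⟩ := hn u' hu' huQ' hu1'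
  obtain ⟨d, hdV, hdW, hdz⟩ := hn u hu huQ hu1
  have hk : d⁻¹ * n * c ∈ Cz φ := by
    apply mem_Cz_of_conj
    calc d⁻¹ * n * c * φ z * (d⁻¹ * n * c)⁻¹ = d⁻¹ * (n * (c * φ z * c⁻¹) * n⁻¹) * d := by group
      _ = d⁻¹ * (d * φ z * d⁻¹) * d := by rw [hcz, huu, hdz]
      _ = φ z := by group
  have hkW := hiso _ hk ((hdV.inv.mul hnV).mul hcV)
  have hnW : Nm φ W1 n := by
    have h1 := (hdW.mul hkW).mul hcW.inv
    have e : d * (d⁻¹ * n * c) * c⁻¹ = n := by group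
    rwa [e] at h1
  obtain ⟨t, ht, ht'⟩ := hnW.exists z_mem_W1
  have h2 : x2 = t := h.inj (by rw [← ht', hnz])
  rw [← h2] at ht
  exact absurd (Subgroup.mem_inf.1 ht).2 (by decide)

end

/-! ### Linear maps of `K4` over the prime field -/

/-- The additive map with `1 ↦ x`, `ω ↦ y`. -/
def lin (x y : K4) : K4 → K4
  | .o => .o
  | .i => x
  | .w => y
  | .v => x + y

theorem lin_cases : ∀ x y : K4, x ≠ .o → y ≠ .o → x ≠ y →
    (x = .i ∧ y = .w) ∨ (x = .w ∧ y = .v) ∨ (x = .v ∧ y = .i) ∨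
      ((∀ a, lin x y (lin x y a) = a) ∧ ¬ ∀ a, lin x y a = a) := by decide

theorem lin_mul_i : ∀ a : K4, lin .i .w a = .i * a := by decide
theorem lin_mul_w : ∀ a : K4, lin .w .v a = .w * a := by decide
theorem lin_mul_v : ∀ a : K4, lin .v .i a = .v * a := by decide

theorem iterate_odd {α : Type*} {g : α → α} (hg : ∀ a, g (g a) = a) {n : ℕ} (hn : Odd n) (a : α) :
    g^[n] a = g a := by
  obtain ⟨k, rfl⟩ := hn
  have h1 : g^[2] = id := by
    funext b
    exact hg b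
  have h2 : g^[2 * k + 1] a = g^[2 * k] (g a) := Function.iterate_succ_apply g (2 * k) a
  rw [h2, Function.iterate_mul, h1, Function.iterate_id]
  rfl

/-- An additive map of `K4` of odd order is the multiplication by a non-zero element. -/
theorem exists_mul {g : K4 → K4} (hadd : ∀ a b, g (a + b) = g a + g b) (hinj : ∀ a, g a = .o → a = .o)
    {n : ℕ} (hn : Odd n) (hgn : ∀ a, g^[n] a = a) : ∃ l : K4, l ≠ .o ∧ ∀ a, g a = l * a := by
  have h0 : g .o = .o := by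
    have h1 : g (K4.i + K4.i) = g .i + g .i := hadd .i .i
    rw [K4.add_self, K4.add_self (g .i)] at h1
    exact h1
  have hl : ∀ a, g a = lin (g .i) (g .w) a := by
    intro a
    cases a
    · exact h0
    · rfl
    · rfl
    · exact hadd .i .w
  have hl' : g = lin (g .i) (g .w) := funext hl
  have h1 : g .i ≠ .o := fun h => absurd (hinj _ h) (by decide)
  have h2 : g .w ≠ .o := fun h => absurd (hinj _ h) (by decide)
  have h3 : g .i ≠ g .w := by
    intro h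
    have h4 : g .v = .o := by
      have h5 : g (K4.i + K4.w) = g .i + g .w := hadd .i .w
      rw [h, K4.add_self] at h5
      exact h5
    exact absurd (hinj _ h4) (by decide)
  rcases lin_cases _ _ h1 h2 h3 with ⟨c1, c2⟩ | ⟨c1, c2⟩ | ⟨c1, c2⟩ | ⟨c1, c2⟩
  · exact ⟨.i, by decide, fun a => by rw [hl a, c1, c2]; exact lin_mul_i a⟩
  · exact ⟨.w, by decide, fun a => by rw [hl a, c1, c2]; exact lin_mul_w a⟩
  · exact ⟨.v, by decide, fun a => by rw [hl a, c1, c2]; exact lin_mul_v a⟩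
  · exfalso
    apply c2
    intro a
    rw [← hl a]
    have h4 : ∀ a, g (g a) = a := by
      intro a
      have h5 := c1 a
      rw [← hl a, ← hl] at h5
      exact h5
    rw [← iterate_odd h4 hn a]
    exact hgn a

/-! ### Kernel facts on coordinates -/

theorem V1_mul_a : ∀ m n : M7, m ∈ V1 → n ∈ V1 → (m * n).a = m.a + n.a := by
  intro m n hm _
  rw [mul_a, ((mem_V1 m).1 hm).2]; rfl
theorem mem_Z_iff : ∀ m : M7, m ∈ Z ↔ m ∈ V1 ∧ m ∈ V2 := by decide +kernel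
theorem V1_zero : ∀ m : M7, m ∈ V1 → (m.a = .o ↔ m ∈ Z) := by decide +kernel
theorem comm_coord : ∀ m n : M7, m ∈ V1 → n ∈ V2 → m * n * m⁻¹ * n⁻¹ = ⟨.o, .o, m.a * n.b, false⟩ := by
  decide +kernel

/-- elements with given `a` coordinate -/
def xa (a : K4) : M7 := ⟨a, .o, .o, false⟩
theorem xa_mem : ∀ a : K4, xa a ∈ V1 := by decide
section

variable {G : Type*} [Group G] {P : Subgroup G} {φ : M7 →* G}

theorem Nm.pow {K : Subgroup M7} {g : G} (h : Nm φ K g) (n : ℕ) : Nm φ K (g ^ n) := by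
  induction n with
  | zero => rw [pow_zero]; exact Nm.one
  | succ n ih => rw [pow_succ]; exact ih.mul h

theorem Nm.Z (h : Emb7 P φ) {g : G} (h1 : Nm φ V1 g) (h2 : Nm φ V2 g) {m : M7} (hm : m ∈ M7.Z) :
    ∃ m' ∈ M7.Z, g * φ m * g⁻¹ = φ m' := by
  obtain ⟨m1, hm1, hm1'⟩ := h1.exists ((mem_Z_iff m).1 hm).1
  obtain ⟨m2, hm2, hm2'⟩ := h2.exists ((mem_Z_iff m).1 hm).2
  have h3 : m1 = m2 := h.inj (by rw [← hm1', hm2'])
  exact ⟨m1, (mem_Z_iff m1).2 ⟨hm1, h3 ▸ hm2⟩, hm1'⟩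

/-- The action of `g ∈ N(V1) ∩ N(V2)` on `V1 / Z`. -/
theorem exists_alpha (h : Emb7 P φ) {g : G} (h1 : Nm φ V1 g) (h2 : Nm φ V2 g) {n : ℕ} (hn : Odd n)
    (hgn : g ^ n = 1) :
    ∃ l : K4, l ≠ .o ∧ ∀ m ∈ V1, ∃ m' ∈ V1, g * φ m * g⁻¹ = φ m' ∧ m'.a = l * m.a := by
  have hch : ∀ a : K4, ∃ m' ∈ V1, g * φ (xa a) * g⁻¹ = φ m' := fun a => h1.exists (xa_mem a)
  choose F hF hF' using hch
  -- the `a` coordinate of the image depends only on the `a` coordinate
  have hdep : ∀ m ∈ V1, ∀ m' ∈ V1, g * φ m * g⁻¹ = φ m' → m'.a = (F m.a).a := by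
    intro m hm m' hm' hmm
    have h3 : (xa m.a)⁻¹ * m ∈ M7.Z := by
      have : ∀ m : M7, m ∈ V1 → (xa m.a)⁻¹ * m ∈ M7.Z := by decide +kernel
      exact this m hm
    obtain ⟨c, hc, hc'⟩ := Nm.Z h h1 h2 h3
    have h4 : m' = F m.a * c := by
      apply h.inj
      rw [map_mul, ← hc', ← hF', ← hmm, map_mul, map_inv]
      group
    have hc1 : c ∈ V1 := ((mem_Z_iff c).1 hc).1
    rw [h4, V1_mul_a _ _ (hF _) hc1, (V1_zero c hc1).2 hc]
    exact add_zero _
  have hadd : ∀ a b, (F (a + b)).a = (F a).a + (F b).a := by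
    intro a b
    rw [← V1_mul_a _ _ (hF a) (hF b)]
    have h3 : g * φ (xa a * xa b) * g⁻¹ = φ (F a * F b) := by
      rw [map_mul, map_mul, ← hF', ← hF']; group
    rw [hdep _ (V1.mul_mem (xa_mem a) (xa_mem b)) _ (V1.mul_mem (hF a) (hF b)) h3,
      V1_mul_a _ _ (xa_mem a) (xa_mem b)]
    rfl
  have hinj : ∀ a, (F a).a = .o → a = .o := by
    intro a ha
    obtain ⟨c, hc, hc'⟩ := Nm.Z h h1.inv h2.inv ((V1_zero _ (hF a)).1 ha)
    have h3 : xa a = c := by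
      apply h.inj
      rw [← hc', ← hF']
      group
    have h4 := (V1_zero _ (xa_mem a)).2 (h3 ▸ hc)
    exact h4
  -- iterates
  have hit : ∀ (k : ℕ) (m : M7), m ∈ V1 → ∀ m' ∈ V1, g ^ k * φ m * (g ^ k)⁻¹ = φ m' →
      m'.a = (fun a => (F a).a)^[k] m.a := by
    intro k
    induction k with
    | zero =>
      intro m hm m' hm' hmm
      have h3 : m = m' := h.inj (by simpa using hmm)
      rw [h3]; rfl
    | succ k ih =>
      intro m hm m' hm' hmm
      obtain ⟨t, ht, ht'⟩ := (h1.pow k).exists hm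
      have h3 : g * φ t * g⁻¹ = φ m' := by
        rw [← ht', ← hmm, pow_succ']
        group
      rw [Function.iterate_succ_apply', ← ih m hm t ht ht']
      exact hdep t ht m' hm' h3
  obtain ⟨l, hl, hl'⟩ := exists_mul (g := fun a => (F a).a) hadd hinj hn (fun a => by
    have h3 := hit n (xa a) (xa_mem a) (xa a) (xa_mem a) (by rw [hgn]; simp)
    exact h3.symm)
  refine ⟨l, hl, fun m hm => ?_⟩
  obtain ⟨m', hm', hmm⟩ := h1.exists hm
  exact ⟨m', hm', hmm, by rw [hdep m hm m' hm' hmm]; exact hl' m.a⟩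

/-! ### Rotation of `Z` -/

/-- `g` maps `z → ze → ze z → z`. -/
def Rot (φ : M7 →* G) (g : G) : Prop := g * φ z * g⁻¹ = φ ze ∧ g * φ ze * g⁻¹ = φ (ze * z)

theorem conj_pow_four (g x : G) : g ^ 4 * x * (g ^ 4)⁻¹ = g * (g * (g * (g * x * g⁻¹) * g⁻¹) * g⁻¹) * g⁻¹ := by
  simp only [pow_succ, pow_zero, one_mul, mul_inv_rev, mul_assoc]

theorem Rot.pow4 {g : G} (h : Rot φ g) : Rot φ (g ^ 4) := by
  obtain ⟨h1, h2⟩ := h
  have h3 : g * φ (ze * z) * g⁻¹ = φ z := by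
    have e : g * (φ ze * φ z) * g⁻¹ = g * φ ze * g⁻¹ * (g * φ z * g⁻¹) := by group
    rw [map_mul, e, h2, h1, ← map_mul]
    congr 1
  exact ⟨by rw [conj_pow_four, h1, h2, h3, h1], by rw [conj_pow_four, h2, h3, h1, h2]⟩

theorem Rot.pow4_pow {g : G} (h : Rot φ g) (k : ℕ) : Rot φ (g ^ 4 ^ k) := by
  induction k with
  | zero => simpa using h
  | succ k ih =>
    rw [pow_succ, pow_mul]
    exact ih.pow4

theorem exists_odd_pow [Finite G] (g : G) : ∃ k m : ℕ, Odd m ∧ (g ^ 4 ^ k) ^ m = 1 := by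
  obtain ⟨k, m, hm, hk⟩ := Nat.exists_eq_two_pow_mul_odd (orderOf_pos g).ne'
  refine ⟨k, m, hm, ?_⟩
  have h4 : (4 : ℕ) ^ k = 2 ^ k * 2 ^ k := by rw [← mul_pow]; norm_num
  rw [← pow_mul, h4, mul_assoc, ← hk, mul_comm, pow_mul, pow_orderOf_eq_one, one_pow]

/-- The element `ρ`. -/
structure Rho (φ : M7 →* G) (ρ : G) : Prop where
  nV1 : Nm φ V1 ρ
  nV2 : Nm φ V2 ρ
  rot : Rot φ ρ
  ra : ∀ m ∈ V1, ∃ m' ∈ V1, ρ * φ m * ρ⁻¹ = φ m' ∧ m'.a = .v * m.a
  rb : ∀ m ∈ V2, ∃ m' ∈ V2, ρ * φ m * ρ⁻¹ = φ m' ∧ m'.b = .v * m.b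
  odd : ∃ n : ℕ, Odd n ∧ ρ ^ n = 1

theorem Q_of_a (m m' : M7) (hm : m ∈ V1) (hmQ : m ∈ Q) (hm' : m' ∈ V1) (h : m'.a = .i * m.a) : m' ∈ Q := by
  have h1 : ∀ m : M7, m ∈ V1 → (m ∈ Q ↔ (m.a = .o ∨ m.a = .i)) := by decide +kernel
  rw [h1 m' hm', h]
  rcases (h1 m hm).1 hmQ with h2 | h2
  · rw [h2]; left; rfl
  · rw [h2]; right; rfl

theorem lmu : ∀ l u : K4, (⟨.o, .o, l * u, false⟩ : M7) = ze → l = .i ∨ u = .i ∨ (l = .v ∧ u = .v) := by decide

/-- **Existence of `ρ`.** -/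
theorem exists_rho [Finite G] (h : Emb7 P φ)
    {n : G} (hn1 : Nm φ V1 n) (hn2 : Nm φ V2 n) (hn : n * φ ze * n⁻¹ = φ z)
    (hp1 : ∀ g : G, Nm φ V1 g → Nm φ W1 g → g * φ z * g⁻¹ = φ ze → False)
    (hp2 : ∀ g : G, Nm (φ.comp swap.toMonoidHom) V1 g → Nm (φ.comp swap.toMonoidHom) W1 g →
      g * φ z * g⁻¹ = φ ze → False) : ∃ ρ : G, Rho φ ρ := by
  -- a rotation
  have hz : ∃ g : G, Nm φ V1 g ∧ Nm φ V2 g ∧ Rot φ g := by
    have key : ∀ n : G, Nm φ V1 n → Nm φ V2 n → n * φ ze * n⁻¹ = φ z → n * φ z * n⁻¹ = φ (ze * z) →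
        ∃ g : G, Nm φ V1 g ∧ Nm φ V2 g ∧ Rot φ g := by
      intro n h1 h2 h3 h4
      refine ⟨n⁻¹, h1.inv, h2.inv, ?_, ?_⟩
      · rw [← h3]; group
      · have h5 : n * φ (ze * z) * n⁻¹ = φ ze := by
          have e : n * (φ ze * φ z) * n⁻¹ = n * φ ze * n⁻¹ * (n * φ z * n⁻¹) := by group
          rw [map_mul, e, h3, h4, ← map_mul]
          congr 1
        rw [← h5]; group
    obtain ⟨c, hc, hc'⟩ := Nm.Z h hn1 hn2 (m := z) (by decide)
    have h1 : c ≠ 1 := by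
      rintro rfl
      rw [map_one] at hc'
      have h2 : φ z = 1 := by
        calc φ z = n⁻¹ * (n * φ z * n⁻¹) * n := by group
          _ = 1 := by rw [hc']; group
      exact absurd (h.inj (h2.trans (map_one φ).symm)) (by decide)
    have h2 : c ≠ z := by
      rintro rfl
      have h3 : φ ze = φ z := by
        calc φ ze = n⁻¹ * (n * φ ze * n⁻¹) * n := by group
          _ = n⁻¹ * (n * φ z * n⁻¹) * n := by rw [hn, hc']
          _ = φ z := by group
      exact absurd (h.inj h3) (by decide)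
    have h3 : ∀ c : M7, c ∈ M7.Z → c ≠ 1 → c ≠ z → c = ze ∨ c = ze * z := by decide +kernel
    rcases h3 c hc h1 h2 with rfl | rfl
    · refine key (φ f * n) ((Nm.image φ V1_normal f).mul hn1) ((Nm.image φ V2_normal f).mul hn2) ?_ ?_
      · calc φ f * n * φ ze * (φ f * n)⁻¹ = φ f * (n * φ ze * n⁻¹) * (φ f)⁻¹ := by group
          _ = φ (f * z * f⁻¹) := by rw [hn, map_mul, map_mul, map_inv]
          _ = φ z := by congr 1
      · calc φ f * n * φ z * (φ f * n)⁻¹ = φ f * (n * φ z * n⁻¹) * (φ f)⁻¹ := by group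
          _ = φ (f * ze * f⁻¹) := by rw [hc', map_mul φ (f * ze), map_mul φ f, map_inv]
          _ = φ (ze * z) := by congr 1
    · exact key n hn1 hn2 hn hc'
  obtain ⟨g, hg1, hg2, hg⟩ := hz
  obtain ⟨k, m, hm, hkm⟩ := exists_odd_pow g
  obtain ⟨ρ, hρ⟩ : ∃ ρ, ρ = g ^ 4 ^ k := ⟨_, rfl⟩
  rw [← hρ] at hkm
  have r1 : Nm φ V1 ρ := hρ ▸ hg1.pow _
  have r2 : Nm φ V2 ρ := hρ ▸ hg2.pow _
  have r3 : Rot φ ρ := hρ ▸ hg.pow4_pow _
  obtain ⟨l, hl, hl'⟩ := exists_alpha h r1 r2 hm hkm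
  have r1' : Nm (φ.comp swap.toMonoidHom) V1 ρ := by
    unfold Nm
    rw [Emb7.V1_comp_swap]; exact r2
  have r2' : Nm (φ.comp swap.toMonoidHom) V2 ρ := by
    unfold Nm
    rw [Emb7.V2_comp_swap]; exact r1
  obtain ⟨u, hu, hu'⟩ := exists_alpha h.comp_swap r1' r2' hm hkm
  have ra : ∀ m ∈ V1, ∃ m' ∈ V1, ρ * φ m * ρ⁻¹ = φ m' ∧ m'.a = l * m.a := hl'
  have rb : ∀ m ∈ V2, ∃ m' ∈ V2, ρ * φ m * ρ⁻¹ = φ m' ∧ m'.b = u * m.b := by
    intro m hm
    obtain ⟨m', hm', hmm, hma⟩ := hu' (swap m) ((swap_mem_V1 m).2 hm)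
    refine ⟨swap m', ?_, ?_, ?_⟩
    · rw [← swap_mem_V1, swap_swap]; exact hm'
    · have h1 : ρ * φ (swap (swap m)) * ρ⁻¹ = φ (swap m') := hmm
      rwa [swap_swap] at h1
    · exact hma
  -- the product
  have hlu : (⟨.o, .o, l * u, false⟩ : M7) = ze := by
    obtain ⟨m, hm, hm1, hm2⟩ := ra x1 (by decide)
    obtain ⟨m', hm', hm1', hm2'⟩ := rb y1 (by decide)
    have h1 := comm_coord m m' hm hm'
    rw [hm2, hm2'] at h1
    have h2 : φ ze = φ (m * m' * m⁻¹ * m'⁻¹) := by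
      rw [← r3.1, map_mul, map_mul, map_mul, map_inv, map_inv, ← hm1, ← hm1']
      have h3 : z = x1 * y1 * x1⁻¹ * y1⁻¹ := by decide
      rw [h3, map_mul, map_mul, map_mul, map_inv, map_inv]
      group
    have h4 := h.inj h2
    rw [h4, h1]
    have h5 : ∀ l u : K4, (l * x1.a) * (u * y1.b) = l * u := by decide
    rw [h5]
  rcases lmu l u hlu with hh | hh | ⟨hh, hh'⟩
  · exfalso
    refine hp1 ρ r1 (Nm.of_forall fun m hm => ?_) r3.1
    obtain ⟨m', hm', hm1, hm2⟩ := ra m (Subgroup.mem_inf.1 hm).1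
    rw [hh] at hm2
    exact ⟨m', Subgroup.mem_inf.2 ⟨hm', Q_of_a m m' (Subgroup.mem_inf.1 hm).1 (Subgroup.mem_inf.1 hm).2 hm' hm2⟩, hm1⟩
  · exfalso
    refine hp2 ρ r1' (Nm.of_forall fun m hm => ?_) r3.1
    obtain ⟨m', hm', hm1, hm2⟩ := hu' m (Subgroup.mem_inf.1 hm).1
    rw [hh] at hm2
    exact ⟨m', Subgroup.mem_inf.2 ⟨hm', Q_of_a m m' (Subgroup.mem_inf.1 hm).1 (Subgroup.mem_inf.1 hm).2 hm' hm2⟩, hm1⟩
  · rw [hh] at ra
    rw [hh'] at rb
    exact ⟨ρ, r1, r2, r3, ra, rb, m, hm, hkm⟩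

end

end Cfsg.Agent.LFourB.MQ

namespace Cfsg.Agent.LFourB.MSevenFf.Fus

open Subgroup M7 MSevenFb MSevenFc MSevenFe MQ
open MSevenFd (Tau)
open MSevenFa (S_le_H)
open Cfsg.Agent.SylowL5.Weak
open Cfsg.Agent.SignalizersComponents.RelSylow

universe u

variable {G : Type u} [Group G] [Finite G] {S : Sylow 2 G} {φ : M7 →* G}

theorem V1_type2 : ∀ m : M7, m ∈ V1 → m ∉ Q → ∃ s : M7, s * m * s⁻¹ = x2 := by decide +kernel

theorem nm_W1 {ψ : M7 →* G} (h : Emb7 (S : Subgroup G) ψ) (hτ : ¬ Tau ψ) {n : G} (hn : n ∈ Cz ψ) (hV : Nm ψ V1 n) :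
    Nm ψ W1 n := by
  refine Nm.of_forall fun m hm => ?_
  obtain ⟨m', hm', hmm⟩ := hV.exists (Subgroup.mem_inf.1 hm).1
  refine ⟨m', Subgroup.mem_inf.2 ⟨hm', ?_⟩, hmm⟩
  by_contra hq
  obtain ⟨s, hs⟩ := V1_type2 m' hm' hq
  have hn' : n ∈ centralizer {ψ z} := hn
  have h1 : (ψ s * n)⁻¹ * ψ x2 * (ψ s * n)⁻¹⁻¹ = ψ m := by
    calc (ψ s * n)⁻¹ * ψ x2 * (ψ s * n)⁻¹⁻¹ = n⁻¹ * ((ψ s)⁻¹ * ψ (s * m' * s⁻¹) * ψ s) * n := by rw [hs]; group
      _ = n⁻¹ * ψ m' * n := by rw [map_mul, map_mul, map_inv]; group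
      _ = ψ m := by rw [← hmm]; group
  have h2 := isol h hτ (inv_mem (mul_mem (S_le_H h (h.mem s)) hn')) h1
  have h3 : ∀ m : M7, m ∈ Q → K4.pr m.a = true := by decide +kernel
  rw [h3 m (Subgroup.mem_inf.1 hm).2] at h2
  exact absurd h2.2 (by decide)

/-- **`ρ` in the patterns (a2).** -/
theorem exists_rho (F : Fus S φ) (hτ : ¬ Tau φ) (hQ : Q2 φ) : ∃ ρ : G, Rho φ ρ := by
  obtain ⟨n, hn1, hn2, hn⟩ := F.norm
  obtain ⟨σ, hσ⟩ := F.exists_sigma
  obtain ⟨σ', hσ'⟩ : ∃ σ' : G, Sig (φ.comp swap.toMonoidHom) σ' := by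
    obtain ⟨n, hn, hn1, hn2⟩ := hQ
    exact MQ.exists_sigma F.emb.comp_swap hn hn1 hn2
  have hall2 : ∃ n : G, cj n (V2.map φ) = V2.map φ ∧ n * φ z * n⁻¹ = φ y2 := by
    rcases F.dich with h | ⟨h, _⟩
    · exact h y2 (by decide) (by decide)
    · exfalso
      obtain ⟨m, hm, hm1, hm2⟩ := hQ
      have h1 : m * φ ze * m⁻¹ = φ y1 := hm2
      have h2 := h (m * n⁻¹) y1 (by decide) (by rw [← hn, ← h1]; group)
      exact absurd h2 (by decide)
  refine MQ.exists_rho F.emb (n := n) hn1 hn2 hn ?_ ?_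
  · intro g h1 h2 h3
    obtain ⟨m, _, hm, hmx⟩ := F.all1 x2 (by decide) (by decide)
    exact perp F.emb hσ ⟨m, hm, hmx⟩ (fun n hn hV => nm_W1 F.emb hτ hn hV) h1 h2 h3
  · intro g h1 h2 h3
    obtain ⟨m, hm, hmx⟩ := hall2
    refine perp F.emb.comp_swap hσ' ⟨m, ?_, hmx⟩
      (fun n hn hV => nm_W1 F.emb.comp_swap (not_tau_swap hτ) hn hV) h1 h2 h3
    unfold Nm
    rw [Emb7.V1_comp_swap]
    exact hm

end Cfsg.Agent.LFourB.MSevenFf.Fus
end
end

-- part: LFourB/RBStd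
section
prune_inst 0x400004000000000000018000000002004500000020060000009000400000083402000090038c0001210208a4000088000010000100000000000008000000001000408020080480000200000009004000000000000000000000000000000000000000000000
set_option linter.all false
open scoped Cfsg.Agent.FastGrp

-- part: LFourB/RBPos
section
/-!
# Three `SL₂`'s of a central extension of `PSL₃(q)`, `PSU₃(q)` in standard position

`Std ρ dg std`: the facts used on `ρ : S → P` (`S = SL₃(q)` or `SU₃(q)`, `P = S / Z(S)`).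
`Pos`: `p : Y → X` a homomorphism with odd kernel, `L ⊴ X`, `L ≃* P`, three perfect subgroups `K c ≤ Y` centralising
commuting involutions `t c`, centralised by `ker p`, of the order of `std c`.
`Pos.exists_hom`: a homomorphism `φ : S → Y` with central kernel and `φ (std c) = K c`.
-/

set_option autoImplicit false

namespace Cfsg.Agent.LFourB.RB

open Subgroup Cfsg.Agent.LThreeExt

section

variable {S P : Type*} [Group S] [Group P]

/-- facts on `ρ : S → P = S / Z(S)` -/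
structure Std (ρ : S →* P) (dg : Fin 3 → S) (std : Fin 3 → Subgroup S) : Prop where
  surj : Function.Surjective ρ
  ker : ρ.ker ≤ center S
  perf : commutator S = ⊤
  /-- two distinct commuting involutions of `P` are conjugate to `ρ (dg 0)`, `ρ (dg 1)` -/
  conj : ∀ u v : P, u * u = 1 → v * v = 1 → u ≠ 1 → v ≠ 1 → u ≠ v → u * v = v * u →
    ∃ g : P, g * u * g⁻¹ = ρ (dg 0) ∧ g * v * g⁻¹ = ρ (dg 1)
  dg_mul : dg 0 * dg 1 = dg 2
  /-- a perfect subgroup of the centralizer of `ρ (dg c)` is contained in the standard `SL₂` -/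
  le : ∀ c, ∀ A : Subgroup P, ⁅A, A⁆ = A → (∀ a ∈ A, a * ρ (dg c) = ρ (dg c) * a) → A ≤ (std c).map ρ
  inj : ∀ c, ∀ s ∈ std c, ρ s = 1 → s = 1
  gen : ∀ H : Subgroup S, (∀ c, std c ≤ H) → H = ⊤

theorem Std.card_map {ρ : S →* P} {dg : Fin 3 → S} {std : Fin 3 → Subgroup S} (h : Std ρ dg std) (c : Fin 3) :
    Nat.card ((std c).map ρ : Subgroup P) = Nat.card (std c) := by
  symm
  refine Nat.card_congr (Equiv.ofBijective (fun s : std c => (⟨ρ s, mem_map_of_mem ρ s.2⟩ : (std c).map ρ)) ⟨?_, ?_⟩)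
  · intro s t hst
    have h1 : ρ s = ρ t := congrArg Subtype.val hst
    have h2 : ρ ((s : S) * (t : S)⁻¹) = 1 := by rw [map_mul, map_inv, h1, mul_inv_cancel]
    have h3 := h.inj c _ (mul_mem s.2 (inv_mem t.2)) h2
    exact Subtype.ext (mul_inv_eq_one.1 h3)
  · rintro ⟨_, s, hs, rfl⟩
    exact ⟨⟨s, hs⟩, rfl⟩

end

section Pos

variable {S P X Y : Type*} [Group S] [Group P] [Group X] [Group Y]

/-- `K c ≤ Y` perfect in the preimage of `L ≃* P`. -/
structure Pos (p : Y →* X) (L : Subgroup X) (std : Fin 3 → Subgroup S) (K : Fin 3 → Subgroup Y) (t : Fin 3 → Y) : Prop where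
  perf : ∀ c, ⁅K c, K c⁆ = K c
  le : ∀ c, (K c).map p ≤ L
  mem : ∀ c, t c ∈ K c
  cent : ∀ c, ∀ k ∈ K c, k * t c = t c * k
  sq : ∀ c, t c * t c = 1
  ne : ∀ c, p (t c) ≠ 1
  ne01 : p (t 0) ≠ p (t 1)
  comm : t 0 * t 1 = t 1 * t 0
  mul : t 0 * t 1 = t 2
  kcent : ∀ c, ∀ g ∈ p.ker, ∀ k ∈ K c, g * k = k * g
  inj : ∀ c, ∀ k ∈ K c, p k = 1 → k = 1
  card : ∀ c, Nat.card (K c) = Nat.card (std c)

variable {p : Y →* X} {L : Subgroup X} {std : Fin 3 → Subgroup S} {K : Fin 3 → Subgroup Y} {t : Fin 3 → Y}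
  {ρ : S →* P} {dg : Fin 3 → S}

/-- the subgroup generated by the three `K c` -/
def JJ (K : Fin 3 → Subgroup Y) : Subgroup Y := ⨆ c, K c

theorem le_JJ (c : Fin 3) : K c ≤ JJ K := le_iSup K c

theorem JJ_le {H : Subgroup Y} (h : ∀ c, K c ≤ H) : JJ K ≤ H := iSup_le h

theorem Pos.JJ_perfect (h : Pos p L std K t) : ⁅JJ K, JJ K⁆ = JJ K := by
  apply le_antisymm (commutator_le_self _)
  refine iSup_le fun c => ?_
  rw [← h.perf c]
  exact commutator_mono (le_JJ c) (le_JJ c)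

theorem Pos.map_JJ_le (h : Pos p L std K t) : (JJ K).map p ≤ L := by
  rw [map_le_iff_le_comap]
  exact JJ_le fun c => map_le_iff_le_comap.1 (h.le c)

theorem Pos.JJ_comm (h : Pos p L std K t) {g : Y} (hg : p g = 1) {j : Y} (hj : j ∈ JJ K) : g * j = j * g := by
  have h1 : JJ K ≤ centralizer ({g} : Set Y) := JJ_le fun c k hk => by
    rw [mem_centralizer_singleton_iff]
    exact (h.kcent c g hg k hk).symm
  exact (mem_centralizer_singleton_iff.1 (h1 hj)).symm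

/-- standard position: there is a homomorphism `π : JJ K → P` with `π (K c) = ρ (std c)` and kernel `JJ K ∩ ker p`. -/
theorem Pos.exists_pi [Finite P] [Finite Y] (h : Pos p L std K t) (hS : Std ρ dg std) (θ : L ≃* P) :
    ∃ π : JJ K →* P, Function.Surjective π ∧ (∀ j : JJ K, π j = 1 ↔ p j = 1) ∧
      ∀ c, ((K c).subgroupOf (JJ K)).map π = (std c).map ρ := by
  -- the homomorphism to `P`
  let f : JJ K →* P := θ.toMonoidHom.comp ((p.comp (JJ K).subtype).codRestrict L (fun j => h.map_JJ_le ⟨j, j.2, rfl⟩))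
  have hf1 : ∀ j : JJ K, f j = 1 ↔ p j = 1 := by
    intro j
    have e : f j = θ ⟨p j, h.map_JJ_le ⟨j, j.2, rfl⟩⟩ := rfl
    rw [e, map_eq_one_iff θ θ.injective]
    exact ⟨fun h => congrArg Subtype.val h, fun h => Subtype.ext h⟩
  let T : Fin 3 → JJ K := fun c => ⟨t c, le_JJ c (h.mem c)⟩
  have hT2 : ∀ c, T c * T c = 1 := fun c => Subtype.ext (h.sq c)
  have hTm : T 0 * T 1 = T 2 := Subtype.ext h.mul
  have hTc : T 0 * T 1 = T 1 * T 0 := Subtype.ext h.comm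
  have hTne : ∀ c, f (T c) ≠ 1 := fun c hc => h.ne c ((hf1 _).1 hc)
  have hT01 : f (T 0) ≠ f (T 1) := by
    intro e
    have e1 : f (T 0 * (T 1)⁻¹) = 1 := by rw [map_mul, map_inv, e, mul_inv_cancel]
    have e2 := (hf1 _).1 e1
    have e3 : p (t 0) * (p (t 1))⁻¹ = 1 := by
      have : ((T 0 * (T 1)⁻¹ : JJ K) : Y) = t 0 * (t 1)⁻¹ := rfl
      rw [this, map_mul, map_inv] at e2
      exact e2
    exact h.ne01 (mul_inv_eq_one.1 e3)
  obtain ⟨g, hg0, hg1⟩ := hS.conj (f (T 0)) (f (T 1)) (by rw [← map_mul, hT2, map_one])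
    (by rw [← map_mul, hT2, map_one]) (hTne 0) (hTne 1) hT01 (by rw [← map_mul, hTc, map_mul])
  let π : JJ K →* P := (MulAut.conj g).toMonoidHom.comp f
  have hπv : ∀ j, π j = g * f j * g⁻¹ := fun j => rfl
  have hπ1 : ∀ j : JJ K, π j = 1 ↔ p j = 1 := by
    intro j
    rw [hπv, ← hf1]
    constructor
    · intro e
      have : f j = g⁻¹ * (g * f j * g⁻¹) * g := by group
      rw [this, e]; group
    · intro e
      rw [e]; group
  have hπt : ∀ c, π (T c) = ρ (dg c) := by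
    intro c
    have e0 : π (T 0) = ρ (dg 0) := hg0
    have e1 : π (T 1) = ρ (dg 1) := hg1
    have e2 : π (T 2) = ρ (dg 2) := by
      rw [← hTm, map_mul, e0, e1, ← map_mul, hS.dg_mul]
    fin_cases c
    · exact e0
    · exact e1
    · exact e2
  have hstd : ∀ c, ((K c).subgroupOf (JJ K)).map π = (std c).map ρ := by
    intro c
    have hle : ((K c).subgroupOf (JJ K)).map π ≤ (std c).map ρ := by
      apply hS.le c
      · rw [← map_commutator]
        congr 1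
        apply map_injective (JJ K).subtype_injective
        rw [map_commutator, subgroupOf_map_subtype, inf_of_le_left (le_JJ c), h.perf c]
      · rintro _ ⟨a, ha, rfl⟩
        rw [← hπt c, ← map_mul, ← map_mul]
        congr 1
        exact Subtype.ext (h.cent c a (mem_subgroupOf.1 ha))
    have hcard : Nat.card (((K c).subgroupOf (JJ K)).map π : Subgroup P) = Nat.card ((std c).map ρ : Subgroup P) := by
      rw [hS.card_map, ← h.card c]
      symm
      refine Nat.card_congr (Equiv.ofBijective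
        (fun k : K c => (⟨π ⟨k, le_JJ c k.2⟩, mem_map_of_mem π (mem_subgroupOf.2 k.2)⟩ :
          ((K c).subgroupOf (JJ K)).map π)) ⟨?_, ?_⟩)
      · intro a b hab
        have h1 : π ⟨a, le_JJ c a.2⟩ = π ⟨b, le_JJ c b.2⟩ := congrArg Subtype.val hab
        have h2 : π (⟨a, le_JJ c a.2⟩ * ⟨b, le_JJ c b.2⟩⁻¹) = 1 := by rw [map_mul, map_inv, h1, mul_inv_cancel]
        have h3 := (hπ1 _).1 h2
        have h4 := h.inj c ((a : Y) * (b : Y)⁻¹) (mul_mem a.2 (inv_mem b.2)) h3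
        exact Subtype.ext (mul_inv_eq_one.1 h4)
      · rintro ⟨_, a, ha, rfl⟩
        exact ⟨⟨a, mem_subgroupOf.1 ha⟩, rfl⟩
    exact eq_of_le_of_card_ge hle hcard.ge
  refine ⟨π, ?_, hπ1, hstd⟩
  rw [← MonoidHom.range_eq_top]
  have h1 : (π.range).comap ρ = ⊤ := hS.gen _ fun c => by
    rw [← map_le_iff_le_comap, ← hstd c]
    exact map_le_range _ _
  rw [eq_top_iff]
  intro y _
  obtain ⟨s, rfl⟩ := hS.surj y
  have : s ∈ (π.range).comap ρ := by rw [h1]; exact mem_top _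
  exact this

/-- **The homomorphism from `SL₃(q)`, `SU₃(q)`.** -/
theorem Pos.exists_hom {C : Type*} [CommGroup C] [IsCyclic C] [Finite S] [Finite P] [Finite Y] {M : Tri S C} {q e : ℤ}
    (h : Pos p L M.std K t) (hN : M.NumData q e) (hS : Std ρ dg M.std) (θ : L ≃* P)
    (hr : ∀ r : ℕ, r.Prime → r ∣ Nat.card (JJ K ⊓ p.ker : Subgroup Y) → r ≠ 2 ∧ (r : ℤ) ∣ q - e) :
    ∃ φ : S →* Y, φ.ker ≤ center S ∧ (∀ c, (M.std c).map φ = K c) ∧ φ.range = JJ K := by
  obtain ⟨π, hπ, hπ1, hstd⟩ := h.exists_pi hS θ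
  have hkπ : π.ker ≤ center (JJ K) := by
    intro j hj
    rw [mem_center_iff]
    intro g
    exact Subtype.ext (h.JJ_comm ((hπ1 j).1 hj) g.2).symm
  have hJ : commutator (JJ K) = ⊤ := perfect_coe h.JJ_perfect
  have hcard : Nat.card π.ker = Nat.card (JJ K ⊓ p.ker : Subgroup Y) := by
    refine Nat.card_congr (Equiv.ofBijective
      (fun j : π.ker => (⟨(j : JJ K), ⟨(j : JJ K).2, (hπ1 j).1 j.2⟩⟩ : (JJ K ⊓ p.ker : Subgroup Y))) ⟨?_, ?_⟩)
    · intro a b hab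
      have e : ((a : JJ K) : Y) = ((b : JJ K) : Y) := congrArg (fun z : (JJ K ⊓ p.ker : Subgroup Y) => (z : Y)) hab
      exact Subtype.ext (Subtype.ext e)
    · rintro ⟨y, hy1, hy2⟩
      exact ⟨⟨⟨y, hy1⟩, (hπ1 _).2 hy2⟩, rfl⟩
  obtain ⟨φ, hφ, hφρ, hφK⟩ := hN.exists_hom π ρ hπ hS.surj hkπ hJ hS.perf (by rw [hcard]; exact hr)
  refine ⟨(JJ K).subtype.comp φ, ?_, ?_, ?_⟩
  · intro s hs
    apply hS.ker
    have h1 : φ s = 1 := Subtype.ext hs
    have h2 : π (φ s) = ρ s := DFunLike.congr_fun hφρ s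
    rw [MonoidHom.mem_ker, ← h2, h1, map_one]
  · intro c
    rw [← map_map, hφK c ((K c).subgroupOf (JJ K)) ?_ (hstd c), subgroupOf_map_subtype, inf_of_le_left (le_JJ c)]
    apply map_injective (JJ K).subtype_injective
    rw [map_commutator, subgroupOf_map_subtype, inf_of_le_left (le_JJ c), h.perf c]
  · rw [MonoidHom.range_comp, MonoidHom.range_eq_top.2 hφ, ← MonoidHom.range_eq_map, range_subtype]

end Pos

end Cfsg.Agent.LFourB.RB
end

-- part: LFourB/RBMid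
section
/-!
# The subgroup generated by three `SL₂`'s in a group with normal section `PSL₃(q)`, `PSU₃(q)`

`Mid`: `p : Y → X` surjective with odd kernel, `L ⊴ X`, `L ≃* P`, three perfect subgroups `K c ≤ Y` generated by
2-elements, in the preimage of `L`, normalised by `C_Y(t c)`.
`Mid.pos`: the positions of `K c` are the standard ones. `Mid.map_JJ`, `Mid.JJ_normal`, `Mid.exists_mul`:
`J = ⟨K c⟩` is normal in `Y`, `p J = L`, `Y = J · C_Y(t c)`.
-/

set_option autoImplicit false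

namespace Cfsg.Agent.LFourB.RB

open Subgroup Cfsg.Agent.LThreeExt

/-- generated by elements of 2-power order -/
def TwoGen {G : Type*} [Group G] (A : Subgroup G) : Prop :=
  ∀ H : Subgroup G, (∀ x ∈ A, (∃ k : ℕ, x ^ 2 ^ k = 1) → x ∈ H) → A ≤ H

theorem TwoGen.map {G H : Type*} [Group G] [Group H] {A : Subgroup G} (h : TwoGen A) (f : G →* H) : TwoGen (A.map f) := by
  intro B hB
  rw [map_le_iff_le_comap]
  apply h
  rintro x hx ⟨k, hk⟩
  exact hB (f x) (mem_map_of_mem f hx) ⟨k, by rw [← map_pow, hk, map_one]⟩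

theorem twoGen_iSup {G : Type*} [Group G] {ι : Type*} {A : ι → Subgroup G} (h : ∀ i, TwoGen (A i)) : TwoGen (⨆ i, A i) := by
  intro B hB
  exact iSup_le fun i => h i B fun x hx hk => hB x (le_iSup A i hx) hk

/-- Perfect subgroups generated by 2-elements lie in a normal subgroup of odd index in the residual. -/
theorem le_of_two {X : Type*} [Group X] [Finite X] {L R : Subgroup X} (hL : L.Normal) (hR : R.Normal)
    (hp : IsPGroup 2 (X ⧸ R)) (hodd : Odd (L.relIndex R)) {A : Subgroup X} (hA : ⁅A, A⁆ = A) (h2 : TwoGen A) :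
    A ≤ L := by
  have : Fact (Nat.Prime 2) := ⟨Nat.prime_two⟩
  have hAR : A ≤ R := by
    have hnil : Group.IsNilpotent (X ⧸ R) := hp.isNilpotent
    have hs : Group.IsSolvable (X ⧸ R) := inferInstance
    obtain ⟨n, hn⟩ := hs.solvable
    have key : ∀ n, A.map (QuotientGroup.mk' R) ≤ derivedSeries (X ⧸ R) n := by
      intro n
      induction n with
      | zero => exact le_top
      | succ n ih =>
        rw [derivedSeries_succ]
        calc A.map (QuotientGroup.mk' R) = ⁅A.map (QuotientGroup.mk' R), A.map (QuotientGroup.mk' R)⁆ := by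
              rw [← map_commutator, hA]
          _ ≤ _ := commutator_mono ih ih
    have h1 := key n
    rw [hn, le_bot_iff, Subgroup.map_eq_bot_iff, QuotientGroup.ker_mk'] at h1
    exact h1
  apply h2
  rintro x hx ⟨k, hk⟩
  -- the image of `x` in `R / L`
  have hn : (L.subgroupOf R).Normal := hL.subgroupOf R
  have h3 : orderOf (QuotientGroup.mk' (L.subgroupOf R) ⟨x, hAR hx⟩) ∣ 2 ^ k := by
    apply orderOf_dvd_of_pow_eq_one
    rw [← map_pow]
    have : (⟨x, hAR hx⟩ : R) ^ 2 ^ k = 1 := Subtype.ext hk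
    rw [this, map_one]
  have h4 : orderOf (QuotientGroup.mk' (L.subgroupOf R) ⟨x, hAR hx⟩) ∣ L.relIndex R := by
    rw [relIndex, index_eq_card]; exact _root_.orderOf_dvd_natCard _
  have h5 : Nat.Coprime (2 ^ k) (L.relIndex R) := Nat.Coprime.pow_left k (Nat.coprime_two_left.2 hodd)
  have h6 := Nat.eq_one_of_dvd_coprimes h5 h3 h4
  rw [orderOf_eq_one_iff, QuotientGroup.mk'_apply, QuotientGroup.eq_one_iff, mem_subgroupOf] at h6
  exact h6

section

variable {S P X Y : Type*} [Group S] [Group P] [Group X] [Group Y]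

/-- further facts on the standard `SL₂`'s -/
structure StdQ (dg : Fin 3 → S) (std : Fin 3 → Subgroup S) : Prop where
  dcent : ∀ c, ∀ s ∈ std c, s * dg c = dg c * s
  qs : ∀ c, ∀ A ≤ std c, ⁅A, A⁆ = A → (∀ s ∈ std c, ∀ a ∈ A, s * a * s⁻¹ ∈ A) → A = ⊥ ∨ A = std c

/-- `K c ≤ Y` in the preimage of `L ⊴ X`. -/
structure Mid (p : Y →* X) (L : Subgroup X) (K : Fin 3 → Subgroup Y) (t : Fin 3 → Y) : Prop where
  surj : Function.Surjective p
  odd : Odd (Nat.card p.ker)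
  normal : L.Normal
  le : ∀ c, (K c).map p ≤ L
  perf : ∀ c, ⁅K c, K c⁆ = K c
  gen : ∀ c, TwoGen (K c)
  mem : ∀ c, t c ∈ K c
  cent : ∀ c, ∀ k ∈ K c, k * t c = t c * k
  sq : ∀ c, t c * t c = 1
  ne : ∀ c, p (t c) ≠ 1
  ne01 : p (t 0) ≠ p (t 1)
  comm : t 0 * t 1 = t 1 * t 0
  mul : t 0 * t 1 = t 2
  kcent : ∀ c, ∀ g ∈ p.ker, ∀ k ∈ K c, g * k = k * g
  norm : ∀ c, ∀ g : Y, g * t c = t c * g → ∀ k ∈ K c, g * k * g⁻¹ ∈ K c

variable {p : Y →* X} {L : Subgroup X} {std : Fin 3 → Subgroup S} {K : Fin 3 → Subgroup Y} {t : Fin 3 → Y}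
  {ρ : S →* P} {dg : Fin 3 → S}

namespace Mid

theorem JJ_comm (h : Mid p L K t) {g : Y} (hg : p g = 1) {j : Y} (hj : j ∈ JJ K) : g * j = j * g := by
  have h1 : JJ K ≤ centralizer ({g} : Set Y) := JJ_le fun c k hk => by
    rw [mem_centralizer_singleton_iff]
    exact (h.kcent c g hg k hk).symm
  exact (mem_centralizer_singleton_iff.1 (h1 hj)).symm

/-- an element of the kernel with trivial square is trivial -/
theorem eq_one_of_sq (h : Mid p L K t) {k : Y} (hk : p k = 1) (h2 : k * k = 1) : k = 1 := by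
  have h3 : orderOf k ∣ 2 := orderOf_dvd_of_pow_eq_one (by rw [pow_two, h2])
  have h4 : orderOf k ∣ Nat.card p.ker := by
    have := _root_.orderOf_dvd_natCard (⟨k, hk⟩ : p.ker)
    rwa [← orderOf_coe] at this
  have h5 : Nat.Coprime 2 (Nat.card p.ker) := Nat.coprime_two_left.2 h.odd
  exact orderOf_eq_one_iff.1 (Nat.eq_one_of_dvd_coprimes h5 h3 h4)

/-- if `p y` commutes with `p (t c)` then `y` commutes with `t c` -/
theorem comm_of (h : Mid p L K t) {c : Fin 3} {y : Y} (hy : p y * p (t c) = p (t c) * p y) : y * t c = t c * y := by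
  have h1 : p (y * t c * y⁻¹ * (t c)⁻¹) = 1 := by
    rw [map_mul, map_mul, map_mul, map_inv, map_inv, hy]; group
  have h2 := h.kcent c _ h1 _ (h.mem c)
  have h3 : y * t c * y⁻¹ * (t c)⁻¹ = 1 := by
    apply h.eq_one_of_sq h1
    have hi : (t c)⁻¹ = t c := inv_eq_of_mul_eq_one_left (h.sq c)
    set k := y * t c * y⁻¹ * (t c)⁻¹ with hk
    have e1 : k * t c = y * t c * y⁻¹ := by rw [hk]; group
    have e2 : (y * t c * y⁻¹) * (y * t c * y⁻¹) = 1 := by
      calc (y * t c * y⁻¹) * (y * t c * y⁻¹) = y * (t c * t c) * y⁻¹ := by group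
        _ = 1 := by rw [h.sq]; group
    calc k * k = k * (k * (t c * t c)) := by rw [h.sq, mul_one]
      _ = k * (k * t c) * t c := by group
      _ = k * (t c * k) * t c := by rw [h2]
      _ = (k * t c) * (k * t c) := by group
      _ = 1 := by rw [e1, e2]
  rw [← mul_inv_eq_iff_eq_mul]
  exact mul_inv_eq_one.1 h3

theorem tL (h : Mid p L K t) (c : Fin 3) : p (t c) ∈ L := h.le c (mem_map_of_mem p (h.mem c))

/-- standard position -/
theorem exists_conj [Finite P] (h : Mid p L K t) (hS : Std ρ dg std) (hQ : StdQ dg std) (θ : L ≃* P) :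
    ∃ g : P, (∀ c, g * θ ⟨p (t c), h.tL c⟩ * g⁻¹ = ρ (dg c)) ∧
      ∀ c, ∀ x : L, (x : X) ∈ (K c).map p ↔ g * θ x * g⁻¹ ∈ (std c).map ρ := by
  have htL : ∀ c, p (t c) ∈ L := h.tL
  let T : Fin 3 → L := fun c => ⟨p (t c), htL c⟩
  have hT2 : ∀ c, T c * T c = 1 := fun c => Subtype.ext (by
    change p (t c) * p (t c) = 1
    rw [← map_mul, h.sq, map_one])
  have hTm : T 0 * T 1 = T 2 := Subtype.ext (by
    change p (t 0) * p (t 1) = p (t 2)
    rw [← map_mul, h.mul])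
  have hTc : T 0 * T 1 = T 1 * T 0 := Subtype.ext (by
    change p (t 0) * p (t 1) = p (t 1) * p (t 0)
    rw [← map_mul, h.comm, map_mul])
  have hTne : ∀ c, θ (T c) ≠ 1 := fun c hc => h.ne c (congrArg Subtype.val ((map_eq_one_iff θ θ.injective).1 hc))
  have hT01 : θ (T 0) ≠ θ (T 1) := fun e => h.ne01 (congrArg Subtype.val (θ.injective e))
  obtain ⟨g, hg0, hg1⟩ := hS.conj (θ (T 0)) (θ (T 1)) (by rw [← map_mul, hT2, map_one])
    (by rw [← map_mul, hT2, map_one]) (hTne 0) (hTne 1) hT01 (by rw [← map_mul, hTc, map_mul])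
  have hg2 : g * θ (T 2) * g⁻¹ = ρ (dg 2) := by
    rw [← hTm, map_mul, ← hS.dg_mul, map_mul, ← hg0, ← hg1]; group
  have hgc : ∀ c, g * θ (T c) * g⁻¹ = ρ (dg c) := by
    intro c
    fin_cases c
    · exact hg0
    · exact hg1
    · exact hg2
  refine ⟨g, hgc, fun c => ?_⟩
  -- the image of `K c`
  let A : Subgroup P := (((K c).map p).subgroupOf L).map ((MulAut.conj g).toMonoidHom.comp θ.toMonoidHom)
  have hA : ∀ x : L, g * θ x * g⁻¹ ∈ A ↔ (x : X) ∈ (K c).map p := by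
    intro x
    constructor
    · rintro ⟨y, hy, hyx⟩
      have e : g * θ y * g⁻¹ = g * θ x * g⁻¹ := hyx
      rw [mul_left_inj, mul_right_inj] at e
      rw [← θ.injective e]
      exact mem_subgroupOf.1 hy
    · intro hx
      exact ⟨x, mem_subgroupOf.2 hx, rfl⟩
  have hAle : A ≤ (std c).map ρ := by
    apply hS.le c
    · rw [← map_commutator]
      congr 1
      apply map_injective L.subtype_injective
      rw [map_commutator, subgroupOf_map_subtype, inf_of_le_left (h.le c), ← map_commutator, h.perf c]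
    · rintro _ ⟨x, hx, rfl⟩
      rw [SetLike.mem_coe, mem_subgroupOf] at hx
      obtain ⟨k, hk, hkx⟩ := hx
      have e1 : x * T c = T c * x := Subtype.ext (by
        change (x : X) * p (t c) = p (t c) * x
        rw [← hkx, ← map_mul, h.cent c k hk, map_mul])
      change g * θ x * g⁻¹ * ρ (dg c) = ρ (dg c) * (g * θ x * g⁻¹)
      rw [← hgc c]
      calc g * θ x * g⁻¹ * (g * θ (T c) * g⁻¹) = g * (θ x * θ (T c)) * g⁻¹ := by group
        _ = g * (θ (T c) * θ x) * g⁻¹ := by rw [← map_mul, e1, map_mul]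
        _ = _ := by group
  -- `B ≤ std c` with `ρ B = A`
  let B : Subgroup S := std c ⊓ A.comap ρ
  have hBA : B.map ρ = A := by
    apply le_antisymm
    · rintro _ ⟨s, ⟨_, hs⟩, rfl⟩
      exact hs
    · intro a ha
      obtain ⟨s, hs, rfl⟩ := hAle ha
      exact ⟨s, ⟨hs, ha⟩, rfl⟩
  have hAA : ⁅A, A⁆ = A := by
    rw [← map_commutator]
    congr 1
    apply map_injective L.subtype_injective
    rw [map_commutator, subgroupOf_map_subtype, inf_of_le_left (h.le c), ← map_commutator, h.perf c]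
  have hBB : ⁅B, B⁆ = B := by
    apply le_antisymm (commutator_le_self _)
    intro b hb
    have h1 : ρ b ∈ (⁅B, B⁆ : Subgroup S).map ρ := by
      rw [map_commutator, hBA, hAA]
      exact hb.2
    obtain ⟨b', hb', e⟩ := h1
    have h2 : b' ∈ std c := (commutator_le_self B hb').1
    have h3 : ρ (b * b'⁻¹) = 1 := by rw [map_mul, map_inv, e, mul_inv_cancel]
    have h4 := hS.inj c (b * b'⁻¹) (mul_mem (S := Subgroup S) hb.1 (inv_mem h2)) h3
    rw [mul_inv_eq_one.1 h4]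
    exact hb'
  have hBn : ∀ s ∈ std c, ∀ a ∈ B, s * a * s⁻¹ ∈ B := by
    intro s hs a ha
    refine ⟨(std c).mul_mem ((std c).mul_mem hs ha.1) ((std c).inv_mem hs), ?_⟩
    -- lift
    let x : L := θ.symm (g⁻¹ * ρ s * g)
    have hx : g * θ x * g⁻¹ = ρ s := by
      rw [θ.apply_symm_apply]; group
    have hxT : x * T c = T c * x := by
      apply θ.injective
      rw [map_mul, map_mul]
      have e1 : θ x = g⁻¹ * ρ s * g := θ.apply_symm_apply _
      have e2 : θ (T c) = g⁻¹ * ρ (dg c) * g := by rw [← hgc c]; group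
      rw [e1, e2]
      calc g⁻¹ * ρ s * g * (g⁻¹ * ρ (dg c) * g) = g⁻¹ * (ρ s * ρ (dg c)) * g := by group
        _ = g⁻¹ * (ρ (dg c) * ρ s) * g := by rw [← map_mul, hQ.dcent c s hs, map_mul]
        _ = _ := by group
    obtain ⟨y, hy⟩ := h.surj x
    have hyt : y * t c = t c * y := h.comm_of (by
      rw [hy]; exact congrArg Subtype.val hxT)
    -- the element `a`
    have ha2 : ρ a ∈ A := ha.2
    obtain ⟨x', hx', hxa⟩ := ha2
    rw [SetLike.mem_coe, mem_subgroupOf] at hx'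
    obtain ⟨k, hk, hkx⟩ := hx'
    have e3 : g * θ x' * g⁻¹ = ρ a := hxa
    have e4 : ρ (s * a * s⁻¹) = g * θ (x * x' * x⁻¹) * g⁻¹ := by
      rw [map_mul, map_mul, map_inv, ← hx, ← e3, map_mul, map_mul, map_inv]; group
    change ρ (s * a * s⁻¹) ∈ A
    rw [e4, hA]
    refine ⟨y * k * y⁻¹, h.norm c y hyt k hk, ?_⟩
    rw [map_mul, map_mul, map_inv, hy, hkx]; rfl
  rcases hQ.qs c B inf_le_left hBB hBn with h0 | h0
  · exfalso
    have h1 : ρ (dg c) ∈ A := by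
      rw [← hgc c, hA]
      exact mem_map_of_mem p (h.mem c)
    rw [← hBA, h0, Subgroup.map_bot, mem_bot, ← hgc c] at h1
    apply hTne c
    have : θ (T c) = g⁻¹ * (g * θ (T c) * g⁻¹) * g := by group
    rw [this, h1]; group
  · intro x
    rw [← hA, ← hBA, h0]

/-- The positions are standard. -/
theorem pos [Finite P] (h : Mid p L K t) (hinj : ∀ c, ∀ k ∈ K c, p k = 1 → k = 1) (hS : Std ρ dg std)
    (hQ : StdQ dg std) (θ : L ≃* P) : Pos p L std K t where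
  perf := h.perf
  le := h.le
  mem := h.mem
  cent := h.cent
  sq := h.sq
  ne := h.ne
  ne01 := h.ne01
  comm := h.comm
  mul := h.mul
  kcent := h.kcent
  inj := hinj
  card := by
    intro c
    obtain ⟨g, -, hg⟩ := h.exists_conj hS hQ θ
    rw [← hS.card_map c]
    refine Nat.card_congr (Equiv.ofBijective
      (fun k : K c => (⟨g * θ ⟨p k, h.le c (mem_map_of_mem p k.2)⟩ * g⁻¹,
        (hg c ⟨p k, h.le c (mem_map_of_mem p k.2)⟩).1 (mem_map_of_mem p k.2)⟩ : (std c).map ρ)) ⟨?_, ?_⟩)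
    · intro a b hab
      have e : g * θ ⟨p a, h.le c (mem_map_of_mem p a.2)⟩ * g⁻¹ = g * θ ⟨p b, h.le c (mem_map_of_mem p b.2)⟩ * g⁻¹ :=
        congrArg Subtype.val hab
      rw [mul_left_inj, mul_right_inj] at e
      have e2 : p a = p b := congrArg Subtype.val (θ.injective e)
      have e3 : p ((a : Y) * (b : Y)⁻¹) = 1 := by rw [map_mul, map_inv, e2, mul_inv_cancel]
      exact Subtype.ext (mul_inv_eq_one.1 (hinj c _ (mul_mem a.2 (inv_mem b.2)) e3))
    · rintro ⟨a, ha⟩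
      have e : g * θ (θ.symm (g⁻¹ * a * g)) * g⁻¹ = a := by rw [θ.apply_symm_apply]; group
      have h1 : ((θ.symm (g⁻¹ * a * g) : L) : X) ∈ (K c).map p := by
        rw [hg c, e]; exact ha
      obtain ⟨k, hk, hk2⟩ := h1
      refine ⟨⟨k, hk⟩, Subtype.ext ?_⟩
      change g * θ ⟨p k, _⟩ * g⁻¹ = a
      rw [← e]
      congr 3
      exact Subtype.ext hk2

/-- `p J = L` -/
theorem map_JJ [Finite P] (h : Mid p L K t) (hS : Std ρ dg std) (hQ : StdQ dg std) (θ : L ≃* P) : (JJ K).map p = L := by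
  apply le_antisymm
  · rw [map_le_iff_le_comap]
    exact JJ_le fun c => map_le_iff_le_comap.1 (h.le c)
  obtain ⟨g, -, hg⟩ := h.exists_conj hS hQ θ
  let H : Subgroup P := (((JJ K).map p).subgroupOf L).map ((MulAut.conj g).toMonoidHom.comp θ.toMonoidHom)
  have h1 : H.comap ρ = ⊤ := hS.gen _ fun c s hs => by
    rw [mem_comap]
    have e : g * θ (θ.symm (g⁻¹ * ρ s * g)) * g⁻¹ = ρ s := by rw [θ.apply_symm_apply]; group
    have h2 := (hg c (θ.symm (g⁻¹ * ρ s * g))).2 (by rw [e]; exact mem_map_of_mem ρ hs)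
    exact ⟨θ.symm (g⁻¹ * ρ s * g), mem_subgroupOf.2 (map_mono (le_JJ c) h2), e⟩
  intro x hx
  obtain ⟨s, hs⟩ := hS.surj (g * θ ⟨x, hx⟩ * g⁻¹)
  have h3 : s ∈ H.comap ρ := by rw [h1]; exact mem_top _
  rw [mem_comap, hs] at h3
  obtain ⟨y, hy, hyx⟩ := h3
  have e : g * θ y * g⁻¹ = g * θ ⟨x, hx⟩ * g⁻¹ := hyx
  rw [mul_left_inj, mul_right_inj] at e
  have e2 : (y : X) = x := congrArg Subtype.val (θ.injective e)
  rw [← e2]
  exact mem_subgroupOf.1 hy

/-- 2-elements of the preimage of `L` lie in `J`. -/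
theorem mem_JJ_of_two (h : Mid p L K t) (hJ : (JJ K).map p = L) {x : Y} (hx : p x ∈ L) (h2 : ∃ k : ℕ, x ^ 2 ^ k = 1) :
    x ∈ JJ K := by
  rw [← hJ] at hx
  obtain ⟨j, hj, hjx⟩ := hx
  obtain ⟨k, hk⟩ := h2
  -- `x = g j` with `g ∈ ker p`
  set g := x * j⁻¹ with hg
  have hgp : p g = 1 := by rw [hg, map_mul, map_inv, hjx, mul_inv_cancel]
  have hc : Commute g j := h.JJ_comm hgp hj
  have e : x = g * j := by rw [hg]; group
  have h3 : g ^ 2 ^ k ∈ JJ K := by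
    have : g ^ 2 ^ k = (j ^ 2 ^ k)⁻¹ := by
      rw [eq_inv_iff_mul_eq_one, ← hc.mul_pow, ← e, hk]
    rw [this]
    exact inv_mem (pow_mem hj _)
  have h4 : g ∈ JJ K := by
    have h5 : Nat.Coprime (orderOf g) (2 ^ k) := by
      apply Nat.Coprime.pow_right
      have h6 : orderOf g ∣ Nat.card p.ker := by
        have := _root_.orderOf_dvd_natCard (⟨g, hgp⟩ : p.ker)
        rwa [← orderOf_coe] at this
      exact Nat.Coprime.coprime_dvd_left h6 (Nat.coprime_two_right.2 h.odd)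
    obtain ⟨m, hm⟩ := exists_pow_eq_self_of_coprime h5.symm
    rw [← hm]
    exact pow_mem h3 _
  rw [e]
  exact mul_mem h4 hj

theorem JJ_twoGen (h : Mid p L K t) : TwoGen (JJ K) := twoGen_iSup h.gen

/-- `J` is normal. -/
theorem JJ_normal (h : Mid p L K t) (hJ : (JJ K).map p = L) : (JJ K).Normal := by
  have key : ∀ y : Y, JJ K ≤ (JJ K).comap (MulAut.conj y).toMonoidHom := by
    intro y
    apply h.JJ_twoGen
    rintro x hx ⟨k, hk⟩
    apply h.mem_JJ_of_two hJ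
    · change p (y * x * y⁻¹) ∈ L
      rw [map_mul, map_mul, map_inv]
      apply h.normal.conj_mem
      rw [← hJ]
      exact mem_map_of_mem p hx
    · refine ⟨k, ?_⟩
      change (y * x * y⁻¹) ^ 2 ^ k = 1
      rw [conj_pow, hk]; group
  exact ⟨fun x hx y => key y hx⟩

end Mid

/-- All involutions of `P` are conjugate to `ρ (dg 0)`. -/
theorem Std.conj_one [Finite P] (hS : Std ρ dg std) (hne : ∀ c, ρ (dg c) ≠ 1) (hsq : ∀ c, ρ (dg c) * ρ (dg c) = 1)
    {u : P} (hu : u * u = 1) (hu1 : u ≠ 1) : ∃ g : P, g * u * g⁻¹ = ρ (dg 0) := by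
  have : Fact (Nat.Prime 2) := ⟨Nat.prime_two⟩
  suffices h : ∃ v : P, v * v = 1 ∧ v ≠ 1 ∧ u ≠ v ∧ u * v = v * u by
    obtain ⟨v, hv, hv1, huv, hc⟩ := h
    obtain ⟨g, hg, -⟩ := hS.conj u v hu hv hu1 hv1 huv hc
    exact ⟨g, hg⟩
  -- a Sylow subgroup containing `u`
  have hz : IsPGroup 2 (zpowers u) := by
    intro x
    refine ⟨1, ?_⟩
    obtain ⟨x, k, rfl⟩ := x
    apply Subtype.ext
    change (u ^ k) ^ 2 ^ 1 = 1
    rw [pow_one, ← zpow_natCast, ← zpow_mul, mul_comm, zpow_mul]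
    have : u ^ ((2 : ℕ) : ℤ) = 1 := by rw [zpow_natCast, pow_two, hu]
    rw [this, one_zpow]
  obtain ⟨T, hT⟩ := hz.exists_le_sylow
  have huT : u ∈ (T : Subgroup P) := hT (mem_zpowers u)
  -- the four-group
  have hc01 : ρ (dg 0) * ρ (dg 1) = ρ (dg 1) * ρ (dg 0) := by
    have h2 := hsq 2
    rw [← hS.dg_mul, map_mul] at h2
    have h0 : (ρ (dg 0))⁻¹ = ρ (dg 0) := inv_eq_of_mul_eq_one_left (hsq 0)
    have h1 : (ρ (dg 1))⁻¹ = ρ (dg 1) := inv_eq_of_mul_eq_one_left (hsq 1)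
    rw [mul_eq_one_iff_eq_inv, mul_inv_rev, h0, h1] at h2
    exact h2
  have h01 : ρ (dg 0) ≠ ρ (dg 1) := by
    intro e
    apply hne 2
    rw [← hS.dg_mul, map_mul, e, hsq]
  have hV : IsPGroup 2 (_root_.Subgroup.closure {ρ (dg 0), ρ (dg 1)} : Subgroup P) := by
    have hcomm : IsMulCommutative (closure {ρ (dg 0), ρ (dg 1)} : Subgroup P) := by
      apply Subgroup.isMulCommutative_closure
      intro x hx y hy
      rcases hx with rfl | rfl <;> rcases hy with rfl | rfl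
      · rfl
      · exact hc01
      · exact hc01.symm
      · rfl
    intro x
    refine ⟨1, Subtype.ext ?_⟩
    rw [pow_one]
    change (x : P) ^ 2 = 1
    refine closure_induction (p := fun x _ => x ^ 2 = 1) ?_ ?_ ?_ ?_ x.2
    · rintro y (rfl | rfl)
      · rw [pow_two, hsq]
      · rw [pow_two, hsq]
    · exact one_pow _
    · intro y z hy hz h1 h2
      have : y * z = z * y := congrArg Subtype.val (hcomm.is_comm.comm ⟨y, hy⟩ ⟨z, hz⟩)
      have hc : Commute y z := this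
      rw [hc.mul_pow, h1, h2, one_mul]
    · intro y hy h1
      rw [inv_pow, h1, inv_one]
  obtain ⟨T', hT'⟩ := hV.exists_le_sylow
  obtain ⟨g, hg⟩ := MulAction.exists_smul_eq P T' T
  have hmem : ∀ x ∈ closure {ρ (dg 0), ρ (dg 1)}, g * x * g⁻¹ ∈ (T : Subgroup P) := by
    intro x hx
    rw [← hg]
    exact ⟨x, hT' hx, rfl⟩
  have ha := hmem (ρ (dg 0)) (_root_.Subgroup.subset_closure (by simp))
  have hb := hmem (ρ (dg 1)) (_root_.Subgroup.subset_closure (by simp))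
  -- a central involution of `T`
  have hTn : Nontrivial (T : Subgroup P) := by
    refine ⟨⟨⟨u, huT⟩, 1, fun e => hu1 (congrArg Subtype.val e)⟩⟩
  have hZn : Nontrivial (center (T : Subgroup P)) := T.isPGroup'.center_nontrivial
  have hZp : IsPGroup 2 (center (T : Subgroup P)) := T.isPGroup'.to_subgroup _
  have h2Z : 2 ∣ Nat.card (center (T : Subgroup P)) := by
    obtain ⟨n, hn⟩ := (IsPGroup.iff_card).1 hZp
    rw [hn]
    apply dvd_pow_self
    rintro rfl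
    rw [pow_zero] at hn
    exact absurd hn (Finite.one_lt_card (α := center (T : Subgroup P))).ne'
  obtain ⟨z, hz2⟩ := exists_prime_orderOf_dvd_card' 2 h2Z
  have hz1 : ((z : (T : Subgroup P)) : P) * ((z : (T : Subgroup P)) : P) = 1 := by
    have h1 := pow_orderOf_eq_one z
    rw [hz2, pow_two] at h1
    exact congrArg (fun y : center (T : Subgroup P) => (((y : (T : Subgroup P)) : P))) h1
  have hzne : ((z : (T : Subgroup P)) : P) ≠ 1 := by
    intro e
    have : z = 1 := Subtype.ext (Subtype.ext e)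
    rw [this, orderOf_one] at hz2
    exact absurd hz2 (by norm_num)
  have hzc : ∀ y ∈ (T : Subgroup P), y * ((z : (T : Subgroup P)) : P) = ((z : (T : Subgroup P)) : P) * y := by
    intro y hy
    exact congrArg Subtype.val (mem_center_iff.1 z.2 ⟨y, hy⟩)
  by_cases huz : u = ((z : (T : Subgroup P)) : P)
  · -- `u` is central in `T`
    have hcj : ∀ c, (g * ρ (dg c) * g⁻¹) * (g * ρ (dg c) * g⁻¹) = 1 ∧ g * ρ (dg c) * g⁻¹ ≠ 1 := by
      intro c
      refine ⟨?_, ?_⟩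
      · calc (g * ρ (dg c) * g⁻¹) * (g * ρ (dg c) * g⁻¹) = g * (ρ (dg c) * ρ (dg c)) * g⁻¹ := by group
          _ = 1 := by rw [hsq]; group
      · intro e
        apply hne c
        have : ρ (dg c) = g⁻¹ * (g * ρ (dg c) * g⁻¹) * g := by group
        rw [this, e]; group
    by_cases hu0 : u = g * ρ (dg 0) * g⁻¹
    · refine ⟨g * ρ (dg 1) * g⁻¹, (hcj 1).1, (hcj 1).2, ?_, ?_⟩
      · rw [hu0]
        intro e
        rw [mul_left_inj, mul_right_inj] at e
        exact h01 e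
      · rw [huz]; exact (hzc _ hb).symm
    · exact ⟨g * ρ (dg 0) * g⁻¹, (hcj 0).1, (hcj 0).2, hu0, by rw [huz]; exact (hzc _ ha).symm⟩
  · exact ⟨_, hz1, hzne, huz, hzc u huT⟩

namespace Mid

/-- the order of the image of `K c` -/
theorem card_dvd [Finite P] (h : Mid p L K t) (hS : Std ρ dg std) (θ : L ≃* P) (c : Fin 3) :
    Nat.card ((K c).map p) ∣ Nat.card (std c) := by
  let T : Fin 3 → L := fun c => ⟨p (t c), h.tL c⟩
  have hT2 : ∀ c, T c * T c = 1 := fun c => Subtype.ext (by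
    change p (t c) * p (t c) = 1
    rw [← map_mul, h.sq, map_one])
  have hTm : T 0 * T 1 = T 2 := Subtype.ext (by
    change p (t 0) * p (t 1) = p (t 2)
    rw [← map_mul, h.mul])
  have hTc : T 0 * T 1 = T 1 * T 0 := Subtype.ext (by
    change p (t 0) * p (t 1) = p (t 1) * p (t 0)
    rw [← map_mul, h.comm, map_mul])
  have hTne : ∀ c, θ (T c) ≠ 1 := fun c hc => h.ne c (congrArg Subtype.val ((map_eq_one_iff θ θ.injective).1 hc))
  have hT01 : θ (T 0) ≠ θ (T 1) := fun e => h.ne01 (congrArg Subtype.val (θ.injective e))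
  obtain ⟨g, hg0, hg1⟩ := hS.conj (θ (T 0)) (θ (T 1)) (by rw [← map_mul, hT2, map_one])
    (by rw [← map_mul, hT2, map_one]) (hTne 0) (hTne 1) hT01 (by rw [← map_mul, hTc, map_mul])
  have hg2 : g * θ (T 2) * g⁻¹ = ρ (dg 2) := by
    rw [← hTm, map_mul, ← hS.dg_mul, map_mul, ← hg0, ← hg1]; group
  have hgc : ∀ c, g * θ (T c) * g⁻¹ = ρ (dg c) := by
    intro c
    fin_cases c
    · exact hg0
    · exact hg1
    · exact hg2
  let A : Subgroup P := (((K c).map p).subgroupOf L).map ((MulAut.conj g).toMonoidHom.comp θ.toMonoidHom)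
  have hAle : A ≤ (std c).map ρ := by
    apply hS.le c
    · rw [← map_commutator]
      congr 1
      apply map_injective L.subtype_injective
      rw [map_commutator, subgroupOf_map_subtype, inf_of_le_left (h.le c), ← map_commutator, h.perf c]
    · rintro _ ⟨x, hx, rfl⟩
      rw [SetLike.mem_coe, mem_subgroupOf] at hx
      obtain ⟨k, hk, hkx⟩ := hx
      have e1 : x * T c = T c * x := Subtype.ext (by
        change (x : X) * p (t c) = p (t c) * x
        rw [← hkx, ← map_mul, h.cent c k hk, map_mul])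
      change g * θ x * g⁻¹ * ρ (dg c) = ρ (dg c) * (g * θ x * g⁻¹)
      rw [← hgc c]
      calc g * θ x * g⁻¹ * (g * θ (T c) * g⁻¹) = g * (θ x * θ (T c)) * g⁻¹ := by group
        _ = g * (θ (T c) * θ x) * g⁻¹ := by rw [← map_mul, e1, map_mul]
        _ = _ := by group
  have hA : Nat.card ((K c).map p) = Nat.card A := by
    have h1 : Nat.card A = Nat.card (((K c).map p).subgroupOf L) := by
      refine card_map_of_injective ?_
      exact (MulAut.conj g).injective.comp θ.injective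
    rw [h1]
    exact (Nat.card_congr (subgroupOfEquivOfLe (h.le c)).toEquiv).symm
  rw [hA, ← hS.card_map]
  exact card_dvd_of_le hAle

/-- Elements of `K c` commuting with `t c'` have order dividing that of the torus. -/
theorem order_dvd [Finite P] (h : Mid p L K t) (hS : Std ρ dg std) (hQ : StdQ dg std) (θ : L ≃* P) {c c' : Fin 3}
    {T : Subgroup S} (hT : ∀ s ∈ std c, ρ s * ρ (dg c') = ρ (dg c') * ρ s → s ∈ T) {k : Y} (hk : k ∈ K c)
    (hkt : k * t c' = t c' * k) : orderOf (p k) ∣ Nat.card T := by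
  obtain ⟨g, hgc, hg⟩ := h.exists_conj hS hQ θ
  have hkL : p k ∈ L := h.le c (mem_map_of_mem p hk)
  obtain ⟨s, hs, hsk⟩ := (hg c ⟨p k, hkL⟩).1 (mem_map_of_mem p hk)
  have e0 : (⟨p k, hkL⟩ : L) * ⟨p (t c'), h.tL c'⟩ = ⟨p (t c'), h.tL c'⟩ * ⟨p k, hkL⟩ := Subtype.ext (by
    change p k * p (t c') = p (t c') * p k
    rw [← map_mul, hkt, map_mul])
  have h1 : s ∈ T := by
    apply hT s hs
    rw [hsk, ← hgc c']
    calc g * θ ⟨p k, hkL⟩ * g⁻¹ * (g * θ ⟨p (t c'), h.tL c'⟩ * g⁻¹) =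
        g * (θ ⟨p k, hkL⟩ * θ ⟨p (t c'), h.tL c'⟩) * g⁻¹ := by group
      _ = g * (θ ⟨p (t c'), h.tL c'⟩ * θ ⟨p k, hkL⟩) * g⁻¹ := by rw [← map_mul, e0, map_mul]
      _ = _ := by group
  have h2 : orderOf (p k) = orderOf (ρ s) := by
    rw [hsk]
    have e1 : g * θ ⟨p k, hkL⟩ * g⁻¹ = MulAut.conj g (θ ⟨p k, hkL⟩) := rfl
    rw [e1, (MulAut.conj g).orderOf_eq, θ.orderOf_eq, ← orderOf_coe]
  have h3 : orderOf (ρ s) ∣ orderOf s := orderOf_map_dvd ρ s
  rw [h2]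
  refine h3.trans ?_
  have := _root_.orderOf_dvd_natCard (⟨s, h1⟩ : T)
  rwa [← orderOf_coe] at this

/-- A central element of odd order of `K c` lies in the kernel. -/
theorem eq_one_of_central [Finite P] (h : Mid p L K t) (hS : Std ρ dg std) (hQ : StdQ dg std) (θ : L ≃* P) {c : Fin 3}
    (hZ : ∀ s ∈ std c, (∀ s' ∈ std c, s * s' = s' * s) → Odd (orderOf s) → s = 1) {k : Y} (hk : k ∈ K c)
    (hkc : ∀ k' ∈ K c, k * k' = k' * k) (hodd : Odd (orderOf k)) : p k = 1 := by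
  obtain ⟨g, hgc, hg⟩ := h.exists_conj hS hQ θ
  have hkL : p k ∈ L := h.le c (mem_map_of_mem p hk)
  obtain ⟨s, hs, hsk⟩ := (hg c ⟨p k, hkL⟩).1 (mem_map_of_mem p hk)
  have h2 : orderOf (p k) = orderOf s := by
    have h3 : orderOf (p k) = orderOf (ρ s) := by
      rw [hsk]
      have e1 : g * θ ⟨p k, hkL⟩ * g⁻¹ = MulAut.conj g (θ ⟨p k, hkL⟩) := rfl
      rw [e1, (MulAut.conj g).orderOf_eq, θ.orderOf_eq, ← orderOf_coe]
    rw [h3]
    apply Nat.dvd_antisymm (orderOf_map_dvd ρ s)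
    apply orderOf_dvd_of_pow_eq_one
    apply hS.inj c _ (pow_mem hs _)
    rw [map_pow, pow_orderOf_eq_one]
  have h1 : s = 1 := by
    apply hZ s hs
    · intro s' hs'
      have e : g * θ (θ.symm (g⁻¹ * ρ s' * g)) * g⁻¹ = ρ s' := by rw [θ.apply_symm_apply]; group
      obtain ⟨k', hk', hkk'⟩ := (hg c (θ.symm (g⁻¹ * ρ s' * g))).2 (by rw [e]; exact mem_map_of_mem ρ hs')
      have e2 : (⟨p k, hkL⟩ : L) * θ.symm (g⁻¹ * ρ s' * g) = θ.symm (g⁻¹ * ρ s' * g) * ⟨p k, hkL⟩ := Subtype.ext (by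
        change p k * (θ.symm (g⁻¹ * ρ s' * g) : X) = (θ.symm (g⁻¹ * ρ s' * g) : X) * p k
        rw [← hkk', ← map_mul, hkc k' hk', map_mul])
      have e3 : ρ (s * s' * s⁻¹ * s'⁻¹) = 1 := by
        rw [map_mul, map_mul, map_mul, map_inv, map_inv, hsk, ← e]
        have e4 : θ ⟨p k, hkL⟩ * θ (θ.symm (g⁻¹ * ρ s' * g)) = θ (θ.symm (g⁻¹ * ρ s' * g)) * θ ⟨p k, hkL⟩ :=
          (map_mul θ _ _).symm.trans ((congrArg θ e2).trans (map_mul θ _ _))
        calc g * θ ⟨p k, hkL⟩ * g⁻¹ * (g * θ (θ.symm (g⁻¹ * ρ s' * g)) * g⁻¹) * (g * θ ⟨p k, hkL⟩ * g⁻¹)⁻¹ *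
            (g * θ (θ.symm (g⁻¹ * ρ s' * g)) * g⁻¹)⁻¹ =
            g * (θ ⟨p k, hkL⟩ * θ (θ.symm (g⁻¹ * ρ s' * g))) * (θ ⟨p k, hkL⟩)⁻¹ * (θ (θ.symm (g⁻¹ * ρ s' * g)))⁻¹ * g⁻¹ := by
              group
          _ = 1 := by rw [e4]; group
      have e5 := hS.inj c _ ((std c).mul_mem ((std c).mul_mem ((std c).mul_mem hs hs') ((std c).inv_mem hs))
        ((std c).inv_mem hs')) e3
      have e6 : s * s' * s⁻¹ = s' := mul_inv_eq_one.1 e5
      exact mul_inv_eq_iff_eq_mul.1 e6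
    · rw [← h2]
      exact Odd.of_dvd_nat hodd (orderOf_map_dvd p k)
  rw [h1, orderOf_one] at h2
  exact orderOf_eq_one_iff.1 h2

/-- `Y = J · C_Y(t c)`. -/
theorem exists_mul [Finite P] (h : Mid p L K t) (hS : Std ρ dg std) (hQ : StdQ dg std) (θ : L ≃* P) (c : Fin 3) (y : Y) :
    ∃ j ∈ JJ K, (j * y) * t c = t c * (j * y) := by
  have hJ := h.map_JJ hS hQ θ
  have hn := h.JJ_normal hJ
  have htL : ∀ c, p (t c) ∈ L := fun c => h.le c (mem_map_of_mem p (h.mem c))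
  let T : Fin 3 → L := fun c => ⟨p (t c), htL c⟩
  have hT2 : ∀ c, T c * T c = 1 := fun c => Subtype.ext (by
    change p (t c) * p (t c) = 1
    rw [← map_mul, h.sq, map_one])
  have hTm : T 0 * T 1 = T 2 := Subtype.ext (by
    change p (t 0) * p (t 1) = p (t 2)
    rw [← map_mul, h.mul])
  have hTc : T 0 * T 1 = T 1 * T 0 := Subtype.ext (by
    change p (t 0) * p (t 1) = p (t 1) * p (t 0)
    rw [← map_mul, h.comm, map_mul])
  have hTne : ∀ c, θ (T c) ≠ 1 := fun c hc => h.ne c (congrArg Subtype.val ((map_eq_one_iff θ θ.injective).1 hc))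
  have hT01 : θ (T 0) ≠ θ (T 1) := fun e => h.ne01 (congrArg Subtype.val (θ.injective e))
  obtain ⟨g, hg0, hg1⟩ := hS.conj (θ (T 0)) (θ (T 1)) (by rw [← map_mul, hT2, map_one])
    (by rw [← map_mul, hT2, map_one]) (hTne 0) (hTne 1) hT01 (by rw [← map_mul, hTc, map_mul])
  have hg2 : g * θ (T 2) * g⁻¹ = ρ (dg 2) := by
    rw [← hTm, map_mul, ← hS.dg_mul, map_mul, ← hg0, ← hg1]; group
  have hgc : ∀ c, g * θ (T c) * g⁻¹ = ρ (dg c) := by
    intro c
    fin_cases c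
    · exact hg0
    · exact hg1
    · exact hg2
  have hsq : ∀ c, ρ (dg c) * ρ (dg c) = 1 := by
    intro c
    rw [← hgc c]
    calc g * θ (T c) * g⁻¹ * (g * θ (T c) * g⁻¹) = g * (θ (T c) * θ (T c)) * g⁻¹ := by group
      _ = 1 := by rw [← map_mul, hT2, map_one]; group
  have hne : ∀ c, ρ (dg c) ≠ 1 := by
    intro c e
    rw [← hgc c] at e
    apply hTne c
    have : θ (T c) = g⁻¹ * (g * θ (T c) * g⁻¹) * g := by group
    rw [this, e]; group
  -- the conjugate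
  have htJ : t c ∈ JJ K := le_JJ c (h.mem c)
  have hyJ : y * t c * y⁻¹ ∈ JJ K := hn.conj_mem _ htJ y
  have hyL : p (y * t c * y⁻¹) ∈ L := by rw [← hJ]; exact mem_map_of_mem p hyJ
  let U : L := ⟨p (y * t c * y⁻¹), hyL⟩
  have hU2 : U * U = 1 := Subtype.ext (by
    change p (y * t c * y⁻¹) * p (y * t c * y⁻¹) = 1
    rw [← map_mul]
    have : y * t c * y⁻¹ * (y * t c * y⁻¹) = y * (t c * t c) * y⁻¹ := by group
    rw [this, h.sq, mul_one, mul_inv_cancel, map_one])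
  have hU1 : θ U ≠ 1 := by
    intro e
    have e1 : p (y * t c * y⁻¹) = 1 := congrArg Subtype.val ((map_eq_one_iff θ θ.injective).1 e)
    apply h.ne c
    rw [map_mul, map_mul, map_inv] at e1
    have : p (t c) = (p y)⁻¹ * (p y * p (t c) * (p y)⁻¹) * p y := by group
    rw [this, e1]; group
  obtain ⟨a, ha⟩ := hS.conj_one hne hsq (u := θ U) (by rw [← map_mul, hU2, map_one]) hU1
  obtain ⟨b, hb⟩ := hS.conj_one hne hsq (u := θ (T c)) (by rw [← map_mul, hT2, map_one]) (hTne c)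
  -- `b⁻¹ a` moves `θ U` to `θ (T c)`
  obtain ⟨j, hj, hjp⟩ : (θ.symm (b⁻¹ * a) : X) ∈ (JJ K).map p := by rw [hJ]; exact (θ.symm (b⁻¹ * a)).2
  refine ⟨j, hj, ?_⟩
  apply h.comm_of
  have e1 : θ.symm (b⁻¹ * a) * U * (θ.symm (b⁻¹ * a))⁻¹ = T c := by
    apply θ.injective
    rw [map_mul, map_mul, map_inv, θ.apply_symm_apply]
    calc b⁻¹ * a * θ U * (b⁻¹ * a)⁻¹ = b⁻¹ * (a * θ U * a⁻¹) * b := by group
      _ = b⁻¹ * (b * θ (T c) * b⁻¹) * b := by rw [ha, hb]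
      _ = θ (T c) := by group
  have e2 : (θ.symm (b⁻¹ * a) : X) * p (y * t c * y⁻¹) * (θ.symm (b⁻¹ * a) : X)⁻¹ = p (t c) := congrArg Subtype.val e1
  rw [← hjp, map_mul, map_mul, map_inv] at e2
  rw [← mul_inv_eq_iff_eq_mul, map_mul, mul_inv_rev]
  calc p j * p y * p (t c) * ((p y)⁻¹ * (p j)⁻¹) = p j * (p y * p (t c) * (p y)⁻¹) * (p j)⁻¹ := by group
    _ = p (t c) := e2

end Mid

end

end Cfsg.Agent.LFourB.RB
end

-- part: LFourB/RBStd
section
/-!
# The standard data of `SL₃(F) → PSL₃(F)`; normal subgroups of `SL₂(F)`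
-/

set_option autoImplicit false
set_option linter.unusedSectionVars false

namespace Cfsg.Agent.LFourB.RB

open Matrix Subgroup Cfsg.Agent.LThreeExt Cfsg.Agent.CTFrame.SL3 Cfsg.Agent.CTFrame

section SL2

variable {F : Type*} [Field F]

/-- a normal subgroup of `SL₂(F)` is central or everything -/
theorem sl_normal [Fintype F] (h : 3 < Fintype.card F) (A : Subgroup (_root_.Matrix.SpecialLinearGroup (Fin 2) F)) [hn : A.Normal] :
    A ≤ center (_root_.Matrix.SpecialLinearGroup (Fin 2) F) ∨ A = ⊤ := by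
  have hs : IsSimpleGroup (ProjectiveSpecialLinearGroup (Fin 2) F) := TwoFusion.SLTwoFacts.isSimpleGroup_psl h
  have hs' : IsSimpleGroup (_root_.Matrix.SpecialLinearGroup (Fin 2) F ⧸ center (_root_.Matrix.SpecialLinearGroup (Fin 2) F)) := hs
  have hm : (A.map (QuotientGroup.mk' (center (_root_.Matrix.SpecialLinearGroup (Fin 2) F)))).Normal :=
    hn.map _ (QuotientGroup.mk'_surjective _)
  rcases hm.eq_bot_or_eq_top with h1 | h1
  · left
    rwa [Subgroup.map_eq_bot_iff, QuotientGroup.ker_mk'] at h1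
  · right
    have h2 : A ⊔ center (_root_.Matrix.SpecialLinearGroup (Fin 2) F) = ⊤ := by
      have := Subgroup.comap_map_eq (QuotientGroup.mk' (center (_root_.Matrix.SpecialLinearGroup (Fin 2) F))) A
      rw [h1, Subgroup.comap_top, QuotientGroup.ker_mk'] at this
      exact this.symm
    have h3 : ⁅A ⊔ center (_root_.Matrix.SpecialLinearGroup (Fin 2) F), A ⊔ center (_root_.Matrix.SpecialLinearGroup (Fin 2) F)⁆ ≤ A := by
      rw [commutator_le]
      intro a ha b hb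
      obtain ⟨a, ha', z, hz, rfl⟩ := mem_sup_of_normal_left.1 ha
      obtain ⟨b, hb', y, hy, rfl⟩ := mem_sup_of_normal_left.1 hb
      have e1 := mem_center_iff.1 hz
      have e2 := mem_center_iff.1 hy
      have hzi : z⁻¹ ∈ center (_root_.Matrix.SpecialLinearGroup (Fin 2) F) := inv_mem hz
      have hyi : y⁻¹ ∈ center (_root_.Matrix.SpecialLinearGroup (Fin 2) F) := inv_mem hy
      have e3 := mem_center_iff.1 hzi
      have e4 := mem_center_iff.1 hyi
      have e : a * z * (b * y) * (a * z)⁻¹ * (b * y)⁻¹ = a * b * a⁻¹ * b⁻¹ := by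
        rw [_root_.mul_inv_rev, _root_.mul_inv_rev]
        calc a * z * (b * y) * (z⁻¹ * a⁻¹) * (y⁻¹ * b⁻¹) = a * (z * (b * y * z⁻¹)) * a⁻¹ * (y⁻¹ * b⁻¹) := by group
          _ = a * (b * y * z⁻¹ * z) * a⁻¹ * (y⁻¹ * b⁻¹) := by rw [← e1 (b * y * z⁻¹)]
          _ = a * b * (y * (a⁻¹ * y⁻¹)) * b⁻¹ := by group
          _ = a * b * (a⁻¹ * y⁻¹ * y) * b⁻¹ := by rw [← e2 (a⁻¹ * y⁻¹)]
          _ = a * b * a⁻¹ * b⁻¹ := by group
      rw [commutatorElement_def, e, ← commutatorElement_def]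
      exact commutator_le_self A (commutator_mem_commutator ha' hb')
    rw [h2, ← _root_.commutator_def, TwoFusion.SLTwoFacts.commutator_eq_top h] at h3
    exact top_le_iff.1 h3

theorem sl_perfect_normal [Fintype F] (h : 3 < Fintype.card F) (A : Subgroup (_root_.Matrix.SpecialLinearGroup (Fin 2) F)) [A.Normal]
    (hA : ⁅A, A⁆ = A) : A = ⊥ ∨ A = ⊤ := by
  rcases sl_normal h A with h1 | h1
  · left
    rw [← hA, eq_bot_iff, commutator_le]
    intro a ha b hb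
    rw [mem_bot, commutatorElement_def, ← mem_center_iff.1 (h1 ha) b]
    group
  · exact Or.inr h1

/-- the Weyl element -/
def wt (F : Type*) [Field F] : _root_.Matrix.SpecialLinearGroup (Fin 2) F := ⟨!![0, 1; -1, 0], by simp [Matrix.det_fin_two]⟩

theorem wt_four : (wt F) ^ 2 ^ 2 = 1 := by
  have e : (wt F) * wt F = -1 := by
    apply Subtype.ext
    change !![(0 : F), 1; -1, 0] * !![(0 : F), 1; -1, 0] = -1
    ext i j
    (revert i j; simp only [Matrix.mul_apply, Fin.sum_univ_two, _root_.Fin.forall_fin_succ, _root_.Matrix.of_apply, _root_.Matrix.cons_val', _root_.Matrix.cons_val_fin_one, Fin.isValue, _root_.Matrix.cons_val_zero, _root_.Matrix.cons_val_one, _root_.Matrix.neg_apply, _root_.MulZeroClass.mul_zero, _root_.mul_neg, _root_.mul_one, _root_.zero_add, _root_.neg_inj, _root_.Matrix.cons_val_succ, _root_.add_zero, _root_.IsEmpty.forall_iff, _root_.and_true, _root_.Matrix.one_apply_eq, Nat.reduceAdd,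 _root_.Fin.succ_zero_eq_one, _root_.ne_eq, _root_.zero_ne_one, _root_.not_false_eq_true, _root_.Matrix.one_apply_ne, _root_.neg_zero, _root_.and_self, _root_.Fin.succ_ne_zero, _root_.true_and])
  have e2 : (2 : ℕ) ^ 2 = 2 * 2 := by norm_num
  rw [e2, pow_mul, pow_two (wt F), e, pow_two]
  simp

theorem wt_notMem : wt F ∉ center (_root_.Matrix.SpecialLinearGroup (Fin 2) F) := by
  intro h
  obtain ⟨r, hr, e⟩ := Matrix.SpecialLinearGroup.mem_center_iff.1 h
  have h01 := congrFun (congrFun e 0) 1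
  have : (wt F).1 0 1 = 1 := rfl
  rw [this] at h01
  simp at h01

/-- `SL₂(F)` is generated by elements of 2-power order. -/
theorem sl_twoGen [Fintype F] (h : 3 < Fintype.card F) :
    TwoGen (⊤ : Subgroup (_root_.Matrix.SpecialLinearGroup (Fin 2) F)) := by
  intro H hH
  let N : Subgroup (_root_.Matrix.SpecialLinearGroup (Fin 2) F) := _root_.Subgroup.closure {x | ∃ k : ℕ, x ^ 2 ^ k = 1}
  have hN : N.Normal := by
    constructor
    intro x hx g
    have : N ≤ N.comap (MulAut.conj g).toMonoidHom := by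
      rw [closure_le]
      rintro y ⟨k, hk⟩
      refine _root_.Subgroup.subset_closure ⟨k, ?_⟩
      change (g * y * g⁻¹) ^ 2 ^ k = 1
      rw [conj_pow, hk]; group
    exact this hx
  have hNH : N ≤ H := by
    rw [closure_le]
    intro x hx
    exact hH x (mem_top _) hx
  rcases sl_normal h N with h1 | h1
  · exact absurd (h1 (subset_closure ⟨2, wt_four⟩)) wt_notMem
  · rw [← h1]; exact hNH

end SL2

/-- Normal perfect subgroups of an embedded group. -/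
theorem qs_of_range {H S : Type*} [Group H] [Group S] (f : H →* S) (hf : Function.Injective f)
    (hn : ∀ A : Subgroup H, A.Normal → ⁅A, A⁆ = A → A = ⊥ ∨ A = ⊤) :
    ∀ A ≤ f.range, ⁅A, A⁆ = A → (∀ s ∈ f.range, ∀ a ∈ A, s * a * s⁻¹ ∈ A) → A = ⊥ ∨ A = f.range := by
  intro A hA hAA hAn
  have h1 : (A.comap f).map f = A := by rw [map_comap_eq, inf_of_le_right hA]
  have h2 : (A.comap f).Normal := ⟨fun x hx g => by
    rw [mem_comap, map_mul, map_mul, map_inv]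
    exact hAn _ ⟨g, rfl⟩ _ hx⟩
  have h3 : ⁅A.comap f, A.comap f⁆ = A.comap f := by
    apply Subgroup.map_injective hf
    rw [map_commutator, h1, hAA]
  rcases hn _ h2 h3 with h4 | h4
  · left; rw [← h1, h4, Subgroup.map_bot]
  · right; rw [← h1, h4, ← MonoidHom.range_eq_map]

/-- Central elements of odd order of an embedded group. -/
theorem stdZ_of_range {H S : Type*} [Group H] [Group S] (f : H →* S) (hf : Function.Injective f)
    (hz : ∀ z ∈ center H, z * z = 1) :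
    ∀ s ∈ f.range, (∀ s' ∈ f.range, s * s' = s' * s) → Odd (orderOf s) → s = 1 := by
  rintro _ ⟨z, rfl⟩ hc hodd
  have h1 : z ∈ center H := by
    rw [mem_center_iff]
    intro g
    apply hf
    rw [map_mul, map_mul]
    exact (hc _ ⟨g, rfl⟩).symm
  have h2 : orderOf (f z) ∣ 2 := orderOf_dvd_of_pow_eq_one (by rw [pow_two, ← map_mul, hz z h1, map_one])
  have h3 : Nat.Coprime 2 (orderOf (f z)) := Nat.coprime_two_left.2 hodd
  exact orderOf_eq_one_iff.1 (Nat.eq_one_of_dvd_coprimes h3 h2 dvd_rfl)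

theorem sl_center_sq {F : Type*} [Field F] {z : _root_.Matrix.SpecialLinearGroup (Fin 2) F}
    (hz : z ∈ center (_root_.Matrix.SpecialLinearGroup (Fin 2) F)) : z * z = 1 := by
  obtain ⟨r, hr, e⟩ := Matrix.SpecialLinearGroup.mem_center_iff.1 hz
  rw [Fintype.card_fin] at hr
  apply Subtype.ext
  rw [Matrix.SpecialLinearGroup.coe_mul, ← e, ← map_mul, ← pow_two, hr, map_one]
  rfl

/-- the facts on centres -/
def StdZ {S : Type*} [Group S] (std : Fin 3 → Subgroup S) : Prop :=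
  ∀ c, ∀ s ∈ std c, (∀ s' ∈ std c, s * s' = s' * s) → Odd (orderOf s) → s = 1

section SL3

variable {F : Type*} [Field F]

theorem three_cases (c : Fin 3) : ∃ a b : Fin 3, a ≠ b ∧ b ≠ c ∧ a ≠ c ∧
    (SL3.stdc c : Subgroup (S3 F)) = std a b := by
  fin_cases c
  · exact ⟨1, 2, by decide, by decide, by decide, SL3.stdc_zero⟩
  · exact ⟨0, 2, by decide, by decide, by decide, SL3.stdc_one⟩
  · exact ⟨0, 1, by decide, by decide, by decide, SL3.stdc_two⟩

/-- The standard data of `SL₃(F)`. -/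
theorem std_sl [Fintype F] (h2 : (2 : F) ≠ 0) :
    Std (LThreeModel.SL3.pr F) (dg : Fin 3 → S3 F) (SL3.stdc : Fin 3 → Subgroup (S3 F)) where
  surj := QuotientGroup.mk'_surjective _
  ker := by rw [QuotientGroup.ker_mk']
  perf := LieClassical.SLGen.commutator_eq_top (by simp)
  conj u v hu hv hu1 hv1 huv hc := LThreeModel.SL3.exists_conj h2 hu hv hu1 hv1 huv hc (by decide)
  dg_mul := dg_mul (by decide) (by decide) (by decide)
  le c A hA hAc := by
    obtain ⟨a, b, hab, hbc, hac, e⟩ := three_cases (F := F) c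
    rw [e]
    exact LThreeModel.SL3.le_std hab hbc hac h2 hA (fun x hx => by
      rw [mem_centralizer_singleton_iff]; exact hAc x hx)
  inj c s hs hs1 := by
    obtain ⟨a, b, hab, hbc, hac, e⟩ := three_cases (F := F) c
    rw [e] at hs
    exact LThreeModel.SL3.pr_inj hab hbc hac hs (one_mem _) (by rw [hs1, map_one])
  gen H hH := by
    rw [eq_top_iff, ← LThreeModel.SL3.std_sup (F := F) (a := 0) (b := 1) (c := 2) (by decide) (by decide) (by decide)]
    refine sup_le ?_ ?_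
    · rw [← SL3.stdc_two]; exact hH 2
    · rw [← SL3.stdc_zero]; exact hH 0

theorem stdQ_sl [Fintype F] (h : 3 < Fintype.card F) :
    StdQ (dg : Fin 3 → S3 F) (SL3.stdc : Fin 3 → Subgroup (S3 F)) where
  dcent c s hs := by
    obtain ⟨a, b, hab, hbc, hac, e⟩ := three_cases (F := F) c
    rw [e, ← LThreeModel.SL3.Blk_eq_std hab hbc hac] at hs
    have h1 : dg c * s * (dg c)⁻¹ = s := by
      apply en_ext
      intro i k
      rw [dg_conj]
      have hi := (hs i).1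
      have hk := (hs k).2
      by_cases hic : i = c <;> by_cases hkc : k = c
      · simp [hic, hkc]
      · subst hic
        rw [if_neg hkc] at hk
        simp [hkc, hk]
      · subst hkc
        rw [if_neg hic] at hi
        simp [hic, hi]
      · simp [hic, hkc]
    exact (mul_inv_eq_iff_eq_mul.1 h1).symm
  qs c := by
    change ∀ A ≤ (SL3.bl (F := F) (SL3.pr c) (SL3.pr_inj c)).range, _
    exact qs_of_range _ (SL3.bl_injective _) (fun A hA hAA => sl_perfect_normal h A hAA)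

theorem stdZ_sl [Fintype F] : StdZ (SL3.stdc : Fin 3 → Subgroup (S3 F)) := by
  intro c
  change ∀ s ∈ (SL3.bl (F := F) (SL3.pr c) (SL3.pr_inj c)).range, _
  exact stdZ_of_range _ (SL3.bl_injective _) (fun z hz => sl_center_sq hz)

theorem stdT_sl [Fintype F] (h2 : (2 : F) ≠ 0) {s : S3 F} (hs : s ∈ (SL3.stdc 2 : Subgroup (S3 F)))
    (hc : LThreeModel.SL3.pr F s * LThreeModel.SL3.pr F (dg 1) = LThreeModel.SL3.pr F (dg 1) * LThreeModel.SL3.pr F s) :
    s ∈ (SL3.tc 2 : Fˣ →* S3 F).range := by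
  have h1 : s * dg 1 = dg 1 * s := (LThreeModel.SL3.comm_lift (dg_sq 1) hc.symm).symm
  rw [SL3.stdc_two, ← LThreeModel.SL3.Blk_eq_std (a := 0) (b := 1) (c := 2) (by decide) (by decide) (by decide)] at hs
  obtain ⟨q1, q2, q3, q4, q5, hd⟩ := blk_entries (a := 0) (b := 1) (c := 2) (by decide) (by decide) (by decide) hs
  obtain ⟨h01, h10⟩ := LThreeModel.SL3.comm_dg h2 h1 (i := 0) (by decide)
  rw [h01, h10, mul_zero, sub_zero] at hd
  have hx : en s 0 0 ≠ 0 := left_ne_zero_of_mul_eq_one hd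
  refine ⟨Units.mk0 _ hx, ?_⟩
  have h11 : (en s 0 0)⁻¹ = en s 1 1 := inv_eq_of_mul_eq_one_right hd
  apply Subtype.ext
  rw [SL3.tc2_coe, Units.val_inv_eq_inv_val, Units.val_mk0, h11]
  ext i j
  fin_cases i <;> fin_cases j
  · rfl
  · exact h01.symm
  · exact q4.symm
  · exact h10.symm
  · rfl
  · exact q5.symm
  · exact q2.symm
  · exact q3.symm
  · exact q1.symm

end SL3

section SU3

variable {F : Type*} [Field F] [Fintype F] {q : ℕ}

/-- The standard data of `SU₃(q)`. -/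
theorem std_su (hF : Fintype.card F = q ^ 2) (h2 : (2 : F) ≠ 0) (hq : 3 ≤ q) :
    Std (LThreeModel.SU3.pr F q) (LThreeModel.SU3.dg hF) (SU3.std hF) where
  surj := QuotientGroup.mk'_surjective _
  ker := by rw [QuotientGroup.ker_mk']
  perf := LieClassical.HermPerfect.commutator_SU_eq_top hF le_rfl (by omega)
  conj u v hu hv hu1 hv1 huv hc := LThreeModel.SU3.exists_conj hF h2 hu hv hu1 hv1 huv hc (by decide)
  dg_mul := LThreeModel.SU3.dg_mul hF (by decide) (by decide) (by decide)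
  le c A hA hAc := LThreeModel.SU3.le_std hF h2 hA (fun x hx => by
      rw [mem_centralizer_singleton_iff]; exact hAc x hx)
  inj c s hs hs1 := LThreeModel.SU3.pr_inj' hF hs (one_mem _) (by rw [hs1, map_one])
  gen H hH := by
    rw [eq_top_iff, ← LThreeModel.SU3.std_sup hF hq (a := 0) (b := 1) (by decide)]
    exact sup_le (hH 0) (hH 1)

theorem su2_perfect_normal (hF : Fintype.card F = q ^ 2) (hq : 3 < q) (A : Subgroup (SU 2 F q)) (hn : A.Normal)
    (hA : ⁅A, A⁆ = A) : A = ⊥ ∨ A = ⊤ := by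
  classical
  obtain ⟨_, _, _, _, θ, _⟩ := Phan.exists_model hF
  have : Fintype (Phan.fixedField hF) := Fintype.ofFinite _
  have h1 : 3 < Fintype.card (Phan.fixedField hF) := by
    rw [← Nat.card_eq_fintype_card, Phan.card_fixedField]; exact hq
  have h2 : (A.comap θ.toMonoidHom).Normal := hn.comap _
  have hm : (A.comap θ.toMonoidHom).map θ.toMonoidHom = A :=
    Subgroup.map_comap_eq_self_of_surjective θ.surjective _
  have h3 : ⁅A.comap θ.toMonoidHom, A.comap θ.toMonoidHom⁆ = A.comap θ.toMonoidHom := by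
    apply Subgroup.map_injective (f := θ.toMonoidHom) θ.injective
    rw [map_commutator, hm, hA]
  rcases sl_perfect_normal h1 _ h3 with h4 | h4
  · left; rw [← hm, h4, Subgroup.map_bot]
  · right; rw [← hm, h4, Subgroup.map_top_of_surjective _ θ.surjective]

theorem stdQ_su (hF : Fintype.card F = q ^ 2) (hq : 3 < q) : StdQ (LThreeModel.SU3.dg hF) (SU3.std hF) where
  dcent c s hs := by
    have h1 : CTFrame.SL3.dg c * s.1 * (CTFrame.SL3.dg c)⁻¹ = s.1 := by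
      apply en_ext
      intro i k
      rw [dg_conj]
      have hi := (LThreeModel.SU3.blk_of_mem_std hF hs i).1
      have hk := (LThreeModel.SU3.blk_of_mem_std hF hs k).2
      by_cases hic : i = c <;> by_cases hkc : k = c
      · simp [hic, hkc]
      · subst hic
        rw [if_neg hkc] at hk
        have hk' : en s.1 i k = 0 := hk
        simp [hkc, hk']
      · subst hkc
        rw [if_neg hic] at hi
        have hi' : en s.1 i k = 0 := hi
        simp [hic, hi']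
      · simp [hic, hkc]
    exact Subtype.ext (mul_inv_eq_iff_eq_mul.1 h1).symm
  qs c := by
    change ∀ A ≤ (SU3.em hF c).range, _
    exact qs_of_range _ (SU3.em_inj hF c) (su2_perfect_normal hF hq)

theorem su2_center_sq (hF : Fintype.card F = q ^ 2) {z : SU 2 F q} (hz : z ∈ center (SU 2 F q)) : z * z = 1 := by
  obtain ⟨_, _, _, _, θ, _⟩ := Phan.exists_model hF
  have h1 : θ.symm z ∈ center (_root_.Matrix.SpecialLinearGroup (Fin 2) (Phan.fixedField hF)) := by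
    rw [mem_center_iff]
    intro g
    apply θ.injective
    rw [map_mul, map_mul, θ.apply_symm_apply]
    exact mem_center_iff.1 hz _
  have h2 := congrArg θ (sl_center_sq h1)
  rwa [map_mul, θ.apply_symm_apply, map_one] at h2

theorem stdZ_su (hF : Fintype.card F = q ^ 2) : StdZ (SU3.std hF) := by
  intro c
  change ∀ s ∈ (SU3.em hF c).range, _
  exact stdZ_of_range _ (SU3.em_inj hF c) (fun z hz => su2_center_sq hF hz)

theorem stdT_su (hF : Fintype.card F = q ^ 2) (h2 : (2 : F) ≠ 0) {s : SU 3 F q} (hs : s ∈ SU3.std hF 2)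
    (hc : LThreeModel.SU3.pr F q s * LThreeModel.SU3.pr F q (LThreeModel.SU3.dg hF 1) =
      LThreeModel.SU3.pr F q (LThreeModel.SU3.dg hF 1) * LThreeModel.SU3.pr F q s) :
    s ∈ ((SU3.em hF 2).comp (SU3.tau hF)).range := by
  have h1 : s * LThreeModel.SU3.dg hF 1 = LThreeModel.SU3.dg hF 1 * s :=
    (LThreeModel.SU3.comm_lift hF (LThreeModel.SU3.dg_sq hF 1) hc.symm).symm
  obtain ⟨h01, h10⟩ := LThreeModel.SU3.comm_dg hF h2 h1 (i := 0) (by decide)
  obtain ⟨g, rfl⟩ := hs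
  rw [SU3.mat_em, SU3.extM2] at h01 h10
  have g01 : Phan.mat g 0 1 = 0 := h01
  have g10 : Phan.mat g 1 0 = 0 := h10
  have hdet : (Phan.mat g).det = 1 := Phan.mat_det g
  rw [Matrix.det_fin_two, g01, g10, mul_zero, sub_zero] at hdet
  have hx : Phan.mat g 0 0 ≠ 0 := left_ne_zero_of_mul_eq_one hdet
  have hn : Phan.mat g 0 0 * Phan.mat g 0 0 ^ q = 1 := by
    have h3 := congrFun (congrFun (SU3.mat_eq hF g) 0) 0
    rw [Matrix.mul_apply, Fin.sum_univ_two, Matrix.transpose_apply, Matrix.transpose_apply, Matrix.map_apply,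
      Matrix.map_apply, g10, zero_mul, add_zero, LieClassical.GUOrder.frob_apply] at h3
    exact h3
  have hN : Units.mk0 _ hx ∈ SU3.N1 F q := by
    rw [MonoidHom.mem_ker, powMonoidHom_apply]
    apply Units.ext
    rw [Units.val_pow_eq_pow_val, Units.val_mk0, Units.val_one, pow_succ, mul_comm]
    exact hn
  refine ⟨⟨Units.mk0 _ hx, hN⟩, ?_⟩
  change SU3.em hF 2 (SU3.tau hF _) = SU3.em hF 2 g
  congr 1
  apply Phan.mat_inj
  rw [SU3.mat_tau]
  have h11 : (Phan.mat g 0 0)⁻¹ = Phan.mat g 1 1 := inv_eq_of_mul_eq_one_right hdet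
  ext i j
  fin_cases i <;> fin_cases j
  · rfl
  · exact g01.symm
  · exact g10.symm
  · change ((Units.mk0 (Phan.mat g 0 0) hx)⁻¹ : Fˣ).val = Phan.mat g 1 1
    rw [Units.val_inv_eq_inv_val, Units.val_mk0, h11]

end SU3

end Cfsg.Agent.LFourB.RB
end
end

-- part: LFourB/KEnd
section
prune_inst 0x4042004000100000000000012200020044000000000200000d9200502000653600902290048800c020020020000040020024400104000000000000000000001208028100211000104200001803080000000000000000000000000000000041000000000000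
set_option linter.all false
open scoped Cfsg.Agent.FastGrp

-- part: LFourB/KForm
section
/-!
# The symplectic form from the orbits of `N_G(E)`

`E` elementary abelian of order 16, `z ∈ H ≤ E`, `|H| = 8`, `N_G(E)` transitive on `E#`, `N_G(E) ∩ C(z)` transitive on
`H - ⟨z⟩` and on `E - H`, and normalising `H`.  Then `a ⊥ b :⇔ b ∈ H ^ g` (`z ^ g = a`) is given by a symplectic form.
-/

set_option autoImplicit false

namespace Cfsg.Agent.LFourB.KForm

open Subgroup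
open Cfsg

variable {G : Type*} [Group G]

/-- Orbits of `N_G(E)` on `E`. -/
structure Orb (z : G) (E H : Subgroup G) : Prop where
  elem : IsElementaryAbelian 2 E
  card : Nat.card E = 16
  le : H ≤ E
  cardH : Nat.card H = 8
  z_mem : z ∈ H
  z_ne : z ≠ 1
  trans : ∀ a ∈ E, a ≠ 1 → ∃ g ∈ normalizer (E : Set G), g * a * g⁻¹ = z
  norm : ∀ g ∈ normalizer (E : Set G), g * z = z * g → ∀ x ∈ H, g * x * g⁻¹ ∈ H
  trans₁ : ∀ a ∈ H, a ≠ 1 → a ≠ z → ∀ b ∈ H, b ≠ 1 → b ≠ z →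
    ∃ g ∈ normalizer (E : Set G), g * z = z * g ∧ g * a * g⁻¹ = b
  trans₂ : ∀ a ∈ E, a ∉ H → ∀ b ∈ E, b ∉ H →
    ∃ g ∈ normalizer (E : Set G), g * z = z * g ∧ g * a * g⁻¹ = b

/-- `a ⊥ b` -/
def Perp (z : G) (E H : Subgroup G) (a b : G) : Prop :=
  ∃ g ∈ normalizer (E : Set G), g * a * g⁻¹ = z ∧ g * b * g⁻¹ ∈ H

namespace Orb

variable {z : G} {E H : Subgroup G}

theorem comm (h : Orb z E H) {a b : G} (ha : a ∈ E) (hb : b ∈ E) : a * b = b * a :=
  congrArg Subtype.val (h.elem.1.is_comm.comm (⟨a, ha⟩ : E) ⟨b, hb⟩)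

theorem sq (h : Orb z E H) {a : G} (ha : a ∈ E) : a * a = 1 := by
  have := h.elem.2 a ha
  rwa [pow_two] at this

theorem z_memE (h : Orb z E H) : z ∈ E := h.le h.z_mem

/-- The relation does not depend on the conjugating element. -/
theorem mem_of_perp (h : Orb z E H) {a b g : G} (hp : Perp z E H a b) (hg : g ∈ normalizer (E : Set G))
    (hga : g * a * g⁻¹ = z) : g * b * g⁻¹ ∈ H := by
  obtain ⟨k, hk, hka, hkb⟩ := hp
  have h1 : (g * k⁻¹) * z = z * (g * k⁻¹) := by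
    have h2 : a = k⁻¹ * z * k := by rw [← hka]; group
    have h3 : a = g⁻¹ * z * g := by rw [← hga]; group
    have h4 : k⁻¹ * z * k = g⁻¹ * z * g := by rw [← h2, ← h3]
    calc g * k⁻¹ * z = g * (k⁻¹ * z * k) * k⁻¹ := by group
      _ = g * (g⁻¹ * z * g) * k⁻¹ := by rw [h4]
      _ = z * (g * k⁻¹) := by group
  have h5 := h.norm (g * k⁻¹) (mul_mem hg (inv_mem hk)) h1 _ hkb
  have h6 : g * k⁻¹ * (k * b * k⁻¹) * (g * k⁻¹)⁻¹ = g * b * g⁻¹ := by group
  rwa [h6] at h5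

theorem perp_iff (h : Orb z E H) {a b g : G} (hg : g ∈ normalizer (E : Set G))
    (hga : g * a * g⁻¹ = z) : Perp z E H a b ↔ g * b * g⁻¹ ∈ H :=
  ⟨fun hp => h.mem_of_perp hp hg hga, fun hb => ⟨g, hg, hga, hb⟩⟩

theorem perp_z (h : Orb z E H) {b : G} : Perp z E H z b ↔ b ∈ H := by
  rw [h.perp_iff (g := 1) (one_mem _) (by group)]
  simp

theorem perp_conj (h : Orb z E H) {a b g : G} (ha : a ∈ E) (ha1 : a ≠ 1) (hg : g ∈ normalizer (E : Set G)) :
    Perp z E H (g * a * g⁻¹) (g * b * g⁻¹) ↔ Perp z E H a b := by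
  obtain ⟨k, hk, hka⟩ := h.trans a ha ha1
  rw [h.perp_iff hk hka, h.perp_iff (a := g * a * g⁻¹) (g := k * g⁻¹) (mul_mem hk (inv_mem hg))
    (by rw [← hka]; group)]
  have : k * g⁻¹ * (g * b * g⁻¹) * (k * g⁻¹)⁻¹ = k * b * k⁻¹ := by group
  rw [this]

theorem conj_mem (_h : Orb z E H) {a g : G} (ha : a ∈ E) (hg : g ∈ normalizer (E : Set G)) :
    g * a * g⁻¹ ∈ E := (mem_normalizer_iff.mp hg a).mp ha

theorem conj_ne_one {a g : G} (ha : a ≠ 1) : g * a * g⁻¹ ≠ 1 := by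
  intro h
  apply ha
  have : a = g⁻¹ * (g * a * g⁻¹) * g := by group
  rw [this, h]; group

/-- `a^⊥` -/
noncomputable def perp (h : Orb z E H) (a : G) (ha : a ∈ E) (ha1 : a ≠ 1) : Subgroup G :=
  H.map (MulAut.conj (Classical.choose (h.trans a ha ha1))⁻¹).toMonoidHom

theorem mem_perp (h : Orb z E H) {a b : G} (ha : a ∈ E) (ha1 : a ≠ 1) :
    b ∈ h.perp a ha ha1 ↔ Perp z E H a b := by
  obtain ⟨h1, h2⟩ := Classical.choose_spec (h.trans a ha ha1)
  rw [h.perp_iff h1 h2]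
  constructor
  · rintro ⟨x, hx, rfl⟩
    change _ * ((Classical.choose (h.trans a ha ha1))⁻¹ * x * (Classical.choose (h.trans a ha ha1))⁻¹⁻¹) * _ ∈ H
    have : Classical.choose (h.trans a ha ha1) * ((Classical.choose (h.trans a ha ha1))⁻¹ * x *
      (Classical.choose (h.trans a ha ha1))⁻¹⁻¹) * (Classical.choose (h.trans a ha ha1))⁻¹ = x := by group
    rw [this]; exact hx
  · intro hb
    refine ⟨_, hb, ?_⟩
    change (Classical.choose (h.trans a ha ha1))⁻¹ * _ * (Classical.choose (h.trans a ha ha1))⁻¹⁻¹ = b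
    group

theorem perp_le (h : Orb z E H) {a : G} (ha : a ∈ E) (ha1 : a ≠ 1) : h.perp a ha ha1 ≤ E := by
  rintro _ ⟨x, hx, rfl⟩
  exact h.conj_mem (h.le hx) (inv_mem (Classical.choose_spec (h.trans a ha ha1)).1)

theorem card_perp (h : Orb z E H) {a : G} (ha : a ∈ E) (ha1 : a ≠ 1) : Nat.card (h.perp a ha ha1) = 8 := by
  rw [← h.cardH]
  exact Subgroup.card_map_of_injective (MulAut.conj _).injective

theorem perp_self (h : Orb z E H) {a : G} (ha : a ∈ E) (ha1 : a ≠ 1) : Perp z E H a a := by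
  obtain ⟨g, hg, hga⟩ := h.trans a ha ha1
  rw [h.perp_iff hg hga, hga]
  exact h.z_mem

theorem perp_one (h : Orb z E H) {a : G} (ha : a ∈ E) (ha1 : a ≠ 1) : Perp z E H a 1 := by
  rw [← h.mem_perp ha ha1]
  exact one_mem _

/-- A subgroup `K` of order 8 in `E`: `x y ∈ K` iff both or none of `x`, `y` is in `K`. -/
theorem mul_mem_iff (h : Orb z E H) {K : Subgroup G} (hK : K ≤ E) (hc : Nat.card K = 8) {x y : G}
    (hx : x ∈ E) (hy : y ∈ E) : x * y ∈ K ↔ (x ∈ K ↔ y ∈ K) := by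
  have hidx : (K.subgroupOf E).index = 2 := by
    have h1 := (K.subgroupOf E).card_mul_index
    have h2 : Nat.card (K.subgroupOf E) = 8 := by
      rw [← hc]
      exact Nat.card_congr (Subgroup.subgroupOfEquivOfLe hK).toEquiv
    rw [h2, h.card] at h1
    omega
  have := Subgroup.mul_mem_iff_of_index_two hidx (a := ⟨x, hx⟩) (b := ⟨y, hy⟩)
  simpa [mem_subgroupOf] using this

section Count

variable [Finite G]

/-- **The relation is symmetric.** -/
theorem perp_symm (h : Orb z E H) {a b : G} (ha : a ∈ E) (ha1 : a ≠ 1) (hb : b ∈ E) (hb1 : b ≠ 1)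
    (hp : Perp z E H a b) : Perp z E H b a := by
  classical
  by_contra hn
  -- the situation at `z`
  obtain ⟨k, hk, hka⟩ := h.trans a ha ha1
  set c := k * b * k⁻¹ with hc
  have hcE : c ∈ E := h.conj_mem hb hk
  have hc1 : c ≠ 1 := conj_ne_one hb1
  have hzc : Perp z E H z c := by
    rw [← h.perp_conj ha ha1 hk, hka] at hp
    exact hp
  have hcz : ¬ Perp z E H c z := by
    intro h0
    apply hn
    rw [← h.perp_conj hb hb1 hk, hka]
    exact h0
  have hcne : c ≠ z := fun h0 => hcz (by rw [h0]; exact h.perp_self h.z_memE h.z_ne)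
  obtain ⟨g, hg, hgc⟩ := h.trans c hcE hc1
  -- all pairs
  have key₁ : ∀ u ∈ E, u ≠ 1 → ∀ v ∈ E, v ≠ 1 → u ≠ v → Perp z E H u v → ¬ Perp z E H v u := by
    intro u hu hu1 v hv hv1 huv huv'
    obtain ⟨l, hl, hlu⟩ := h.trans u hu hu1
    have hv' : l * v * l⁻¹ ∈ H := h.mem_of_perp huv' hl hlu
    have hvz : l * v * l⁻¹ ≠ z := by
      intro h0
      apply huv
      rw [← hlu] at h0
      exact (mul_left_cancel (mul_right_cancel h0)).symm
    obtain ⟨n, hn', hnz, hnv⟩ := h.trans₁ _ hv' (conj_ne_one hv1) hvz c (h.perp_z.mp hzc) hc1 hcne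
    intro h0
    apply hcz
    rw [← h.perp_conj hv hv1 (mul_mem hn' hl)] at h0
    have e1 : n * l * v * (n * l)⁻¹ = c := by rw [← hnv]; group
    have e2 : n * l * u * (n * l)⁻¹ = z := by
      have : n * l * u * (n * l)⁻¹ = n * (l * u * l⁻¹) * n⁻¹ := by group
      rw [this, hlu, hnz, mul_inv_cancel_right]
    rwa [e1, e2] at h0
  have hgz : g * z * g⁻¹ ∉ H := by
    intro h0
    exact hcz ((h.perp_iff hg hgc).mpr h0)
  have key₂ : ∀ u ∈ E, u ≠ 1 → ∀ v ∈ E, v ≠ 1 → ¬ Perp z E H u v → Perp z E H v u := by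
    intro u hu hu1 v hv hv1 huv'
    obtain ⟨l, hl, hlu⟩ := h.trans u hu hu1
    have hv' : l * v * l⁻¹ ∉ H := fun h0 => huv' ((h.perp_iff hl hlu).mpr h0)
    obtain ⟨n, hn', hnz, hnv⟩ := h.trans₂ _ (h.conj_mem hv hl) hv' _ (h.conj_mem h.z_memE hg) hgz
    -- `(u, v)` is conjugate to `(c, z)` by `g⁻¹ n l`
    rw [← h.perp_conj hv hv1 (mul_mem (inv_mem hg) (mul_mem hn' hl))]
    have e1 : g⁻¹ * (n * l) * v * (g⁻¹ * (n * l))⁻¹ = z := by
      have : g⁻¹ * (n * l) * v * (g⁻¹ * (n * l))⁻¹ = g⁻¹ * (n * (l * v * l⁻¹) * n⁻¹) * g := by group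
      rw [this, hnv]; group
    have e2 : g⁻¹ * (n * l) * u * (g⁻¹ * (n * l))⁻¹ = c := by
      have : g⁻¹ * (n * l) * u * (g⁻¹ * (n * l))⁻¹ = g⁻¹ * (n * (l * u * l⁻¹) * n⁻¹) * g := by group
      rw [this, hlu, hnz, mul_inv_cancel_right, ← hgc]; group
    rw [e1, e2]
    exact hzc
  -- counting
  have : Fintype G := Fintype.ofFinite G
  let s : Finset G := Finset.univ.filter (fun x => x ∈ E ∧ x ≠ 1)
  have hs : ∀ x, x ∈ s ↔ x ∈ E ∧ x ≠ 1 := fun x => by
    change x ∈ Finset.univ.filter _ ↔ _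
    rw [Finset.mem_filter]; simp
  have hcardf : ∀ K : Subgroup G, (Finset.univ.filter (fun x => x ∈ K)).card = Nat.card K := by
    intro K
    rw [Nat.card_eq_fintype_card, ← Fintype.card_subtype]
  let r : G → G → Prop := fun u v => u ≠ v ∧ Perp z E H u v
  have hdc := Finset.sum_card_bipartiteAbove_eq_sum_card_bipartiteBelow (s := s) (t := s) r
  have hab : ∀ u ∈ s, (s.bipartiteAbove r u).card = 6 := by
    intro u hu
    obtain ⟨huE, hu1⟩ := (hs u).mp hu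
    have e1 : s.bipartiteAbove r u =
        ((Finset.univ.filter (fun x => x ∈ h.perp u huE hu1)).erase 1).erase u := by
      ext v
      rw [Finset.mem_bipartiteAbove, hs, Finset.mem_erase, Finset.mem_erase, Finset.mem_filter,
        h.mem_perp huE hu1]
      constructor
      · rintro ⟨⟨-, h2⟩, h3, h4⟩
        exact ⟨Ne.symm h3, h2, Finset.mem_univ _, h4⟩
      · rintro ⟨h1, h2, -, h4⟩
        exact ⟨⟨h.perp_le huE hu1 ((h.mem_perp huE hu1).mpr h4), h2⟩, Ne.symm h1, h4⟩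
    rw [e1, Finset.card_erase_of_mem, Finset.card_erase_of_mem, hcardf, h.card_perp]
    · rw [Finset.mem_filter]
      exact ⟨Finset.mem_univ _, one_mem _⟩
    · rw [Finset.mem_erase, Finset.mem_filter]
      exact ⟨hu1, Finset.mem_univ _, (h.mem_perp huE hu1).mpr (h.perp_self huE hu1)⟩
  have hbl : ∀ v ∈ s, (s.bipartiteBelow r v).card = 8 := by
    intro v hv
    obtain ⟨hvE, hv1⟩ := (hs v).mp hv
    have e1 : s.bipartiteBelow r v = (Finset.univ.filter (fun x => x ∈ E)) \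
        (Finset.univ.filter (fun x => x ∈ h.perp v hvE hv1)) := by
      ext u
      rw [Finset.mem_bipartiteBelow, hs, Finset.mem_sdiff, Finset.mem_filter, Finset.mem_filter,
        h.mem_perp hvE hv1]
      constructor
      · rintro ⟨⟨h1, h2⟩, h3, h4⟩
        exact ⟨⟨Finset.mem_univ _, h1⟩, fun h0 => key₁ u h1 h2 v hvE hv1 h3 h4 h0.2⟩
      · rintro ⟨⟨-, h1⟩, h2⟩
        have h3 : ¬ Perp z E H v u := fun h0 => h2 ⟨Finset.mem_univ _, h0⟩
        have h4 : u ≠ 1 := by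
          rintro rfl
          exact h3 (h.perp_one hvE hv1)
        have h5 : u ≠ v := by
          rintro rfl
          exact h3 (h.perp_self hvE hv1)
        exact ⟨⟨h1, h4⟩, h5, key₂ v hvE hv1 u h1 h4 h3⟩
    rw [e1, Finset.card_sdiff_of_subset, hcardf, hcardf, h.card, h.card_perp]
    intro u hu
    rw [Finset.mem_filter] at hu ⊢
    exact ⟨hu.1, h.perp_le hvE hv1 hu.2⟩
  rw [Finset.sum_congr rfl hab, Finset.sum_congr rfl hbl, Finset.sum_const, Finset.sum_const,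
    smul_eq_mul, smul_eq_mul] at hdc
  have hs0 : 0 < s.card := Finset.card_pos.mpr ⟨z, (hs z).mpr ⟨h.z_memE, h.z_ne⟩⟩
  omega

/-- The form. -/
noncomputable def B (z : G) (E H : Subgroup G) (a b : G) : ZMod 2 := by
  classical
  exact if a = 1 ∨ b = 1 ∨ Perp z E H a b then 0 else 1

omit [Finite G] in
theorem B_zero_iff {a b : G} : B z E H a b = 0 ↔ (a = 1 ∨ b = 1 ∨ Perp z E H a b) := by
  classical
  rw [B]
  split_ifs with h
  · exact ⟨fun _ => h, fun _ => rfl⟩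
  · exact ⟨fun h0 => absurd h0 (by decide), fun h0 => absurd h0 h⟩

omit [Finite G] in
theorem B_or (a b : G) : B z E H a b = 0 ∨ B z E H a b = 1 := by
  classical
  rw [B]
  split_ifs
  · exact Or.inl rfl
  · exact Or.inr rfl

omit [Finite G] in
theorem B_perp (h : Orb z E H) {a b : G} (ha : a ∈ E) (ha1 : a ≠ 1) :
    B z E H a b = 0 ↔ Perp z E H a b := by
  rw [B_zero_iff]
  constructor
  · rintro (h1 | h1 | h1)
    · exact absurd h1 ha1
    · rw [h1]; exact h.perp_one ha ha1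
    · exact h1
  · exact fun h1 => Or.inr (Or.inr h1)

theorem B_symm (h : Orb z E H) {a b : G} (ha : a ∈ E) (hb : b ∈ E) : B z E H a b = B z E H b a := by
  by_cases ha1 : a = 1
  · rw [B_zero_iff.mpr (Or.inl ha1), B_zero_iff.mpr (Or.inr (Or.inl ha1))]
  by_cases hb1 : b = 1
  · rw [B_zero_iff.mpr (Or.inr (Or.inl hb1)), B_zero_iff.mpr (Or.inl hb1)]
  have h1 : B z E H a b = 0 ↔ B z E H b a = 0 := by
    rw [h.B_perp ha ha1, h.B_perp hb hb1]
    exact ⟨h.perp_symm ha ha1 hb hb1, h.perp_symm hb hb1 ha ha1⟩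
  rcases B_or (z := z) (E := E) (H := H) a b with h2 | h2
  · rw [h2, h1.mp h2]
  · rcases B_or (z := z) (E := E) (H := H) b a with h3 | h3
    · rw [h1.mpr h3, h3]
    · rw [h2, h3]

theorem B_add_right (h : Orb z E H) {a b c : G} (ha : a ∈ E) (hb : b ∈ E) (hc : c ∈ E) :
    B z E H a (b * c) = B z E H a b + B z E H a c := by
  by_cases ha1 : a = 1
  · rw [B_zero_iff.mpr (Or.inl ha1), B_zero_iff.mpr (Or.inl ha1), B_zero_iff.mpr (Or.inl ha1), add_zero]
  have h1 := h.mul_mem_iff (h.perp_le ha ha1) (h.card_perp ha ha1) hb hc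
  rw [h.mem_perp, h.mem_perp, h.mem_perp, ← h.B_perp ha ha1, ← h.B_perp ha ha1, ← h.B_perp ha ha1] at h1
  rcases B_or (z := z) (E := E) (H := H) a b with h2 | h2 <;>
    rcases B_or (z := z) (E := E) (H := H) a c with h3 | h3 <;>
    rcases B_or (z := z) (E := E) (H := H) a (b * c) with h4 | h4 <;>
    rw [h2, h3, h4] <;> rw [h2, h3, h4] at h1 <;> revert h1 <;> decide

theorem B_add_left (h : Orb z E H) {a b c : G} (ha : a ∈ E) (hb : b ∈ E) (hc : c ∈ E) :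
    B z E H (a * b) c = B z E H a c + B z E H b c := by
  rw [h.B_symm (mul_mem ha hb) hc, h.B_add_right hc ha hb, h.B_symm hc ha, h.B_symm hc hb]

/-- `a^⊥ = b^⊥` only if `a = b`. -/
theorem perp_inj (h : Orb z E H) {a b : G} (ha : a ∈ E) (ha1 : a ≠ 1) (hb : b ∈ E) (hb1 : b ≠ 1)
    (hab : ∀ c ∈ E, B z E H a c = B z E H b c) : a = b := by
  by_contra hne
  have hab1 : a * b ≠ 1 := by
    intro h0
    apply hne
    have h1 : a * (b * b) = b := by rw [← mul_assoc, h0, one_mul]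
    rwa [h.sq hb, mul_one] at h1
  have hall : ∀ c ∈ E, c ∈ h.perp (a * b) (mul_mem ha hb) hab1 := by
    intro c hc
    rw [h.mem_perp, ← h.B_perp (mul_mem ha hb) hab1, h.B_add_left ha hb hc, hab c hc]
    rcases B_or (z := z) (E := E) (H := H) b c with h3 | h3 <;> rw [h3] <;> decide
  have h1 : Nat.card E ≤ Nat.card (h.perp (a * b) (mul_mem ha hb) hab1) := card_le_of_le hall
  rw [h.card, h.card_perp] at h1
  omega

theorem iso (h : Orb z E H) {a b c : G} (ha : a ∈ E) (hb : b ∈ E) (hc : c ∈ E) (ha1 : a ≠ 1) (hb1 : b ≠ 1)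
    (hab : a ≠ b) (h1 : B z E H a b = 0) (h2 : B z E H a c = 0) (h3 : B z E H b c = 0) :
    c = 1 ∨ c = a ∨ c = b ∨ c = a * b := by
  -- `K = a^⊥ ∩ b^⊥` has order 4
  have hd : ∃ d ∈ E, ¬ (B z E H a d = B z E H b d) := by
    by_contra h0
    push Not at h0
    exact hab (h.perp_inj ha ha1 hb hb1 h0)
  obtain ⟨d, hd, hdd⟩ := hd
  set A := h.perp a ha ha1 with hA
  set A' := h.perp b hb hb1 with hA'
  have hcA : Nat.card A = 8 := h.card_perp ha ha1
  have hcA' : Nat.card A' = 8 := h.card_perp hb hb1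
  have hne : ¬ A ≤ A' := by
    intro h0
    have h4 : A = A' := Subgroup.eq_of_le_of_card_ge h0 (by rw [hcA, hcA'])
    apply hdd
    have h5 : B z E H a d = 0 ↔ B z E H b d = 0 := by
      rw [h.B_perp ha ha1, h.B_perp hb hb1, ← h.mem_perp ha ha1, ← h.mem_perp hb hb1, ← hA, ← hA', h4]
    rcases B_or (z := z) (E := E) (H := H) a d with h6 | h6
    · rw [h6, h5.mp h6]
    · rcases B_or (z := z) (E := E) (H := H) b d with h7 | h7
      · rw [h7, h5.mpr h7]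
      · rw [h6, h7]
  set K := A ⊓ A' with hK
  have hKc : Nat.card K ≤ 4 := by
    have h4 : Nat.card K ∣ Nat.card A := card_dvd_of_le inf_le_left
    have h5 : Nat.card K ≠ 8 := by
      intro h0
      apply hne
      have h6 : K = A := Subgroup.eq_of_le_of_card_ge inf_le_left (by rw [h0, hcA])
      rw [← h6]
      exact inf_le_right
    rw [hcA] at h4
    have h6 := Nat.le_of_dvd (by norm_num) h4
    have : Nat.card K ≠ 0 := Nat.card_pos.ne'
    interval_cases hh : Nat.card K <;> omega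
  classical
  have : Fintype G := Fintype.ofFinite G
  have hab1 : a * b ≠ 1 := by
    intro h0
    apply hab
    have h1 : a * (b * b) = b := by rw [← mul_assoc, h0, one_mul]
    rwa [h.sq hb, mul_one] at h1
  have haA : ∀ x, x ∈ A ↔ B z E H a x = 0 := fun x => by rw [h.B_perp ha ha1, hA, h.mem_perp]
  have hbA : ∀ x, x ∈ A' ↔ B z E H b x = 0 := fun x => by rw [h.B_perp hb hb1, hA', h.mem_perp]
  have haK : a ∈ K := mem_inf.mpr ⟨(haA a).mpr ((h.B_perp ha ha1).mpr (h.perp_self ha ha1)),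
    (hbA a).mpr (by rw [h.B_symm hb ha]; exact h1)⟩
  have hbK : b ∈ K := mem_inf.mpr ⟨(haA b).mpr h1, (hbA b).mpr ((h.B_perp hb hb1).mpr (h.perp_self hb hb1))⟩
  have hcK : c ∈ K := mem_inf.mpr ⟨(haA c).mpr h2, (hbA c).mpr h3⟩
  by_contra hcon
  push Not at hcon
  obtain ⟨e1, e2, e3, e4⟩ := hcon
  have hsub : ({1, a, b, a * b, c} : Finset G) ⊆ Finset.univ.filter (fun x => x ∈ K) := by
    intro x hx
    rw [Finset.mem_filter]
    refine ⟨Finset.mem_univ _, ?_⟩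
    simp only [Finset.mem_insert, Finset.mem_singleton] at hx
    rcases hx with rfl | rfl | rfl | rfl | rfl
    · exact one_mem _
    · exact haK
    · exact hbK
    · exact mul_mem haK hbK
    · exact hcK
  have hcard5 : ({1, a, b, a * b, c} : Finset G).card = 5 := by
    have n1 : a ≠ a * b := fun h0 => hb1 (by
      have : a * 1 = a * b := by rw [mul_one]; exact h0
      exact (mul_left_cancel this).symm)
    have n2 : b ≠ a * b := fun h0 => ha1 (by
      have : 1 * b = a * b := by rw [one_mul]; exact h0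
      exact (mul_right_cancel this).symm)
    rw [Finset.card_insert_of_notMem, Finset.card_insert_of_notMem, Finset.card_insert_of_notMem,
      Finset.card_insert_of_notMem, Finset.card_singleton]
    · simp only [Finset.mem_singleton]; exact Ne.symm e4
    · simp only [Finset.mem_insert, Finset.mem_singleton, not_or]; exact ⟨n2, Ne.symm e3⟩
    · simp only [Finset.mem_insert, Finset.mem_singleton, not_or]; exact ⟨hab, n1, Ne.symm e2⟩
    · simp only [Finset.mem_insert, Finset.mem_singleton, not_or]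
      exact ⟨Ne.symm ha1, Ne.symm hb1, Ne.symm hab1, Ne.symm e1⟩
  have h9 := Finset.card_le_card hsub
  have h10 : (Finset.univ.filter (fun x => x ∈ K)).card = Nat.card K := by
    rw [Nat.card_eq_fintype_card, ← Fintype.card_subtype]
  rw [hcard5, h10] at h9
  omega

/-- For `a ≠ b` there is `c` perpendicular to `a` and not to `b`. -/
theorem exists_perp (h : Orb z E H) {a b : G} (ha : a ∈ E) (ha1 : a ≠ 1) (hb : b ∈ E) (hb1 : b ≠ 1)
    (hab : a ≠ b) : ∃ c ∈ E, B z E H a c = 0 ∧ B z E H b c ≠ 0 := by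
  by_contra h0
  push Not at h0
  apply hab
  have h1 : h.perp a ha ha1 ≤ h.perp b hb hb1 := by
    intro c hc
    have hcE := h.perp_le ha ha1 hc
    rw [h.mem_perp, ← h.B_perp ha ha1] at hc
    rw [h.mem_perp, ← h.B_perp hb hb1]
    exact h0 c hcE hc
  have h2 : h.perp a ha ha1 = h.perp b hb hb1 :=
    Subgroup.eq_of_le_of_card_ge h1 (by rw [h.card_perp, h.card_perp])
  refine h.perp_inj ha ha1 hb hb1 fun c _ => ?_
  have h3 : B z E H a c = 0 ↔ B z E H b c = 0 := by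
    rw [h.B_perp ha ha1, h.B_perp hb hb1, ← h.mem_perp ha ha1, ← h.mem_perp hb hb1, h2]
  rcases B_or (z := z) (E := E) (H := H) a c with h6 | h6
  · rw [h6, h3.mp h6]
  · rcases B_or (z := z) (E := E) (H := H) b c with h7 | h7
    · rw [h7, h3.mpr h7]
    · rw [h6, h7]

/-- The frame from the two inclusions at `z`. -/
theorem frame (h : Orb z E H) (bal : ∀ a ∈ E, a ∉ H → Lib.SymParam.Bal a z)
    (iso' : ∀ b ∈ H, b ≠ 1 → b ≠ z → Lib.SymParam.Iso z b) : Lib.SymFrame.Frame E (B z E H) where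
  elem := h.elem
  card := h.card
  add_left a ha b hb c hc := h.B_add_left ha hb hc
  symm a ha b hb := h.B_symm ha hb
  iso a ha b hb c hc ha1 hb1 hc1 hab h1 h2 h3 := (h.iso ha hb hc ha1 hb1 hab h1 h2 h3).resolve_left hc1
  bal := by
    intro a ha ha1 b hb hb1 hB
    rw [h.B_symm ha hb] at hB
    have hB' : ¬ Perp z E H b a := fun h0 => hB ((h.B_perp hb hb1).mpr h0)
    obtain ⟨g, hg, hgb⟩ := h.trans b hb hb1
    refine Lib.SymParam.Bal.of_conj (g := g) ?_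
    rw [hgb]
    exact bal _ (h.conj_mem ha hg) (fun h0 => hB' ((h.perp_iff hg hgb).mpr h0))
  isoCore := by
    intro a ha ha1 b hb hb1 hab hB
    rw [h.B_perp ha ha1] at hB
    obtain ⟨g, hg, hga⟩ := h.trans a ha ha1
    refine Lib.SymParam.Iso.of_conj (g := g) ?_
    rw [hga]
    refine iso' _ ((h.perp_iff hg hga).mp hB) (conj_ne_one hb1) ?_
    intro h0
    apply hab
    rw [← hga] at h0
    exact (mul_left_cancel (mul_right_cancel h0)).symm

end Count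

end Orb

end Cfsg.Agent.LFourB.KForm
end

-- part: LFourB/KLoc
section
/-!
# The symplectic frame of types B1 and B5: all involutions of `E` are of `z`-type

`Loc`: the structure of `C(z)` modulo its odd core (`K₁ K₂ = SL(2,F) * SL(2,F)`) with the position of `E`.
Output: the frame, the completion `W`, and (no odd elements in the tori) the one-balanced completion.
-/

set_option autoImplicit false

namespace Cfsg.Agent.LFourB.KLoc

open Subgroup Cfsg
open Cfsg.Agent.LFourA.CzCt Cfsg.Agent.LFourA.KlQuot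
open Cfsg.Agent.Lib.SymParam Cfsg.Agent.Lib.SymFrame
open Cfsg.Agent.SignalizersComponents
open Cfsg.Agent.LFourB.KForm

variable {G X : Type*} [Group G] [Group X]

/-- `C(z)` modulo its odd core and the position of `E`. -/
structure Loc (z : G) (F : Type*) [Field F] (p : ↥(centralizer ({z} : Set G)) →* X) (K₁ K₂ : Subgroup X)
    (E H : Subgroup G) : Prop where
  surj : Function.Surjective p
  ker : ∀ x, p x = 1 ↔ (x : G) ∈ centralizerPPrimeCore 2 z
  comm : ∀ x ∈ K₁, ∀ y ∈ K₂, x * y = y * x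
  z₁ : p (self z) ∈ K₁
  z₂ : p (self z) ∈ K₂
  norm : ∀ g : X, ((∀ x ∈ K₁, g * x * g⁻¹ ∈ K₁) ∧ ∀ x ∈ K₂, g * x * g⁻¹ ∈ K₂) ∨
    ((∀ x ∈ K₁, g * x * g⁻¹ ∈ K₂) ∧ ∀ x ∈ K₂, g * x * g⁻¹ ∈ K₁)
  cent : ∀ g : X, Odd (orderOf g) → (∀ x ∈ K₁, g * x = x * g) → (∀ x ∈ K₂, g * x = x * g) → g = 1
  e₁ : Nonempty (K₁ ≃* Matrix.SpecialLinearGroup (Fin 2) F)
  e₂ : Nonempty (K₂ ≃* Matrix.SpecialLinearGroup (Fin 2) F)
  le : E ≤ centralizer ({z} : Set G)
  swap : ∀ b ∈ E, b ∉ H → ∀ hb : b ∈ centralizer ({z} : Set G),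
    (∀ x ∈ K₁, p ⟨b, hb⟩ * x * (p ⟨b, hb⟩)⁻¹ ∈ K₂) ∧ ∀ x ∈ K₂, p ⟨b, hb⟩ * x * (p ⟨b, hb⟩)⁻¹ ∈ K₁
  inner : ∀ b ∈ H, b ≠ 1 → b ≠ z → ∀ hb : b ∈ centralizer ({z} : Set G),
    ∃ x₁ ∈ K₁, ∃ x₂ ∈ K₂, x₁ * x₁ = p (self z) ∧ x₂ * x₂ = p (self z) ∧ p ⟨b, hb⟩ = x₁ * x₂

variable {z : G} {F : Type*} [Field F] {p : ↥(centralizer ({z} : Set G)) →* X} {K₁ K₂ : Subgroup X}
  {E H : Subgroup G}

theorem ker_eq (hk : ∀ x, p x = 1 ↔ (x : G) ∈ centralizerPPrimeCore 2 z) :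
    p.ker = oddCore ↥(centralizer ({z} : Set G)) := by
  ext x
  rw [MonoidHom.mem_ker, hk]
  constructor
  · rintro ⟨y, hy, hyx⟩
    rwa [← Subtype.ext hyx]
  · intro hx
    exact ⟨x, hx, rfl⟩

namespace Loc

theorem quo (h : Loc z F p K₁ K₂ E H) : Quo z p := ⟨h.surj, h.ker⟩

theorem self_central (h : Loc z F p K₁ K₂ E H) (g : X) : g * p (self z) = p (self z) * g := by
  obtain ⟨g, rfl⟩ := h.surj g
  rw [← map_mul, ← map_mul]
  congr 1
  exact Subtype.ext (mem_centralizer_singleton_iff.1 g.2)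

theorem zz (o : Orb z E H) : p (self z) * p (self z) = 1 := by
  rw [← map_mul, ← map_one p]
  congr 1
  exact Subtype.ext (o.sq o.z_memE)

/-- `E` has an element in `H - ⟨z⟩`. -/
theorem _root_.Cfsg.Agent.LFourB.KForm.Orb.exists_inner [Finite G] (o : Orb z E H) : ∃ v ∈ H, v ≠ 1 ∧ v ≠ z := by
  by_contra h0
  push Not at h0
  have hle : H ≤ zpowers z := by
    intro y hy
    by_cases hy1 : y = 1
    · rw [hy1]; exact one_mem _
    · rw [h0 y hy hy1]; exact mem_zpowers z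
  have h1 := card_le_of_le hle
  rw [o.cardH, Nat.card_zpowers, orderOf_eq_prime (p := 2) (by rw [pow_two]; exact o.sq o.z_memE) o.z_ne] at h1
  norm_num at h1

section fin

variable [Finite G]

theorem z_ne (h : Loc z F p K₁ K₂ E H) (o : Orb z E H) : p (self z) ≠ 1 :=
  ne_one_of_inv h.quo _ (o.sq o.z_memE) o.z_ne

theorem p_inj (h : Loc z F p K₁ K₂ E H) (o : Orb z E H) {a b : G} (ha : a ∈ E) (hb : b ∈ E)
    (hab : p ⟨a, h.le ha⟩ = p ⟨b, h.le hb⟩) : a = b := by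
  have h1 : p ⟨a * b, (centralizer ({z} : Set G)).mul_mem (h.le ha) (h.le hb)⟩ = 1 := by
    have h2 : p ⟨a * b, (centralizer ({z} : Set G)).mul_mem (h.le ha) (h.le hb)⟩ =
        p ⟨a, h.le ha⟩ * p ⟨b, h.le hb⟩ := by rw [← map_mul]; rfl
    rw [h2, hab, ← map_mul, ← map_one p]
    congr 1
    exact Subtype.ext (o.sq hb)
  have h2 := eq_one_of_two h.quo _ h1 (m := 1) (by
    rw [pow_one, pow_two]; exact o.sq (mul_mem ha hb))
  have h3 : a * (b * b) = b := by rw [← mul_assoc, h2, one_mul]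
  rwa [o.sq hb, mul_one] at h3

/-- The common elements of `K₁` and `K₂`. -/
theorem inf (h : Loc z F p K₁ K₂ E H) (o : Orb z E H) (h2 : (2 : F) ≠ 0) {c : X} (hc1 : c ∈ K₁) (hc2 : c ∈ K₂) :
    c = 1 ∨ c = p (self z) := by
  obtain ⟨e₁⟩ := h.e₁
  have hcen : ∀ d, (h1 : d ∈ K₁) → d ∈ K₂ → e₁ ⟨d, h1⟩ = 1 ∨ e₁ ⟨d, h1⟩ = -1 := by
    intro d h1 h2'
    rw [← Cfsg.Agent.LFourA.AutTwo.mem_center_iff' h2, mem_center_iff]
    intro y
    obtain ⟨y, rfl⟩ := e₁.surjective y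
    rw [← map_mul, ← map_mul]
    congr 1
    exact Subtype.ext (h.comm y y.2 d h2')
  rcases hcen c hc1 hc2 with h3 | h3
  · exact Or.inl (congrArg Subtype.val ((map_eq_one_iff e₁ e₁.injective).mp h3))
  · right
    rcases hcen _ h.z₁ h.z₂ with h4 | h4
    · exact absurd (congrArg Subtype.val ((map_eq_one_iff e₁ e₁.injective).mp h4)) (h.z_ne o)
    · exact congrArg Subtype.val (e₁.injective (h3.trans h4.symm))

/-- An element of order four of `K₁`. -/
theorem exists_four (h : Loc z F p K₁ K₂ E H) (o : Orb z E H) :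
    ∃ x₁ ∈ K₁, ∃ x₂ ∈ K₂, x₁ * x₁ = p (self z) ∧ x₂ * x₂ = p (self z) := by
  obtain ⟨v, hv, hv1, hvz⟩ := o.exists_inner
  obtain ⟨x₁, hx₁, x₂, hx₂, h1, h2, -⟩ := h.inner v hv hv1 hvz (h.le (o.le hv))
  exact ⟨x₁, hx₁, x₂, hx₂, h1, h2⟩

/-- Elements of odd order normalise `K₁` and `K₂`. -/
theorem odd_norm (h : Loc z F p K₁ K₂ E H) (o : Orb z E H) (h2 : (2 : F) ≠ 0) {g : X} (hg : Odd (orderOf g)) :
    (∀ x ∈ K₁, g * x * g⁻¹ ∈ K₁) ∧ ∀ x ∈ K₂, g * x * g⁻¹ ∈ K₂ := by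
  rcases h.norm g with h1 | h1
  · exact h1
  · exfalso
    obtain ⟨x, hx, -, -, hxx, -⟩ := h.exists_four o
    have key : ∀ n : ℕ, (∀ x ∈ K₁, g ^ (2 * n) * x * (g ^ (2 * n))⁻¹ ∈ K₁) := by
      intro n
      induction n with
      | zero => intro x hx; simpa using hx
      | succ n ih =>
        intro x hx
        have h2 : g ^ (2 * (n + 1)) * x * (g ^ (2 * (n + 1)))⁻¹ =
            g * (g * (g ^ (2 * n) * x * (g ^ (2 * n))⁻¹) * g⁻¹) * g⁻¹ := by
          rw [mul_add, mul_one, pow_add, pow_two]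
          have h3 : g ^ (2 * n) * (g * g) = g * g * g ^ (2 * n) := by
            have : Commute (g ^ (2 * n)) (g * g) :=
              ((Commute.refl g).pow_left _).mul_right ((Commute.refl g).pow_left _)
            exact this
          rw [h3]; group
        rw [h2]
        exact h1.2 _ (h1.1 _ (ih x hx))
    obtain ⟨m, hm⟩ := hg
    have h3 := h1.1 _ (key m x hx)
    have h4 : g * (g ^ (2 * m) * x * (g ^ (2 * m))⁻¹) * g⁻¹ = g ^ (2 * m + 1) * x * (g ^ (2 * m + 1))⁻¹ := by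
      rw [pow_succ' g (2 * m)]; group
    rw [h4, ← hm, pow_orderOf_eq_one, one_mul, inv_one, mul_one] at h3
    rcases h.inf o h2 hx h3 with h5 | h5
    · rw [h5, one_mul] at hxx
      exact h.z_ne o hxx.symm
    · rw [h5, zz o] at hxx
      exact h.z_ne o hxx.symm

omit [Finite G] in
theorem mem_norm₁ {g : X} {K : Subgroup X} (h1 : ∀ x ∈ K, g * x * g⁻¹ ∈ K) (h2 : ∀ x ∈ K, g⁻¹ * x * g⁻¹⁻¹ ∈ K) :
    g ∈ normalizer (K : Set X) := by
  rw [mem_normalizer_iff]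
  intro x
  refine ⟨h1 x, fun h3 => ?_⟩
  have := h2 _ h3
  have h4 : g⁻¹ * (g * x * g⁻¹) * g⁻¹⁻¹ = x := by group
  rwa [h4] at this

theorem odd_normalizer (h : Loc z F p K₁ K₂ E H) (o : Orb z E H) (h2 : (2 : F) ≠ 0) {g : X}
    (hg : Odd (orderOf g)) : g ∈ normalizer (K₁ : Set X) ∧ g ∈ normalizer (K₂ : Set X) := by
  have h1 := h.odd_norm o h2 hg
  have h3 := h.odd_norm o h2 (g := g⁻¹) (by rwa [orderOf_inv])
  exact ⟨mem_norm₁ h1.1 h3.1, mem_norm₁ h1.2 h3.2⟩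

/-- `K₂ = f K₁ f⁻¹` for a swapping involution. -/
theorem swap_back {f : X} (hf : f * f = 1) (hs : (∀ x ∈ K₁, f * x * f⁻¹ ∈ K₂) ∧ ∀ x ∈ K₂, f * x * f⁻¹ ∈ K₁)
    {y : X} (hy : y ∈ K₂) : ∃ x ∈ K₁, y = f * x * f⁻¹ := by
  refine ⟨f * y * f⁻¹, hs.2 y hy, ?_⟩
  have hf' : f⁻¹ = f := inv_eq_of_mul_eq_one_right hf
  rw [hf']
  calc y = (f * f) * y * (f * f) := by rw [hf, one_mul, mul_one]
    _ = _ := by group

theorem p_sq (h : Loc z F p K₁ K₂ E H) (o : Orb z E H) {a : G} (ha : a ∈ E) :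
    p ⟨a, h.le ha⟩ * p ⟨a, h.le ha⟩ = 1 := by
  rw [← map_mul, ← map_one p]
  congr 1
  exact Subtype.ext (o.sq ha)

/-- **(B)**: swapping elements. -/
theorem bal [Finite F] (h : Loc z F p K₁ K₂ E H) (o : Orb z E H) (h2 : (2 : F) ≠ 0) {a : G} (ha : a ∈ E)
    (haH : a ∉ H) : Bal a z := by
  have haz := h.le ha
  have : Finite X := Finite.of_surjective p h.surj
  obtain ⟨e₁⟩ := h.e₁
  have hsw := h.swap a ha haH haz
  have hff := h.p_sq o ha
  refine Lib.SymLocal.inf_le_of_locBal p h.surj (ker_eq h.ker) (o.sq ha) haz ?_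
  refine Lib.SymBal.locBal_swap h2 e₁ hff ?_ ?_ ?_
  · intro x hx y hy
    exact h.comm x hx _ (hsw.1 y hy)
  · intro r hr
    exact (h.odd_norm o h2 hr).1
  · intro r hr h1 h3
    refine h.cent r hr h1 ?_
    intro y hy
    obtain ⟨x, hx, rfl⟩ := swap_back hff hsw hy
    exact h3 x hx

/-- The form at `z`: swaps. -/
theorem _root_.Cfsg.Agent.LFourB.KForm.Orb.notMem_iff (o : Orb z E H) {a : G} :
    Orb.B z E H z a ≠ 0 ↔ a ∉ H := by
  rw [Ne, o.B_perp o.z_memE o.z_ne, o.perp_z]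

theorem bal_all [Finite F] (h : Loc z F p K₁ K₂ E H) (o : Orb z E H) (h2 : (2 : F) ≠ 0) {a b : G} (ha : a ∈ E)
    (ha1 : a ≠ 1) (hb : b ∈ E) (hb1 : b ≠ 1) (hB : Orb.B z E H a b ≠ 0) : Bal a b := by
  rw [o.B_symm ha hb] at hB
  have hB' : ¬ Perp z E H b a := fun h0 => hB ((o.B_perp hb hb1).mpr h0)
  obtain ⟨g, hg, hgb⟩ := o.trans b hb hb1
  refine Lib.SymParam.Bal.of_conj (g := g) ?_
  rw [hgb]
  exact h.bal o h2 (o.conj_mem ha hg) (fun h0 => hB' ((o.perp_iff hg hgb).mpr h0))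

/-- Two inner elements `v = x₁ x₂`, `b = y₁ y₂` which are not perpendicular: `y_i` inverts `x_i`. -/
theorem inner_inverts (h : Loc z F p K₁ K₂ E H) (o : Orb z E H) (h2 : (2 : F) ≠ 0) {v b : G} (hv : v ∈ H)
    (hv1 : v ≠ 1) (hb : b ∈ H) (hB : Orb.B z E H v b ≠ 0) {x₁ x₂ y₁ y₂ : X} (hx₁ : x₁ ∈ K₁)
    (hx₂ : x₂ ∈ K₂) (hy₁ : y₁ ∈ K₁) (hy₂ : y₂ ∈ K₂) (hxx₁ : x₁ * x₁ = p (self z)) (hxx₂ : x₂ * x₂ = p (self z))
    (hyy₁ : y₁ * y₁ = p (self z)) (hyy₂ : y₂ * y₂ = p (self z)) (hpv : p ⟨v, h.le (o.le hv)⟩ = x₁ * x₂)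
    (hpb : p ⟨b, h.le (o.le hb)⟩ = y₁ * y₂) : y₁ * x₁ * y₁⁻¹ = x₁⁻¹ ∧ y₂ * x₂ * y₂⁻¹ = x₂⁻¹ := by
  have hvE := o.le hv
  have hbE := o.le hb
  have hzz := zz (p := p) o
  have hcv : (y₁ * y₂) * (x₁ * x₂) = (x₁ * x₂) * (y₁ * y₂) := by
    rw [← hpv, ← hpb, ← map_mul, ← map_mul]
    congr 1
    exact Subtype.ext (o.comm hbE hvE)
  have hc := h.self_central
  have hxinv₁ : x₁⁻¹ = x₁ * p (self z) := by
    apply inv_eq_of_mul_eq_one_left
    rw [mul_assoc, ← hc x₁, ← mul_assoc, hxx₁, hzz]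
  have hxinv₂ : x₂⁻¹ = x₂ * p (self z) := by
    apply inv_eq_of_mul_eq_one_left
    rw [mul_assoc, ← hc x₂, ← mul_assoc, hxx₂, hzz]
  set c := x₁⁻¹ * (y₁ * x₁ * y₁⁻¹) with hcdef
  have hc1 : c ∈ K₁ := mul_mem (inv_mem hx₁) (mul_mem (mul_mem hy₁ hx₁) (inv_mem hy₁))
  have hprod : (y₁ * x₁ * y₁⁻¹) * (y₂ * x₂ * y₂⁻¹) = x₁ * x₂ := by
    have h1 : y₂ * x₁ = x₁ * y₂ := (h.comm x₁ hx₁ y₂ hy₂).symm
    have h3 : x₂ * y₁⁻¹ = y₁⁻¹ * x₂ := (h.comm _ (inv_mem hy₁) x₂ hx₂).symm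
    have h4 : y₁⁻¹ * y₂ = y₂ * y₁⁻¹ := h.comm _ (inv_mem hy₁) y₂ hy₂
    calc (y₁ * x₁ * y₁⁻¹) * (y₂ * x₂ * y₂⁻¹) = y₁ * x₁ * (y₁⁻¹ * y₂) * x₂ * y₂⁻¹ := by group
      _ = y₁ * (x₁ * y₂) * (y₁⁻¹ * x₂) * y₂⁻¹ := by rw [h4]; group
      _ = (y₁ * y₂) * (x₁ * x₂) * (y₁⁻¹ * y₂⁻¹) := by rw [← h1, ← h3]; group
      _ = (x₁ * x₂) * (y₁ * y₂) * (y₁⁻¹ * y₂⁻¹) := by rw [hcv]
      _ = (x₁ * x₂) * (y₁ * (y₂ * y₁⁻¹) * y₂⁻¹) := by group
      _ = x₁ * x₂ := by rw [← h4]; group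
  have hc2' : c = x₂ * (y₂ * x₂ * y₂⁻¹)⁻¹ := by
    rw [hcdef, inv_mul_eq_iff_eq_mul, ← mul_assoc, ← hprod, mul_inv_cancel_right]
  have hc2 : c ∈ K₂ := by
    rw [hc2']
    exact mul_mem hx₂ (inv_mem (mul_mem (mul_mem hy₂ hx₂) (inv_mem hy₂)))
  have hcne : c ≠ 1 := by
    intro h0
    -- then `y₁`, `x₁` commute, `y₂`, `x₂` commute
    have hk₁ : y₁ * x₁ = x₁ * y₁ := by
      have h3 : y₁ * x₁ * y₁⁻¹ = x₁ := by
        rw [hcdef] at h0
        exact (inv_mul_eq_one.mp h0).symm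
      exact mul_inv_eq_iff_eq_mul.mp h3
    have hk₂ : y₂ * x₂ = x₂ * y₂ := by
      rw [h0] at hc2'
      exact mul_inv_eq_iff_eq_mul.mp (mul_inv_eq_one.mp hc2'.symm).symm
    have key : ∀ (K : Subgroup X) (_ : Nonempty (K ≃* Matrix.SpecialLinearGroup (Fin 2) F)) (_ : p (self z) ∈ K)
        {x y : X}, x ∈ K → y ∈ K → x * x = p (self z) → y * y = p (self z) → y * x = x * y →
        y = x ∨ y = x * p (self z) := by
      intro K hK hzK x y hx hy hxx hyy hxy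
      obtain ⟨e⟩ := hK
      have h3 : e ⟨y * x⁻¹, mul_mem hy (inv_mem hx)⟩ * e ⟨y * x⁻¹, mul_mem hy (inv_mem hx)⟩ = 1 := by
        rw [← map_mul, map_eq_one_iff e e.injective]
        apply Subtype.ext
        change y * x⁻¹ * (y * x⁻¹) = 1
        have h4 : x⁻¹ * y = y * x⁻¹ := by
          rw [inv_mul_eq_iff_eq_mul, ← mul_assoc, ← hxy, mul_inv_cancel_right]
        calc y * x⁻¹ * (y * x⁻¹) = y * (x⁻¹ * y) * x⁻¹ := by group
          _ = (y * y) * (x * x)⁻¹ := by rw [h4]; group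
          _ = 1 := by rw [hxx, hyy, mul_inv_cancel]
      have h5 : e ⟨p (self z), hzK⟩ = -1 := by
        have h6 : e ⟨p (self z), hzK⟩ * e ⟨p (self z), hzK⟩ = 1 := by
          rw [← map_mul, map_eq_one_iff e e.injective]
          exact Subtype.ext hzz
        rcases Cfsg.Agent.Lib.PSL2Inv.sq_eq_one h2 h6 with h7 | h7
        · exact absurd (congrArg Subtype.val ((map_eq_one_iff e e.injective).mp h7)) (h.z_ne o)
        · exact h7
      rcases Cfsg.Agent.Lib.PSL2Inv.sq_eq_one h2 h3 with h4 | h4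
      · left
        have := congrArg Subtype.val ((map_eq_one_iff e e.injective).mp h4)
        exact mul_inv_eq_one.mp this
      · right
        have := congrArg Subtype.val (e.injective (h4.trans h5.symm))
        change y * x⁻¹ = p (self z) at this
        rw [hc x, ← this, inv_mul_cancel_right]
    have hpb' : p ⟨b, h.le hbE⟩ = p ⟨v, h.le hvE⟩ ∨
        p ⟨b, h.le hbE⟩ = p ⟨v * z, h.le (mul_mem hvE o.z_memE)⟩ := by
      have hvz : p ⟨v * z, h.le (mul_mem hvE o.z_memE)⟩ = x₁ * x₂ * p (self z) := by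
        rw [← hpv, ← map_mul]; rfl
      rw [hvz, hpv, hpb]
      rcases key K₁ h.e₁ h.z₁ hx₁ hy₁ hxx₁ hyy₁ hk₁ with h3 | h3 <;>
        rcases key K₂ h.e₂ h.z₂ hx₂ hy₂ hxx₂ hyy₂ hk₂ with h4 | h4
      · left; rw [h3, h4]
      · right; rw [h3, h4, mul_assoc]
      · right; rw [h3, h4, mul_assoc, ← hc x₂, mul_assoc]
      · left
        rw [h3, h4, mul_assoc, ← mul_assoc (p (self z)), ← hc x₂, mul_assoc x₂, hzz, mul_one]
    apply hB
    rcases hpb' with h3 | h3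
    · have h4 := h.p_inj o hbE hvE h3
      rw [h4, o.B_perp hvE hv1]
      exact o.perp_self hvE hv1
    · have h4 := h.p_inj o hbE (mul_mem hvE o.z_memE) h3
      rw [h4, o.B_add_right hvE hvE o.z_memE, (o.B_perp hvE hv1).mpr (o.perp_self hvE hv1), zero_add,
        o.B_symm hvE o.z_memE, o.B_perp o.z_memE o.z_ne, o.perp_z]
      exact hv
  have hcz : c = p (self z) := (h.inf o h2 hc1 hc2).resolve_left hcne
  constructor
  · have h3 : y₁ * x₁ * y₁⁻¹ = x₁ * c := by rw [hcdef]; group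
    rw [h3, hcz, hxinv₁]
  · have h3 : y₂ * x₂ * y₂⁻¹ = c⁻¹ * x₂ := by rw [hc2']; group
    have h4 : c⁻¹ = p (self z) := by rw [hcz]; exact inv_eq_of_mul_eq_one_left hzz
    rw [h3, h4, hxinv₂, hc]

/-- **(N)** at `z`. -/
theorem iso [Finite F] (h : Loc z F p K₁ K₂ E H) (o : Orb z E H) (h2 : (2 : F) ≠ 0) {v : G} (hv : v ∈ H)
    (hv1 : v ≠ 1) (hvz : v ≠ z) : Iso z v := by
  have hvE := o.le hv
  obtain ⟨e₁⟩ := h.e₁
  obtain ⟨e₂⟩ := h.e₂
  obtain ⟨b, hb, hzb, hvb⟩ := o.exists_perp o.z_memE o.z_ne hvE hv1 (Ne.symm hvz)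
  obtain ⟨c, hc, hvc, hzc⟩ := o.exists_perp hvE hv1 o.z_memE o.z_ne hvz
  have hb1 : b ≠ 1 := by
    rintro rfl
    exact hvb (by rw [o.B_perp hvE hv1]; exact o.perp_one hvE hv1)
  have hc1 : c ≠ 1 := by
    rintro rfl
    exact hzc (by rw [o.B_perp o.z_memE o.z_ne]; exact o.perp_one o.z_memE o.z_ne)
  have hbH : b ∈ H := by rwa [o.B_perp o.z_memE o.z_ne, o.perp_z] at hzb
  have hbz : b ≠ z := by
    rintro rfl
    apply hvb
    rw [o.B_symm hvE o.z_memE, o.B_perp o.z_memE o.z_ne, o.perp_z]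
    exact hv
  have hzvE : z * v ∈ E := mul_mem o.z_memE hvE
  have hzv1 : z * v ≠ 1 := by
    intro h0
    apply hvz
    have h1 : z * (z * v) = z := by rw [h0, mul_one]
    rwa [← mul_assoc, o.sq o.z_memE, one_mul] at h1
  have hbcE : b * c ∈ E := mul_mem hb hc
  have one_ne : ∀ x y : G, Orb.B z E H x y ≠ 0 → Orb.B z E H x y = 1 := fun x y h0 =>
    (Orb.B_or x y).resolve_left h0
  have hbc1 : b * c ≠ 1 := by
    intro h0
    have h1 : b = c := by
      have h3 : b * (c * c) = c := by rw [← mul_assoc, h0, one_mul]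
      rwa [o.sq hc, mul_one] at h3
    exact hvb (h1 ▸ hvc)
  obtain ⟨x₁, hx₁, x₂, hx₂, hxx₁, hxx₂, hpv⟩ := h.inner v hv hv1 hvz (h.le hvE)
  obtain ⟨y₁, hy₁, y₂, hy₂, hyy₁, hyy₂, hpb⟩ := h.inner b hbH hb1 hbz (h.le hb)
  obtain ⟨hi₁, hi₂⟩ := h.inner_inverts o h2 hv hv1 hbH hvb hx₁ hx₂ hy₁ hy₂ hxx₁ hxx₂ hyy₁ hyy₂ hpv hpb
  have hzz := zz (p := p) o
  refine Lib.SymLocal.inf_le_of_locIso (b := b) (c := c) (o.sq o.z_memE) (o.sq hvE) (o.sq hb) (o.sq hc)
    (o.comm hvE o.z_memE) (o.comm hb o.z_memE) (o.comm hb hvE) (o.comm hc o.z_memE) (o.comm hc hvE)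
    (o.comm hb hc) p h.surj (ker_eq h.ker) ?_ ?_ ?_ ?_ ?_
  · refine h.bal_all o h2 hzvE hzv1 hc hc1 ?_
    rw [o.B_add_left o.z_memE hvE hc, hvc, add_zero]
    exact hzc
  · refine h.bal_all o h2 hc hc1 o.z_memE o.z_ne ?_
    rw [o.B_symm hc o.z_memE]
    exact hzc
  · refine h.bal_all o h2 hvE hv1 hbcE hbc1 ?_
    rw [o.B_add_right hvE hb hc, hvc, add_zero]
    exact hvb
  · refine h.bal_all o h2 hbcE hbc1 o.z_memE o.z_ne ?_
    rw [o.B_symm hbcE o.z_memE, o.B_add_right o.z_memE hb hc, hzb, zero_add]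
    exact hzc
  · have e : p ⟨v, mem_centralizer_singleton_iff.mpr (o.comm hvE o.z_memE)⟩ = x₁ * x₂ := hpv
    rw [e]
    have hpb' : p ⟨b, mem_centralizer_singleton_iff.mpr (o.comm hb o.z_memE)⟩ = y₁ * y₂ := hpb
    rw [hpb']
    have hy₁n : ∀ k ∈ K₁, (y₁ * y₂) * k * (y₁ * y₂)⁻¹ = y₁ * k * y₁⁻¹ := by
      intro k hk
      have h3 : y₂ * k = k * y₂ := (h.comm k hk y₂ hy₂).symm
      calc (y₁ * y₂) * k * (y₁ * y₂)⁻¹ = y₁ * (y₂ * k) * y₂⁻¹ * y₁⁻¹ := by group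
        _ = y₁ * k * y₁⁻¹ := by rw [h3]; group
    have hy₂n : ∀ k ∈ K₂, (y₁ * y₂) * k * (y₁ * y₂)⁻¹ = y₂ * k * y₂⁻¹ := by
      intro k hk
      have h3 : y₁ * (y₂ * k * y₂⁻¹) = (y₂ * k * y₂⁻¹) * y₁ :=
        h.comm y₁ hy₁ _ (mul_mem (mul_mem hy₂ hk) (inv_mem hy₂))
      calc (y₁ * y₂) * k * (y₁ * y₂)⁻¹ = y₁ * (y₂ * k * y₂⁻¹) * y₁⁻¹ := by group
        _ = y₂ * k * y₂⁻¹ := by rw [h3]; group
    have hbn₁ : (y₁ * y₂) ∈ normalizer (K₁ : Set X) := by
      refine mem_norm₁ ?_ ?_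
      · intro k hk
        rw [hy₁n k hk]
        exact mul_mem (mul_mem hy₁ hk) (inv_mem hy₁)
      · intro k hk
        have h3 : (y₁ * y₂)⁻¹ * k * (y₁ * y₂)⁻¹⁻¹ = y₁⁻¹ * k * y₁ := by
          have h4 : k * y₁ ∈ K₁ := mul_mem hk hy₁
          have h5 : y₁⁻¹ * (k * y₁) ∈ K₁ := mul_mem (inv_mem hy₁) h4
          have h6 := h.comm _ h5 y₂ hy₂
          calc (y₁ * y₂)⁻¹ * k * (y₁ * y₂)⁻¹⁻¹ = y₂⁻¹ * (y₁⁻¹ * (k * y₁) * y₂) := by group
            _ = y₂⁻¹ * (y₂ * (y₁⁻¹ * (k * y₁))) := by rw [h6]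
            _ = _ := by group
        rw [h3]
        exact mul_mem (mul_mem (inv_mem hy₁) hk) hy₁
    have hbn₂ : (y₁ * y₂) ∈ normalizer (K₂ : Set X) := by
      refine mem_norm₁ ?_ ?_
      · intro k hk
        rw [hy₂n k hk]
        exact mul_mem (mul_mem hy₂ hk) (inv_mem hy₂)
      · intro k hk
        have h3 : (y₁ * y₂)⁻¹ * k * (y₁ * y₂)⁻¹⁻¹ = y₂⁻¹ * k * y₂ := by
          have h6 := h.comm y₁⁻¹ (inv_mem hy₁) k hk
          calc (y₁ * y₂)⁻¹ * k * (y₁ * y₂)⁻¹⁻¹ = y₂⁻¹ * (y₁⁻¹ * k) * y₁ * y₂ := by group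
            _ = _ := by rw [h6]; group
        rw [h3]
        exact mul_mem (mul_mem (inv_mem hy₂) hk) hy₂
    have hx4 : ∀ x : X, x * x = p (self z) → (x * x) * (x * x) = 1 := fun x hx => by rw [hx, hzz]
    have hx1 : ∀ x : X, x * x = p (self z) → x * x ≠ 1 := fun x hx => by rw [hx]; exact h.z_ne o
    have inv : ∀ (K : Subgroup X) (e : K ≃* Matrix.SpecialLinearGroup (Fin 2) F) {x j y : X} (_ : x ∈ K) (_ : j ∈ K)
        (_ : y ∈ K), x * x = p (self z) → j * x * j⁻¹ = x⁻¹ → y * x = x * y → j * y * j⁻¹ = y⁻¹ := by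
      intro K e x j y hx hj hy hxx hjx hyx
      have h3 := KSL.inverts e (ζ := ⟨x, hx⟩ * ⟨x, hx⟩) (x := ⟨x, hx⟩) (Subtype.ext (hx4 x hxx))
        (fun h0 => hx1 x hxx (congrArg Subtype.val h0)) h2 rfl (j := ⟨j, hj⟩) (Subtype.ext hjx) (y := ⟨y, hy⟩)
        (Subtype.ext hyx)
      exact congrArg Subtype.val h3
    refine Lib.SymSL.locIso_sl h2 e₁ e₂ h.comm (fun g hg => (h.odd_normalizer o h2 hg).1)
      (fun g hg => (h.odd_normalizer o h2 hg).2) h.cent hx₁ hx₂ (hx1 _ hxx₁) (hx4 _ hxx₁) (hx1 _ hxx₂)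
      (hx4 _ hxx₂) hbn₁ hbn₂ ?_ ?_
    · intro y hy hyx _
      rw [hy₁n y hy]
      exact inv K₁ e₁ hx₁ hy₁ hy hxx₁ hi₁ hyx
    · intro y hy hyx _
      rw [hy₂n y hy]
      exact inv K₂ e₂ hx₂ hy₂ hy hxx₂ hi₂ hyx

/-- **The frame.** -/
theorem frame [Finite F] (h : Loc z F p K₁ K₂ E H) (o : Orb z E H) (h2 : (2 : F) ≠ 0) :
    Frame E (Orb.B z E H) :=
  o.frame (fun _ ha haH => h.bal o h2 ha haH) (fun _ hv hv1 hvz => h.iso o h2 hv hv1 hvz)

theorem exists_completion [Finite F] (h : Loc z F p K₁ K₂ E H) (o : Orb z E H) (h2 : (2 : F) ≠ 0) :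
    ∃ W : Subgroup G, Completion E W := (h.frame o h2).exists_completion

/-- No elements of odd order in the tori: one-balance. -/
theorem oneBal [Finite F] (h : Loc z F p K₁ K₂ E H) (o : Orb z E H) (h2 : (2 : F) ≠ 0)
    (hF : ∃ a : ℕ, (Nat.card F % 4 = 1 ∧ Nat.card F - 1 = 2 ^ a) ∨ (Nat.card F % 4 = 3 ∧ Nat.card F + 1 = 2 ^ a)) :
    OneBal E := by
  have hzz := zz (p := p) o
  have hx4 : ∀ x : X, x * x = p (self z) → (x * x) * (x * x) = 1 := fun x hx => by rw [hx, hzz]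
  have hx1 : ∀ x : X, x * x = p (self z) → x * x ≠ 1 := fun x hx => by rw [hx]; exact h.z_ne o
  have at_z : ∀ v ∈ H, v ≠ 1 → Bal v z := by
    intro v hv hv1
    by_cases hvz : v = z
    · rw [hvz]
      exact inf_le_left
    obtain ⟨e₁⟩ := h.e₁
    obtain ⟨e₂⟩ := h.e₂
    obtain ⟨x₁, hx₁, x₂, hx₂, hxx₁, hxx₂, hpv⟩ := h.inner v hv hv1 hvz (h.le (o.le hv))
    refine Lib.SymLocal.inf_le_of_locBal p h.surj (ker_eq h.ker) (o.sq (o.le hv)) (h.le (o.le hv)) ?_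
    refine Lib.SymTwo.locBal_of_odd ?_
    intro r hr hrv
    rw [hpv] at hrv
    exact Lib.SymTwo.odd_eq_one_sl h2 e₁ e₂ h.comm (fun g hg => (h.odd_normalizer o h2 hg).1)
      (fun g hg => (h.odd_normalizer o h2 hg).2) h.cent hx₁ hx₂ (hx1 _ hxx₁) (hx4 _ hxx₁) (hx1 _ hxx₂)
      (hx4 _ hxx₂) (Lib.SymTwo.sl_no_odd h2 e₁ hF hx₁ (hx1 _ hxx₁) (hx4 _ hxx₁))
      (Lib.SymTwo.sl_no_odd h2 e₂ hF hx₂ (hx1 _ hxx₂) (hx4 _ hxx₂)) hr hrv
  refine ⟨o.elem, by rw [o.card]; norm_num, ?_⟩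
  intro a ha ha1 b hb hb1
  obtain ⟨g, hg, hgb⟩ := o.trans b hb hb1
  refine Bal.of_conj (g := g) ?_
  rw [hgb]
  by_cases hH : g * a * g⁻¹ ∈ H
  · exact at_z _ hH (Orb.conj_ne_one ha1)
  · exact h.bal o h2 (o.conj_mem ha hg) hH

theorem exists_completion_one [Finite F] (h : Loc z F p K₁ K₂ E H) (o : Orb z E H) (h2 : (2 : F) ≠ 0)
    (hF : ∃ a : ℕ, (Nat.card F % 4 = 1 ∧ Nat.card F - 1 = 2 ^ a) ∨ (Nat.card F % 4 = 3 ∧ Nat.card F + 1 = 2 ^ a)) :
    ∃ W : Subgroup G, CompletionOne E W := (h.oneBal o h2 hF).exists_completion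

end fin

end Loc

end Cfsg.Agent.LFourB.KLoc
end

-- part: LFourB/KClose
section
/-!
# Closing: `C(z) ≤ N(W)` if the completion `W` is nontrivial

`diag` : `l ↦ l * l ^ b` for an involution `b` swapping `K₁` and `K₂`.  If the image `D` of `C(z) ∩ M` contains the diagonals
of two such `b` (`|F| > 3`: of `b` and `b v`, `v` inner) then it contains `K₁` and `K₂`; if moreover it contains the
centraliser of an inner involution, it is everything.
-/

set_option autoImplicit false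

namespace Cfsg.Agent.LFourB.KClose

open Subgroup Cfsg
open Cfsg.Agent.LFourA.CzCt Cfsg.Agent.LFourA.KlQuot Cfsg.Agent.LFourA.KlSl
open Cfsg.Agent.Lib.SymFrame
open Cfsg.Agent.LFourB.KForm Cfsg.Agent.LFourB.KLoc

section psl

variable {F : Type*} [Field F] [Fintype F]

theorem exists_comm (h2 : (2 : F) ≠ 0) (h11 : 11 ≤ Fintype.card F)
    {t u : Matrix.ProjectiveSpecialLinearGroup (Fin 2) F} (ht1 : t ≠ 1) (ht : t * t = 1) (hu1 : u ≠ 1) (hu : u * u = 1)
    (htu : t ≠ u) (hc : t * u = u * t) : ∃ c, c * u = u * c ∧ c * t ≠ t * c := by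
  obtain ⟨T, m, hT, hm⟩ := Cfsg.Agent.Lib.PSL2Torus.exists_torus h2 (MulEquiv.refl _) hu1 hu
  have hm5 : 3 ≤ m := by
    rw [Nat.card_eq_fintype_card] at hm
    omega
  by_contra h0
  push Not at h0
  have htT : t ∉ T := hT.not_mem ht1 ht htu
  obtain ⟨-, -, hinv⟩ := hT.out t hc htT
  have hsq : ∀ c ∈ T, c * c = 1 := by
    intro c hcT
    have h3 := hinv c hcT
    rw [← h0 c (hT.comm c hcT), mul_inv_cancel_right] at h3
    nth_rewrite 2 [h3]
    exact mul_inv_cancel c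
  have hle : T ≤ zpowers u := by
    intro c hcT
    rcases hT.eq_of_sq hcT (hsq c hcT) with h3 | h3
    · rw [h3]; exact one_mem _
    · rw [h3]; exact mem_zpowers u
  have h3 := card_le_of_le hle
  rw [hT.card, Nat.card_zpowers, orderOf_eq_prime (p := 2) (by rw [pow_two]; exact hu) hu1] at h3
  omega

end psl

section sl

variable {F : Type*} [Field F] {K : Type*} [Group K] (e : K ≃* Matrix.SpecialLinearGroup (Fin 2) F)
  {ζ x j : K} (hζ : ζ * ζ = 1) (hζ1 : ζ ≠ 1)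

include e hζ hζ1

/-- **A subgroup containing the normalisers of `⟨x⟩` and `⟨j⟩` is everything**, `|F| ≥ 11`. -/
theorem eq_top_of_two [Fintype F] (h2 : (2 : F) ≠ 0) (h11 : 11 ≤ Fintype.card F) (hx : x * x = ζ) (hj : j * j = ζ)
    (hjx : j * x * j⁻¹ = x⁻¹) {D : Subgroup K} (hD : ∀ y, y * x * y⁻¹ = x ∨ y * x * y⁻¹ = x⁻¹ → y ∈ D)
    (hD' : ∀ y, y * j * y⁻¹ = j ∨ y * j * y⁻¹ = j⁻¹ → y ∈ D) : D = ⊤ := by
  have hz := e_zeta e hζ hζ1 h2
  obtain ⟨π₀, hπ₀, hk₀⟩ := Cfsg.Agent.Lib.PSL2Torus.exists_hom h2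
    (MulEquiv.refl (Matrix.ProjectiveSpecialLinearGroup (Fin 2) F))
  let π : K →* Matrix.ProjectiveSpecialLinearGroup (Fin 2) F := π₀.comp e.toMonoidHom
  have hπ : Function.Surjective π := hπ₀.comp e.surjective
  have hk : ∀ a b, π a = π b ↔ a = b ∨ a = ζ * b := by
    intro a b
    change π₀ (e a) = π₀ (e b) ↔ _
    rw [Cfsg.Agent.Lib.PSL2Torus.map_eq_iff π₀ hk₀]
    constructor
    · rintro (h | h)
      · exact Or.inl (e.injective h)
      · right
        apply e.injective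
        rw [h, map_mul, hz, neg_mul, one_mul]
    · rintro (h | h)
      · exact Or.inl (by rw [h])
      · right
        rw [h, map_mul, hz, neg_mul, one_mul]
  have hinv : ∀ y : K, y * y = ζ → y⁻¹ = ζ * y := fun y hy =>
    inv_eq_of_mul_eq_one_left (by rw [mul_assoc, hy, hζ])
  have hne : ∀ y : K, y * y = ζ → π y ≠ 1 := by
    intro y hy h0
    rw [← map_one π, hk] at h0
    rcases h0 with h0 | h0
    · rw [h0, one_mul] at hy
      exact hζ1 hy.symm
    · rw [mul_one] at h0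
      rw [h0, hζ] at hy
      exact hζ1 hy.symm
  have hsq : ∀ y : K, y * y = ζ → π y * π y = 1 := by
    intro y hy
    rw [← map_mul, ← map_one π, hy, hk]
    exact Or.inr (by rw [mul_one])
  have hjx' : j * x = ζ * (x * j) := by
    rw [mul_inv_eq_iff_eq_mul.mp hjx, hinv x hx, mul_assoc]
  have hxj : π x ≠ π j := by
    intro h0
    rw [hk] at h0
    have h3 : j * x = x * j := by
      rcases h0 with h0 | h0
      · rw [h0]
      · rw [h0, ← mul_assoc, ← KSL.zeta_comm e hζ hζ1 h2 j, mul_assoc]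
    rw [h3] at hjx'
    have : ζ = 1 := by
      have h4 : 1 * (x * j) = ζ * (x * j) := by rw [one_mul]; exact hjx'
      exact (mul_right_cancel h4).symm
    exact hζ1 this
  have hc : π x * π j = π j * π x := by
    rw [← map_mul, ← map_mul, hk]
    right
    rw [hjx', ← mul_assoc, hζ, one_mul]
  obtain ⟨c, hcj, hcx⟩ := exists_comm h2 h11 (hne x hx) (hsq x hx) (hne j hj) (hsq j hj) hxj hc
  obtain ⟨y, rfl⟩ := hπ c
  have hyD : y ∈ D := by
    apply hD'
    rw [← map_mul, ← map_mul, hk] at hcj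
    rcases hcj with h3 | h3
    · left; rw [h3, mul_inv_cancel_right]
    · right
      rw [h3, hinv j hj]; group
  have hyx : ¬ (y * x * y⁻¹ = x) ∧ ¬ (y * x * y⁻¹ = x⁻¹) := by
    constructor
    · intro h3
      apply hcx
      rw [← map_mul, ← map_mul, mul_inv_eq_iff_eq_mul.mp h3]
    · intro h3
      apply hcx
      rw [← map_mul, ← map_mul, hk]
      right
      rw [mul_inv_eq_iff_eq_mul.mp h3, hinv x hx, mul_assoc]
  refine KSL.eq_top_of_torus e hζ hζ1 h2 h11 hx (fun y hy => hD y (Or.inl ?_)) (hD j (Or.inr hjx)) hjx hyD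
    hyx.1 hyx.2
  rw [hy, mul_inv_cancel_right]

theorem del_conj_eq_top [Fintype F] (h2 : (2 : F) ≠ 0) (h3 : 3 < Fintype.card F) (hx : x * x = ζ)
    (hjx : j * x * j⁻¹ = x⁻¹) : del (MulAut.conj x) = ⊤ := by
  -- `⟨x⟩` is not normal
  have hx1 : x ≠ 1 := by
    rintro rfl
    rw [one_mul] at hx
    exact hζ1 hx.symm
  have hxζ : x ≠ ζ := by
    intro h0
    rw [h0, hζ] at hx
    exact hζ1 hx.symm
  have hinv : x⁻¹ = ζ * x := inv_eq_of_mul_eq_one_left (by rw [mul_assoc, hx, hζ])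
  have hnn : ∃ m : K, m⁻¹ * (x * m * x⁻¹) ≠ 1 ∧ m⁻¹ * (x * m * x⁻¹) ≠ ζ := by
    by_contra h0
    push Not at h0
    have hn : (zpowers x).Normal := by
      have key : ∀ m : K, m⁻¹ * x * m ∈ zpowers x := by
        intro m
        by_cases h4 : m⁻¹ * (x * m * x⁻¹) = 1
        · have h5 : m⁻¹ * x * m = x := by
            calc m⁻¹ * x * m = m⁻¹ * (x * m * x⁻¹) * x := by group
              _ = x := by rw [h4, one_mul]
          rw [h5]; exact mem_zpowers x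
        · have h5 : m⁻¹ * x * m = ζ * x := by
            calc m⁻¹ * x * m = m⁻¹ * (x * m * x⁻¹) * x := by group
              _ = ζ * x := by rw [h0 m h4]
          rw [h5, ← hinv]
          exact inv_mem (mem_zpowers x)
      refine ⟨fun n hn g => ?_⟩
      obtain ⟨i, rfl⟩ := mem_zpowers_iff.mp hn
      rw [← conj_zpow]
      apply zpow_mem
      have := key g⁻¹
      rwa [inv_inv] at this
    have h4 := eq_top_of_notMem e hζ hζ1 h2 h3 hn (mem_zpowers x) hx1 hxζ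
    have h5 : j ∈ zpowers x := by rw [h4]; trivial
    obtain ⟨i, hi⟩ := mem_zpowers_iff.mp h5
    have h6 : j * x = x * j := by
      rw [← hi]
      exact ((Commute.refl x).zpow_left i)
    rw [h6, mul_inv_cancel_right] at hjx
    have h7 : x * x = 1 := by nth_rewrite 2 [hjx]; exact mul_inv_cancel x
    rw [hx] at h7
    exact hζ1 h7
  obtain ⟨m, hm1, hm2⟩ := hnn
  exact eq_top_of_notMem e hζ hζ1 h2 h3 (del_normal _) (mem_del (MulAut.conj x) m) hm1 hm2

end sl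

section X

variable {X : Type*} [Group X] {K₁ K₂ : Subgroup X}

/-- `b` swaps `K₁` and `K₂`. -/
def Sw (K₁ K₂ : Subgroup X) (b : X) : Prop := (∀ x ∈ K₁, b * x * b⁻¹ ∈ K₂) ∧ ∀ x ∈ K₂, b * x * b⁻¹ ∈ K₁

/-- `l ↦ l * l ^ b` -/
def diag (comm : ∀ x ∈ K₁, ∀ y ∈ K₂, x * y = y * x) {b : X} (hs : Sw K₁ K₂ b) : K₁ →* X where
  toFun l := l * (b * l * b⁻¹)
  map_one' := by rw [Subgroup.coe_one]; group
  map_mul' l m := by
    have h := comm m m.2 _ (hs.1 l l.2)
    calc ((l * m : K₁) : X) * (b * ((l * m : K₁) : X) * b⁻¹) = l * (m * (b * l * b⁻¹)) * (b * m * b⁻¹) := by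
          rw [Subgroup.coe_mul]; group
      _ = l * ((b * l * b⁻¹) * m) * (b * m * b⁻¹) := by rw [h]
      _ = _ := by group

variable (comm : ∀ x ∈ K₁, ∀ y ∈ K₂, x * y = y * x) {b : X} (hs : Sw K₁ K₂ b)

include comm

include hs in
theorem diag_comm (hb : b * b = 1) (l : X) (hl : l ∈ K₁) :
    (l * (b * l * b⁻¹)) * b = b * (l * (b * l * b⁻¹)) := by
  have hb' : b⁻¹ = b := inv_eq_of_mul_eq_one_left hb
  have h := comm l hl _ (hs.1 l hl)
  have e1 : l * (b * l * b⁻¹) * b = l * (b * l) := by group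
  rw [e1, h]
  calc l * (b * l) = l * (b⁻¹ * l) := by rw [hb']
    _ = (b * b) * (l * (b⁻¹ * l)) := by rw [hb, one_mul]
    _ = b * (b * l * b⁻¹ * l) := by group

omit comm in
include hs in
/-- If `D` contains the diagonals of `b` and `b'` and the `l⁻¹ α(l)`, `α = b⁻¹ b'`, generate `K₁`: `K₁, K₂ ≤ D`. -/
theorem le_of_diag (hb : b * b = 1) {b' : X} {D : Subgroup X}
    (hD : ∀ l ∈ K₁, l * (b * l * b⁻¹) ∈ D) (hD' : ∀ l ∈ K₁, l * (b' * l * b'⁻¹) ∈ D)
    {α : MulAut K₁} (hα : ∀ l : K₁, ((α l : K₁) : X) = (b⁻¹ * b') * l * (b⁻¹ * b')⁻¹) (htop : del α = ⊤) :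
    K₁ ≤ D ∧ K₂ ≤ D := by
  -- the `m ∈ K₁` with `m ^ b ∈ D`
  let N : Subgroup K₁ :=
    { carrier := {m | b * (m : X) * b⁻¹ ∈ D}
      mul_mem' := by
        intro m n hm hn
        have : b * ((m * n : K₁) : X) * b⁻¹ = (b * m * b⁻¹) * (b * n * b⁻¹) := by
          rw [Subgroup.coe_mul]; group
        change b * ((m * n : K₁) : X) * b⁻¹ ∈ D
        rw [this]
        exact mul_mem hm hn
      one_mem' := by
        change b * ((1 : K₁) : X) * b⁻¹ ∈ D
        rw [Subgroup.coe_one, mul_one, mul_inv_cancel]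
        exact one_mem _
      inv_mem' := by
        intro m hm
        change b * ((m⁻¹ : K₁) : X) * b⁻¹ ∈ D
        have : b * ((m⁻¹ : K₁) : X) * b⁻¹ = (b * m * b⁻¹)⁻¹ := by
          rw [Subgroup.coe_inv]; group
        rw [this]
        exact inv_mem hm }
  have hle : del α ≤ N := by
    rw [del, closure_le]
    rintro _ ⟨m, rfl⟩
    change b * ((m⁻¹ * α m : K₁) : X) * b⁻¹ ∈ D
    have h1 := mul_mem (inv_mem (hD m m.2)) (hD' m m.2)
    have h3 : ((m : X) * (b * m * b⁻¹))⁻¹ * (m * (b' * m * b'⁻¹)) = b * ((m⁻¹ * α m : K₁) : X) * b⁻¹ := by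
      rw [Subgroup.coe_mul, hα, Subgroup.coe_inv]; group
    rwa [h3] at h1
  have hN : ∀ m ∈ K₁, b * m * b⁻¹ ∈ D := by
    intro m hm
    have h3 : (⟨m, hm⟩ : K₁) ∈ N := hle (by rw [htop]; trivial)
    exact h3
  constructor
  · intro m hm
    have h3 := mul_mem (hD m hm) (inv_mem (hN m hm))
    rwa [mul_inv_cancel_right] at h3
  · intro y hy
    have hb' : b⁻¹ = b := inv_eq_of_mul_eq_one_left hb
    have h3 := hN _ (hs.2 y hy)
    have h4 : b * (b * y * b⁻¹) * b⁻¹ = y := by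
      rw [hb']
      calc b * (b * y * b) * b = (b * b) * y * (b * b) := by group
        _ = y := by rw [hb, one_mul, mul_one]
    rwa [h4] at h3

end X

section main

variable {G X : Type*} [Group G] [Finite G] [Group X] {z : G} {F : Type*} [Field F]
  {p : ↥(centralizer ({z} : Set G)) →* X} {K₁ K₂ : Subgroup X} {E H : Subgroup G}

/-- Lifting an element commuting with the images of two commuting involutions. -/
theorem exists_lift_two (h : Quo z p) {a b : G} (ha : a ∈ centralizer ({z} : Set G))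
    (hb : b ∈ centralizer ({z} : Set G)) (haa : a * a = 1) (hbb : b * b = 1) (hab : a * b = b * a) {y : X}
    (hya : y * p ⟨a, ha⟩ = p ⟨a, ha⟩ * y) (hyb : y * p ⟨b, hb⟩ = p ⟨b, hb⟩ * y) :
    ∃ (x : G) (hx : x ∈ centralizer ({z} : Set G)), x * a = a * x ∧ x * b = b * x ∧ p ⟨x, hx⟩ = y := by
  have : Fact (Nat.Prime 2) := ⟨Nat.prime_two⟩
  obtain ⟨y₀, rfl⟩ := h.surj y
  set a' : ↥(centralizer ({z} : Set G)) := ⟨a, ha⟩ with ha'
  set b' : ↥(centralizer ({z} : Set G)) := ⟨b, hb⟩ with hb'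
  have haa' : a' * a' = 1 := Subtype.ext haa
  have hbb' : b' * b' = 1 := Subtype.ext hbb
  have hab' : a' * b' = b' * a' := Subtype.ext hab
  set P : Subgroup ↥(centralizer ({z} : Set G)) := closure {a', b'} with hP
  have hcen : ∀ c : ↥(centralizer ({z} : Set G)), c * a' = a' * c → c * b' = b' * c → ∀ x ∈ P, c * x = x * c := by
    intro c hca hcb x hx
    have hle : P ≤ centralizer ({c} : Set _) := by
      rw [hP, closure_le]
      rintro x (rfl | hx)
      · exact mem_centralizer_singleton_iff.mpr hca.symm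
      · rw [Set.mem_singleton_iff.mp hx]
        exact mem_centralizer_singleton_iff.mpr hcb.symm
    exact (mem_centralizer_singleton_iff.mp (hle hx)).symm
  have hsq : ∀ x ∈ P, x * x = 1 := by
    intro x hx
    induction hx using closure_induction with
    | mem x hx =>
      rcases hx with rfl | hx
      · exact haa'
      · rw [Set.mem_singleton_iff.mp hx]; exact hbb'
    | one => exact one_mul 1
    | mul x y hx hy hxx hyy =>
      have h3 : x * y = y * x :=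
        hcen x (hcen a' rfl hab' x hx).symm (hcen b' hab'.symm rfl x hx).symm y hy
      calc x * y * (x * y) = x * (y * x) * y := by group
        _ = (x * x) * (y * y) := by rw [← h3]; group
        _ = 1 := by rw [hxx, hyy, one_mul]
    | inv x _ hxx =>
      rw [← mul_inv_rev, hxx, inv_one]
  have hPg : IsPGroup 2 P := fun x => ⟨1, Subtype.ext (by
    rw [pow_one, pow_two]; exact hsq x x.2)⟩
  have hodd := ker_odd h
  obtain ⟨g, hg, hgc⟩ := Cfsg.Agent.SignalizersComponents.CoreOfCentralizer.exists_centralizing_of_quotient P hPg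
    p.ker (fun h => (Nat.not_even_iff_odd.mpr hodd) (even_iff_two_dvd.mpr h)) (QuotientGroup.mk' p.ker y₀) (by
      intro c hc
      rw [← map_mul, ← map_mul]
      refine (QuotientGroup.eq).mpr ?_
      rw [MonoidHom.mem_ker, map_mul, map_inv, map_mul, map_mul]
      have h3 : p y₀ * p c = p c * p y₀ := by
        have hle : P ≤ (centralizer ({p y₀} : Set X)).comap p := by
          rw [hP, closure_le]
          rintro x (rfl | hx)
          · exact mem_centralizer_singleton_iff.mpr hya.symm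
          · rw [Set.mem_singleton_iff.mp hx]
            exact mem_centralizer_singleton_iff.mpr hyb.symm
        exact (mem_centralizer_singleton_iff.mp (hle hc)).symm
      rw [h3, inv_mul_cancel])
  refine ⟨g, g.2, ?_, ?_, ?_⟩
  · exact (congrArg Subtype.val (hg a' (subset_closure (Or.inl rfl)))).symm
  · exact (congrArg Subtype.val (hg b' (subset_closure (Or.inr rfl)))).symm
  · have h1 : g⁻¹ * y₀ ∈ p.ker := (QuotientGroup.eq).mp hgc
    rw [MonoidHom.mem_ker, map_mul, map_inv, inv_mul_eq_one] at h1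
    exact h1

/-- A strict inclusion doubles the order. -/
theorem two_mul_card_le {A B : Subgroup G} (h : A ≤ B) {x : G} (hx : x ∈ B) (hxA : x ∉ A) :
    2 * Nat.card A ≤ Nat.card B := by
  obtain ⟨k, hk⟩ := card_dvd_of_le h
  have hk1 : k ≠ 1 := by
    rintro rfl
    rw [mul_one] at hk
    exact hxA ((Subgroup.eq_of_le_of_card_ge h hk.le) ▸ hx)
  have hk0 : k ≠ 0 := by
    rintro rfl
    rw [mul_zero] at hk
    exact Nat.card_pos.ne' hk
  rw [hk, mul_comm 2]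
  exact Nat.mul_le_mul_left _ (by omega)

section orb

variable (o : Orb z E H)

include o

theorem zv_notMem {v : G} (hv1 : v ≠ 1) (hvz : v ≠ z) : v ∉ zpowers z := by
  intro h0
  obtain ⟨i, hi⟩ := mem_zpowers_iff.mp h0
  have hz2 : z ^ (2 : ℤ) = 1 := by rw [zpow_two]; exact o.sq o.z_memE
  rcases Int.even_or_odd' i with ⟨k, rfl | rfl⟩
  · rw [zpow_mul, hz2, one_zpow] at hi
    exact hv1 hi.symm
  · rw [zpow_add, zpow_mul, hz2, one_zpow, one_mul, zpow_one] at hi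
    exact hvz hi.symm

theorem card_zv {v : G} (hv1 : v ≠ 1) (hvz : v ≠ z) : 4 ≤ Nat.card (closure {z, v} : Subgroup G) := by
  have hle : zpowers z ≤ closure {z, v} := by
    rw [zpowers_le]; exact subset_closure (Or.inl rfl)
  have h1 := two_mul_card_le hle (subset_closure (Or.inr rfl) : v ∈ closure {z, v}) (zv_notMem o hv1 hvz)
  rwa [Nat.card_zpowers, orderOf_eq_prime (p := 2) (by rw [pow_two]; exact o.sq o.z_memE) o.z_ne] at h1

omit [Finite G] in
theorem zv_le {v : G} (hv : v ∈ H) : closure {z, v} ≤ H := by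
  rw [closure_le]
  rintro x (rfl | hx)
  · exact o.z_mem
  · rw [Set.mem_singleton_iff.mp hx]; exact hv

theorem card_zvb {v b : G} (hv : v ∈ H) (hv1 : v ≠ 1) (hvz : v ≠ z) (hb : b ∉ H) :
    8 ≤ Nat.card (closure {z, v, b} : Subgroup G) := by
  have hle : (closure {z, v} : Subgroup G) ≤ closure {z, v, b} := by
    apply Subgroup.closure_mono
    rintro x (rfl | hx)
    · exact Or.inl rfl
    · exact Or.inr (Or.inl (Set.mem_singleton_iff.mp hx))
  have h1 := two_mul_card_le hle (subset_closure (Or.inr (Or.inr rfl)) : b ∈ closure {z, v, b})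
    (fun h0 => hb (zv_le o hv h0))
  have h3 := card_zv o hv1 hvz
  omega

omit [Finite G] in
theorem card_zb_le {b : G} (hb : b ∈ E) : closure {z, b} ≤ E := by
  rw [closure_le]
  rintro x (rfl | hx)
  · exact o.z_memE
  · rw [Set.mem_singleton_iff.mp hx]; exact hb

end orb

omit [Finite G] in
theorem mem_of_comm {s : Set G} {x : G} {M : Subgroup G} (hM : normalizer ((closure s : Subgroup G) : Set G) ≤ M)
    (hx : ∀ y ∈ s, x * y = y * x) : x ∈ M := by
  apply hM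
  apply centralizer_le_normalizer
  rw [centralizer_closure, mem_centralizer_iff]
  exact fun y hy => (hx y hy).symm

end main

end Cfsg.Agent.LFourB.KClose

namespace Cfsg.Agent.LFourB.KLoc.Loc

open Subgroup Cfsg
open Cfsg.Agent.LFourA.CzCt Cfsg.Agent.LFourA.KlQuot Cfsg.Agent.LFourA.KlSl
open Cfsg.Agent.Lib.SymFrame
open Cfsg.Agent.LFourB.KForm Cfsg.Agent.LFourB.KLoc Cfsg.Agent.LFourB.KClose

section main

variable {G X : Type*} [Group G] [Finite G] [Group X] {z : G} {F : Type*} [Field F]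
  {p : ↥(centralizer ({z} : Set G)) →* X} {K₁ K₂ : Subgroup X} {E H : Subgroup G}

variable (h : Loc z F p K₁ K₂ E H) (o : Orb z E H)

include h o

omit [Finite G] o in
theorem sw {b : G} (hb : b ∈ E) (hbH : b ∉ H) : Sw K₁ K₂ (p ⟨b, h.le hb⟩) := h.swap b hb hbH (h.le hb)

/-- `p v = δ(x₁)` or `δ(x₁) ζ` for `v` inner, `b` a swap. -/
theorem inner_eq (h2 : (2 : F) ≠ 0) {v b : G} (hv : v ∈ H) (hb : b ∈ E) (hbH : b ∉ H) {x₁ x₂ : X} (hx₁ : x₁ ∈ K₁)
    (hx₂ : x₂ ∈ K₂) (hpv : p ⟨v, h.le (o.le hv)⟩ = x₁ * x₂) :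
    p ⟨v, h.le (o.le hv)⟩ = x₁ * (p ⟨b, h.le hb⟩ * x₁ * (p ⟨b, h.le hb⟩)⁻¹) ∨
      p ⟨v, h.le (o.le hv)⟩ = x₁ * (p ⟨b, h.le hb⟩ * x₁ * (p ⟨b, h.le hb⟩)⁻¹) * p (self z) := by
  set β := p ⟨b, h.le hb⟩ with hβ
  have hs := h.sw hb hbH
  rw [← hβ] at hs
  have hcomm : β * (x₁ * x₂) * β⁻¹ = x₁ * x₂ := by
    rw [← hpv, hβ, ← map_mul, ← map_inv, ← map_mul]
    congr 1
    apply Subtype.ext
    change b * v * b⁻¹ = v
    rw [o.comm hb (o.le hv), mul_inv_cancel_right]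
  set c := x₂⁻¹ * (β * x₁ * β⁻¹) with hc
  have hc2 : c ∈ K₂ := mul_mem (inv_mem hx₂) (hs.1 x₁ hx₁)
  have hprod : (β * x₁ * β⁻¹) * (β * x₂ * β⁻¹) = x₁ * x₂ := by rw [← hcomm]; group
  have hx₂' : β * x₂ * β⁻¹ ∈ K₁ := hs.2 x₂ hx₂
  have hc1' : c = x₁ * (β * x₂ * β⁻¹)⁻¹ := by
    have h3 : β * x₁ * β⁻¹ = x₁ * x₂ * (β * x₂ * β⁻¹)⁻¹ := by rw [← hprod, mul_inv_cancel_right]
    have h4 : x₂ * (β * x₂ * β⁻¹)⁻¹ = (β * x₂ * β⁻¹)⁻¹ * x₂ := (h.comm _ (inv_mem hx₂') x₂ hx₂).symm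
    have h5 : x₁ * x₂ = x₂ * x₁ := h.comm x₁ hx₁ x₂ hx₂
    rw [hc, h3, h5, inv_mul_eq_iff_eq_mul, mul_assoc]
  have hc1 : c ∈ K₁ := by
    rw [hc1']
    exact mul_mem hx₁ (inv_mem hx₂')
  have hzz := zz (p := p) o
  rcases h.inf o h2 hc1 hc2 with h3 | h3
  · left
    rw [hpv]
    rw [hc, inv_mul_eq_one] at h3
    rw [← h3]
  · right
    rw [hpv]
    rw [hc, inv_mul_eq_iff_eq_mul] at h3
    rw [h3, mul_assoc, mul_assoc, hzz, mul_one]

/-- The elements of `K₁` normalising `⟨x₁⟩` have a diagonal commuting with `v`. -/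
theorem diag_comm_inner (h2 : (2 : F) ≠ 0) {v b : G} (hv : v ∈ H) (hb : b ∈ E) (hbH : b ∉ H) {x₁ x₂ : X}
    (hx₁ : x₁ ∈ K₁) (hx₂ : x₂ ∈ K₂) (hxx₁ : x₁ * x₁ = p (self z)) (hpv : p ⟨v, h.le (o.le hv)⟩ = x₁ * x₂) {l : X}
    (hl : l ∈ K₁) (hlx : l * x₁ * l⁻¹ = x₁ ∨ l * x₁ * l⁻¹ = x₁⁻¹) :
    (l * (p ⟨b, h.le hb⟩ * l * (p ⟨b, h.le hb⟩)⁻¹)) * p ⟨v, h.le (o.le hv)⟩ =
      p ⟨v, h.le (o.le hv)⟩ * (l * (p ⟨b, h.le hb⟩ * l * (p ⟨b, h.le hb⟩)⁻¹)) := by
  have hs := h.sw hb hbH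
  have hcz := h.self_central
  have hzz := zz (p := p) o
  let δ := diag h.comm hs
  have hδ : ∀ l : K₁, δ l = l * (p ⟨b, h.le hb⟩ * l * (p ⟨b, h.le hb⟩)⁻¹) := fun l => rfl
  have hcomm : δ ⟨l, hl⟩ * δ ⟨x₁, hx₁⟩ = δ ⟨x₁, hx₁⟩ * δ ⟨l, hl⟩ := by
    have h3 : δ ⟨l, hl⟩ * δ ⟨x₁, hx₁⟩ * (δ ⟨l, hl⟩)⁻¹ = δ (⟨l, hl⟩ * ⟨x₁, hx₁⟩ * ⟨l, hl⟩⁻¹) := by
      rw [map_mul, map_mul, map_inv]
    have h4 : δ (⟨l, hl⟩ * ⟨x₁, hx₁⟩ * ⟨l, hl⟩⁻¹) = δ ⟨x₁, hx₁⟩ := by
      rcases hlx with h5 | h5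
      · congr 1
        exact Subtype.ext h5
      · have h6 : (⟨l, hl⟩ * ⟨x₁, hx₁⟩ * ⟨l, hl⟩⁻¹ : K₁) = ⟨x₁, hx₁⟩⁻¹ := Subtype.ext h5
        rw [h6, map_inv]
        apply inv_eq_of_mul_eq_one_left
        rw [← map_mul, hδ]
        change (x₁ * x₁) * (p ⟨b, h.le hb⟩ * (x₁ * x₁) * (p ⟨b, h.le hb⟩)⁻¹) = 1
        rw [hxx₁, hcz, mul_inv_cancel_right, hzz]
    rw [h4] at h3
    exact mul_inv_eq_iff_eq_mul.mp h3
  rw [hδ, hδ] at hcomm
  rcases h.inner_eq o h2 hv hb hbH hx₁ hx₂ hpv with h3 | h3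
  · rw [h3]
    exact hcomm
  · rw [h3]
    rw [← mul_assoc, hcomm, mul_assoc (_ * _) _ (p (self z)), hcz (l * _), ← mul_assoc]

variable [Fintype F]

/-- **Two-balance, `|F| ≥ 11`**: the diagonals lie in the image of `M`. -/
theorem diag_mem_two (h2 : (2 : F) ≠ 0) (h11 : 11 ≤ Fintype.card F) {M : Subgroup G} {b : G} (hb : b ∈ E)
    (hbH : b ∉ H)
    (hM : ∀ v ∈ H, v ≠ 1 → v ≠ z → ∀ x, x * z = z * x → x * v = v * x → x * b = b * x → x ∈ M) :
    ∀ l ∈ K₁, l * (p ⟨b, h.le hb⟩ * l * (p ⟨b, h.le hb⟩)⁻¹) ∈ dn p M := by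
  obtain ⟨v, hv, hv1, hvz⟩ := o.exists_inner
  have hvE := o.le hv
  obtain ⟨w, hw, hzw, hvw⟩ := o.exists_perp o.z_memE o.z_ne hvE hv1 (Ne.symm hvz)
  have hw1 : w ≠ 1 := by
    rintro rfl
    exact hvw (by rw [o.B_perp hvE hv1]; exact o.perp_one hvE hv1)
  have hwH : w ∈ H := by rwa [o.B_perp o.z_memE o.z_ne, o.perp_z] at hzw
  have hwz : w ≠ z := by
    rintro rfl
    apply hvw
    rw [o.B_symm hvE o.z_memE, o.B_perp o.z_memE o.z_ne, o.perp_z]
    exact hv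
  obtain ⟨e₁⟩ := h.e₁
  obtain ⟨x₁, hx₁, x₂, hx₂, hxx₁, hxx₂, hpv⟩ := h.inner v hv hv1 hvz (h.le hvE)
  obtain ⟨y₁, hy₁, y₂, hy₂, hyy₁, hyy₂, hpw⟩ := h.inner w hwH hw1 hwz (h.le hw)
  obtain ⟨hi₁, -⟩ := h.inner_inverts o h2 hv hv1 hwH hvw hx₁ hx₂ hy₁ hy₂ hxx₁ hxx₂ hyy₁ hyy₂ hpv hpw
  have hs := h.sw hb hbH
  have hbb := h.p_sq o hb
  have key : ∀ (v : G) (hv : v ∈ H), v ≠ 1 → v ≠ z → ∀ x₁ ∈ K₁, ∀ x₂ ∈ K₂, x₁ * x₁ = p (self z) →
      p ⟨v, h.le (o.le hv)⟩ = x₁ * x₂ → ∀ l ∈ K₁, (l * x₁ * l⁻¹ = x₁ ∨ l * x₁ * l⁻¹ = x₁⁻¹) →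
      l * (p ⟨b, h.le hb⟩ * l * (p ⟨b, h.le hb⟩)⁻¹) ∈ dn p M := by
    intro v hv hv1 hvz x₁ hx₁ x₂ hx₂ hxx₁ hpv l hl hlx
    have h3 := h.diag_comm_inner o h2 hv hb hbH hx₁ hx₂ hxx₁ hpv hl hlx
    have h4 := diag_comm h.comm hs hbb l hl
    obtain ⟨x, hx, hxv, hxb, hpx⟩ := exists_lift_two h.quo (h.le (o.le hv)) (h.le hb) (o.sq (o.le hv)) (o.sq hb)
      (o.comm (o.le hv) hb) h3 h4
    exact mem_dn.2 ⟨x, hx, hM v hv hv1 hvz x (mem_cent.1 hx) hxv hxb, hpx⟩
  have hζζ : (⟨p (self z), h.z₁⟩ : K₁) * ⟨p (self z), h.z₁⟩ = 1 := Subtype.ext (zz o)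
  have hζ1 : (⟨p (self z), h.z₁⟩ : K₁) ≠ 1 := fun h0 => h.z_ne o (congrArg Subtype.val h0)
  have htop : (dn p M).comap (diag h.comm hs) = ⊤ := by
    refine eq_top_of_two e₁ hζζ hζ1 (x := ⟨x₁, hx₁⟩) (j := ⟨y₁, hy₁⟩) h2 h11 (Subtype.ext hxx₁) (Subtype.ext hyy₁)
      (Subtype.ext hi₁) ?_ ?_
    · intro y hy
      rw [mem_comap]
      refine key v hv hv1 hvz x₁ hx₁ x₂ hx₂ hxx₁ hpv y y.2 ?_
      rcases hy with h3 | h3
      · exact Or.inl (congrArg Subtype.val h3)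
      · exact Or.inr (congrArg Subtype.val h3)
    · intro y hy
      rw [mem_comap]
      refine key w hwH hw1 hwz y₁ hy₁ y₂ hy₂ hyy₁ hpw y y.2 ?_
      rcases hy with h3 | h3
      · exact Or.inl (congrArg Subtype.val h3)
      · exact Or.inr (congrArg Subtype.val h3)
  intro l hl
  have h3 : (⟨l, hl⟩ : K₁) ∈ (dn p M).comap (diag h.comm hs) := by rw [htop]; trivial
  exact h3

omit [Fintype F] in
/-- **One-balance**: the diagonals lie in the image of `M`. -/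
theorem diag_mem_one {M : Subgroup G} {b : G} (hb : b ∈ E) (hbH : b ∉ H)
    (hM : ∀ x, x * z = z * x → x * b = b * x → x ∈ M) :
    ∀ l ∈ K₁, l * (p ⟨b, h.le hb⟩ * l * (p ⟨b, h.le hb⟩)⁻¹) ∈ dn p M := by
  intro l hl
  exact mem_dn_of_comm h.quo (h.le hb) (o.sq hb) hM
    (diag_comm h.comm (h.sw hb hbH) (h.p_sq o hb) l hl)

/-- **`K₁`, `K₂` lie in the image of `M`**, `|F| > 3`. -/
theorem le_dn (h2 : (2 : F) ≠ 0) (h3 : 3 < Fintype.card F) {M : Subgroup G}
    (hM : ∀ b (hb : b ∈ E), b ∉ H → ∀ l ∈ K₁, l * (p ⟨b, h.le hb⟩ * l * (p ⟨b, h.le hb⟩)⁻¹) ∈ dn p M) :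
    K₁ ≤ dn p M ∧ K₂ ≤ dn p M := by
  obtain ⟨v, hv, hv1, hvz⟩ := o.exists_inner
  have hvE := o.le hv
  obtain ⟨w, hw, hzw, hvw⟩ := o.exists_perp o.z_memE o.z_ne hvE hv1 (Ne.symm hvz)
  have hw1 : w ≠ 1 := by
    rintro rfl
    exact hvw (by rw [o.B_perp hvE hv1]; exact o.perp_one hvE hv1)
  have hwH : w ∈ H := by rwa [o.B_perp o.z_memE o.z_ne, o.perp_z] at hzw
  have hwz : w ≠ z := by
    rintro rfl
    apply hvw
    rw [o.B_symm hvE o.z_memE, o.B_perp o.z_memE o.z_ne, o.perp_z]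
    exact hv
  obtain ⟨b, hb, hbH⟩ : ∃ b ∈ E, b ∉ H := by
    by_contra h0
    push Not at h0
    have h4 := card_le_of_le (show E ≤ H from h0)
    rw [o.card, o.cardH] at h4
    omega
  obtain ⟨e₁⟩ := h.e₁
  obtain ⟨x₁, hx₁, x₂, hx₂, hxx₁, hxx₂, hpv⟩ := h.inner v hv hv1 hvz (h.le hvE)
  obtain ⟨y₁, hy₁, y₂, hy₂, hyy₁, hyy₂, hpw⟩ := h.inner w hwH hw1 hwz (h.le hw)
  obtain ⟨hi₁, -⟩ := h.inner_inverts o h2 hv hv1 hwH hvw hx₁ hx₂ hy₁ hy₂ hxx₁ hxx₂ hyy₁ hyy₂ hpv hpw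
  have hbv : b * v ∈ E := mul_mem hb hvE
  have hbvH : b * v ∉ H := fun h0 => hbH (by
    have := mul_mem h0 (inv_mem hv)
    rwa [mul_inv_cancel_right] at this)
  have hs := h.sw hb hbH
  have hbb := h.p_sq o hb
  have hζζ : (⟨p (self z), h.z₁⟩ : K₁) * ⟨p (self z), h.z₁⟩ = 1 := Subtype.ext (zz o)
  have hζ1 : (⟨p (self z), h.z₁⟩ : K₁) ≠ 1 := fun h0 => h.z_ne o (congrArg Subtype.val h0)
  refine le_of_diag hs hbb (hM b hb hbH) (hM (b * v) hbv hbvH)
    (α := MulAut.conj (⟨x₁, hx₁⟩ : K₁)) ?_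
    (del_conj_eq_top e₁ hζζ hζ1 (x := ⟨x₁, hx₁⟩) (j := ⟨y₁, hy₁⟩) h2 h3 (Subtype.ext hxx₁) (Subtype.ext hi₁))
  intro l
  change x₁ * (l : X) * x₁⁻¹ = _
  have e1 : p ⟨b * v, h.le hbv⟩ = p ⟨b, h.le hb⟩ * (x₁ * x₂) := by
    rw [← hpv, ← map_mul]; rfl
  rw [e1, inv_mul_cancel_left]
  have h4 : x₂ * l = l * x₂ := (h.comm l l.2 x₂ hx₂).symm
  calc x₁ * (l : X) * x₁⁻¹ = x₁ * (l * x₂) * x₂⁻¹ * x₁⁻¹ := by group
    _ = x₁ * (x₂ * l) * x₂⁻¹ * x₁⁻¹ := by rw [h4]
    _ = _ := by group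

/-- **`D = X`** if `D` contains `K₁`, `K₂` and the centraliser of an inner involution. -/
theorem eq_top_of_le (h2 : (2 : F) ≠ 0) {D : Subgroup X} (hK₁ : K₁ ≤ D) (hK₂ : K₂ ≤ D) {x₁ x₂ : X}
    (hx₁ : x₁ ∈ K₁) (hx₂ : x₂ ∈ K₂) (hxx₁ : x₁ * x₁ = p (self z)) (hxx₂ : x₂ * x₂ = p (self z))
    (hD : ∀ y, y * (x₁ * x₂) = (x₁ * x₂) * y → y ∈ D) : D = ⊤ := by
  obtain ⟨e₁⟩ := h.e₁
  obtain ⟨e₂⟩ := h.e₂
  have hcz := h.self_central
  have hζζ₁ : (⟨p (self z), h.z₁⟩ : K₁) * ⟨p (self z), h.z₁⟩ = 1 := Subtype.ext (zz o)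
  have hζ1₁ : (⟨p (self z), h.z₁⟩ : K₁) ≠ 1 := fun h0 => h.z_ne o (congrArg Subtype.val h0)
  have hζζ₂ : (⟨p (self z), h.z₂⟩ : K₂) * ⟨p (self z), h.z₂⟩ = 1 := Subtype.ext (zz o)
  have hζ1₂ : (⟨p (self z), h.z₂⟩ : K₂) ≠ 1 := fun h0 => h.z_ne o (congrArg Subtype.val h0)
  rw [eq_top_iff]
  intro g _
  have hsq : ∀ x : X, x * x = p (self z) → (g * x * g⁻¹) * (g * x * g⁻¹) = p (self z) := by
    intro x hx
    calc (g * x * g⁻¹) * (g * x * g⁻¹) = g * (x * x) * g⁻¹ := by group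
      _ = p (self z) := by rw [hx, hcz g, mul_inv_cancel_right]
  -- `g x₁ x₂ g⁻¹ = u₁ u₂`
  have hu : ∃ u₁ ∈ K₁, ∃ u₂ ∈ K₂, u₁ * u₁ = p (self z) ∧ u₂ * u₂ = p (self z) ∧
      g * (x₁ * x₂) * g⁻¹ = u₁ * u₂ := by
    have h4 : g * (x₁ * x₂) * g⁻¹ = (g * x₁ * g⁻¹) * (g * x₂ * g⁻¹) := by group
    rcases h.norm g with h3 | h3
    · exact ⟨_, h3.1 x₁ hx₁, _, h3.2 x₂ hx₂, hsq x₁ hxx₁, hsq x₂ hxx₂, h4⟩
    · refine ⟨_, h3.2 x₂ hx₂, _, h3.1 x₁ hx₁, hsq x₂ hxx₂, hsq x₁ hxx₁, ?_⟩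
      rw [h4]
      exact (h.comm _ (h3.2 x₂ hx₂) _ (h3.1 x₁ hx₁)).symm
  obtain ⟨u₁, hu₁, u₂, hu₂, huu₁, huu₂, hgu⟩ := hu
  obtain ⟨k₁, hk₁⟩ := exists_conj e₁ hζζ₁ hζ1₁ h2 (x := ⟨x₁, hx₁⟩) (y := ⟨u₁, hu₁⟩) (Subtype.ext hxx₁)
    (Subtype.ext huu₁)
  obtain ⟨k₂, hk₂⟩ := exists_conj e₂ hζζ₂ hζ1₂ h2 (x := ⟨x₂, hx₂⟩) (y := ⟨u₂, hu₂⟩) (Subtype.ext hxx₂)
    (Subtype.ext huu₂)
  have hk₁' : (k₁ : X) * x₁ * (k₁ : X)⁻¹ = u₁ := congrArg Subtype.val hk₁
  have hk₂' : (k₂ : X) * x₂ * (k₂ : X)⁻¹ = u₂ := congrArg Subtype.val hk₂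
  set k : X := k₁ * k₂ with hk
  have hkD : k ∈ D := mul_mem (hK₁ k₁.2) (hK₂ k₂.2)
  have hkx : k * (x₁ * x₂) * k⁻¹ = u₁ * u₂ := by
    have h3 : (k₂ : X) * x₁ = x₁ * k₂ := (h.comm x₁ hx₁ k₂ k₂.2).symm
    have h4 : (k₁ : X)⁻¹ * (k₂ * x₂ * (k₂ : X)⁻¹) = (k₂ * x₂ * (k₂ : X)⁻¹) * (k₁ : X)⁻¹ :=
      h.comm _ (inv_mem k₁.2) _ (mul_mem (mul_mem k₂.2 hx₂) (inv_mem k₂.2))
    calc k * (x₁ * x₂) * k⁻¹ = k₁ * (k₂ * x₁) * x₂ * (k₂ : X)⁻¹ * (k₁ : X)⁻¹ := by rw [hk]; group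
      _ = k₁ * x₁ * ((k₂ * x₂ * (k₂ : X)⁻¹) * (k₁ : X)⁻¹) := by rw [h3]; group
      _ = k₁ * x₁ * ((k₁ : X)⁻¹ * (k₂ * x₂ * (k₂ : X)⁻¹)) := by rw [h4]
      _ = (k₁ * x₁ * (k₁ : X)⁻¹) * (k₂ * x₂ * (k₂ : X)⁻¹) := by group
      _ = u₁ * u₂ := by rw [hk₁', hk₂']
  have h5 : (k⁻¹ * g) * (x₁ * x₂) = (x₁ * x₂) * (k⁻¹ * g) := by
    have h6 : k⁻¹ * (u₁ * u₂) * k = x₁ * x₂ := by rw [← hkx]; group
    calc (k⁻¹ * g) * (x₁ * x₂) = k⁻¹ * (g * (x₁ * x₂) * g⁻¹) * g := by group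
      _ = (k⁻¹ * (u₁ * u₂) * k) * (k⁻¹ * g) := by rw [hgu]; group
      _ = _ := by rw [h6]
  have h6 := mul_mem hkD (hD _ h5)
  rwa [mul_inv_cancel_left] at h6

/-- **Closing for `C(z)`.** -/
theorem centralizer_le (h2 : (2 : F) ≠ 0) {M : Subgroup G} (hO : centralizerPPrimeCore 2 z ≤ M)
    (hK : K₁ ≤ dn p M ∧ K₂ ≤ dn p M) {v : G} (hv : v ∈ H) (hv1 : v ≠ 1) (hvz : v ≠ z)
    (hM : ∀ x, x * z = z * x → x * v = v * x → x ∈ M) : centralizer ({z} : Set G) ≤ M := by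
  obtain ⟨x₁, hx₁, x₂, hx₂, hxx₁, hxx₂, hpv⟩ := h.inner v hv hv1 hvz (h.le (o.le hv))
  refine le_of_dn h.quo hO (h.eq_top_of_le o h2 hK.1 hK.2 hx₁ hx₂ hxx₁ hxx₂ ?_)
  intro y hy
  refine mem_dn_of_comm h.quo (h.le (o.le hv)) (o.sq (o.le hv)) hM ?_
  rw [hpv]
  exact hy

/-- **Two-balance, `|F| ≥ 11`**: `C(z) ≤ N(W)` if `C(⟨z, v⟩) ≤ N(W)` for one inner `v`. -/
theorem centralizer_le_two (h2 : (2 : F) ≠ 0) (h11 : 11 ≤ Fintype.card F) {W : Subgroup G} (hW : Completion E W)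
    {v : G} (hv : v ∈ H) (hv1 : v ≠ 1) (hvz : v ≠ z)
    (hM : ∀ x, x * z = z * x → x * v = v * x → x ∈ normalizer (W : Set G)) :
    centralizer ({z} : Set G) ≤ normalizer (W : Set G) := by
  have hO : centralizerPPrimeCore 2 z ≤ normalizer (W : Set G) := by
    refine hW.le_normalizer _ ?_ ?_
    · have h1 := Cfsg.Agent.StandardComponent.CentCore.core_odd (G := G) z
      exact fun h3 => (Nat.not_even_iff_odd.mpr h1) (even_iff_two_dvd.mpr h3)
    · intro b hb x hx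
      exact Cfsg.Agent.StandardComponent.CentCore.core_conj_mem (mem_centralizer_singleton_iff.mp (h.le hb)) hx
  refine h.centralizer_le o h2 hO (h.le_dn o h2 (by omega) ?_) hv hv1 hvz hM
  intro b hb hbH
  refine h.diag_mem_two o h2 h11 hb hbH ?_
  intro v hv hv1 hvz x hxz hxv hxb
  refine mem_of_comm (hW.norm (closure {z, v, b}) ?_ (card_zvb o hv hv1 hvz hbH)) ?_
  · rw [closure_le]
    rintro y (rfl | rfl | hy)
    · exact o.z_memE
    · exact o.le hv
    · rw [Set.mem_singleton_iff.mp hy]; exact hb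
  · rintro y (rfl | rfl | hy)
    · exact hxz
    · exact hxv
    · rw [Set.mem_singleton_iff.mp hy]; exact hxb

/-- **One-balance, `|F| > 3`**: `C(z) ≤ N(W)`. -/
theorem centralizer_le_one (h2 : (2 : F) ≠ 0) (h3 : 3 < Fintype.card F) {W : Subgroup G}
    (hW : CompletionOne E W) : centralizer ({z} : Set G) ≤ normalizer (W : Set G) := by
  have hO : centralizerPPrimeCore 2 z ≤ normalizer (W : Set G) :=
    (hW.core_le o.z_memE o.z_ne).trans le_normalizer
  obtain ⟨v, hv, hv1, hvz⟩ := o.exists_inner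
  have hcom : ∀ b ∈ E, b ≠ 1 → b ≠ z → ∀ x, x * z = z * x → x * b = b * x → x ∈ normalizer (W : Set G) := by
    intro b hb hb1 hbz x hxz hxb
    refine mem_of_comm (hW.norm (closure {z, b}) (card_zb_le o hb) (card_zv o hb1 hbz)) ?_
    rintro y (rfl | hy)
    · exact hxz
    · rw [Set.mem_singleton_iff.mp hy]; exact hxb
  refine h.centralizer_le o h2 hO (h.le_dn o h2 h3 ?_) hv hv1 hvz (hcom v (o.le hv) hv1 hvz)
  intro b hb hbH
  refine h.diag_mem_one o hb hbH (hcom b hb ?_ ?_)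
  · rintro rfl
    exact hbH (one_mem _)
  · rintro rfl
    exact hbH o.z_mem

end main

end Cfsg.Agent.LFourB.KLoc.Loc
end

-- part: LFourB/KEnd
section
/-!
# `W = 1`: the odd core of `C(z)` is abelian, inverted by the swaps and centralised by `K₁ K₂`

Also the closing for `|F| = 3` (two swaps from different `E`'s).
-/

set_option autoImplicit false

namespace Cfsg.Agent.LFourB.KLoc.Loc

open Subgroup Cfsg
open Cfsg.Agent.LFourA.CzCt Cfsg.Agent.LFourA.KlQuot Cfsg.Agent.LFourA.KlSl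
open Cfsg.Agent.Lib.SymFrame
open Cfsg.Agent.StandardComponent (CentCore.core_le CentCore.core_odd CentCore.core_conj_mem)
open Cfsg.Agent.LFourB.KForm Cfsg.Agent.LFourB.KLoc Cfsg.Agent.LFourB.KClose

variable {G X : Type*} [Group G] [Finite G] [Group X] {z : G} {F : Type*} [Field F]
  {p : ↥(centralizer ({z} : Set G)) →* X} {K₁ K₂ : Subgroup X} {E H : Subgroup G}

variable (h : Loc z F p K₁ K₂ E H) (o : Orb z E H)

include h o

/-- **Closing for `|F| = 3`.** -/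
theorem centralizer_le_three [Fintype F] (h2 : (2 : F) ≠ 0) (h3 : Fintype.card F = 3) {M : Subgroup G}
    (hO : centralizerPPrimeCore 2 z ≤ M) {a : G} (ha : a ∈ E) (haH : a ∉ H) {b : G}
    (hb : b ∈ centralizer ({z} : Set G)) (hbb : b * b = 1) (hbs : Sw K₁ K₂ (p ⟨b, hb⟩))
    (hMa : ∀ x, x * z = z * x → x * a = a * x → x ∈ M) (hMb : ∀ x, x * z = z * x → x * b = b * x → x ∈ M)
    {v : G} (hv : v ∈ H) (hv1 : v ≠ 1) (hvz : v ≠ z) (hMv : ∀ x, x * z = z * x → x * v = v * x → x ∈ M)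
    {Y j : X} (hY : Y ∈ K₁) (hj : j ∈ K₁) (hYY : Y * Y = p (self z)) (hjj : j * j = p (self z))
    (hjY : j * Y * j⁻¹ = Y⁻¹)
    (hcY : ((p ⟨a, h.le ha⟩)⁻¹ * p ⟨b, hb⟩) * Y * ((p ⟨a, h.le ha⟩)⁻¹ * p ⟨b, hb⟩)⁻¹ = Y)
    (hcj : ((p ⟨a, h.le ha⟩)⁻¹ * p ⟨b, hb⟩) * j * ((p ⟨a, h.le ha⟩)⁻¹ * p ⟨b, hb⟩)⁻¹ = Y * j) :
    centralizer ({z} : Set G) ≤ M := by
  have hs := h.sw ha haH
  have haa := h.p_sq o ha
  have hainv : (p ⟨a, h.le ha⟩)⁻¹ = p ⟨a, h.le ha⟩ := inv_eq_of_mul_eq_one_left haa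
  have hpbb : p ⟨b, hb⟩ * p ⟨b, hb⟩ = 1 := by
    rw [← map_mul, ← map_one p]
    congr 1
    exact Subtype.ext hbb
  have hbinv : (p ⟨b, hb⟩)⁻¹ = p ⟨b, hb⟩ := inv_eq_of_mul_eq_one_left hpbb
  set γ := (p ⟨a, h.le ha⟩)⁻¹ * p ⟨b, hb⟩ with hγ
  have hγn : ∀ x ∈ K₁, γ * x * γ⁻¹ ∈ K₁ := by
    intro x hx
    have h4 : γ * x * γ⁻¹ = p ⟨a, h.le ha⟩ * (p ⟨b, hb⟩ * x * (p ⟨b, hb⟩)⁻¹) * (p ⟨a, h.le ha⟩)⁻¹ := by
      rw [hγ, mul_inv_rev, inv_inv]
      nth_rewrite 1 [hainv]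
      rw [hainv]; group
    rw [h4]
    exact hs.2 _ (hbs.1 x hx)
  have hγn' : ∀ x ∈ K₁, γ⁻¹ * x * γ⁻¹⁻¹ ∈ K₁ := by
    intro x hx
    have h4 : γ⁻¹ * x * γ⁻¹⁻¹ = p ⟨b, hb⟩ * (p ⟨a, h.le ha⟩ * x * (p ⟨a, h.le ha⟩)⁻¹) * (p ⟨b, hb⟩)⁻¹ := by
      have hγinv : γ⁻¹ = p ⟨b, hb⟩ * p ⟨a, h.le ha⟩ := by rw [hγ, mul_inv_rev, inv_inv, hbinv]
      rw [hγinv]; group
    rw [h4]
    exact hbs.2 _ (hs.1 x hx)
  have hγN : γ ∈ normalizer (K₁ : Set X) := mem_norm₁ hγn hγn'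
  obtain ⟨e₁⟩ := h.e₁
  have hζζ : (⟨p (self z), h.z₁⟩ : K₁) * ⟨p (self z), h.z₁⟩ = 1 := Subtype.ext (zz o)
  have hζ1 : (⟨p (self z), h.z₁⟩ : K₁) ≠ 1 := fun h0 => h.z_ne o (congrArg Subtype.val h0)
  have happ : ∀ l : K₁, ((K₁.normalizerMonoidHom ⟨γ, hγN⟩ l : K₁) : X) = γ * l * γ⁻¹ := fun l => rfl
  have htop : del (K₁.normalizerMonoidHom ⟨γ, hγN⟩) = ⊤ :=
    del_eq_top_three e₁ hζζ hζ1 h2 h3 _ (X := ⟨Y, hY⟩) (j := ⟨j, hj⟩) (Subtype.ext hYY) (Subtype.ext hjj)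
      (Subtype.ext hjY) (Subtype.ext (by rw [happ]; exact hcY)) (Subtype.ext (by rw [happ]; exact hcj))
  refine h.centralizer_le o h2 hO (le_of_diag hs haa ?_ ?_ happ htop) hv hv1 hvz hMv
  · exact h.diag_mem_one o ha haH hMa
  · intro l hl
    exact mem_dn_of_comm h.quo hb hbb hMb (diag_comm h.comm hbs hpbb l hl)

section End

variable [Finite F]

/-- `C(b)` meets `O(C(z))` trivially for a swap `b`, if `W = 1`. -/
theorem fix_eq_one (h2 : (2 : F) ≠ 0) (hW : Completion E (⊥ : Subgroup G)) {b : G} (hb : b ∈ E) (hbH : b ∉ H)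
    {x : G} (hx : x ∈ centralizerPPrimeCore 2 z) (hxb : x * b = b * x) : x = 1 := by
  have hb1 : b ≠ 1 := by rintro rfl; exact hbH (one_mem _)
  have hbz : b ≠ z := by rintro rfl; exact hbH o.z_mem
  have hzbE : z * b ∈ E := mul_mem o.z_memE hb
  have hzb1 : z * b ≠ 1 := by
    intro h0
    apply hbz
    have h1 : z * (z * b) = z := by rw [h0, mul_one]
    rwa [← mul_assoc, o.sq o.z_memE, one_mul] at h1
  have hBzb : Orb.B z E H z b ≠ 0 := o.notMem_iff.mpr hbH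
  have hxz : x * z = z * x := mem_centralizer_singleton_iff.mp (CentCore.core_le z hx)
  have h3 : x ∈ centralizerPPrimeCore 2 b :=
    h.bal_all o h2 o.z_memE o.z_ne hb hb1 hBzb (mem_inf.mpr ⟨hx, mem_centralizer_singleton_iff.mpr hxb⟩)
  have h4 : x ∈ centralizerPPrimeCore 2 (z * b) := by
    refine h.bal_all o h2 o.z_memE o.z_ne hzbE hzb1 ?_ (mem_inf.mpr ⟨hx, mem_centralizer_singleton_iff.mpr ?_⟩)
    · rw [o.B_add_right o.z_memE o.z_memE hb, (o.B_perp o.z_memE o.z_ne).mpr (o.perp_self o.z_memE o.z_ne), zero_add]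
      exact hBzb
    · rw [← mul_assoc, hxz, mul_assoc, hxb, mul_assoc]
  have hD : closure {z, b} ≤ E := card_zb_le o hb
  have h5 := hW.inf (closure {z, b}) hD (card_zv o hb1 hbz)
  have hel : ∀ y ∈ closure ({z, b} : Set G), y = 1 ∨ y = z ∨ y = b ∨ y = z * b := by
    have hc := o.comm o.z_memE hb
    have hz := o.sq o.z_memE
    have hbb := o.sq hb
    let S : Subgroup G :=
      { carrier := {y | y = 1 ∨ y = z ∨ y = b ∨ y = z * b}
        mul_mem' := by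
          rintro y w (rfl | rfl | rfl | rfl) (rfl | rfl | rfl | rfl)
          · left; group
          · right; left; group
          · right; right; left; group
          · right; right; right; group
          · right; left; group
          · left; exact hz
          · right; right; right; rfl
          · right; right; left; rw [← mul_assoc, hz, one_mul]
          · right; right; left; group
          · right; right; right; exact hc.symm
          · left; exact hbb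
          · right; left; rw [hc, ← mul_assoc, hbb, one_mul]
          · right; right; right; group
          · right; right; left; rw [hc, mul_assoc, hz, mul_one]
          · right; left; rw [mul_assoc, hbb, mul_one]
          · left
            calc z * b * (z * b) = z * (b * z) * b := by group
              _ = (z * z) * (b * b) := by rw [← hc]; group
              _ = 1 := by rw [hz, hbb, one_mul]
        one_mem' := Or.inl rfl
        inv_mem' := by
          rintro y (rfl | rfl | rfl | rfl)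
          · left; exact inv_one
          · right; left; exact inv_eq_of_mul_eq_one_left hz
          · right; right; left; exact inv_eq_of_mul_eq_one_left hbb
          · right; right; right
            rw [mul_inv_rev, inv_eq_of_mul_eq_one_left hz, inv_eq_of_mul_eq_one_left hbb, hc] }
    have hle : closure ({z, b} : Set G) ≤ S := by
      rw [closure_le]
      rintro y (rfl | hy)
      · exact Or.inr (Or.inl rfl)
      · rw [Set.mem_singleton_iff.mp hy]; exact Or.inr (Or.inr (Or.inl rfl))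
    exact fun y hy => hle hy
  have h6 : x ∈ signalizerDelta 2 (closure ({z, b} : Set G)) := by
    refine mem_iInf.mpr ?_
    rintro ⟨y, hy, hy1⟩
    rcases hel y hy with rfl | rfl | rfl | rfl
    · exact absurd rfl hy1
    · exact hx
    · exact h3
    · exact h4
  rw [← h5, bot_inf_eq, mem_bot] at h6
  exact h6

/-- A swap inverts `O(C(z))`. -/
theorem inv_core (h2 : (2 : F) ≠ 0) (hW : Completion E (⊥ : Subgroup G)) {b : G} (hb : b ∈ E) (hbH : b ∉ H)
    {x : G} (hx : x ∈ centralizerPPrimeCore 2 z) : b * x * b⁻¹ = x⁻¹ := by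
  have hbz : b * z = z * b := o.comm hb o.z_memE
  have hbb := o.sq hb
  have hb' : b⁻¹ = b := inv_eq_of_mul_eq_one_right hbb
  let φ : centralizerPPrimeCore 2 z →* centralizerPPrimeCore 2 z :=
    { toFun := fun y => ⟨b * y * b⁻¹, CentCore.core_conj_mem hbz y.2⟩
      map_one' := Subtype.ext (by
        change b * ((1 : centralizerPPrimeCore 2 z) : G) * b⁻¹ = 1
        rw [Subgroup.coe_one]; group)
      map_mul' := fun y w => Subtype.ext (by
        change b * ((y * w : centralizerPPrimeCore 2 z) : G) * b⁻¹ = b * y * b⁻¹ * (b * w * b⁻¹)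
        rw [Subgroup.coe_mul]; group) }
  have hφ : MonoidHom.FixedPointFree φ := by
    intro y hy
    have h1 : b * (y : G) * b⁻¹ = y := congrArg Subtype.val hy
    exact Subtype.ext (h.fix_eq_one o h2 hW hb hbH y.2 ((mul_inv_eq_iff_eq_mul.mp h1).symm))
  have hφ2 : Function.Involutive φ := by
    intro y
    apply Subtype.ext
    change b * (b * (y : G) * b⁻¹) * b⁻¹ = y
    rw [hb']
    calc b * (b * (y : G) * b) * b = (b * b) * y * (b * b) := by group
      _ = y := by rw [hbb, one_mul, mul_one]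
  have h1 := congrFun (hφ.coe_eq_inv_of_involutive hφ2) ⟨x, hx⟩
  exact congrArg Subtype.val h1

omit [Finite F] in
theorem exists_swap : ∃ b ∈ E, b ∉ H := by
  have _ := h
  by_contra h0
  push Not at h0
  have h4 := card_le_of_le (show E ≤ H from h0)
  rw [o.card, o.cardH] at h4
  omega

/-- `O(C(z))` is abelian. -/
theorem core_comm (h2 : (2 : F) ≠ 0) (hW : Completion E (⊥ : Subgroup G)) {x y : G}
    (hx : x ∈ centralizerPPrimeCore 2 z) (hy : y ∈ centralizerPPrimeCore 2 z) : x * y = y * x := by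
  obtain ⟨b, hb, hbH⟩ := h.exists_swap o
  have h1 := h.inv_core o h2 hW hb hbH hx
  have h3 := h.inv_core o h2 hW hb hbH hy
  have h4 := h.inv_core o h2 hW hb hbH (mul_mem hx hy)
  have h5 : b * (x * y) * b⁻¹ = (b * x * b⁻¹) * (b * y * b⁻¹) := by group
  rw [h5, h1, h3, mul_inv_rev] at h4
  have h7 := congrArg (·⁻¹) h4
  simp only [mul_inv_rev, inv_inv] at h7
  exact h7.symm

/-- The commutators `[g, b]`, `b` a swap, centralise `O(C(z))`. -/
theorem comm_cent (h2 : (2 : F) ≠ 0) (hW : Completion E (⊥ : Subgroup G)) {b : G} (hb : b ∈ E) (hbH : b ∉ H)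
    {g : G} (hg : g * z = z * g) {x : G} (hx : x ∈ centralizerPPrimeCore 2 z) :
    (g * b * g⁻¹ * b⁻¹) * x = x * (g * b * g⁻¹ * b⁻¹) := by
  have hbb := o.sq hb
  have hb' : b⁻¹ = b := inv_eq_of_mul_eq_one_right hbb
  -- `b⁻¹` inverts `x`, `g⁻¹` moves, `b` inverts, `g` moves back
  have h1 : b⁻¹ * x * b = x⁻¹ := by
    have := h.inv_core o h2 hW hb hbH hx
    rwa [hb'] at this ⊢
  have hg' : g⁻¹ * z = z * g⁻¹ := by
    rw [inv_mul_eq_iff_eq_mul, ← mul_assoc, hg, mul_inv_cancel_right]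
  have h3 : g⁻¹ * x⁻¹ * g ∈ centralizerPPrimeCore 2 z := by
    have := CentCore.core_conj_mem hg' (inv_mem hx)
    rwa [inv_inv] at this
  have h4 := h.inv_core o h2 hW hb hbH h3
  have h5 : (g * b * g⁻¹ * b⁻¹) * x * (g * b * g⁻¹ * b⁻¹)⁻¹ = x := by
    calc (g * b * g⁻¹ * b⁻¹) * x * (g * b * g⁻¹ * b⁻¹)⁻¹
        = g * (b * (g⁻¹ * (b⁻¹ * x * b) * g) * b⁻¹) * g⁻¹ := by group
      _ = g * (b * (g⁻¹ * x⁻¹ * g) * b⁻¹) * g⁻¹ := by rw [h1]
      _ = g * (g⁻¹ * x⁻¹ * g)⁻¹ * g⁻¹ := by rw [h4]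
      _ = x := by group
  exact mul_inv_eq_iff_eq_mul.mp h5

end End

section Cent

variable [Fintype F]

end Cent

end Cfsg.Agent.LFourB.KLoc.Loc
end

private theorem dce_3e3735db5271 : _root_.True := by
  try have : _root_.True := by simp only [_root_.Cfsg.Agent.LFourA.KlSl.del.eq_1]
  try have : _root_.True := by simp only [_root_.Cfsg.Agent.LFourB.KForm.Orb.B.eq_1]
  exact _root_.True.intro
end

-- part: LFourB/FusA
section
prune_inst 0x43004004000000000180012200020045000000200600001d9200400000ed3212904290170800a1211308a6000048020025400194010000000008a0040040120842a024201401104210001c0f887180c00000000000000000000000000041000000000000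
set_option linter.all false
open scoped Cfsg.Agent.FastGrp

/-!
# S0510, `q ≡ 1 mod 8`: fusion of the torus part, Steps 1, 3 and 4

`S` is (isomorphic to) a Sylow 2-subgroup of `PSL_4(q)`, `q ≡ 1 mod 8`, `T` the image of the diagonal matrices,
`z, z', z z'` the involutions of `Z₂ = ℧^{n-1}(T)`, `X i` the other four involutions of `T`,
`TT = T_2 = {t | [t, V] ≤ Z₂}` (order 32), `J = T⟨sg⟩`, `S0 = T V'`.

`SF` is the list of facts about the 2-group `S` which are used. Everything else is fusion.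
-/

set_option autoImplicit false
set_option linter.unusedSectionVars false

namespace Cfsg.Agent.LFourB.FusA

open Subgroup Cfsg.Agent.Transfer.FusionBasic

/-- The dihedral group of order 8 preserving `{0,1 | 2,3}`. -/
def d8 (i j k : Bool) : Equiv.Perm (Fin 4) :=
  (if i then Equiv.swap (0 : Fin 4) 1 else 1) * (if j then Equiv.swap (2 : Fin 4) 3 else 1) *
    (if k then Equiv.swap (0 : Fin 4) 2 * Equiv.swap (1 : Fin 4) 3 else 1)

set_option maxRecDepth 100000 in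
theorem d8_cover : ∀ σ : Equiv.Perm (Fin 4), ¬ ((σ 0).val / 2 = (σ 1).val / 2) → ∀ ρ : Equiv.Perm (Fin 4),
    (∃ i j k, ρ = d8 i j k) ∨ ∃ i j k i' j' k', ρ = d8 i j k * σ * d8 i' j' k' := by
  decide +kernel

variable {G : Type*} [Group G]

/-- `a ∈ {1, z, z', z z'}`. -/
def Z2 (z z' a : G) : Prop := a = 1 ∨ a = z ∨ a = z' ∨ a = z * z'

/-- `F` is an elementary abelian subgroup of order 16 of `S`. -/
structure E16 (S F : Subgroup G) : Prop where
  le : F ≤ S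
  card : Nat.card F = 16
  sq : ∀ a ∈ F, a * a = 1

/-- Facts about the 2-group `S` used in Steps 1, 3 and 4. -/
structure SF (S T TT J S0 : Subgroup G) (z z' : G) (X : Fin 4 → G) : Prop where
  T_le : T ≤ S
  T_comm : ∀ a ∈ T, ∀ b ∈ T, a * b = b * a
  S_norm : ∀ s ∈ S, ∀ t ∈ T, s * t * s⁻¹ ∈ T
  T_max : ∀ D : Subgroup G, D ≤ S → (∀ a ∈ D, ∀ b ∈ D, a * b = b * a) → Nat.card D = Nat.card T → D = T
  z_mem : z ∈ T
  z'_mem : z' ∈ T
  z_sq : z * z = 1
  z'_sq : z' * z' = 1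
  z_ne : z ≠ 1
  z'_ne : z' ≠ 1
  z'_ne_z : z' ≠ z
  z_cent : ∀ s ∈ S, s * z = z * s
  swap : ∃ s ∈ S, s * z' * s⁻¹ = z * z'
  Z2_char : ∃ m : ℕ, ∀ a, (∃ t ∈ T, t ^ m = a) ↔ Z2 z z' a
  X_mem : ∀ i, X i ∈ T
  X_sq : ∀ i, X i * X i = 1
  X_not : ∀ i, ¬ Z2 z z' (X i)
  X_inj : Function.Injective X
  X01 : X 0 * X 1 = z
  X23 : X 2 * X 3 = z
  X02 : X 0 * X 2 = z'
  T_inv : ∀ a ∈ T, a * a = 1 → Z2 z z' a ∨ ∃ i, a = X i
  /-- `S` induces the dihedral group of order 8 on the four involutions `X i`. -/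
  tau : ∃ s ∈ S, s * X 0 * s⁻¹ = X 1 ∧ s * X 1 * s⁻¹ = X 0 ∧ s * X 2 * s⁻¹ = X 2 ∧ s * X 3 * s⁻¹ = X 3
  sg' : ∃ s ∈ S, s * X 0 * s⁻¹ = X 2 ∧ s * X 1 * s⁻¹ = X 3 ∧ s * X 2 * s⁻¹ = X 0 ∧ s * X 3 * s⁻¹ = X 1
  cent_X : ∀ s ∈ S, (∀ i, s * X i = X i * s) → s ∈ T
  TT_le : TT ≤ T
  J_le : J ≤ S0
  T_le_J : T ≤ J
  S0_le : S0 ≤ S
  e_z : ∀ F, E16 S F → z ∈ F
  e_z' : ∀ F, E16 S F → z' ∈ F
  e_T : ∀ F, E16 S F → ∀ f ∈ F, f ∈ T → Z2 z z' f
  e_card : ∃ N : ℕ, ∀ F, E16 S F → Nat.card ↥(S ⊓ normalizer (F : Set G)) = N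
  e_TT : ∀ F, E16 S F → ∀ t ∈ TT, ∀ f ∈ F, ∃ a, Z2 z z' a ∧ t * f * t⁻¹ = a * f
  e_uniq : ∀ F, E16 S F → ∀ D : Subgroup G, D ≤ S ⊓ normalizer (F : Set G) → (∀ a ∈ D, ∀ b ∈ D, a * b = b * a) →
    Nat.card D = Nat.card TT → D = TT
  e_tr : ∀ F, E16 S F → ∀ f ∈ F, f ∉ T → ∀ a, Z2 z z' a → ∃ t ∈ TT, t * f * t⁻¹ = a * f
  e_J : ∀ F, E16 S F → ∀ f ∈ F, f ∉ T → (f ∈ J ↔ ∀ t ∈ TT, t * f = f * t → t * t = 1 ∨ t * t = z)
  e_S0 : ∀ F, E16 S F → ∀ f ∈ F, f ∈ S0 → f ∈ J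
  e_k : ∀ F, E16 S F → ∃ t ∈ TT, (∀ f ∈ F, f ∈ J → t * f * t⁻¹ = f) ∧ (∀ f ∈ F, f ∉ J → t * f * t⁻¹ = z * f)
  e_ker : ∀ F, E16 S F → ∀ p ∈ S, (∀ f ∈ F, p * f * p⁻¹ = f ∨ p * f * p⁻¹ = z * f) → ∀ f ∈ F, f ∈ J →
    p * f * p⁻¹ = f


theorem Z2_one (z z' : G) : Z2 z z' 1 := Or.inl rfl
theorem Z2_z (z z' : G) : Z2 z z' z := Or.inr (Or.inl rfl)
theorem Z2_z' (z z' : G) : Z2 z z' z' := Or.inr (Or.inr (Or.inl rfl))
theorem Z2_zz' (z z' : G) : Z2 z z' (z * z') := Or.inr (Or.inr (Or.inr rfl))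

theorem comm_of_sq {a b : G} (ha : a * a = 1) (hb : b * b = 1) (hab : (a * b) * (a * b) = 1) : a * b = b * a := by
  have h1 : (a * b)⁻¹ = a * b := inv_eq_of_mul_eq_one_left hab
  rw [mul_inv_rev, inv_eq_of_mul_eq_one_left ha, inv_eq_of_mul_eq_one_left hb] at h1
  exact h1.symm

theorem E16.comm {S F : Subgroup G} (hF : E16 S F) {a b : G} (ha : a ∈ F) (hb : b ∈ F) : a * b = b * a :=
  comm_of_sq (hF.sq a ha) (hF.sq b hb) (hF.sq _ (F.mul_mem ha hb))

theorem E16.map {S F : Subgroup G} (hF : E16 S F) {g : G} (hg : ∀ f ∈ F, g * f * g⁻¹ ∈ S) :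
    E16 S (F.map (MulAut.conj g).toMonoidHom) := by
  refine ⟨map_conj_le_iff.2 hg, by rw [card_map_conj, hF.card], ?_⟩
  rintro _ ⟨a, ha, rfl⟩
  rw [← map_mul, hF.sq a ha, map_one]

section Basic

variable {S T TT J S0 : Subgroup G} {z z' : G} {X : Fin 4 → G} (h : SF S T TT J S0 z z' X)
include h

theorem Z2_mul {a b : G} (ha : Z2 z z' a) (hb : Z2 z z' b) : Z2 z z' (a * b) := by
  obtain ⟨m, hm⟩ := h.Z2_char
  obtain ⟨s, hs, rfl⟩ := (hm a).2 ha
  obtain ⟨t, ht, rfl⟩ := (hm b).2 hb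
  refine (hm _).1 ⟨s * t, T.mul_mem hs ht, ?_⟩
  exact (show Commute s t from h.T_comm s hs t ht).mul_pow m

/-- Elements of `N(T)` normalise `Z₂`. -/
theorem norm_Z2 {n a : G} (hn : n ∈ normalizer (T : Set G)) (ha : Z2 z z' a) : Z2 z z' (n * a * n⁻¹) := by
  obtain ⟨m, hm⟩ := h.Z2_char
  obtain ⟨s, hs, rfl⟩ := (hm a).2 ha
  refine (hm _).1 ⟨n * s * n⁻¹, (mem_normalizer_iff.1 hn s).1 hs, ?_⟩
  rw [conj_pow]

theorem S_le_norm : S ≤ normalizer (T : Set G) := by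
  intro s hs
  rw [mem_normalizer_iff]
  intro t
  refine ⟨h.S_norm s hs t, fun ht => ?_⟩
  have h1 := h.S_norm s⁻¹ (S.inv_mem hs) _ ht
  have e : s⁻¹ * (s * t * s⁻¹) * s⁻¹⁻¹ = t := by group
  rwa [e] at h1

/-- `T` is weakly closed. -/
theorem wcl {g : G} (hg : ∀ t ∈ T, g * t * g⁻¹ ∈ S) : ∀ t ∈ T, g * t * g⁻¹ ∈ T := by
  have h1 : T.map (MulAut.conj g).toMonoidHom = T := by
    refine h.T_max _ (map_conj_le_iff.2 hg) ?_ (card_map_conj T g)
    rintro _ ⟨a, ha, rfl⟩ _ ⟨b, hb, rfl⟩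
    rw [← map_mul, ← map_mul, h.T_comm a ha b hb]
  intro t ht
  rw [← h1]
  exact ⟨t, ht, rfl⟩

/-- `N(T)` permutes the four involutions `X i`. -/
theorem norm_X {n : G} (hn : n ∈ normalizer (T : Set G)) (i : Fin 4) : ∃ j, n * X i * n⁻¹ = X j := by
  have h1 : n * X i * n⁻¹ ∈ T := (mem_normalizer_iff.1 hn _).1 (h.X_mem i)
  have h2 : (n * X i * n⁻¹) * (n * X i * n⁻¹) = 1 := by
    have e : (n * X i * n⁻¹) * (n * X i * n⁻¹) = n * (X i * X i) * n⁻¹ := by group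
    rw [e, h.X_sq i]; group
  rcases h.T_inv _ h1 h2 with h3 | h3
  · exfalso
    have h4 := norm_Z2 h (inv_mem hn) h3
    have e : n⁻¹ * (n * X i * n⁻¹) * n⁻¹⁻¹ = X i := by group
    rw [e] at h4
    exact h.X_not i h4
  · exact h3

theorem exists_perm {n : G} (hn : n ∈ normalizer (T : Set G)) : ∃ σ : Equiv.Perm (Fin 4), ∀ i, n * X i * n⁻¹ = X (σ i) := by
  choose f hf using norm_X h hn
  have hinj : Function.Injective f := by
    intro i j hij
    apply h.X_inj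
    have h1 : n * X i * n⁻¹ = n * X j * n⁻¹ := by rw [hf, hf, hij]
    exact mul_left_cancel (mul_right_cancel h1)
  exact ⟨Equiv.ofBijective f (Finite.injective_iff_bijective.1 hinj), hf⟩

theorem TT_le_normalizer {F : Subgroup G} (hF : E16 S F) : TT ≤ S ⊓ normalizer (F : Set G) := by
  intro t ht
  have key : ∀ t ∈ TT, ∀ f ∈ F, t * f * t⁻¹ ∈ F := by
    intro t ht f hf
    obtain ⟨a, ha, hta⟩ := h.e_TT F hF t ht f hf
    rw [hta]
    refine F.mul_mem ?_ hf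
    rcases ha with rfl | rfl | rfl | rfl
    · exact F.one_mem
    · exact h.e_z F hF
    · exact h.e_z' F hF
    · exact F.mul_mem (h.e_z F hF) (h.e_z' F hF)
  refine ⟨h.T_le (h.TT_le ht), ?_⟩
  show t ∈ normalizer (F : Set G)
  rw [mem_normalizer_iff]
  intro f
  refine ⟨key t ht f, fun hf => ?_⟩
  have h1 := key t⁻¹ (TT.inv_mem ht) _ hf
  have e : t⁻¹ * (t * f * t⁻¹) * t⁻¹⁻¹ = f := by group
  rwa [e] at h1

end Basic

section Sylow

variable [Finite G] {P : Sylow 2 G} {T TT J S0 : Subgroup G} {z z' : G} {X : Fin 4 → G}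
  (h : SF (P : Subgroup G) T TT J S0 z z' X)
include h

/-- `N_S(F)` is a Sylow 2-subgroup of `N_G(F)`. -/
theorem sylIn_normalizer {F : Subgroup G} (hF : E16 (P : Subgroup G) F) :
    SylIn 2 ((P : Subgroup G) ⊓ normalizer (F : Set G)) (normalizer (F : Set G)) := by
  obtain ⟨N, hN⟩ := h.e_card
  have hp : IsPGroup 2 ↥((P : Subgroup G) ⊓ normalizer (F : Set G)) := P.isPGroup'.to_le inf_le_left
  obtain ⟨R, hR1, hR2⟩ := exists_sylIn_ge hp (inf_le_right : (P : Subgroup G) ⊓ normalizer (F : Set G) ≤ _)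
  obtain ⟨l, -, hl⟩ := (sylIn_top P).conj_le (R := R) le_top hR2.isPGroup
  have hFR : F ≤ R := fun f hf => hR1 ⟨hF.le hf, le_normalizer hf⟩
  have hF' : E16 (P : Subgroup G) (F.map (MulAut.conj l).toMonoidHom) := hF.map fun f hf => hl f (hFR hf)
  have h1 : R.map (MulAut.conj l).toMonoidHom ≤
      (P : Subgroup G) ⊓ normalizer ((F.map (MulAut.conj l).toMonoidHom : Subgroup G) : Set G) := by
    rw [normalizer_map_conj]
    exact le_inf (map_conj_le_iff.2 hl) (map_mono hR2.le)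
  have h2 : Nat.card R ≤ Nat.card ↥((P : Subgroup G) ⊓ normalizer (F : Set G)) := by
    rw [hN F hF, ← hN _ hF', ← card_map_conj R l]
    exact Subgroup.card_le_of_le h1
  have h3 : (P : Subgroup G) ⊓ normalizer (F : Set G) = R := Subgroup.eq_of_le_of_card_ge hR1 h2
  rw [h3]
  exact hR2

theorem sylIn_normalizer_inf {F L : Subgroup G} (hF : E16 (P : Subgroup G) F) (hL : (P : Subgroup G) ≤ L) :
    SylIn 2 ((P : Subgroup G) ⊓ normalizer (F : Set G)) (L ⊓ normalizer (F : Set G)) := by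
  have h1 := sylIn_normalizer h hF
  exact ⟨inf_le_inf_right _ hL, h1.isPGroup, fun R hR1 hR2 hR3 => h1.2.2 R hR1 (hR2.trans inf_le_right) hR3⟩

/-- Transport of `(F, T₂)`. -/
theorem transport {F L : Subgroup G} {g : G} (hF : E16 (P : Subgroup G) F) (hL : (P : Subgroup G) ≤ L) (hg : g ∈ L)
    (hgF : ∀ f ∈ F, g * f * g⁻¹ ∈ (P : Subgroup G)) :
    ∃ c ∈ L ⊓ normalizer ((F.map (MulAut.conj g).toMonoidHom : Subgroup G) : Set G),
      ∀ t ∈ TT, (c * g) * t * (c * g)⁻¹ ∈ TT := by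
  have hF' := hF.map hgF
  set F' : Subgroup G := F.map (MulAut.conj g).toMonoidHom with hF'def
  have h1 : ((P : Subgroup G) ⊓ normalizer (F : Set G)).map (MulAut.conj g).toMonoidHom ≤
      L ⊓ normalizer (F' : Set G) := by
    refine le_inf ?_ ?_
    · rw [map_conj_le_iff]
      intro a ha
      exact L.mul_mem (L.mul_mem hg (hL ha.1)) (L.inv_mem hg)
    · rw [hF'def, normalizer_map_conj]
      exact map_mono inf_le_right
  have hp : IsPGroup 2 ↥((P : Subgroup G) ⊓ normalizer (F : Set G)) := P.isPGroup'.to_le inf_le_left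
  obtain ⟨c, hc, hcR⟩ := (sylIn_normalizer_inf h hF' hL).conj_le h1 (hp.map _)
  refine ⟨c, hc, ?_⟩
  have h2 : TT.map (MulAut.conj (c * g)).toMonoidHom = TT := by
    refine h.e_uniq F' hF' _ ?_ ?_ (card_map_conj _ _)
    · rw [map_conj_le_iff]
      intro t ht
      have h3 := hcR (g * t * g⁻¹) ⟨t, TT_le_normalizer h hF ht, rfl⟩
      have e : c * (g * t * g⁻¹) * c⁻¹ = c * g * t * (c * g)⁻¹ := by group
      rwa [e] at h3
    · rintro _ ⟨a, ha, rfl⟩ _ ⟨b, hb, rfl⟩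
      rw [← map_mul, ← map_mul, h.T_comm a (h.TT_le ha) b (h.TT_le hb)]
  intro t ht
  rw [← h2]
  exact ⟨t, ht, rfl⟩

/-- `N_G(T)` controls fusion of elements of `T`. -/
theorem exists_norm_conj {a b : G} (ha : a ∈ T) (hb : b ∈ T) (hab : ∃ g : G, g * a * g⁻¹ = b) :
    ∃ n ∈ normalizer (T : Set G), n * a * n⁻¹ = b := by
  obtain ⟨g, hg⟩ := hab
  obtain ⟨n, hn, he⟩ := Cfsg.Agent.TwoFusion.IndexTwo.exists_normalizer_conj P T h.T_le (fun g hg => wcl h hg) b g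
    (fun u hu => h.T_comm u hu b hb) (by
      have e : g⁻¹ * b * g = a := by rw [← hg]; group
      rw [e]
      exact fun u hu => h.T_comm u hu a ha)
  refine ⟨n, mem_normalizer_of_conj_mem hn, ?_⟩
  have e : g⁻¹ * b * g = a := by rw [← hg]; group
  rw [e] at he
  rw [he]; group

theorem z_not_conj_X (g : G) (i : Fin 4) : g * z * g⁻¹ ≠ X i := by
  intro e
  obtain ⟨n, hn, hn'⟩ := exists_norm_conj h h.z_mem (h.X_mem i) ⟨g, e⟩
  exact h.X_not i (hn' ▸ norm_Z2 h hn (Z2_z z z'))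

/-- **Step 3.** -/
theorem isConj_z (hz : ∃ g : G, g * z * g⁻¹ ∈ (P : Subgroup G) ∧ g * z * g⁻¹ ≠ z)
    (hinv : ∀ e ∈ (P : Subgroup G), e * e = 1 → e ∈ T ∨ (∃ i, IsConj e (X i)) ∨ IsConj e z' ∨
      ∃ F, E16 (P : Subgroup G) F ∧ e ∈ F) : ∃ g : G, g * z * g⁻¹ = z' := by
  by_contra hnc
  have h1 : ∀ g : G, g * z * g⁻¹ ≠ z' := fun g hg => hnc ⟨g, hg⟩
  have h2 : ∀ g : G, g * z * g⁻¹ ≠ z * z' := by
    intro g hg
    obtain ⟨s, _, hs⟩ := h.swap
    apply h1 (s⁻¹ * g)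
    have e : s⁻¹ * g * z * (s⁻¹ * g)⁻¹ = s⁻¹ * (g * z * g⁻¹) * s := by group
    rw [e, hg, ← hs]; group
  have h3 : ∀ g : G, g * z * g⁻¹ ≠ 1 := by
    intro g hg
    apply h.z_ne
    have := conj_eq_one_iff.1 hg
    exact this
  obtain ⟨g₀, hg0, hg0'⟩ := hz
  set e : G := g₀ * z * g₀⁻¹ with he
  have hee : e * e = 1 := by
    have e1 : (g₀ * z * g₀⁻¹) * (g₀ * z * g₀⁻¹) = g₀ * (z * z) * g₀⁻¹ := by group
    rw [he, e1, h.z_sq]; group
  -- conjugates of `z` in `Z₂`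
  have hZ2 : ∀ g : G, Z2 z z' (g * z * g⁻¹) → g * z * g⁻¹ = z := by
    intro g hg
    rcases hg with h4 | h4 | h4 | h4
    · exact absurd h4 (h3 g)
    · exact h4
    · exact absurd h4 (h1 g)
    · exact absurd h4 (h2 g)
  have heT : e ∉ T := by
    intro heT
    rcases h.T_inv e heT hee with h4 | ⟨i, h4⟩
    · exact hg0' (hZ2 g₀ h4)
    · exact z_not_conj_X h g₀ i h4
  rcases hinv e hg0 hee with h4 | ⟨i, h4⟩ | h4 | ⟨F, hF, heF⟩
  · exact heT h4
  · obtain ⟨b, hb⟩ := isConj_iff.1 h4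
    apply z_not_conj_X h (b * g₀) i
    rw [← hb, he]; group
  · obtain ⟨b, hb⟩ := isConj_iff.1 h4
    apply h1 (b * g₀)
    rw [← hb, he]; group
  · obtain ⟨g, hge, hgS⟩ := Cfsg.Agent.SylowSp4.Extremal.exists_conj_of_central P (t := z) (w := e)
      h.z_cent ⟨g₀⁻¹, by rw [he]; group⟩
    have hgF : ∀ f ∈ F, g * f * g⁻¹ ∈ (P : Subgroup G) := fun f hf => hgS f (hF.le hf) (hF.comm hf heF)
    have hF' := hF.map hgF
    obtain ⟨c, ⟨-, hcN⟩, hcT⟩ := transport h hF le_top (mem_top g) hgF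
    set F' : Subgroup G := F.map (MulAut.conj g).toMonoidHom with hF'def
    -- `c g` centralises `z`
    have hy : (c * g) * e * (c * g)⁻¹ = c * z * c⁻¹ := by rw [← hge]; group
    have hzF' : z ∈ F' := h.e_z F' hF'
    have hyF : c * z * c⁻¹ ∈ F' := (mem_normalizer_iff.1 hcN z).1 hzF'
    have hcz : (c * g) * z * (c * g)⁻¹ = z := by
      obtain ⟨t, ht, hte⟩ := h.e_tr F hF e heF heT z (Z2_z z z')
      obtain ⟨a, ha, hta⟩ := h.e_TT F' hF' _ (hcT t ht) _ hyF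
      rw [← hy] at hta
      have e1 : (c * g) * t * (c * g)⁻¹ * ((c * g) * e * (c * g)⁻¹) * ((c * g) * t * (c * g)⁻¹)⁻¹ =
          (c * g) * (t * e * t⁻¹) * (c * g)⁻¹ := by group
      rw [e1, hte] at hta
      have e2 : (c * g) * (z * e) * (c * g)⁻¹ = ((c * g) * z * (c * g)⁻¹) * ((c * g) * e * (c * g)⁻¹) := by group
      rw [e2] at hta
      have h5 := mul_right_cancel hta
      exact hZ2 _ (h5 ▸ ha)
    have hyz : c * z * c⁻¹ ≠ z := by
      intro h5
      apply hg0'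
      rw [← hy] at h5
      rw [← hcz] at h5
      exact mul_left_cancel (mul_right_cancel h5)
    have hyT : c * z * c⁻¹ ∉ T := fun h5 => hyz (hZ2 c (h.e_T F' hF' _ hyF h5))
    -- `z' y` is conjugate to `z`
    obtain ⟨t, ht, hty⟩ := h.e_tr F' hF' _ hyF hyT z' (Z2_z' z z')
    set y : G := c * z * c⁻¹ with hydef
    -- `x = c⁻¹ (z' y) c`
    have hxF : c⁻¹ * (z' * y) * c ∈ F' := by
      have h5 := (mem_normalizer_iff.1 (inv_mem hcN) (z' * y)).1 (F'.mul_mem (h.e_z' F' hF') hyF)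
      rwa [inv_inv] at h5
    have hxc : c⁻¹ * (z' * y) * c = (c⁻¹ * t * c) * z * (c⁻¹ * t * c)⁻¹ := by
      rw [← hty, hydef]; group
    have hxT : c⁻¹ * (z' * y) * c ∉ T := by
      intro h5
      have h6 := h.e_T F' hF' _ hxF h5
      rw [hxc] at h6
      have h7 := hZ2 _ h6
      rw [← hxc] at h7
      -- then `z' y = y`
      have h8 : z' * y = y := by
        rw [hydef]
        rw [hydef] at h7
        calc z' * (c * z * c⁻¹) = c * (c⁻¹ * (z' * (c * z * c⁻¹)) * c) * c⁻¹ := by group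
          _ = c * z * c⁻¹ := by rw [h7]
      exact h.z'_ne (mul_eq_right.1 h8)
    obtain ⟨t₂, ht2, hty2⟩ := h.e_tr F' hF' _ hxF hxT z (Z2_z z z')
    -- so `z'` is conjugate to `z`
    have hyy : y * y = 1 := hF'.sq y hyF
    have hyz' : y * z' = z' * y := hF'.comm hyF (h.e_z' F' hF')
    apply h1 (c * t₂ * (c⁻¹ * t * c))
    have e3 : c * t₂ * (c⁻¹ * t * c) * z * (c * t₂ * (c⁻¹ * t * c))⁻¹ =
        c * (t₂ * ((c⁻¹ * t * c) * z * (c⁻¹ * t * c)⁻¹) * t₂⁻¹) * c⁻¹ := by group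
    rw [e3, ← hxc, hty2]
    have e4 : c * (z * (c⁻¹ * (z' * y) * c)) * c⁻¹ = (c * z * c⁻¹) * (z' * y) := by group
    rw [e4, ← hydef, ← mul_assoc, hyz', mul_assoc, hyy, mul_one]


/-- `z` and `z'` are conjugate in `N(T)`. -/
theorem exists_norm_z (hz : ∃ g : G, g * z * g⁻¹ = z') : ∃ n ∈ normalizer (T : Set G), n * z * n⁻¹ = z' :=
  exists_norm_conj h h.z_mem h.z'_mem hz

theorem X10 : X 1 * X 0 = z := by rw [h.T_comm _ (h.X_mem 1) _ (h.X_mem 0), h.X01]
theorem X32 : X 3 * X 2 = z := by rw [h.T_comm _ (h.X_mem 3) _ (h.X_mem 2), h.X23]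

/-- Elements of `G` fixing all `X i` and normalising `T` centralise `T`. -/
theorem cent_of_X {n : G} (hn : n ∈ normalizer (T : Set G)) (hX : ∀ i, n * X i = X i * n) :
    ∀ t ∈ T, n * t = t * n := by
  -- the group `K` of all such elements
  let K : Subgroup G :=
    { carrier := {n | n ∈ normalizer (T : Set G) ∧ ∀ i, n * X i = X i * n}
      mul_mem' := by
        rintro a b ⟨ha, ha'⟩ ⟨hb, hb'⟩
        refine ⟨mul_mem ha hb, fun i => ?_⟩
        rw [mul_assoc, hb', ← mul_assoc, ha', mul_assoc]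
      one_mem' := ⟨one_mem _, fun i => by rw [one_mul, mul_one]⟩
      inv_mem' := by
        rintro a ⟨ha, ha'⟩
        refine ⟨inv_mem ha, fun i => ?_⟩
        have := ha' i
        rw [inv_mul_eq_iff_eq_mul, ← mul_assoc, this, mul_assoc, mul_inv_cancel, mul_one] }
  have hKmem : ∀ {a : G}, a ∈ K ↔ a ∈ normalizer (T : Set G) ∧ ∀ i, a * X i = X i * a := Iff.rfl
  have hKN : K ≤ normalizer (T : Set G) := fun a ha => (hKmem.1 ha).1
  have hPN : (P : Subgroup G) ≤ normalizer (T : Set G) := S_le_norm h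
  have hNK : normalizer (T : Set G) ≤ normalizer (K : Set G) := by
    intro m hm
    refine mem_normalizer_of_conj_mem fun a ha => ?_
    refine hKmem.2 ⟨mul_mem (mul_mem hm (hKN ha)) (inv_mem hm), fun i => ?_⟩
    obtain ⟨j, hj⟩ := norm_X h (inv_mem hm) i
    rw [inv_inv] at hj
    have h1 : X i = m * X j * m⁻¹ := by rw [← hj]; group
    have h2 := (hKmem.1 ha).2 j
    rw [h1]
    calc m * a * m⁻¹ * (m * X j * m⁻¹) = m * (a * X j) * m⁻¹ := by group
      _ = m * (X j * a) * m⁻¹ := by rw [h2]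
      _ = m * X j * m⁻¹ * (m * a * m⁻¹) := by group
  have hsyl : SylIn 2 (P : Subgroup G) (normalizer (T : Set G)) :=
    ⟨hPN, P.isPGroup', fun R hR _ hR3 => (sylIn_top P).2.2 R hR le_top hR3⟩
  have hsylK := hsyl.inf hKN hNK
  have hPK : (P : Subgroup G) ⊓ K = T := by
    apply le_antisymm
    · rintro s ⟨hs, hsK⟩
      exact h.cent_X s hs (hKmem.1 hsK).2
    · intro t ht
      exact ⟨h.T_le ht, hKmem.2 ⟨le_normalizer ht, fun i => h.T_comm t ht _ (h.X_mem i)⟩⟩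
  rw [hPK] at hsylK
  have hnK : n ∈ K := hKmem.2 ⟨hn, hX⟩
  -- 2-elements of `K` lie in `T`
  have h2el : ∀ a ∈ K, (∃ k : ℕ, a ^ 2 ^ k = 1) → a ∈ T := by
    rintro a ha ⟨k, hk⟩
    have hp : IsPGroup 2 (zpowers a) := by
      rintro ⟨x, hx⟩
      obtain ⟨j, rfl⟩ := mem_zpowers_iff.1 hx
      refine ⟨k, Subtype.ext ?_⟩
      rw [SubmonoidClass.coe_pow, OneMemClass.coe_one]
      rw [← zpow_natCast, ← zpow_mul, mul_comm, zpow_mul, zpow_natCast, hk, one_zpow]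
    obtain ⟨l, hl, hlT⟩ := hsylK.conj_le (zpowers_le.2 ha) hp
    have h1 := hlT a (mem_zpowers a)
    have h2 := (mem_normalizer_iff.1 (hKN hl) a).2 h1
    exact h2
  -- decompose the order of `n`
  obtain ⟨k, m, hm, hnm⟩ := Nat.exists_eq_two_pow_mul_odd (n := orderOf n) (orderOf_pos n).ne'
  have h1 : n ^ m ∈ T := by
    refine h2el _ (K.pow_mem hnK m) ⟨k, ?_⟩
    rw [← pow_mul, mul_comm, ← hnm, pow_orderOf_eq_one]
  have hodd : Odd (orderOf (n ^ 2 ^ k)) := by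
    have h3 : orderOf (n ^ 2 ^ k) ∣ m := by
      apply orderOf_dvd_of_pow_eq_one
      rw [← pow_mul, ← hnm, pow_orderOf_eq_one]
    exact hm.of_dvd_nat h3
  have h2 : ∀ t ∈ T, n ^ 2 ^ k * t * (n ^ 2 ^ k)⁻¹ = t := by
    intro t ht
    have hnk : n ^ 2 ^ k ∈ K := K.pow_mem hnK _
    obtain ⟨j, hj⟩ := P.isPGroup' ⟨t, h.T_le ht⟩
    refine Cfsg.Agent.TwoFusion.OneClass.conj_eq_of_odd T h.T_comm (n ^ 2 ^ k) hodd
      (fun v hv => (mem_normalizer_iff.1 (hKN hnk) v).1 hv) ?_ j t ht ?_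
    · intro v hv hvv
      have hXk := (hKmem.1 hnk).2
      have hz : ∀ a b : G, (n ^ 2 ^ k) * a = a * (n ^ 2 ^ k) → (n ^ 2 ^ k) * b = b * (n ^ 2 ^ k) →
          (n ^ 2 ^ k) * (a * b) = (a * b) * (n ^ 2 ^ k) := by
        intro a b ha hb
        rw [← mul_assoc, ha, mul_assoc, hb, mul_assoc]
      have hcz : (n ^ 2 ^ k) * z = z * (n ^ 2 ^ k) := by rw [← h.X01]; exact hz _ _ (hXk 0) (hXk 1)
      have hcz' : (n ^ 2 ^ k) * z' = z' * (n ^ 2 ^ k) := by rw [← h.X02]; exact hz _ _ (hXk 0) (hXk 2)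
      have hfin : (n ^ 2 ^ k) * v = v * (n ^ 2 ^ k) := by
        rcases h.T_inv v hv hvv with h4 | ⟨i, rfl⟩
        · rcases h4 with rfl | rfl | rfl | rfl
          · rw [mul_one, one_mul]
          · exact hcz
          · exact hcz'
          · exact hz _ _ hcz hcz'
        · exact hXk i
      rw [hfin, mul_inv_cancel_right]
    · have := congrArg Subtype.val hj
      simpa using this
  -- combine
  have hC1 : n ^ m ∈ centralizer (T : Set G) := by
    rw [mem_centralizer_iff]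
    intro t ht
    exact h.T_comm t ht _ h1
  have hC2 : n ^ 2 ^ k ∈ centralizer (T : Set G) := by
    rw [mem_centralizer_iff]
    intro t ht
    have := h2 t ht
    rw [mul_inv_eq_iff_eq_mul] at this
    exact this.symm
  have hcop : Nat.gcd m (2 ^ k) = 1 := Nat.Coprime.pow_right k (Nat.coprime_two_right.2 hm)
  have hbez := Nat.gcd_eq_gcd_ab m (2 ^ k)
  rw [hcop] at hbez
  have hn' : n = (n ^ m) ^ (Nat.gcdA m (2 ^ k)) * (n ^ 2 ^ k) ^ (Nat.gcdB m (2 ^ k)) := by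
    rw [← zpow_natCast, ← zpow_natCast n (2 ^ k), ← zpow_mul, ← zpow_mul, ← zpow_add, ← hbez, Nat.cast_one, zpow_one]
  have hnC : n ∈ centralizer (T : Set G) := by
    rw [hn']
    exact mul_mem (zpow_mem hC1 _) (zpow_mem hC2 _)
  intro t ht
  exact (mem_centralizer_iff.1 hnC t ht).symm

/-- The permutations of the `X i` induced by `N(T)`. -/
def permGroup (T : Subgroup G) (X : Fin 4 → G) : Subgroup (Equiv.Perm (Fin 4)) where
  carrier := {σ | ∃ n ∈ normalizer (T : Set G), ∀ i, n * X i * n⁻¹ = X (σ i)}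
  mul_mem' := by
    rintro σ τ ⟨a, ha, ha'⟩ ⟨b, hb, hb'⟩
    refine ⟨a * b, mul_mem ha hb, fun i => ?_⟩
    rw [Equiv.Perm.mul_apply, ← ha', ← hb']; group
  one_mem' := ⟨1, one_mem _, fun i => by simp⟩
  inv_mem' := by
    rintro σ ⟨a, ha, ha'⟩
    refine ⟨a⁻¹, inv_mem ha, fun i => ?_⟩
    have h1 := ha' (σ⁻¹ i)
    have h2 : σ (σ⁻¹ i) = i := by simp
    rw [h2] at h1
    rw [← h1]; group


theorem tau_mem : Equiv.swap (0 : Fin 4) 1 ∈ permGroup T X := by
  obtain ⟨s, hs, h0, h1, h2, h3⟩ := h.tau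
  refine ⟨s, S_le_norm h hs, fun i => ?_⟩
  fin_cases i
  · exact h0
  · exact h1
  · exact h2
  · exact h3

theorem sg'_mem : Equiv.swap (0 : Fin 4) 2 * Equiv.swap (1 : Fin 4) 3 ∈ permGroup T X := by
  obtain ⟨s, hs, h0, h1, h2, h3⟩ := h.sg'
  refine ⟨s, S_le_norm h hs, fun i => ?_⟩
  fin_cases i
  · exact h0
  · exact h1
  · exact h2
  · exact h3

theorem tau'_mem : Equiv.swap (2 : Fin 4) 3 ∈ permGroup T X := by
  have e : (Equiv.swap (2 : Fin 4) 3 : Equiv.Perm (Fin 4)) = (Equiv.swap (0 : Fin 4) 2 * Equiv.swap (1 : Fin 4) 3) * Equiv.swap (0 : Fin 4) 1 *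
      (Equiv.swap (0 : Fin 4) 2 * Equiv.swap (1 : Fin 4) 3)⁻¹ := by decide
  rw [e]
  exact mul_mem (mul_mem (sg'_mem h) (tau_mem h)) (inv_mem (sg'_mem h))

theorem d8_mem (i j k : Bool) : d8 i j k ∈ permGroup T X := by
  unfold d8
  refine mul_mem (mul_mem ?_ ?_) ?_
  · cases i
    · exact one_mem _
    · exact tau_mem h
  · cases j
    · exact one_mem _
    · exact tau'_mem h
  · cases k
    · exact one_mem _
    · exact sg'_mem h

/-- **Steps 1 and 3**: every permutation of the `X i` is induced by `N(T)`. -/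
theorem exists_norm_perm (hz : ∃ g : G, g * z * g⁻¹ = z') (ρ : Equiv.Perm (Fin 4)) :
    ∃ n ∈ normalizer (T : Set G), ∀ i, n * X i * n⁻¹ = X (ρ i) := by
  obtain ⟨n, hn, hnz⟩ := exists_norm_z h hz
  obtain ⟨σ, hσ⟩ := exists_perm h hn
  have hprod : X (σ 0) * X (σ 1) = z' := by
    rw [← hσ, ← hσ, ← hnz, ← h.X01]; group
  have hbad : ¬ ((σ 0).val / 2 = (σ 1).val / 2) := by
    intro hh
    have hne : σ 0 ≠ σ 1 := fun e => by simpa using σ.injective e
    have h01 := h.X01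
    have h10 := X10 h
    have h23 := h.X23
    have h32 := X32 h
    apply h.z'_ne_z
    rw [← hprod]
    generalize σ 0 = a at *
    generalize σ 1 = b at *
    fin_cases a <;> fin_cases b <;> first
      | exact absurd rfl hne
      | exact h01
      | exact h10
      | exact h23
      | exact h32
      | (exfalso; revert hh; decide)
  change ρ ∈ permGroup T X
  have hσm : σ ∈ permGroup T X := ⟨n, hn, hσ⟩
  rcases d8_cover σ hbad ρ with ⟨i, j, k, rfl⟩ | ⟨i, j, k, i', j', k', rfl⟩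
  · exact d8_mem h i j k
  · exact mul_mem (mul_mem (d8_mem h i j k) hσm) (d8_mem h i' j' k')

/-- **Step 4**, the contradiction. -/
theorem step4 {u g : G} (huS : u ∉ S0) {F : Subgroup G}
    (hF : E16 (P : Subgroup G) F) (huF : u ∈ F) (hg : g ∈ centralizer ({z} : Set G)) (hgu : g * u * g⁻¹ ∈ S0)
    (hgP : ∀ y ∈ (P : Subgroup G), y * u = u * y → g * y * g⁻¹ ∈ (P : Subgroup G)) : False := by
  have hPL : (P : Subgroup G) ≤ centralizer ({z} : Set G) := fun s hs =>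
    mem_centralizer_singleton_iff.2 (h.z_cent s hs)
  have hgF : ∀ f ∈ F, g * f * g⁻¹ ∈ (P : Subgroup G) := fun f hf => hgP f (hF.le hf) (hF.comm hf huF)
  have hF' := hF.map hgF
  obtain ⟨c, ⟨hcL, hcN⟩, hcT⟩ := transport h hF hPL hg hgF
  set F' : Subgroup G := F.map (MulAut.conj g).toMonoidHom with hF'def
  set L : Subgroup G := centralizer ({z} : Set G) with hLdef
  have huT : u ∉ T := fun hh => huS (h.J_le (h.T_le_J hh))
  have huJ : u ∉ J := fun hh => huS (h.J_le hh)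
  -- `u' = g u g⁻¹ ∈ F' ∩ J`
  have hu'F : g * u * g⁻¹ ∈ F' := ⟨u, huF, rfl⟩
  have hu'J : g * u * g⁻¹ ∈ J := h.e_S0 F' hF' _ hu'F hgu
  -- `u'' = c u' c⁻¹ ∉ J`
  have hu''F : c * (g * u * g⁻¹) * c⁻¹ ∈ F' := (mem_normalizer_iff.1 hcN _).1 hu'F
  have hcg : c * (g * u * g⁻¹) * c⁻¹ = (c * g) * u * (c * g)⁻¹ := by group
  have hcgz : (c * g) * z * (c * g)⁻¹ = z := by
    have := mem_centralizer_singleton_iff.1 (L.mul_mem hcL hg)
    rw [this, mul_inv_cancel_right]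
  have hcomm : ∀ t : G, t * u = u * t ↔ ((c * g) * t * (c * g)⁻¹) * ((c * g) * u * (c * g)⁻¹) =
      ((c * g) * u * (c * g)⁻¹) * ((c * g) * t * (c * g)⁻¹) := by
    intro t
    have e1 : ((c * g) * t * (c * g)⁻¹) * ((c * g) * u * (c * g)⁻¹) = (c * g) * (t * u) * (c * g)⁻¹ := by group
    have e2 : ((c * g) * u * (c * g)⁻¹) * ((c * g) * t * (c * g)⁻¹) = (c * g) * (u * t) * (c * g)⁻¹ := by group
    rw [e1, e2]
    constructor
    · intro hh; rw [hh]
    · intro hh; exact mul_left_cancel (mul_right_cancel hh)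
  have hu''J : c * (g * u * g⁻¹) * c⁻¹ ∉ J := by
    intro hJ
    have h1 := mt (h.e_J F hF u huF huT).2 huJ
    push Not at h1
    obtain ⟨t, ht, htu, ht1, htz⟩ := h1
    by_cases hT : c * (g * u * g⁻¹) * c⁻¹ ∈ T
    · obtain ⟨t₂, ht2, htu2⟩ := h.e_tr F hF u huF huT z (Z2_z z z')
      have h2 := (hcomm t₂).2 (by
        rw [← hcg]
        exact h.T_comm _ (h.TT_le (hcT t₂ ht2)) _ hT)
      rw [h2, mul_inv_cancel_right] at htu2
      exact h.z_ne (mul_eq_right.1 htu2.symm)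
    · have h3 := (h.e_J F' hF' _ hu''F hT).1 hJ _ (hcT t ht) (by rw [hcg]; exact (hcomm t).1 htu)
      have e : ((c * g) * t * (c * g)⁻¹) * ((c * g) * t * (c * g)⁻¹) = (c * g) * (t * t) * (c * g)⁻¹ := by group
      rw [e] at h3
      rcases h3 with h3 | h3
      · exact ht1 (conj_eq_one_iff.1 h3)
      · apply htz
        rw [← hcgz] at h3
        exact mul_left_cancel (mul_right_cancel h3)
  -- the kernel of the action of `N_L(F')` on `F'/z`
  let K : Subgroup G :=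
    { carrier := {k | (k ∈ L ∧ k ∈ normalizer (F' : Set G)) ∧ ∀ f ∈ F', k * f * k⁻¹ = f ∨ k * f * k⁻¹ = z * f}
      mul_mem' := by
        rintro a b ⟨⟨ha, ha'⟩, ha2⟩ ⟨⟨hb, hb'⟩, hb2⟩
        refine ⟨⟨L.mul_mem ha hb, mul_mem ha' hb'⟩, fun f hf => ?_⟩
        have hza : a * z * a⁻¹ = z := by rw [mem_centralizer_singleton_iff.1 ha, mul_inv_cancel_right]
        have e : a * b * f * (a * b)⁻¹ = a * (b * f * b⁻¹) * a⁻¹ := by group
        rw [e]
        rcases hb2 f hf with h4 | h4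
        · rw [h4]; exact ha2 f hf
        · rw [h4]
          have e' : a * (z * f) * a⁻¹ = (a * z * a⁻¹) * (a * f * a⁻¹) := by group
          rw [e', hza]
          rcases ha2 f hf with h5 | h5
          · right; rw [h5]
          · left; rw [h5, ← mul_assoc, h.z_sq, one_mul]
      one_mem' := ⟨⟨L.one_mem, one_mem _⟩, fun f _ => Or.inl (by group)⟩
      inv_mem' := by
        rintro a ⟨⟨ha, ha'⟩, ha2⟩
        refine ⟨⟨L.inv_mem ha, inv_mem ha'⟩, fun f hf => ?_⟩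
        have hza : a * z = z * a := mem_centralizer_singleton_iff.1 ha
        rcases ha2 f hf with h4 | h4
        · left
          calc a⁻¹ * f * a⁻¹⁻¹ = a⁻¹ * (a * f * a⁻¹) * a := by rw [h4]; group
            _ = f := by group
        · right
          have h5 : a * (z * f) * a⁻¹ = f := by
            calc a * (z * f) * a⁻¹ = (a * z) * f * a⁻¹ := by group
              _ = z * (a * f * a⁻¹) := by rw [hza]; group
              _ = f := by rw [h4, ← mul_assoc, h.z_sq, one_mul]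
          calc a⁻¹ * f * a⁻¹⁻¹ = a⁻¹ * (a * (z * f) * a⁻¹) * a := by rw [h5]; group
            _ = z * f := by group }
  have hKmem : ∀ {k : G}, k ∈ K ↔ (k ∈ L ∧ k ∈ normalizer (F' : Set G)) ∧
      ∀ f ∈ F', k * f * k⁻¹ = f ∨ k * f * k⁻¹ = z * f := Iff.rfl
  have hKL : K ≤ L ⊓ normalizer (F' : Set G) := fun k hk => (hKmem.1 hk).1
  have hLK : L ⊓ normalizer (F' : Set G) ≤ normalizer (K : Set G) := by
    intro m hm
    refine mem_normalizer_of_conj_mem fun a ha => ?_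
    refine hKmem.2 ⟨⟨L.mul_mem (L.mul_mem hm.1 (hKL ha).1) (L.inv_mem hm.1),
      mul_mem (mul_mem hm.2 (hKL ha).2) (inv_mem hm.2)⟩, fun f hf => ?_⟩
    have hzm : m * z * m⁻¹ = z := by rw [mem_centralizer_singleton_iff.1 hm.1, mul_inv_cancel_right]
    have hf' : m⁻¹ * f * m ∈ F' := by
      have := (mem_normalizer_iff.1 (inv_mem hm.2) f).1 hf
      rwa [inv_inv] at this
    have e : m * a * m⁻¹ * f * (m * a * m⁻¹)⁻¹ = m * (a * (m⁻¹ * f * m) * a⁻¹) * m⁻¹ := by group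
    rw [e]
    rcases (hKmem.1 ha).2 _ hf' with h4 | h4
    · left; rw [h4]; group
    · right
      rw [h4]
      have e' : m * (z * (m⁻¹ * f * m)) * m⁻¹ = (m * z * m⁻¹) * f := by group
      rw [e', hzm]
  -- every element of `K` acts as an element of `S`
  have hcentJ : ∀ k ∈ K, ∀ f ∈ F', f ∈ J → k * f * k⁻¹ = f := by
    have hsyl := (sylIn_normalizer_inf h hF' hPL).inf hKL hLK
    have hCK : K ⊓ centralizer (F' : Set G) ≤ K := inf_le_left
    have hKC : K ≤ normalizer ((K ⊓ centralizer (F' : Set G) : Subgroup G) : Set G) := by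
      intro m hm
      refine mem_normalizer_of_conj_mem fun a ha => ⟨K.mul_mem (K.mul_mem hm ha.1) (K.inv_mem hm), ?_⟩
      show m * a * m⁻¹ ∈ centralizer (F' : Set G)
      rw [mem_centralizer_iff]
      intro f hf
      have hf' : m⁻¹ * f * m ∈ F' := by
        have := (mem_normalizer_iff.1 (inv_mem (hKL hm).2) f).1 hf
        rwa [inv_inv] at this
      have h4 := (mem_centralizer_iff.1 ha.2) _ hf'
      calc f * (m * a * m⁻¹) = m * ((m⁻¹ * f * m) * a) * m⁻¹ := by group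
        _ = m * (a * (m⁻¹ * f * m)) * m⁻¹ := by rw [h4]
        _ = m * a * m⁻¹ * f := by group
    have hpow : ∀ x ∈ K, ∃ k : ℕ, x ^ 2 ^ k ∈ K ⊓ centralizer (F' : Set G) := by
      intro x hx
      refine ⟨1, ?_⟩
      rw [pow_one, pow_two]
      refine ⟨K.mul_mem hx hx, ?_⟩
      show x * x ∈ centralizer (F' : Set G)
      rw [mem_centralizer_iff]
      intro f hf
      have hzx : x * z * x⁻¹ = z := by
        rw [mem_centralizer_singleton_iff.1 (hKL hx).1, mul_inv_cancel_right]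
      have h6 : x * x * f * (x * x)⁻¹ = f := by
        have e : x * x * f * (x * x)⁻¹ = x * (x * f * x⁻¹) * x⁻¹ := by group
        rw [e]
        rcases (hKmem.1 hx).2 f hf with h4 | h4
        · rw [h4, h4]
        · rw [h4]
          have e' : x * (z * f) * x⁻¹ = (x * z * x⁻¹) * (x * f * x⁻¹) := by group
          rw [e', hzx, h4, ← mul_assoc, h.z_sq, one_mul]
      exact (mul_inv_eq_iff_eq_mul.1 h6).symm
    intro k hk f hf hfJ
    obtain ⟨n, hn, s, hs, hkns⟩ := hsyl.exists_mul hCK hKC hpow hk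
    have h4 : s * f * s⁻¹ = f := h.e_ker F' hF' s hs.1.1 (hKmem.1 hs.2).2 f hf hfJ
    have h5 := (mem_centralizer_iff.1 hn.2) f hf
    rw [hkns]
    have e : n * s * f * (n * s)⁻¹ = n * (s * f * s⁻¹) * n⁻¹ := by group
    rw [e, h4, ← h5, mul_inv_cancel_right]
  -- `c` normalises `F' ∩ J`
  obtain ⟨t₀, ht0, ht0J, ht0n⟩ := h.e_k F' hF'
  have ht0K : t₀ ∈ K := by
    have h4 := TT_le_normalizer h hF' ht0
    refine hKmem.2 ⟨⟨hPL h4.1, h4.2⟩, fun f hf => ?_⟩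
    by_cases hfJ : f ∈ J
    · exact Or.inl (ht0J f hf hfJ)
    · exact Or.inr (ht0n f hf hfJ)
  have h7 := ht0n _ hu''F hu''J
  have h8 : c⁻¹ * t₀ * c ∈ K := by
    have := (mem_normalizer_iff.1 (inv_mem (hLK ⟨hcL, hcN⟩)) t₀).1 ht0K
    rwa [inv_inv] at this
  have h9 := hcentJ _ h8 _ hu'F hu'J
  have h10 : t₀ * (c * (g * u * g⁻¹) * c⁻¹) * t₀⁻¹ = c * (g * u * g⁻¹) * c⁻¹ := by
    calc t₀ * (c * (g * u * g⁻¹) * c⁻¹) * t₀⁻¹ =
        c * (c⁻¹ * t₀ * c * (g * u * g⁻¹) * (c⁻¹ * t₀ * c)⁻¹) * c⁻¹ := by group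
      _ = c * (g * u * g⁻¹) * c⁻¹ := by rw [h9]
  rw [h10] at h7
  exact h.z_ne (mul_eq_right.1 h7.symm)

theorem P_le_cent : (P : Subgroup G) ≤ centralizer ({z} : Set G) := fun s hs =>
  mem_centralizer_singleton_iff.2 (h.z_cent s hs)

/-- An involution of `S` outside `S0` lying in some `E16` survives in an abelian quotient of `C(z)`. -/
theorem exists_hom_ne (hidx : S0.relIndex (P : Subgroup G) = 2) {u : G} (hu : u ∈ (P : Subgroup G)) (huu : u * u = 1)
    (huS : u ∉ S0) {F : Subgroup G} (hF : E16 (P : Subgroup G) F) (huF : u ∈ F) :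
    ∃ φ : ↥(centralizer ({z} : Set G)) →* ℤˣ, φ ⟨u, P_le_cent h hu⟩ ≠ 1 := by
  by_contra hcon
  push Not at hcon
  have hPL := P_le_cent h
  set L : Subgroup G := centralizer ({z} : Set G) with hL
  have hS0L : S0 ≤ L := h.S0_le.trans hPL
  let u' : L := ⟨u, hPL hu⟩
  have hidx' : (S0.subgroupOf L).relIndex ((P.subtype hPL : Sylow 2 L) : Subgroup L) = 2 := by
    rw [Sylow.coe_subtype]
    have h1 : ((S0.subgroupOf L).relIndex ((P : Subgroup G).subgroupOf L)) = S0.relIndex (P : Subgroup G) := by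
      rw [← relIndex_subgroupOf hPL]
    rw [h1, hidx]
  obtain ⟨g, hg1, hg2⟩ := Cfsg.Agent.SylowSp4.ExtTransfer.exists_extremal (P.subtype hPL) (S0.subgroupOf L)
    (by
      rw [Sylow.coe_subtype]
      exact fun x hx => h.S0_le hx) hidx' u' (Subtype.ext huu) hcon
    (((P : Subgroup G) ⊓ centralizer ({u} : Set G)).subgroupOf L)
    ((P.isPGroup'.to_le inf_le_left).comap_of_injective _ L.subtype_injective) (by
      intro r hr
      exact Subtype.ext (mem_centralizer_singleton_iff.1 hr.2))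
  refine step4 h (g := (g : G)) huS hF huF g.2 hg1 ?_
  intro y hy hyu
  have h3 := hg2 ⟨y, hPL hy⟩ ⟨hy, mem_centralizer_singleton_iff.2 hyu⟩
  exact h3

/-- **Step 4**: `C(z)` has a homomorphism onto `±1` with kernel meeting `S` in `S0`. -/
theorem exists_hom (hidx : S0.relIndex (P : Subgroup G) = 2) {Q : Set G} {t0 u0 : G} (hQS : Q ⊆ S0)
    (hgen : S0 ≤ closure (Q ∪ {t0})) (ht0 : t0 ∈ S0)
    (hQ : ∀ φ : ↥(centralizer ({z} : Set G)) →* ℤˣ, ∀ q ∈ Q, ∀ hq : q ∈ centralizer ({z} : Set G), φ ⟨q, hq⟩ = 1)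
    (hu0 : u0 ∈ (P : Subgroup G)) (hu0S : u0 ∉ S0) (huu : u0 * u0 = 1) (htu : (t0 * u0) * (t0 * u0) = 1)
    (hE : ∀ e ∈ (P : Subgroup G), e * e = 1 → e ∉ S0 → ∃ F, E16 (P : Subgroup G) F ∧ e ∈ F) :
    ∃ φ : ↥(centralizer ({z} : Set G)) →* ℤˣ, ∀ s (hs : s ∈ (P : Subgroup G)),
      φ ⟨s, P_le_cent h hs⟩ = 1 ↔ s ∈ S0 := by
  have hPL := P_le_cent h
  have ht0P : t0 ∈ (P : Subgroup G) := h.S0_le ht0
  have hidx' : (S0.subgroupOf (P : Subgroup G)).index = 2 := hidx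
  have hmul : ∀ a b : G, a ∈ (P : Subgroup G) → b ∈ (P : Subgroup G) → (a * b ∈ S0 ↔ (a ∈ S0 ↔ b ∈ S0)) := by
    intro a b ha hb
    have := Subgroup.mul_mem_iff_of_index_two hidx' (a := ⟨a, ha⟩) (b := ⟨b, hb⟩)
    simpa [mem_subgroupOf] using this
  -- the key criterion
  have key : ∀ φ : ↥(centralizer ({z} : Set G)) →* ℤˣ, φ ⟨t0, hPL ht0P⟩ = 1 → φ ⟨u0, hPL hu0⟩ = -1 →
      ∀ s (hs : s ∈ (P : Subgroup G)), φ ⟨s, hPL hs⟩ = 1 ↔ s ∈ S0 := by
    intro φ h1 h2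
    have h3 : ∀ s, s ∈ S0 → ∀ hs : s ∈ centralizer ({z} : Set G), φ ⟨s, hs⟩ = 1 := by
      have hle : S0 ≤ φ.ker.map (centralizer ({z} : Set G)).subtype := by
        refine hgen.trans ?_
        rw [closure_le]
        rintro x (hx | rfl)
        · exact ⟨⟨x, hPL (h.S0_le (hQS hx))⟩, hQ φ x hx _, rfl⟩
        · exact ⟨⟨_, hPL ht0P⟩, h1, rfl⟩
      intro s hs hs'
      obtain ⟨y, hy, hys⟩ := hle hs
      have e : y = ⟨s, hs'⟩ := Subtype.ext hys
      rw [← e]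
      exact hy
    intro s hs
    constructor
    · intro h4
      by_contra h5
      have h6 : s * u0 ∈ S0 := by
        rw [hmul s u0 hs hu0]
        exact ⟨fun hh => absurd hh h5, fun hh => absurd hh hu0S⟩
      have h7 := h3 _ h6 (hPL ((P : Subgroup G).mul_mem hs hu0))
      have h8 : φ ⟨s * u0, hPL ((P : Subgroup G).mul_mem hs hu0)⟩ = φ ⟨s, hPL hs⟩ * φ ⟨u0, hPL hu0⟩ := by
        rw [← map_mul]; rfl
      rw [h8, h4, h2] at h7
      exact absurd h7 (by decide)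
    · intro h4
      exact h3 s h4 _
  have hneg : ∀ v : ℤˣ, v ≠ 1 → v = -1 := fun v hv => (Int.units_eq_one_or v).resolve_left hv
  obtain ⟨F, hF, huF⟩ := hE u0 hu0 huu hu0S
  obtain ⟨φ, hφ⟩ := exists_hom_ne h hidx hu0 huu hu0S hF huF
  have hφu := hneg _ hφ
  have htu0 : t0 * u0 ∈ (P : Subgroup G) := (P : Subgroup G).mul_mem ht0P hu0
  have htuS : t0 * u0 ∉ S0 := by
    rw [hmul _ _ ht0P hu0]
    exact fun hh => hu0S (hh.1 ht0)
  obtain ⟨F', hF', htuF⟩ := hE _ htu0 htu htuS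
  obtain ⟨ψ, hψ⟩ := exists_hom_ne h hidx htu0 htu htuS hF' htuF
  have hψtu := hneg _ hψ
  have hψmul : ψ ⟨t0 * u0, hPL htu0⟩ = ψ ⟨t0, hPL ht0P⟩ * ψ ⟨u0, hPL hu0⟩ := by
    rw [← map_mul]; rfl
  rw [hψmul] at hψtu
  by_cases h1 : φ ⟨t0, hPL ht0P⟩ = 1
  · exact ⟨φ, key φ h1 hφu⟩
  · have h1' := hneg _ h1
    by_cases h2 : ψ ⟨t0, hPL ht0P⟩ = 1
    · rw [h2, one_mul] at hψtu
      exact ⟨ψ, key ψ h2 hψtu⟩
    · have h2' := hneg _ h2
      rw [h2'] at hψtu
      have h3 : ψ ⟨u0, hPL hu0⟩ = 1 := by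
        rcases Int.units_eq_one_or (ψ ⟨u0, hPL hu0⟩) with h4 | h4
        · exact h4
        · rw [h4] at hψtu; exact absurd hψtu (by decide)
      refine ⟨φ * ψ, key (φ * ψ) ?_ ?_⟩
      · rw [MonoidHom.mul_apply, h1', h2']; decide
      · rw [MonoidHom.mul_apply, hφu, h3]; decide

/-- **Step 4**, subgroup form. -/
theorem exists_index_two (hidx : S0.relIndex (P : Subgroup G) = 2) {Q : Set G} {t0 u0 : G} (hQS : Q ⊆ S0)
    (hgen : S0 ≤ closure (Q ∪ {t0})) (ht0 : t0 ∈ S0)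
    (hQ : ∀ φ : ↥(centralizer ({z} : Set G)) →* ℤˣ, ∀ q ∈ Q, ∀ hq : q ∈ centralizer ({z} : Set G), φ ⟨q, hq⟩ = 1)
    (hu0 : u0 ∈ (P : Subgroup G)) (hu0S : u0 ∉ S0) (huu : u0 * u0 = 1) (htu : (t0 * u0) * (t0 * u0) = 1)
    (hE : ∀ e ∈ (P : Subgroup G), e * e = 1 → e ∉ S0 → ∃ F, E16 (P : Subgroup G) F ∧ e ∈ F) :
    ∃ H0 : Subgroup G, H0 ≤ centralizer ({z} : Set G) ∧ H0.relIndex (centralizer ({z} : Set G)) = 2 ∧
      centralizer ({z} : Set G) ≤ normalizer (H0 : Set G) ∧ (P : Subgroup G) ⊓ H0 = S0 := by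
  obtain ⟨φ, hφ⟩ := exists_hom h hidx hQS hgen ht0 hQ hu0 hu0S huu htu hE
  have hPL := P_le_cent h
  have hmem : ∀ x (hx : x ∈ centralizer ({z} : Set G)),
      x ∈ φ.ker.map (centralizer ({z} : Set G)).subtype ↔ φ ⟨x, hx⟩ = 1 := by
    intro x hx
    constructor
    · rintro ⟨y, hy, rfl⟩
      exact hy
    · intro hh
      exact ⟨⟨x, hx⟩, hh, rfl⟩
  refine ⟨φ.ker.map (centralizer ({z} : Set G)).subtype, map_subtype_le _, ?_, ?_, ?_⟩
  · rw [relIndex, subgroupOf, comap_map_eq_self_of_injective (Subgroup.subtype_injective _), index_ker]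
    have h1 : φ.range = ⊤ := by
      rw [eq_top_iff]
      intro v _
      rcases Int.units_eq_one_or v with rfl | rfl
      · exact one_mem _
      · refine ⟨⟨u0, hPL hu0⟩, ?_⟩
        exact (Int.units_eq_one_or _).resolve_left fun hh => hu0S ((hφ u0 hu0).1 hh)
    rw [h1, Subgroup.card_top, Nat.card_eq_fintype_card]
    rfl
  · intro c hc
    refine mem_normalizer_of_conj_mem ?_
    rintro _ ⟨y, hy, rfl⟩
    refine ⟨⟨c, hc⟩ * y * ⟨c, hc⟩⁻¹, ?_, rfl⟩
    exact (MonoidHom.normal_ker φ).conj_mem y hy _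
  · ext x
    constructor
    · rintro ⟨hxP, hx⟩
      exact (hφ x hxP).1 ((hmem x (hPL hxP)).1 hx)
    · intro hx
      exact ⟨h.S0_le hx, (hmem x (hPL (h.S0_le hx))).2 ((hφ x (h.S0_le hx)).2 hx)⟩

/-- In a simple group `z` is conjugate to another element of `S` (Glauberman's Z*-theorem). -/
theorem exists_mem_conj [IsSimpleGroup G] : ∃ g : G, g * z * g⁻¹ ∈ (P : Subgroup G) ∧ g * z * g⁻¹ ≠ z := by
  have hnc : ∃ a b : G, a * b ≠ b * a := by
    obtain ⟨s, _, hs⟩ := h.swap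
    refine ⟨s, z', fun hh => ?_⟩
    rw [hh, mul_inv_cancel_right] at hs
    exact h.z_ne (mul_eq_right.1 hs.symm)
  have hord : orderOf z = 2 := orderOf_eq_prime (by rw [pow_two, h.z_sq]) h.z_ne
  obtain ⟨g, hg1, hg2⟩ := Cfsg.Agent.SporRec.LyReduce.exists_conj_ne z hord hnc
  have hsyl : SylIn 2 (P : Subgroup G) (centralizer ({z} : Set G)) :=
    ⟨P_le_cent h, P.isPGroup', fun R hR _ hR3 => (sylIn_top P).2.2 R hR le_top hR3⟩
  have hp : IsPGroup 2 (zpowers (g * z * g⁻¹)) := by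
    rw [IsPGroup.iff_card]
    refine ⟨1, ?_⟩
    rw [Nat.card_zpowers, pow_one]
    have : orderOf (g * z * g⁻¹) = orderOf z := by
      rw [← MulAut.conj_apply]
      exact orderOf_injective (MulAut.conj g).toMonoidHom (MulAut.conj g).injective z
    rw [this, hord]
  obtain ⟨l, hl, hl2⟩ := hsyl.conj_le (zpowers_le.2 (mem_centralizer_singleton_iff.2 hg2.eq.symm)) hp
  have hlz : l * z * l⁻¹ = z := by rw [mem_centralizer_singleton_iff.1 hl, mul_inv_cancel_right]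
  refine ⟨l * g, ?_, ?_⟩
  · have e : l * g * z * (l * g)⁻¹ = l * (g * z * g⁻¹) * l⁻¹ := by group
    rw [e]
    exact hl2 _ (mem_zpowers _)
  · intro hh
    apply hg1
    have e : l * g * z * (l * g)⁻¹ = l * (g * z * g⁻¹) * l⁻¹ := by group
    rw [e] at hh
    have h1 : l * (g * z * g⁻¹) * l⁻¹ = l * z * l⁻¹ := hh.trans hlz.symm
    exact mul_left_cancel (mul_right_cancel h1)

end Sylow

end Cfsg.Agent.LFourB.FusA
end

-- part: LFourR/TorusB
section
set_option linter.all false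
open scoped Cfsg.Agent.FastGrp

/-!
# The torus of an element of order four of `SL(2, F)`, `|F|` odd (S0510, type B5)

`i * i = -1`: `C(i)` is cyclic of order `q - 1` (`q ≡ 1 mod 4`) or `q + 1` (`q ≡ 3 mod 4`), is inverted by the elements
inverting `i`, and, if `q` is not a square, centralised by the automorphisms of 2-power order fixing `i`.
-/

set_option autoImplicit false

namespace Cfsg.Agent.LFourR.TorusB

open Matrix Cfsg.Agent.Lib.SL2Mat Cfsg.Agent.Lib.AutSL2 Cfsg.Agent.Lib.AutSL2Out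
open Cfsg.Agent.Lib.PSL2Circle Cfsg.Agent.Lib.PSL2Inv Cfsg.Agent.LFourR.Mat2
open Cfsg.Agent.LFourR.AutTorus (inv_of_trace_zero val_neg)
open Cfsg.Agent.LFourR.FieldPart (val_mul val_one val_pow)

variable {F : Type*} [Field F]

theorem exists_lin' (h2 : (2 : F) ≠ 0) {i t : Matrix.SpecialLinearGroup (Fin 2) F} (hi : i * i = -1)
    (ht : t * i = i * t) : ∃ x y : F, t.1 = x • (1 : Matrix (Fin 2) (Fin 2) F) + y • i.1 := by
  have htr := tr_of_sq h2 hi
  obtain ⟨p, hp⟩ := exists_comb h2 htr ht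
  refine ⟨p.re, p.im, ?_⟩
  rw [← hp]
  ext a b
  fin_cases a <;> fin_cases b
  · change p.re + p.im * ent i 0 0 = _
    simp [ent]
  · change p.im * ent i 0 1 = _
    simp [ent]
  · change p.im * ent i 1 0 = _
    simp [ent]
  · change p.re - p.im * ent i 0 0 = _
    have : i.1 1 1 = - i.1 0 0 := htr
    simp [ent, this]
    ring

theorem trace_zero (h2 : (2 : F) ≠ 0) {i : Matrix.SpecialLinearGroup (Fin 2) F} (hi : i * i = -1) : i.1.trace = 0 := by
  have htr : i.1 1 1 = - i.1 0 0 := tr_of_sq h2 hi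
  rw [trace_fin_two, htr, add_neg_cancel]

theorem inv_eq_neg {i : Matrix.SpecialLinearGroup (Fin 2) F} (hi : i * i = -1) : i⁻¹ = -i := by
  apply inv_eq_of_mul_eq_one_right
  rw [mul_neg, hi, neg_neg]

theorem inv_of (h2 : (2 : F) ≠ 0) {i t n : Matrix.SpecialLinearGroup (Fin 2) F} (hi : i * i = -1)
    (hn : n * i * n⁻¹ = i⁻¹) (ht : t * i = i * t) : n * t * n⁻¹ = t⁻¹ := by
  obtain ⟨x, y, hxy⟩ := exists_lin' h2 hi ht
  apply Subtype.ext
  have h1 := inv_of_trace_zero (trace_zero h2 hi) t x y hxy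
  have hnn : n.1 * (n⁻¹).1 = 1 := by rw [← val_mul, mul_inv_cancel, val_one]
  have h3 : n.1 * i.1 * (n⁻¹).1 = - i.1 := by
    rw [← val_mul, ← val_mul, hn, inv_eq_neg hi, val_neg]
  change (n * t * n⁻¹).1 = (t⁻¹).1
  rw [h1, val_mul, val_mul, hxy]
  calc n.1 * (x • (1 : Matrix (Fin 2) (Fin 2) F) + y • i.1) * (n⁻¹).1
      = x • (n.1 * (n⁻¹).1) + y • (n.1 * i.1 * (n⁻¹).1) := by
        simp only [Matrix.mul_add, Matrix.add_mul, Matrix.mul_smul, Matrix.smul_mul, Matrix.mul_one]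
    _ = x • (1 : Matrix (Fin 2) (Fin 2) F) - y • i.1 := by
        rw [hnn, h3, smul_neg, sub_eq_add_neg]

theorem fix_of (h2 : (2 : F) ≠ 0) {g : GL (Fin 2) F} {i t : Matrix.SpecialLinearGroup (Fin 2) F} (hi : i * i = -1)
    (hg : conjGL g i = i) (ht : t * i = i * t) : conjGL g t = t := by
  obtain ⟨x, y, hxy⟩ := exists_lin' h2 hi ht
  rw [conjGL_eq_iff] at hg ⊢
  rw [hxy]
  simp only [Matrix.mul_add, Matrix.add_mul, Matrix.mul_smul, Matrix.smul_mul, Matrix.mul_one, Matrix.one_mul]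
  rw [hg]

/-- `α ^ n` for `α = conjGL g * fieldAut σ` -/
theorem exists_pow (g : GL (Fin 2) F) (σ : F ≃+* F) (n : ℕ) :
    ∃ k : GL (Fin 2) F, (conjGL g * fieldAut σ) ^ n = conjGL k * fieldAut (σ ^ n) := by
  induction n with
  | zero => exact ⟨1, by rw [pow_zero, pow_zero, map_one, map_one, mul_one]⟩
  | succ n ih =>
    obtain ⟨k, hk⟩ := ih
    refine ⟨k * Matrix.GeneralLinearGroup.map (σ ^ n).toRingHom g, ?_⟩
    rw [pow_succ, hk, map_mul, pow_succ, map_mul]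
    calc conjGL k * fieldAut (σ ^ n) * (conjGL g * fieldAut σ)
        = conjGL k * (fieldAut (σ ^ n) * conjGL g) * fieldAut σ := by simp only [mul_assoc]
      _ = _ := by rw [fieldAut_mul_conjGL]; simp only [mul_assoc]

theorem eq_conjGL [Finite F] (h2 : (2 : F) ≠ 0) (hns : ¬ IsSquare (Nat.card F))
    {α : MulAut (Matrix.SpecialLinearGroup (Fin 2) F)} {m : ℕ} (hm : α ^ 2 ^ m = 1) : ∃ g : GL (Fin 2) F, α = conjGL g := by
  obtain ⟨g, σ, rfl⟩ := exists_eq α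
  obtain ⟨k, hk⟩ := exists_pow g σ (2 ^ m)
  rw [hm] at hk
  have h1 : σ ^ 2 ^ m = 1 := by
    refine (Cfsg.Agent.LFourA.FieldInv.eq_one_of_map (k := k) h2 (τ := σ ^ 2 ^ m) fun x => Or.inl ?_).1
    rw [← MulAut.mul_apply, ← hk, MulAut.one_apply]
  have key : ∀ m : ℕ, σ ^ 2 ^ m = 1 → σ = 1 := by
    intro m
    induction m with
    | zero => intro h; rwa [pow_zero, pow_one] at h
    | succ m ih =>
      intro h
      apply ih
      by_contra hne
      obtain ⟨K, -, hK⟩ := Cfsg.Agent.LFourA.FieldInv.exists_fixed (σ ^ 2 ^ m) (fun a => by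
        rw [← RingAut.mul_apply, ← pow_add, ← two_mul, ← pow_succ', h]; rfl) (by
        by_contra hc
        push Not at hc
        exact hne (RingEquiv.ext hc))
      exact hns ⟨Nat.card K, by rw [hK, pow_two]⟩
  rw [key m h1]
  exact ⟨g, by rw [map_one, mul_one]⟩

/-! ### The same in a group -/

section group

open Subgroup

variable {G : Type*} [Group G] {L : Subgroup G} (e0 : L ≃* Matrix.SpecialLinearGroup (Fin 2) F) {z i : G} (hi : i ∈ L)
  (hii : i * i = z) (hzz : z * z = 1) (hz1 : z ≠ 1)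

include e0 hi hii hzz hz1

theorem sq_neg_one (h2 : (2 : F) ≠ 0) : e0 ⟨i, hi⟩ * e0 ⟨i, hi⟩ = -1 := by
  rcases Cfsg.Agent.ClassicalGeometry.PSL2ElemOrder.eq_one_or_of_sq h2 (e0 ⟨i, hi⟩ * e0 ⟨i, hi⟩) (by
    rw [← map_mul, ← map_mul]
    have : (⟨i, hi⟩ : L) * ⟨i, hi⟩ * (⟨i, hi⟩ * ⟨i, hi⟩) = 1 := by
      apply Subtype.ext
      show i * i * (i * i) = 1
      rw [hii, hzz]
    rw [this, map_one]) with h | h
  · exfalso
    rw [← map_mul] at h
    have h1 : (⟨i, hi⟩ : L) * ⟨i, hi⟩ = 1 := e0.injective (by rw [h, map_one])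
    exact hz1 (hii.symm.trans (congrArg Subtype.val h1))
  · exact h

theorem cyc [Finite F] (h2 : (2 : F) ≠ 0) :
    IsCyclic (L ⊓ centralizer {i} : Subgroup G) ∧
    ((Nat.card F % 4 = 1 ∧ Nat.card (L ⊓ centralizer {i} : Subgroup G) = Nat.card F - 1) ∨
      (Nat.card F % 4 = 3 ∧ Nat.card (L ⊓ centralizer {i} : Subgroup G) = Nat.card F + 1)) := by
  have hj := sq_neg_one e0 hi hii hzz hz1 h2
  set j := e0 ⟨i, hi⟩ with hjdef
  have htr := tr_of_sq h2 hj
  have hcyc := isCyclic_centralizer h2 htr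
  have hcard := card_centralizer h2 htr
  have hmem : ∀ x : L, (x : G) * i = i * x ↔ e0 x * j = j * e0 x := by
    intro x
    rw [hjdef, ← map_mul, ← map_mul]
    constructor
    · intro h
      congr 1
      exact Subtype.ext h
    · intro h
      exact congrArg Subtype.val (e0.injective h)
  let E : (L ⊓ centralizer {i} : Subgroup G) ≃* centralizer ({j} : Set (Matrix.SpecialLinearGroup (Fin 2) F)) :=
    { toFun := fun x => ⟨e0 ⟨x, x.2.1⟩, mem_centralizer_singleton_iff.2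
        ((hmem ⟨x, x.2.1⟩).1 (mem_centralizer_singleton_iff.1 x.2.2))⟩
      invFun := fun y => ⟨(e0.symm y : L), (e0.symm y.1).2, mem_centralizer_singleton_iff.2
        ((hmem (e0.symm y)).2 (by rw [e0.apply_symm_apply]; exact mem_centralizer_singleton_iff.1 y.2))⟩
      left_inv := fun x => by
        apply Subtype.ext
        show ((e0.symm (e0 ⟨x, _⟩) : L) : G) = x
        rw [e0.symm_apply_apply]
      right_inv := fun y => by
        apply Subtype.ext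
        show e0 ⟨((e0.symm y : L) : G), _⟩ = y
        rw [Subtype.coe_eta, e0.apply_symm_apply]
      map_mul' := fun x y => by
        apply Subtype.ext
        show e0 ⟨x.1 * y.1, _⟩ = e0 ⟨x, _⟩ * e0 ⟨y, _⟩
        rw [← map_mul]; rfl }
  refine ⟨?_, ?_⟩
  · exact isCyclic_of_surjective E.symm E.symm.surjective
  · rw [Nat.card_congr E.toEquiv, hcard]
    exact card_circ h2

theorem inv_mem_of (h2 : (2 : F) ≠ 0) {n t : G} (hn : n ∈ L) (hni : n * i * n⁻¹ = i⁻¹) (ht : t ∈ L) (hti : t * i = i * t) :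
    n * t * n⁻¹ = t⁻¹ := by
  have hj := sq_neg_one e0 hi hii hzz hz1 h2
  have h1 := inv_of h2 (i := e0 ⟨i, hi⟩) (t := e0 ⟨t, ht⟩) (n := e0 ⟨n, hn⟩) hj (by
    rw [← map_inv, ← map_mul, ← map_mul, ← map_inv]
    congr 1
    exact Subtype.ext hni) (by
    rw [← map_mul, ← map_mul]
    congr 1
    exact Subtype.ext hti)
  rw [← map_inv, ← map_mul, ← map_mul, ← map_inv] at h1
  exact congrArg Subtype.val (e0.injective h1)

theorem fix_mem_of [Finite F] (h2 : (2 : F) ≠ 0) (hns : ¬ IsSquare (Nat.card F)) {u t : G}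
    (hu : u ∈ normalizer (L : Set G)) {m : ℕ} (hum : u ^ 2 ^ m = 1) (hui : u * i = i * u) (ht : t ∈ L)
    (hti : t * i = i * t) : u * t = t * u := by
  have hj := sq_neg_one e0 hi hii hzz hz1 h2
  let α : MulAut (Matrix.SpecialLinearGroup (Fin 2) F) := (e0.symm.trans (nact L hu)).trans e0
  have hαpow : ∀ k : ℕ, α ^ k = (e0.symm.trans (nact L hu ^ k)).trans e0 := by
    intro k
    induction k with
    | zero =>
      apply MulEquiv.ext
      intro x
      rw [pow_zero, pow_zero, MulAut.one_apply]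
      show x = e0 ((1 : MulAut L) (e0.symm x))
      rw [MulAut.one_apply, e0.apply_symm_apply]
    | succ k ih =>
      apply MulEquiv.ext
      intro x
      rw [pow_succ, ih, pow_succ]
      show e0 ((nact L hu ^ k) (e0.symm (e0 (nact L hu (e0.symm x))))) = e0 ((nact L hu ^ k * nact L hu) (e0.symm x))
      rw [e0.symm_apply_apply, MulAut.mul_apply]
  have h1 : nact L hu ^ 2 ^ m = 1 := by
    rw [← nact_pow]
    rw [nact_eq_one_iff]
    intro l _
    rw [hum, one_mul, mul_one]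
  have h3 : α ^ 2 ^ m = 1 := by
    rw [hαpow, h1]
    apply MulEquiv.ext
    intro x
    show e0 ((1 : MulAut L) (e0.symm x)) = x
    rw [MulAut.one_apply, e0.apply_symm_apply]
  obtain ⟨g, hg⟩ := eq_conjGL h2 hns h3
  have h4 : conjGL g (e0 ⟨i, hi⟩) = e0 ⟨i, hi⟩ := by
    rw [← hg]
    show e0 (nact L hu (e0.symm (e0 ⟨i, hi⟩))) = _
    rw [e0.symm_apply_apply]
    congr 1
    apply Subtype.ext
    rw [coe_nact]
    show u * i * u⁻¹ = i
    rw [hui, mul_inv_cancel_right]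
  have h5 := fix_of h2 (t := e0 ⟨t, ht⟩) hj h4 (by
    rw [← map_mul, ← map_mul]
    congr 1
    exact Subtype.ext hti)
  rw [← hg] at h5
  have h6 : e0 (nact L hu (e0.symm (e0 ⟨t, ht⟩))) = e0 ⟨t, ht⟩ := h5
  rw [e0.symm_apply_apply] at h6
  have h7 := congrArg Subtype.val (e0.injective h6)
  rw [coe_nact] at h7
  exact mul_inv_eq_iff_eq_mul.1 h7

end group

end Cfsg.Agent.LFourR.TorusB
end

-- part: LFourB/CentXTail
section
set_option linter.all false
open scoped Cfsg.Agent.FastGrp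

/-!
# Groups whose residual `O^2(Y)` has quasi-dihedral or wreathed Sylow 2-subgroup

`P` is a Sylow 2-subgroup of `Y`, `W ≤ P` is quasi-dihedral or wreathed and `O^2(Y) ∩ P = W`. Then `Y / O(Y)` has a
simple normal subgroup `L` with Sylow 2-subgroup the image of `W`; if moreover `P = W<y>` with `<y>` isolated in `P`,
the centralizer of `L` is the image of `<y>`.
-/

set_option autoImplicit false

namespace Cfsg.Agent.LFourB.CentXTail

open Subgroup

universe u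

variable {Y : Type u} [Group Y] [Finite Y]

/-- The residual meets the Sylow subgroup in the kernel of a fusion invariant homomorphism. -/
theorem residual_inf {P : Sylow 2 Y} {A : Type*} [CommGroup A] (hA : IsPGroup 2 A)
    (χ : (P : Subgroup Y) →* A)
    (hfus : ∀ (x y : (P : Subgroup Y)) (g : Y), g * (x : Y) * g⁻¹ = y → χ x = χ y)
    {W : Subgroup Y} (hWP : W ≤ (P : Subgroup Y)) (hker : ∀ x : (P : Subgroup Y), χ x = 1 → (x : Y) ∈ W)
    (hWK : W ≤ Cfsg.pResidual 2 Y) : Cfsg.pResidual 2 Y ⊓ (P : Subgroup Y) = W := by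
  have : Fact (Nat.Prime 2) := ⟨Nat.prime_two⟩
  obtain ⟨F, hF⟩ := Transfer.Tate.hom_extends_of_fusion (P : Subgroup Y) P.not_dvd_index hA χ hfus
  refine le_antisymm ?_ (le_inf hWK hWP)
  rintro g ⟨hg, hgP⟩
  have h1 : F g = 1 := Transfer.Residual.pResidual_le_ker hA F hg
  exact hker ⟨g, hgP⟩ (by rw [← hF, h1])

/-- The residual has no subgroup of index two. -/
theorem residual_index_ne_two (H : Subgroup (Cfsg.pResidual 2 Y)) : H.index ≠ 2 := by
  have : Fact (Nat.Prime 2) := ⟨Nat.prime_two⟩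
  intro h
  have hn : H.Normal := Subgroup.normal_of_index_eq_two h
  have hp : IsPGroup 2 (Cfsg.pResidual 2 Y ⧸ H) := IsPGroup.of_card (n := 1) (by
    rw [← Subgroup.index_eq_card, h, pow_one])
  have h1 : ∀ x : Cfsg.pResidual 2 Y, x ∈ H := by
    intro x
    rw [← QuotientGroup.eq_one_iff]
    exact Transfer.ResidualComplement.hom_pResidual_eq_one hp (QuotientGroup.mk' H) x
  rw [show H = ⊤ from by rw [eq_top_iff]; intro x _; exact h1 x, Subgroup.index_top] at h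
  omega

/-- Data: `W ≤ P` quasi-dihedral or wreathed with `O^2(Y) ∩ P = W`. -/
structure Dat (P : Sylow 2 Y) (W : Subgroup Y) : Prop where
  le : W ≤ (P : Subgroup Y)
  typ : Cfsg.IsQuasiDihedral W ∨ Cfsg.IsWreathed W
  inf : Cfsg.pResidual 2 Y ⊓ (P : Subgroup Y) = W

namespace Dat

variable {P : Sylow 2 Y} {W : Subgroup Y}

theorem le_residual (h : Dat P W) : W ≤ Cfsg.pResidual 2 Y := by
  rw [← h.inf]; exact inf_le_left

/-- `W` as a Sylow 2-subgroup of the residual. -/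
theorem exists_sylow (h : Dat P W) : ∃ Q : Sylow 2 (Cfsg.pResidual 2 Y),
    (Q : Subgroup (Cfsg.pResidual 2 Y)) = W.subgroupOf (Cfsg.pResidual 2 Y) := by
  have : Fact (Nat.Prime 2) := ⟨Nat.prime_two⟩
  have hn : (Cfsg.pResidual 2 Y).Normal := Transfer.Residual.pResidual_normal 2
  refine ⟨(Lib.SylowNormalInf.isPGroup_subgroupOf P (Cfsg.pResidual 2 Y)).toSylow
    (Lib.SylowNormalInf.not_dvd_relIndex P (Cfsg.pResidual 2 Y)), ?_⟩
  change (P : Subgroup Y).subgroupOf (Cfsg.pResidual 2 Y) = _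
  rw [← h.inf]
  ext x
  simp only [Subgroup.mem_subgroupOf, Subgroup.mem_inf, SetLike.coe_mem, true_and]

theorem typ_sylow (h : Dat P W) (Q : Sylow 2 (Cfsg.pResidual 2 Y))
    (hQ : (Q : Subgroup (Cfsg.pResidual 2 Y)) = W.subgroupOf (Cfsg.pResidual 2 Y)) :
    Cfsg.IsQuasiDihedral (Q : Subgroup (Cfsg.pResidual 2 Y)) ∨
      Cfsg.IsWreathed (Q : Subgroup (Cfsg.pResidual 2 Y)) := by
  have e : W ≃* (Q : Subgroup (Cfsg.pResidual 2 Y)) := by
    rw [hQ]; exact (Subgroup.subgroupOfEquivOfLe h.le_residual).symm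
  rcases h.typ with h1 | h1
  · exact Or.inl (TwoFusion.SylowTypeTransfer.isQuasiDihedral_of_mulEquiv e h1)
  · exact Or.inr (TwoFusion.SylowTypeTransfer.isWreathed_of_mulEquiv e h1)

/-- All involutions of the residual are conjugate in it. -/
theorem conj (h : Dat P W) {a b : Y} (ha : a ∈ Cfsg.pResidual 2 Y) (hb : b ∈ Cfsg.pResidual 2 Y)
    (ha2 : orderOf a = 2) (hb2 : orderOf b = 2) : ∃ g ∈ Cfsg.pResidual 2 Y, g * a * g⁻¹ = b := by
  obtain ⟨Q, hQ⟩ := h.exists_sylow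
  obtain ⟨c, hc⟩ := isConj_iff.1 (TwoFusion.OneClass.isConj_of_orderOf_two Q (h.typ_sylow Q hQ)
    residual_index_ne_two ⟨a, ha⟩ ⟨b, hb⟩ (by rw [Subgroup.orderOf_mk]; exact ha2)
    (by rw [Subgroup.orderOf_mk]; exact hb2))
  exact ⟨c, c.2, congrArg Subtype.val hc⟩

/-- The simple normal subgroup when `O(Y) = 1`. -/
theorem exists_simple (h : Dat P W) (hO : Cfsg.pPrimeCore 2 Y = ⊥) :
    ∃ L : Subgroup Y, L.Normal ∧ IsSimpleGroup L ∧ ¬ IsMulCommutative L ∧ L ≤ Cfsg.pResidual 2 Y ∧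
      Odd (L.relIndex (Cfsg.pResidual 2 Y)) ∧ W ≤ L ∧ L ⊓ (P : Subgroup Y) = W := by
  have : Fact (Nat.Prime 2) := ⟨Nat.prime_two⟩
  have hn : (Cfsg.pResidual 2 Y).Normal := Transfer.Residual.pResidual_normal 2
  obtain ⟨Q, hQ⟩ := h.exists_sylow
  have hO' : Cfsg.pPrimeCore 2 (Cfsg.pResidual 2 Y) = ⊥ := by
    have h1 := Lib.Cores.map_subtype_pPrimeCore (G := Y) 2 hn
    rw [hO, inf_bot_eq, Subgroup.map_eq_bot_iff_of_injective _ (Subgroup.subtype_injective _)] at h1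
    exact h1
  obtain ⟨L₀, hL₀n, hL₀o, hL₀s, hL₀c⟩ := TwoFusion.SimpleOddIndex.exists_simple_of_core_free Q
    (h.typ_sylow Q hQ) residual_index_ne_two hO'
  -- elements of 2-power order of `K` lie in `L₀`
  have h2 : ∀ s : Cfsg.pResidual 2 Y, ∀ k : ℕ, s ^ 2 ^ k = 1 → s ∈ L₀ := by
    intro s k hs
    rw [← QuotientGroup.eq_one_iff, ← orderOf_eq_one_iff]
    have h3 : orderOf (s : Cfsg.pResidual 2 Y ⧸ L₀) ∣ 2 ^ k := by
      apply orderOf_dvd_of_pow_eq_one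
      rw [← QuotientGroup.mk_pow, hs, QuotientGroup.mk_one]
    have h4 : orderOf (s : Cfsg.pResidual 2 Y ⧸ L₀) ∣ L₀.index := by
      rw [Subgroup.index_eq_card]; exact orderOf_dvd_natCard _
    have h5 : Nat.Coprime (2 ^ k) L₀.index :=
      Nat.Coprime.pow_left k (Nat.coprime_two_left.2 hL₀o)
    exact Nat.eq_one_of_dvd_coprimes h5 h3 h4
  have hWK : W ≤ Cfsg.pResidual 2 Y := h.le_residual
  -- the normal closure of `W`
  have hmapn : ∀ g : Y, ∀ s ∈ W, g * s * g⁻¹ ∈ L₀.map (Cfsg.pResidual 2 Y).subtype := by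
    intro g s hs
    have h3 : g * s * g⁻¹ ∈ Cfsg.pResidual 2 Y := hn.conj_mem _ (hWK hs) g
    obtain ⟨k, hk⟩ := P.isPGroup' ⟨s, h.le hs⟩
    have hk' : s ^ 2 ^ k = 1 := congrArg Subtype.val hk
    refine ⟨⟨_, h3⟩, h2 _ k ?_, rfl⟩
    apply Subtype.ext
    change (g * s * g⁻¹) ^ 2 ^ k = 1
    rw [conj_pow, hk', mul_one, mul_inv_cancel]
  have hcl : normalClosure (W : Set Y) ≤ L₀.map (Cfsg.pResidual 2 Y).subtype := by
    rw [normalClosure, closure_le]
    intro x hx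
    obtain ⟨s, hs, hc⟩ := Group.mem_conjugatesOfSet_iff.1 hx
    obtain ⟨g, hg⟩ := isConj_iff.1 hc
    rw [← hg]
    exact hmapn g s hs
  have hW1 : W ≠ ⊥ := by
    intro e
    have hc : Nat.card W = 1 := by rw [e, Subgroup.card_bot]
    rcases h.typ with ⟨n, hn3, hcard, -⟩ | ⟨n, hn2, hcard, -⟩ <;> rw [hc] at hcard
    · exact absurd hcard.symm (Nat.one_lt_two_pow (by omega)).ne'
    · exact absurd hcard.symm (Nat.one_lt_two_pow (by omega)).ne'
  have heq : normalClosure (W : Set Y) = L₀.map (Cfsg.pResidual 2 Y).subtype := by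
    refine le_antisymm hcl ?_
    -- its preimage in `L₀` is normal
    let M : Subgroup L₀ := (normalClosure (W : Set Y)).comap ((Cfsg.pResidual 2 Y).subtype.comp L₀.subtype)
    have hM : M.Normal := (normalClosure_normal).comap _
    rcases hL₀s.eq_bot_or_eq_top_of_normal M hM with hM1 | hM1
    · exfalso
      apply hW1
      rw [eq_bot_iff]
      intro s hs
      have h3 : (⟨s, hWK hs⟩ : Cfsg.pResidual 2 Y) ∈ L₀ := by
        obtain ⟨x, hx, hx2⟩ := hmapn 1 s hs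
        have : x = ⟨s, hWK hs⟩ := Subtype.ext (by simpa using hx2)
        rw [← this]; exact hx
      have h4 : (⟨⟨s, hWK hs⟩, h3⟩ : L₀) ∈ M := subset_normalClosure hs
      rw [hM1, Subgroup.mem_bot] at h4
      rw [Subgroup.mem_bot]
      exact congrArg (fun t : L₀ => ((t : Cfsg.pResidual 2 Y) : Y)) h4
    · rintro _ ⟨x, hx, rfl⟩
      have h3 : (⟨x, hx⟩ : L₀) ∈ M := by rw [hM1]; exact Subgroup.mem_top _
      exact h3
  have e : L₀ ≃* (L₀.map (Cfsg.pResidual 2 Y).subtype) := L₀.equivMapOfInjective (Cfsg.pResidual 2 Y).subtype (Cfsg.pResidual 2 Y).subtype_injective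
  have hWL : W ≤ L₀.map (Cfsg.pResidual 2 Y).subtype := heq ▸ subset_normalClosure
  refine ⟨L₀.map (Cfsg.pResidual 2 Y).subtype, heq ▸ normalClosure_normal, ?_, ?_, map_subtype_le _, ?_, hWL, ?_⟩
  · exact e.symm.isSimpleGroup
  · intro hc
    apply hL₀c
    refine ⟨⟨fun a b => ?_⟩⟩
    apply e.injective
    rw [map_mul, map_mul]
    exact hc.is_comm.comm _ _
  · have h5 : (L₀.map (Cfsg.pResidual 2 Y).subtype).relIndex (Cfsg.pResidual 2 Y) = L₀.index := by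
      rw [Subgroup.relIndex, Subgroup.subgroupOf, Subgroup.comap_map_eq_self_of_injective
        (Cfsg.pResidual 2 Y).subtype_injective]
    rw [h5]
    exact hL₀o
  · refine le_antisymm ?_ (le_inf hWL h.le)
    rw [← h.inf]
    exact inf_le_inf_right _ (map_subtype_le _)

end Dat

/-- A subgroup of `P` consisting of isolated elements is central when `O(Y) = 1`. -/
theorem le_center_of_isolated (hO : Cfsg.pPrimeCore 2 Y = ⊥) (P : Sylow 2 Y) (D : Subgroup Y)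
    (hD : D ≤ (P : Subgroup Y))
    (hiso : ∀ x ∈ D, ∀ g : Y, g * x * g⁻¹ ∈ (P : Subgroup Y) → g * x * g⁻¹ = x) :
    D ≤ Subgroup.center Y := by
  intro x hx
  rw [Subgroup.mem_center_iff]
  intro g
  have h1 := TwoFusion.IsolatedCenter.commutator_mem_oddCore (fun G _ _ P u hu huP hiso =>
    S0215.result P u hu huP hiso) (Nat.card Y) Y le_rfl P D hD hiso x hx g
  have h2 : x * g * x⁻¹ * g⁻¹ ∈ Cfsg.pPrimeCore 2 Y := h1
  rw [hO, Subgroup.mem_bot] at h2
  calc g * x = (x * g * x⁻¹ * g⁻¹)⁻¹ * (x * g) := by group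
    _ = x * g := by rw [h2, inv_one, one_mul]

/-- The centralizer of the simple normal subgroup. -/
theorem centralizer_eq (hO : Cfsg.pPrimeCore 2 Y = ⊥) (P : Sylow 2 Y) (W D L : Subgroup Y)
    (hLn : L.Normal) (hLs : IsSimpleGroup L) (hLc : ¬ IsMulCommutative L)
    (hLP : L ⊓ (P : Subgroup Y) = W) (hD : D ≤ Subgroup.center Y) (hP : (P : Subgroup Y) = W ⊔ D) :
    Subgroup.centralizer (L : Set Y) = D := by
  have : Fact (Nat.Prime 2) := ⟨Nat.prime_two⟩
  have hCn : (Subgroup.centralizer (L : Set Y)).Normal := by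
    have := hLn
    infer_instance
  have hDC : D ≤ Subgroup.centralizer (L : Set Y) := fun x hx => by
    rw [Subgroup.mem_centralizer_iff]
    intro g _
    exact Subgroup.mem_center_iff.1 (hD hx) g
  have hint : ∀ x ∈ L, x ∈ Subgroup.centralizer (L : Set Y) → x = 1 := by
    intro x hx hxC
    have h1 : (⟨x, hx⟩ : L) ∈ Subgroup.center L := by
      rw [Subgroup.mem_center_iff]
      intro g
      exact Subtype.ext (Subgroup.mem_centralizer_iff.1 hxC g g.2)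
    rcases hLs.eq_bot_or_eq_top_of_normal (Subgroup.center L) inferInstance with h2 | h2
    · rw [h2, Subgroup.mem_bot] at h1
      exact congrArg Subtype.val h1
    · exfalso
      apply hLc
      refine ⟨⟨fun a b => ?_⟩⟩
      have h3 : b ∈ Subgroup.center L := by rw [h2]; exact Subgroup.mem_top _
      exact Subgroup.mem_center_iff.1 h3 a
  have hPC : (P : Subgroup Y) ⊓ Subgroup.centralizer (L : Set Y) = D := by
    refine le_antisymm ?_ (le_inf (hP ▸ le_sup_right) hDC)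
    rintro p ⟨hp, hpC⟩
    have hDn : D.Normal := TwoFusion.IsolatedCenter.normal_of_le_center hD
    have hp' : p ∈ W ⊔ D := hP ▸ hp
    rw [Subgroup.mem_sup_of_normal_right] at hp'
    obtain ⟨w, hw, e, he, rfl⟩ := hp'
    have hwC : w ∈ Subgroup.centralizer (L : Set Y) := by
      have h5 : w * e ∈ Subgroup.centralizer (L : Set Y) := hpC
      have := mul_mem h5 (inv_mem (hDC he))
      rwa [mul_inv_cancel_right] at this
    rw [hint w (by rw [← hLP] at hw; exact hw.1) hwC, one_mul]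
    exact he
  set C := Subgroup.centralizer (L : Set Y) with hC
  have htop : D.subgroupOf C = ⊤ := by
    apply TwoFusion.IsolatedCenter.eq_top_of_central
    · intro x hx
      rw [Subgroup.mem_center_iff]
      intro g
      exact Subtype.ext (Subgroup.mem_center_iff.1 (hD (Subgroup.mem_subgroupOf.1 hx)) g)
    · have h1 : D ≤ (P : Subgroup Y) := hP ▸ le_sup_right
      exact (P.isPGroup'.to_le h1).comap_of_injective C.subtype C.subtype_injective
    · have h1 := Lib.SylowNormalInf.not_dvd_relIndex P C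
      rw [Subgroup.relIndex, ← Subgroup.inf_subgroupOf_right, hPC] at h1
      rwa [← Nat.not_even_iff_odd, even_iff_two_dvd]
    · have h1 := Lib.Cores.map_subtype_pPrimeCore (G := Y) 2 hCn
      rw [hO, inf_bot_eq, Subgroup.map_eq_bot_iff_of_injective _ (Subgroup.subtype_injective _)] at h1
      exact h1
  refine le_antisymm ?_ hDC
  rwa [Subgroup.subgroupOf_eq_top] at htop

/-- Elements of odd order normal subgroups lie in the residual. -/
theorem le_residual_of_odd (N : Subgroup Y) (hN : (Nat.card N).Coprime 2) : N ≤ Cfsg.pResidual 2 Y := by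
  intro x hx
  apply Transfer.Residual.mem_pResidual_of_coprime
  have h1 : orderOf x ∣ Nat.card N := by
    rw [← Subgroup.orderOf_mk x hx]; exact orderOf_dvd_natCard _
  exact Nat.Coprime.coprime_dvd_left h1 hN

theorem inf_eq_bot_of_odd (P : Sylow 2 Y) (N : Subgroup Y) (hN : (Nat.card N).Coprime 2) :
    (P : Subgroup Y) ⊓ N = ⊥ := by
  obtain ⟨k, hk⟩ := P.isPGroup'.exists_card_eq
  refine (Subgroup.disjoint_of_coprime_natCard ?_).eq_bot
  rw [hk]
  exact (Nat.Coprime.pow_right k hN).symm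

/-- The data pass to a quotient by a normal subgroup of odd order. -/
theorem Dat.quotient {P : Sylow 2 Y} {W : Subgroup Y} (h : Dat P W) (N : Subgroup Y) [N.Normal]
    (hN : (Nat.card N).Coprime 2) :
    Dat (P.mapSurjective (QuotientGroup.mk'_surjective N)) (W.map (QuotientGroup.mk' N)) := by
  have : Fact (Nat.Prime 2) := ⟨Nat.prime_two⟩
  refine ⟨?_, ?_, ?_⟩
  · rw [Sylow.coe_mapSurjective]
    exact Subgroup.map_mono h.le
  · let e : W →* W.map (QuotientGroup.mk' N) := (QuotientGroup.mk' N).subgroupMap W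
    have he : Function.Bijective e := by
      constructor
      · rw [injective_iff_map_eq_one]
        rintro ⟨x, hx⟩ h1
        have h2 : (QuotientGroup.mk' N) x = 1 := congrArg Subtype.val h1
        have h3 : x ∈ N := (QuotientGroup.eq_one_iff x).1 h2
        have h4 : x ∈ (P : Subgroup Y) ⊓ N := ⟨h.le hx, h3⟩
        rw [inf_eq_bot_of_odd P N hN, Subgroup.mem_bot] at h4
        exact Subtype.ext h4
      · exact (QuotientGroup.mk' N).subgroupMap_surjective W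
    rcases h.typ with h1 | h1
    · exact Or.inl (TwoFusion.SylowTypeTransfer.isQuasiDihedral_of_mulEquiv (MulEquiv.ofBijective e he) h1)
    · exact Or.inr (TwoFusion.SylowTypeTransfer.isWreathed_of_mulEquiv (MulEquiv.ofBijective e he) h1)
  · rw [← Transfer.Residual.map_pResidual_of_surjective (p := 2) (QuotientGroup.mk' N) (QuotientGroup.mk'_surjective N),
      Sylow.coe_mapSurjective]
    apply le_antisymm
    · intro q hq
      obtain ⟨⟨k, hk, hkq⟩, ⟨p, hp, hpq⟩⟩ := Subgroup.mem_inf.1 hq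
      refine ⟨p, ?_, hpq⟩
      have h1 : (QuotientGroup.mk' N) (k⁻¹ * p) = 1 := by
        rw [map_mul, map_inv, hkq, hpq, inv_mul_cancel]
      have h2 : k⁻¹ * p ∈ N := (QuotientGroup.eq_one_iff _).1 h1
      have h3 : p ∈ Cfsg.pResidual 2 Y := by
        have := mul_mem (show k ∈ Cfsg.pResidual 2 Y from hk) (le_residual_of_odd N hN h2)
        rwa [mul_inv_cancel_left] at this
      have h4 : p ∈ Cfsg.pResidual 2 Y ⊓ (P : Subgroup Y) := ⟨h3, hp⟩
      rw [h.inf] at h4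
      exact h4
    · exact le_inf (Subgroup.map_mono h.le_residual) (Subgroup.map_mono h.le)

/-- Isolated subgroups pass to a quotient by a normal subgroup of odd order. -/
theorem isolated_quotient (P : Sylow 2 Y) (D : Subgroup Y) (hD : D ≤ (P : Subgroup Y))
    (hiso : ∀ x ∈ D, ∀ g : Y, g * x * g⁻¹ ∈ (P : Subgroup Y) → g * x * g⁻¹ = x)
    (N : Subgroup Y) [N.Normal] :
    ∀ x ∈ D.map (QuotientGroup.mk' N), ∀ g : Y ⧸ N,
      g * x * g⁻¹ ∈ (P : Subgroup Y).map (QuotientGroup.mk' N) → g * x * g⁻¹ = x := by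
  have : Fact (Nat.Prime 2) := ⟨Nat.prime_two⟩
  rintro _ ⟨x, hx, rfl⟩ g hg
  obtain ⟨g, rfl⟩ := QuotientGroup.mk'_surjective N g
  obtain ⟨p, hp, hpq⟩ := hg
  have h1 : g * x * g⁻¹ ∈ (P : Subgroup Y) ⊔ N := by
    have h2 : (QuotientGroup.mk' N) (p⁻¹ * (g * x * g⁻¹)) = 1 := by
      rw [map_mul, map_inv, hpq, map_mul, map_mul, map_inv, inv_mul_cancel]
    have h3 : p⁻¹ * (g * x * g⁻¹) ∈ N := (QuotientGroup.eq_one_iff _).1 h2
    have := mul_mem (Subgroup.mem_sup_left (T := N) hp) (Subgroup.mem_sup_right (S := (P : Subgroup Y)) h3)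
    rwa [mul_inv_cancel_left] at this
  have h0 : ∃ k : ℕ, (g * x * g⁻¹) ^ 2 ^ k = 1 := by
    obtain ⟨k, hk⟩ := P.isPGroup' ⟨x, hD hx⟩
    have hk' : x ^ 2 ^ k = 1 := congrArg Subtype.val hk
    exact ⟨k, by rw [conj_pow, hk', mul_one, mul_inv_cancel]⟩
  obtain ⟨n, hn, hn2⟩ := TwoFusion.IsolatedCenter.exists_conj_mem P N (g * x * g⁻¹) h0 h1
  have h2 : n * (g * x * g⁻¹) * n⁻¹ = (n * g) * x * (n * g)⁻¹ := by group
  rw [h2] at hn2
  have h3 := hiso x hx (n * g) hn2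
  rw [← h2] at h3
  have h4 : (QuotientGroup.mk' N) n = 1 := (QuotientGroup.eq_one_iff n).2 hn
  have h5 := congrArg (QuotientGroup.mk' N) h3
  rw [map_mul, map_mul, map_inv, h4, one_mul, inv_one, mul_one, map_mul, map_mul, map_inv] at h5
  exact h5

/-- The structure of `Y / O(Y)`. -/
structure Out (P : Sylow 2 Y) (W D : Subgroup Y) (L : Subgroup (Y ⧸ Cfsg.pPrimeCore 2 Y)) : Prop where
  normal : L.Normal
  simple : IsSimpleGroup L
  noncomm : ¬ IsMulCommutative L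
  le_residual : L ≤ Cfsg.pResidual 2 (Y ⧸ Cfsg.pPrimeCore 2 Y)
  odd : Odd (L.relIndex (Cfsg.pResidual 2 (Y ⧸ Cfsg.pPrimeCore 2 Y)))
  W_le : W.map (QuotientGroup.mk' (Cfsg.pPrimeCore 2 Y)) ≤ L
  inf : L ⊓ (P : Subgroup Y).map (QuotientGroup.mk' (Cfsg.pPrimeCore 2 Y)) =
      W.map (QuotientGroup.mk' (Cfsg.pPrimeCore 2 Y))
  center : D.map (QuotientGroup.mk' (Cfsg.pPrimeCore 2 Y)) ≤ Subgroup.center (Y ⧸ Cfsg.pPrimeCore 2 Y)
  cent : Subgroup.centralizer (L : Set (Y ⧸ Cfsg.pPrimeCore 2 Y)) = D.map (QuotientGroup.mk' (Cfsg.pPrimeCore 2 Y))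

theorem exists_out (P : Sylow 2 Y) (W D : Subgroup Y) (h : Dat P W) (hP : (P : Subgroup Y) = W ⊔ D)
    (hiso : ∀ x ∈ D, ∀ g : Y, g * x * g⁻¹ ∈ (P : Subgroup Y) → g * x * g⁻¹ = x) :
    ∃ L, Out P W D L := by
  have hcop : (Nat.card (Cfsg.pPrimeCore 2 Y)).Coprime 2 := Lib.Cores.pPrimeCore_coprime 2
  have hO : Cfsg.pPrimeCore 2 (Y ⧸ Cfsg.pPrimeCore 2 Y) = ⊥ := Lib.Cores.pPrimeCore_quotient_pPrimeCore 2
  have hD : D ≤ (P : Subgroup Y) := hP ▸ le_sup_right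
  obtain ⟨L, h1, h2, h3, h4, h5, h6, h7⟩ := (h.quotient (Cfsg.pPrimeCore 2 Y) hcop).exists_simple hO
  rw [Sylow.coe_mapSurjective] at h7
  have hDc : D.map (QuotientGroup.mk' (Cfsg.pPrimeCore 2 Y)) ≤ Subgroup.center (Y ⧸ Cfsg.pPrimeCore 2 Y) := by
    refine le_center_of_isolated hO (P.mapSurjective (QuotientGroup.mk'_surjective _)) _ ?_ ?_
    · rw [Sylow.coe_mapSurjective]; exact Subgroup.map_mono hD
    · rw [Sylow.coe_mapSurjective]
      exact isolated_quotient P D hD hiso _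
  refine ⟨L, h1, h2, h3, h4, h5, h6, h7, hDc, ?_⟩
  refine centralizer_eq hO (P.mapSurjective (QuotientGroup.mk'_surjective _))
    (W.map (QuotientGroup.mk' (Cfsg.pPrimeCore 2 Y))) _ L h1 h2 h3 ?_ hDc ?_
  · rw [Sylow.coe_mapSurjective]; exact h7
  · rw [Sylow.coe_mapSurjective, hP, Subgroup.map_sup]

end Cfsg.Agent.LFourB.CentXTail
end

-- part: LFourFive/SixOf_mg
section
prune_inst 0x4243000000122000000180012200020045000000000600001d92005020006d3612902290178800e1211208e60200c002003540019001000000000020040040120802a32821140010420000180b887180c00000000000000000000000000041000000000000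
set_option linter.all false
open scoped Cfsg.Agent.FastGrp

-- part: LFourFive/Sys
section
/-!
# Statement S0510, type B5, `|F| = 5`: the system of the twelve root groups of `SL₄`

`zz z e i j` = the central involution of `K i j` (`z = z₀₁ = z₂₃`, `e = z₀₂ = z₁₃`, `e z = z₀₃ = z₁₂`).
`Sys p X z e` = the output of steps (1)-(5) of the pencil: the input of step (6).
`Base p X z e` = the same facts at one base tuple together with the action of the symmetric group on the labels.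
Indices are `0`-based: `X 0 2` is the root group `X₁₃`.
-/

set_option autoImplicit false

namespace Cfsg.Agent.LFourFive

open Matrix

universe u

variable {G : Type u} [Group G]

/-- conjugate subgroup `g H g⁻¹` -/
def cj (g : G) (H : Subgroup G) : Subgroup G := H.map (MulAut.conj g).toMonoidHom

/-- the three involutions of `V`, as central involutions of the `K i j` -/
def zz (z e : G) : Fin 4 → Fin 4 → G :=
  ![![1, z, e, e * z], ![z, 1, e * z, e], ![e, e * z, 1, z], ![e * z, e, z, 1]]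

/-- `K i j = ⟨X i j, X j i⟩` -/
def K (X : Fin 4 → Fin 4 → Subgroup G) (i j : Fin 4) : Subgroup G := X i j ⊔ X j i

/-- **Input of step (6)**: root groups `X i j` of order `p` with the Chevalley relations of `SL₄`, the four-group
`V = {1, z, e, e z}`, and the shape of the centralisers of the root groups. -/
structure Sys (p : ℕ) (X : Fin 4 → Fin 4 → Subgroup G) (z e : G) : Prop where
  sqz : z * z = 1
  sqe : e * e = 1
  ze : z * e = e * z
  card : ∀ i j, i ≠ j → Nat.card (X i j) = p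
  iso : ∀ i j, i ≠ j → Nonempty (K X i j ≃* SpecialLinearGroup (Fin 2) (ZMod p))
  z_mem : ∀ i j, i ≠ j → zz z e i j ∈ K X i j
  z_ne : ∀ i j, i ≠ j → zz z e i j ≠ 1
  z_fix : ∀ i j, i ≠ j → ∀ x ∈ X i j, zz z e i j * x = x * zz z e i j
  z_row : ∀ i j k, i ≠ j → j ≠ k → i ≠ k → ∀ x ∈ X i k, zz z e i j * x * (zz z e i j)⁻¹ = x⁻¹
  z_col : ∀ i j k, i ≠ j → j ≠ k → i ≠ k → ∀ x ∈ X k i, zz z e i j * x * (zz z e i j)⁻¹ = x⁻¹
  row : ∀ i j k, i ≠ j → j ≠ k → i ≠ k → ∀ x ∈ X i j, ∀ y ∈ X i k, x * y = y * x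
  col : ∀ i j k, i ≠ j → j ≠ k → i ≠ k → ∀ x ∈ X i j, ∀ y ∈ X k j, x * y = y * x
  opp : ∀ i j k l, i ≠ j → i ≠ k → i ≠ l → j ≠ k → j ≠ l → k ≠ l → ∀ x ∈ X i j, ∀ y ∈ X k l, x * y = y * x
  com : ∀ i j k, i ≠ j → j ≠ k → i ≠ k → ∀ x ∈ X i j, ∀ y ∈ X j k, x * y * x⁻¹ * y⁻¹ ∈ X i k
  core : ∀ i j k l, i ≠ j → i ≠ k → i ≠ l → j ≠ k → j ≠ l → k ≠ l → ∃ Q : Subgroup G,
    Odd (Nat.card Q) ∧
    (∀ g : G, (∀ x ∈ X i j, g * x = x * g) → ∃ q ∈ Q, ∃ k' ∈ K X k l, g = q * k') ∧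
    (∀ q ∈ Q, q * zz z e i j = zz z e i j * q → q ∈ X i j) ∧
    (∀ a ∈ Q, ∀ b ∈ Q, a * b * a⁻¹ * b⁻¹ ∈ X i j) ∧
    X i k ≤ Q ∧ X i l ≤ Q ∧ X k j ≤ Q ∧ X l j ≤ Q

/-- The facts of `Sys` at the base labels `(i, j, k, l) = (0, 2, 1, 3)`, and the action of `S₄` on the labels. -/
structure Base (p : ℕ) (X : Fin 4 → Fin 4 → Subgroup G) (z e : G) : Prop where
  sqz : z * z = 1
  sqe : e * e = 1
  ze : z * e = e * z
  act : ∀ σ : Equiv.Perm (Fin 4), ∃ s : G,
    (∀ i j, i ≠ j → cj s (X i j) = X (σ i) (σ j)) ∧ ∀ i j, i ≠ j → s * zz z e i j * s⁻¹ = zz z e (σ i) (σ j)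
  card : Nat.card (X 0 2) = p
  iso : Nonempty (K X 0 2 ≃* SpecialLinearGroup (Fin 2) (ZMod p))
  z_mem : e ∈ K X 0 2
  z_ne : e ≠ 1
  z_fix : ∀ x ∈ X 0 2, e * x = x * e
  z_row : ∀ x ∈ X 0 2, z * x * z⁻¹ = x⁻¹
  row : ∀ x ∈ X 0 2, ∀ y ∈ X 0 3, x * y = y * x
  col : ∀ x ∈ X 0 2, ∀ y ∈ X 1 2, x * y = y * x
  opp : ∀ x ∈ X 0 2, ∀ y ∈ X 1 3, x * y = y * x
  com : ∀ x ∈ X 0 1, ∀ y ∈ X 1 2, x * y * x⁻¹ * y⁻¹ ∈ X 0 2
  core : ∃ Q : Subgroup G,
    Odd (Nat.card Q) ∧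
    (∀ g : G, (∀ x ∈ X 0 2, g * x = x * g) → ∃ q ∈ Q, ∃ k' ∈ K X 1 3, g = q * k') ∧
    (∀ q ∈ Q, q * e = e * q → q ∈ X 0 2) ∧
    (∀ a ∈ Q, ∀ b ∈ Q, a * b * a⁻¹ * b⁻¹ ∈ X 0 2) ∧
    X 0 1 ≤ Q ∧ X 0 3 ≤ Q ∧ X 1 2 ≤ Q ∧ X 3 2 ≤ Q

end Cfsg.Agent.LFourFive
end

-- part: LFourFive/SixOf
section
/-!
# From the base labels to all labels

`sys_of_base : Base p X z e → Sys p X z e`; `act_of_gens`: the action of `S₄` on the labels from three generators.
-/

set_option autoImplicit false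
set_option linter.unusedVariables false

namespace Cfsg.Agent.LFourFive.SixOf

open Matrix

universe u

variable {G : Type u} [Group G] {p : ℕ} {X : Fin 4 → Fin 4 → Subgroup G} {z e : G}

theorem mem_cj {g x : G} {H : Subgroup G} (hx : x ∈ H) : g * x * g⁻¹ ∈ cj g H := ⟨x, hx, rfl⟩

theorem cj_mono {g : G} {H L : Subgroup G} (h : H ≤ L) : cj g H ≤ cj g L := Subgroup.map_mono h

theorem cj_cj (g h : G) (H : Subgroup G) : cj g (cj h H) = cj (g * h) H := by
  rw [cj, cj, cj, Subgroup.map_map]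
  congr 1
  ext x
  show g * (h * x * h⁻¹) * g⁻¹ = g * h * x * (g * h)⁻¹
  group

theorem cj_sup (g : G) (H L : Subgroup G) : cj g (H ⊔ L) = cj g H ⊔ cj g L := Subgroup.map_sup _ _ _

theorem card_cj (g : G) (H : Subgroup G) : Nat.card (cj g H) = Nat.card H :=
  Subgroup.card_map_of_injective (MulAut.conj g).injective

theorem exists_perm : ∀ i j k l : Fin 4, i ≠ j → i ≠ k → i ≠ l → j ≠ k → j ≠ l → k ≠ l →
    ∃ σ : Equiv.Perm (Fin 4), σ 0 = i ∧ σ 2 = j ∧ σ 1 = k ∧ σ 3 = l := by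
  intro i j k l h1 h2 h3 h4 h5 h6
  have hinj : Function.Injective (![i, k, j, l] : Fin 4 → Fin 4) := by
    intro a b hab
    fin_cases a <;> fin_cases b <;> first | rfl | (exfalso; revert hab; simp [h1, h2, h3, h4, h5, h6, Ne.symm h1, Ne.symm h2, Ne.symm h3, Ne.symm h4, Ne.symm h5, Ne.symm h6])
  exact ⟨Equiv.ofBijective _ (Finite.injective_iff_bijective.1 hinj), rfl, rfl, rfl, rfl⟩

theorem exists_fourth : ∀ i j k : Fin 4, i ≠ j → i ≠ k → j ≠ k → ∃ l, i ≠ l ∧ j ≠ l ∧ k ≠ l := by decide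

theorem exists_third : ∀ i j : Fin 4, i ≠ j → ∃ k, i ≠ k ∧ j ≠ k := by decide

theorem exists_perm3 (i j k : Fin 4) (h1 : i ≠ j) (h2 : i ≠ k) (h3 : j ≠ k) :
    ∃ σ : Equiv.Perm (Fin 4), σ 0 = i ∧ σ 2 = j ∧ σ 1 = k := by
  obtain ⟨l, h4, h5, h6⟩ := exists_fourth i j k h1 h2 h3
  obtain ⟨σ, e1, e2, e3, -⟩ := exists_perm i j k l h1 h2 h4 h3 h5 h6
  exact ⟨σ, e1, e2, e3⟩

theorem exists_perm2 (i j : Fin 4) (h1 : i ≠ j) : ∃ σ : Equiv.Perm (Fin 4), σ 0 = i ∧ σ 2 = j := by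
  obtain ⟨k, h2, h3⟩ := exists_third i j h1
  obtain ⟨σ, e1, e2, -⟩ := exists_perm3 i j k h1 h2 h3
  exact ⟨σ, e1, e2⟩

theorem n02 : (0 : Fin 4) ≠ 2 := by decide
theorem n01 : (0 : Fin 4) ≠ 1 := by decide
theorem n03 : (0 : Fin 4) ≠ 3 := by decide
theorem n12 : (1 : Fin 4) ≠ 2 := by decide
theorem n13 : (1 : Fin 4) ≠ 3 := by decide
theorem n23 : (2 : Fin 4) ≠ 3 := by decide

theorem sys_of_base (h : Base p X z e) : Sys p X z e where
  sqz := h.sqz
  sqe := h.sqe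
  ze := h.ze
  card i j hij := by
    obtain ⟨σ, rfl, rfl⟩ := exists_perm2 i j hij
    obtain ⟨s, hs, -⟩ := h.act σ
    rw [← hs 0 2 n02, card_cj, h.card]
  iso i j hij := by
    obtain ⟨σ, rfl, rfl⟩ := exists_perm2 i j hij
    obtain ⟨s, hs, -⟩ := h.act σ
    obtain ⟨f⟩ := h.iso
    have e1 : K X (σ 0) (σ 2) = cj s (K X 0 2) := by
      rw [K, K, cj_sup, hs 0 2 n02, hs 2 0 n02.symm]
    rw [e1]
    exact ⟨((K X 0 2).equivMapOfInjective _ (MulAut.conj s).injective).symm.trans f⟩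
  z_mem i j hij := by
    obtain ⟨σ, rfl, rfl⟩ := exists_perm2 i j hij
    obtain ⟨s, hs, ht⟩ := h.act σ
    have e1 : K X (σ 0) (σ 2) = cj s (K X 0 2) := by
      rw [K, K, cj_sup, hs 0 2 n02, hs 2 0 n02.symm]
    rw [e1, ← ht 0 2 n02]
    exact mem_cj h.z_mem
  z_ne i j hij := by
    obtain ⟨σ, rfl, rfl⟩ := exists_perm2 i j hij
    obtain ⟨s, hs, ht⟩ := h.act σ
    rw [← ht 0 2 n02]
    intro h1
    rw [mul_inv_eq_one, mul_eq_left] at h1
    exact h.z_ne h1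
  z_fix i j hij x hx := by
    obtain ⟨σ, rfl, rfl⟩ := exists_perm2 i j hij
    obtain ⟨s, hs, ht⟩ := h.act σ
    rw [← hs 0 2 n02] at hx
    obtain ⟨y, hy, rfl⟩ := hx
    rw [← ht 0 2 n02]
    show s * e * s⁻¹ * (s * y * s⁻¹) = s * y * s⁻¹ * (s * e * s⁻¹)
    have h1 := h.z_fix y hy
    calc s * e * s⁻¹ * (s * y * s⁻¹) = s * (e * y) * s⁻¹ := by group
      _ = s * (y * e) * s⁻¹ := by rw [h1]
      _ = _ := by group
  z_row i j k hij hjk hik x hx := by
    obtain ⟨σ, rfl, rfl, rfl⟩ := exists_perm3 i k j hik hij hjk.symm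
    obtain ⟨s, hs, ht⟩ := h.act σ
    rw [← hs 0 2 n02] at hx
    obtain ⟨y, hy, rfl⟩ := hx
    rw [← ht 0 1 n01]
    show s * z * s⁻¹ * (s * y * s⁻¹) * (s * z * s⁻¹)⁻¹ = (s * y * s⁻¹)⁻¹
    calc s * z * s⁻¹ * (s * y * s⁻¹) * (s * z * s⁻¹)⁻¹ = s * (z * y * z⁻¹) * s⁻¹ := by group
      _ = s * y⁻¹ * s⁻¹ := by rw [h.z_row y hy]
      _ = _ := by group
  z_col i j k hij hjk hik x hx := by
    obtain ⟨l, h1, h2, h3⟩ := exists_fourth i j k hij hik hjk
    obtain ⟨σ, rfl, rfl, rfl, rfl⟩ := exists_perm k i l j hik.symm h3 hjk.symm h1 hij h2.symm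
    obtain ⟨s, hs, ht⟩ := h.act σ
    rw [← hs 0 2 n02] at hx
    obtain ⟨y, hy, rfl⟩ := hx
    rw [← ht 2 3 n23]
    show s * z * s⁻¹ * (s * y * s⁻¹) * (s * z * s⁻¹)⁻¹ = (s * y * s⁻¹)⁻¹
    calc s * z * s⁻¹ * (s * y * s⁻¹) * (s * z * s⁻¹)⁻¹ = s * (z * y * z⁻¹) * s⁻¹ := by group
      _ = s * y⁻¹ * s⁻¹ := by rw [h.z_row y hy]
      _ = _ := by group
  row i j k hij hjk hik x hx y hy := by
    obtain ⟨l, h1, h2, h3⟩ := exists_fourth i j k hij hik hjk
    obtain ⟨σ, rfl, rfl, rfl, rfl⟩ := exists_perm i j l k hij h1 hik h2 hjk h3.symm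
    obtain ⟨s, hs, ht⟩ := h.act σ
    rw [← hs 0 2 n02] at hx
    obtain ⟨x, hx, rfl⟩ := hx
    rw [← hs 0 3 n03] at hy
    obtain ⟨y, hy, rfl⟩ := hy
    rw [← map_mul, ← map_mul, h.row x hx y hy]
  col i j k hij hjk hik x hx y hy := by
    obtain ⟨σ, rfl, rfl, rfl⟩ := exists_perm3 i j k hij hik hjk
    obtain ⟨s, hs, ht⟩ := h.act σ
    rw [← hs 0 2 n02] at hx
    obtain ⟨x, hx, rfl⟩ := hx
    rw [← hs 1 2 n12] at hy
    obtain ⟨y, hy, rfl⟩ := hy
    rw [← map_mul, ← map_mul, h.col x hx y hy]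
  opp i j k l h1 h2 h3 h4 h5 h6 x hx y hy := by
    obtain ⟨σ, rfl, rfl, rfl, rfl⟩ := exists_perm i j k l h1 h2 h3 h4 h5 h6
    obtain ⟨s, hs, ht⟩ := h.act σ
    rw [← hs 0 2 n02] at hx
    obtain ⟨x, hx, rfl⟩ := hx
    rw [← hs 1 3 n13] at hy
    obtain ⟨y, hy, rfl⟩ := hy
    rw [← map_mul, ← map_mul, h.opp x hx y hy]
  com i j k hij hjk hik x hx y hy := by
    obtain ⟨σ, rfl, rfl, rfl⟩ := exists_perm3 i k j hik hij hjk.symm
    obtain ⟨s, hs, ht⟩ := h.act σ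
    rw [← hs 0 1 n01] at hx
    obtain ⟨x, hx, rfl⟩ := hx
    rw [← hs 1 2 n12] at hy
    obtain ⟨y, hy, rfl⟩ := hy
    rw [← map_inv, ← map_inv, ← map_mul, ← map_mul, ← map_mul, ← hs 0 2 n02]
    exact ⟨_, h.com x hx y hy, rfl⟩
  core i j k l h1 h2 h3 h4 h5 h6 := by
    obtain ⟨σ, rfl, rfl, rfl, rfl⟩ := exists_perm i j k l h1 h2 h3 h4 h5 h6
    obtain ⟨s, hs, ht⟩ := h.act σ
    obtain ⟨Q, q1, q2, q3, q4, q5, q6, q7, q8⟩ := h.core
    refine ⟨cj s Q, ?_, ?_, ?_, ?_, ?_, ?_, ?_, ?_⟩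
    · rw [card_cj]; exact q1
    · intro g hg
      obtain ⟨q, hq, k', hk', hqk⟩ := q2 (s⁻¹ * g * s) (by
        intro x hx
        have h7 : s * x * s⁻¹ ∈ X (σ 0) (σ 2) := by
          rw [← hs 0 2 n02]; exact mem_cj hx
        have h8 := hg _ h7
        calc s⁻¹ * g * s * x = s⁻¹ * (g * (s * x * s⁻¹)) * s := by group
          _ = s⁻¹ * (s * x * s⁻¹ * g) * s := by rw [h8]
          _ = _ := by group)
      refine ⟨s * q * s⁻¹, mem_cj hq, s * k' * s⁻¹, ?_, ?_⟩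
      · have e1 : K X (σ 1) (σ 3) = cj s (K X 1 3) := by
          rw [K, K, cj_sup, hs 1 3 n13, hs 3 1 n13.symm]
        rw [e1]; exact mem_cj hk'
      · calc g = s * (s⁻¹ * g * s) * s⁻¹ := by group
          _ = s * (q * k') * s⁻¹ := by rw [hqk]
          _ = _ := by group
    · rintro _ ⟨q, hq, rfl⟩ hc
      rw [← ht 0 2 n02] at hc
      rw [← hs 0 2 n02]
      refine ⟨q, q3 q hq ?_, rfl⟩
      have h7 : (MulAut.conj s) (q * e) = (MulAut.conj s) (e * q) := by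
        rw [map_mul, map_mul]; exact hc
      exact (MulAut.conj s).injective h7
    · rintro _ ⟨a, ha, rfl⟩ _ ⟨b, hb, rfl⟩
      rw [← map_inv, ← map_inv, ← map_mul, ← map_mul, ← map_mul, ← hs 0 2 n02]
      exact ⟨_, q4 a ha b hb, rfl⟩
    · rw [← hs 0 1 n01]; exact cj_mono q5
    · rw [← hs 0 3 n03]; exact cj_mono q6
    · rw [← hs 1 2 n12]; exact cj_mono q7
    · rw [← hs 3 2 n23.symm]; exact cj_mono q8

/-- `σ` is induced on the labels by an element of the group -/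
def Act (X : Fin 4 → Fin 4 → Subgroup G) (z e : G) (σ : Equiv.Perm (Fin 4)) : Prop :=
  ∃ s : G, (∀ i j, i ≠ j → cj s (X i j) = X (σ i) (σ j)) ∧ ∀ i j, i ≠ j → s * zz z e i j * s⁻¹ = zz z e (σ i) (σ j)

theorem act_one : Act X z e 1 :=
  ⟨1, fun i j _ => by
    ext x
    rw [cj]
    simp, fun i j _ => by simp⟩

theorem act_mul {σ τ : Equiv.Perm (Fin 4)} (h1 : Act X z e σ) (h2 : Act X z e τ) : Act X z e (σ * τ) := by
  obtain ⟨s, hs, hs'⟩ := h1
  obtain ⟨t, ht, ht'⟩ := h2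
  refine ⟨s * t, ?_, ?_⟩
  · intro i j hij
    rw [← cj_cj, ht i j hij, hs _ _ (τ.injective.ne hij)]
    rfl
  · intro i j hij
    have e1 : s * t * zz z e i j * (s * t)⁻¹ = s * (t * zz z e i j * t⁻¹) * s⁻¹ := by group
    rw [e1, ht' i j hij, hs' _ _ (τ.injective.ne hij)]
    rfl

/-- the 3-cycle `2 → 1 → 0 → 2` -/
def cyc : Equiv.Perm (Fin 4) := Equiv.swap 0 1 * Equiv.swap 0 2

theorem swap_eq : (Equiv.swap 1 2 : Equiv.Perm (Fin 4)) = cyc * cyc * Equiv.swap 0 1 * cyc := by decide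

/-- the three generators `n₁`, `n₂`, `g` suffice -/
theorem act_of_gens (h1 : Act X z e (Equiv.swap 0 1)) (h2 : Act X z e (Equiv.swap 2 3)) (h3 : Act X z e cyc)
    (σ : Equiv.Perm (Fin 4)) : Act X z e σ := by
  have h4 : Act X z e (Equiv.swap 1 2) := by
    rw [swap_eq]
    exact act_mul (act_mul (act_mul h3 h3) h1) h3
  have hσ : σ ∈ Submonoid.closure (Set.range fun i : Fin 3 ↦ Equiv.swap i.castSucc i.succ) := by
    rw [Equiv.Perm.mclosure_swap_castSucc_succ]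
    trivial
  refine Submonoid.closure_induction (motive := fun σ _ => Act X z e σ) ?_ act_one (fun _ _ _ _ => act_mul) hσ
  rintro _ ⟨i, rfl⟩
  fin_cases i
  · exact h1
  · exact h4
  · exact h2

end Cfsg.Agent.LFourFive.SixOf
end

-- part: LFourFive/StepFive
section
/-!
# `L4(5)`: the commutator relation `[X_ij, X_jk] ≤ X_ik` (step (5) of helper317's pencil)

`X` of odd order, abelian, `C(X) ∩ C(e) = X K` with `e` the only involution of `K`, `K` without normal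
subgroups of odd order.  By the `Z*`-theorem `C(X) = O(C(X)) K`, and `e` inverts `O(C(X)) / X`.
-/

set_option autoImplicit false
open Cfsg

namespace Cfsg.Agent.LFourFive.StepFive

open Subgroup

universe u

variable {G : Type u} [Group G]

/-- `C(X) ∩ C(e) = X K`, `e` is the only involution of `K`, `O(K) = 1`. -/
structure Cen (e : G) (X K : Subgroup G) : Prop where
  ne : e ≠ 1
  ee : e * e = 1
  odd : Odd (Nat.card X)
  eX : ∀ x ∈ X, e * x = x * e
  ab : ∀ x ∈ X, ∀ y ∈ X, x * y = y * x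
  KX : ∀ k ∈ K, ∀ x ∈ X, k * x = x * k
  uniq : ∀ k ∈ K, k * k = 1 → k = 1 ∨ k = e
  core : ∀ N : Subgroup G, N ≤ K → Odd (Nat.card N) → (∀ k ∈ K, ∀ n ∈ N, k * n * k⁻¹ ∈ N) → N = ⊥
  cent : ∀ y, (∀ x ∈ X, y * x = x * y) → y * e = e * y → ∃ x ∈ X, ∃ k ∈ K, y = x * k

/-- the core `Q` of `C(X)` -/
structure Core (e : G) (X K Q : Subgroup G) : Prop where
  X_le : X ≤ Q
  le_cent : Q ≤ centralizer (X : Set G)
  odd : Odd (Nat.card Q)
  norm : ∀ y ∈ centralizer (X : Set G), ∀ q ∈ Q, y * q * y⁻¹ ∈ Q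
  fix : ∀ q ∈ Q, e * q = q * e → q ∈ X
  inv : ∀ q ∈ Q, e * q * e⁻¹ * q ∈ X
  comm : ∀ a ∈ Q, ∀ b ∈ Q, a * b * a⁻¹ * b⁻¹ ∈ X
  mem : ∀ y ∈ centralizer (X : Set G), Odd (orderOf y) → e * y * e⁻¹ = y⁻¹ → y ∈ Q
  exists_mul : ∀ y ∈ centralizer (X : Set G), ∃ q ∈ Q, ∃ k ∈ K, y = q * k

variable {e : G} {X K : Subgroup G}

theorem mem_cent {y : G} : y ∈ centralizer (X : Set G) ↔ ∀ x ∈ X, y * x = x * y := by
  rw [mem_centralizer_iff]
  exact ⟨fun h x hx => (h x hx).symm, fun h x hx => (h x hx).symm⟩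

theorem pow_card_eq {x : G} (hx : x ∈ X) : x ^ Nat.card X = 1 :=
  congrArg Subtype.val (pow_card_eq_one' (x := (⟨x, hx⟩ : X)))

theorem Cen.einv (h : Cen e X K) : e⁻¹ = e := inv_eq_of_mul_eq_one_left h.ee

theorem Cen.e_mem (h : Cen e X K) : e ∈ centralizer (X : Set G) := mem_cent.mpr h.eX

theorem Cen.eq_of_comm (h : Cen e X K) {y : G} (hy : y ∈ centralizer (X : Set G))
    (hye : y * e = e * y) (hyy : y * y = 1) : y = 1 ∨ y = e := by
  obtain ⟨x, hx, k, hk, rfl⟩ := h.cent y (mem_cent.mp hy) hye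
  obtain ⟨m, hm⟩ := h.odd
  have hxm : x ^ Nat.card X = 1 := pow_card_eq hx
  have hc : Commute x k := (h.KX k hk x hx).symm
  have h1 : (x * k) ^ Nat.card X = x * k := by
    rw [hm, pow_succ, pow_mul, pow_two, hyy, one_pow, one_mul]
  have h2 : (x * k) ^ Nat.card X = k ^ Nat.card X := by rw [hc.mul_pow, hxm, one_mul]
  have hk' : x * k ∈ K := by rw [← h1, h2]; exact K.pow_mem hk _
  exact h.uniq _ hk' hyy

/-- the product of `e` with a conjugate in `C(X)` has odd order -/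
theorem Cen.odd_mul [Finite G] (h : Cen e X K) {g : G} (hg : g ∈ centralizer (X : Set G)) :
    Odd (orderOf (e * (g * e * g⁻¹))) := by
  set t := g * e * g⁻¹ with ht
  have htt : t * t = 1 := by
    calc t * t = g * (e * e) * g⁻¹ := by rw [ht]; group
      _ = 1 := by rw [h.ee]; group
  have hti : t⁻¹ = t := inv_eq_of_mul_eq_one_left htt
  have het : t ∈ centralizer (X : Set G) := mul_mem (mul_mem hg h.e_mem) (inv_mem hg)
  by_contra hodd
  rw [Nat.not_odd_iff_even] at hodd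
  obtain ⟨m, hm⟩ := hodd
  have hpos : 0 < orderOf (e * t) := orderOf_pos _
  set y := (e * t) ^ m with hy
  have hyc : y ∈ centralizer (X : Set G) := pow_mem (mul_mem h.e_mem het) _
  have hyy : y * y = 1 := by rw [hy, ← pow_add, ← hm, pow_orderOf_eq_one]
  have hyi : y⁻¹ = y := inv_eq_of_mul_eq_one_left hyy
  have hy1 : y ≠ 1 := by
    intro h1
    have := orderOf_dvd_of_pow_eq_one h1
    have := Nat.le_of_dvd (by omega) this
    omega
  have hye : y * e = e * y := by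
    have h1 : e * y * e⁻¹ = y⁻¹ := by
      rw [hy, ← conj_pow, ← inv_pow]
      congr 1
      rw [mul_inv_rev, hti, h.einv, ← mul_assoc, h.ee, one_mul]
    rw [hyi] at h1
    calc y * e = (e * y * e⁻¹) * e := by rw [h1]
      _ = e * y := by group
  have hyt : y * t = t * y := by
    have h1 : t * y * t⁻¹ = y⁻¹ := by
      rw [hy, ← conj_pow, ← inv_pow]
      congr 1
      calc t * (e * t) * t⁻¹ = t * e := by group
        _ = (e * t)⁻¹ := by rw [mul_inv_rev, hti, h.einv]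
    rw [hyi] at h1
    calc y * t = (t * y * t⁻¹) * t := by rw [h1]
      _ = t * y := by group
  have hy2 : y = e := (h.eq_of_comm hyc hye hyy).resolve_left hy1
  have hy3 : y = t := by
    have h2 := h.eq_of_comm (y := g⁻¹ * y * g) (mul_mem (mul_mem (inv_mem hg) hyc) hg) (by
      have : g⁻¹ * (y * t) * g = g⁻¹ * (t * y) * g := by rw [hyt]
      rw [ht] at this
      simpa [mul_assoc] using this) (by
      calc g⁻¹ * y * g * (g⁻¹ * y * g) = g⁻¹ * (y * y) * g := by group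
        _ = 1 := by rw [hyy]; group)
    rcases h2 with h2 | h2
    · exfalso; apply hy1
      calc y = g * (g⁻¹ * y * g) * g⁻¹ := by group
        _ = 1 := by rw [h2]; group
    · calc y = g * (g⁻¹ * y * g) * g⁻¹ := by group
        _ = t := by rw [h2]
  rw [← hy2, ← hy3, hyy, orderOf_one] at hm
  omega

theorem exists_half {q : G} (h : Odd (orderOf q)) : ∃ n : ℕ, (q ^ n) * (q ^ n) = q := by
  obtain ⟨m, hm⟩ := h
  refine ⟨m + 1, ?_⟩
  rw [← pow_add, show m + 1 + (m + 1) = (2 * m + 1) + 1 by ring, pow_succ, ← hm,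
    pow_orderOf_eq_one, one_mul]

theorem odd_orderOf [Finite G] {Q : Subgroup G} (h : Odd (Nat.card Q)) {q : G} (hq : q ∈ Q) :
    Odd (orderOf q) :=
  Odd.of_dvd_nat h (orderOf_dvd_of_pow_eq_one (pow_card_eq hq))

theorem Cen.exists_core [Finite G] (h : Cen e X K) : ∃ Q : Subgroup G, Core e X K Q := by
  classical
  let Y : Subgroup G := centralizer (X : Set G)
  let e' : Y := ⟨e, h.e_mem⟩
  have hiso : Cfsg.Agent.Involutions.ZStar.Iso e' := by
    refine ⟨Subtype.ext h.ee, fun g => ?_⟩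
    rw [← Subgroup.orderOf_coe]
    exact h.odd_mul g.2
  have hz := Cfsg.Agent.S0215.iso_commutator e' hiso
  let N : Subgroup Y := pPrimeCore 2 Y
  have hN : N.Normal := Cfsg.Agent.Lib.Cores.pPrimeCore_normal 2
  have hNo : Odd (Nat.card N) :=
    Nat.coprime_two_right.mp (Cfsg.Agent.Lib.Cores.pPrimeCore_coprime 2)
  let Q : Subgroup G := N.map Y.subtype
  have hQY : Q ≤ Y := by
    rintro _ ⟨y, _, rfl⟩; exact y.2
  have hmem : ∀ {y : G} (hy : y ∈ Y), y ∈ Q ↔ (⟨y, hy⟩ : Y) ∈ N := by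
    intro y hy
    constructor
    · rintro ⟨y', hy', h1⟩
      have : y' = ⟨y, hy⟩ := Subtype.ext h1
      rw [← this]; exact hy'
    · intro h1; exact ⟨_, h1, rfl⟩
  have hQo : Odd (Nat.card Q) := by
    rw [Nat.card_congr (N.equivMapOfInjective Y.subtype Y.subtype_injective).toEquiv.symm]
    exact hNo
  have hKY : K ≤ Y := fun k hk => mem_cent.mpr (h.KX k hk)
  have hXY : X ≤ Y := fun x hx => mem_cent.mpr (fun y hy => h.ab x hx y hy)
  have hXQ : X ≤ Q := by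
    have h1 : X.subgroupOf Y ≤ N := by
      apply Cfsg.Agent.Lib.Cores.le_pPrimeCore
      · refine ⟨fun x hx g => ?_⟩
        rw [mem_subgroupOf] at hx ⊢
        have := mem_cent.mp g.2 x hx
        rw [Subgroup.coe_mul, Subgroup.coe_mul, this, Subgroup.coe_inv, mul_inv_cancel_right]
        exact hx
      · rw [Nat.coprime_two_right]
        rw [Nat.card_congr (Subgroup.subgroupOfEquivOfLe hXY).toEquiv]
        exact h.odd
    intro x hx
    rw [hmem (hXY hx)]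
    exact h1 (by rw [mem_subgroupOf]; exact hx)
  have hnorm : ∀ y ∈ Y, ∀ q ∈ Q, y * q * y⁻¹ ∈ Q := by
    intro y hy q hq
    have h1 := hN.conj_mem _ ((hmem (hQY hq)).mp hq) ⟨y, hy⟩
    exact (hmem (mul_mem (mul_mem hy (hQY hq)) (inv_mem hy))).mpr h1
  have hcomm : ∀ y ∈ Y, e * y * e⁻¹ * y⁻¹ ∈ Q := by
    intro y hy
    have h1 := hz ⟨y, hy⟩
    exact (hmem (mul_mem (mul_mem (mul_mem h.e_mem hy) (inv_mem h.e_mem)) (inv_mem hy))).mpr h1
  have hfix : ∀ q ∈ Q, e * q = q * e → q ∈ X := by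
    intro q hq hqe
    obtain ⟨x, hx, k, hk, rfl⟩ := h.cent q (mem_cent.mp (hQY hq)) hqe.symm
    have hkQ : k ∈ Q := by
      have := Q.mul_mem (Q.inv_mem (hXQ hx)) hq
      simpa [mul_assoc] using this
    have hbot : Q ⊓ K = ⊥ := by
      apply h.core _ inf_le_right
      · exact Odd.of_dvd_nat hQo (Subgroup.card_dvd_of_le inf_le_left)
      · rintro k hk n ⟨hn1, hn2⟩
        exact ⟨hnorm k (hKY hk) n hn1, K.mul_mem (K.mul_mem hk hn2) (K.inv_mem hk)⟩
    have : k ∈ Q ⊓ K := ⟨hkQ, hk⟩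
    rw [hbot, mem_bot] at this
    rw [this, mul_one]; exact hx
  have hinv : ∀ q ∈ Q, e * q * e⁻¹ * q ∈ X := by
    intro q hq
    set i := q⁻¹ * (e * q * e⁻¹) with hi
    have hiQ : i ∈ Q := Q.mul_mem (Q.inv_mem hq) (hnorm e h.e_mem q hq)
    obtain ⟨n, hn⟩ := exists_half (odd_orderOf hQo hiQ)
    set j := i ^ n with hj
    have hjQ : j ∈ Q := Q.pow_mem hiQ _
    have hei : e * i * e⁻¹ = i⁻¹ := by
      rw [hi, h.einv]
      calc e * (q⁻¹ * (e * q * e)) * e = e * q⁻¹ * e * q * (e * e) := by group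
        _ = (q⁻¹ * (e * q * e))⁻¹ := by
          rw [h.ee, mul_one, mul_inv_rev, mul_inv_rev, mul_inv_rev, h.einv, inv_inv]; group
    have hej : e * j * e⁻¹ = j⁻¹ := by rw [hj, ← conj_pow, hei, inv_pow]
    have hX1 : q * j ∈ X := by
      apply hfix _ (Q.mul_mem hq hjQ)
      have h1 : e * (q * j) * e⁻¹ = q * j := by
        calc e * (q * j) * e⁻¹ = (q * (q⁻¹ * (e * q * e⁻¹))) * (e * j * e⁻¹) := by group
          _ = q * j := by rw [← hi, hej, ← hn]; group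
      calc e * (q * j) = e * (q * j) * e⁻¹ * e := by group
        _ = q * j * e := by rw [h1]
    have hq2 : e * q * e⁻¹ = q * j * j := by rw [mul_assoc q, hn, hi]; group
    have hc := mem_cent.mp (hQY hq) _ hX1
    have h3 : e * q * e⁻¹ * q = (q * j) * (q * j) := by
      rw [hq2]
      have hj2 : j * (q * j) = (q * j) * j := mem_cent.mp (hQY hjQ) _ hX1
      calc q * j * j * q = (q * j * j) * q := rfl
        _ = (j * (q * j)) * q := by rw [hj2]
        _ = j * (q * (q * j)) := by rw [hc]; group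
        _ = (j * q) * (q * j) := by group
        _ = (q * j) * (q * j) := by
          have : j * q = q * j := by
            have h4 : j * (q * j) * j⁻¹ = q * j * j * j⁻¹ := by rw [hj2]
            simpa [mul_assoc] using h4
          rw [this]
    rw [h3]; exact X.mul_mem hX1 hX1
  refine ⟨Q, hXQ, hQY, hQo, hnorm, hfix, hinv, ?_, ?_, ?_⟩
  · intro a ha b hb
    have h1 := hinv a⁻¹ (Q.inv_mem ha)
    have h2 := hinv b⁻¹ (Q.inv_mem hb)
    have h3 := hinv (a⁻¹ * b⁻¹) (Q.mul_mem (Q.inv_mem ha) (Q.inv_mem hb))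
    set x1 := e * a⁻¹ * e⁻¹ * a⁻¹ with hx1
    set x2 := e * b⁻¹ * e⁻¹ * b⁻¹ with hx2
    have e1 : e * a⁻¹ * e⁻¹ = x1 * a := by rw [hx1]; group
    have e2 : e * b⁻¹ * e⁻¹ = x2 * b := by rw [hx2]; group
    have h4 : e * (a⁻¹ * b⁻¹) * e⁻¹ * (a⁻¹ * b⁻¹) = x1 * x2 * (a * b * a⁻¹ * b⁻¹) := by
      calc e * (a⁻¹ * b⁻¹) * e⁻¹ * (a⁻¹ * b⁻¹)
          = (e * a⁻¹ * e⁻¹) * (e * b⁻¹ * e⁻¹) * (a⁻¹ * b⁻¹) := by group
        _ = x1 * (a * x2) * b * (a⁻¹ * b⁻¹) := by rw [e1, e2]; group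
        _ = x1 * x2 * (a * b * a⁻¹ * b⁻¹) := by
          rw [mem_cent.mp (hQY ha) x2 h2]; group
    rw [h4] at h3
    exact (X.mul_mem_cancel_left (X.mul_mem h1 h2)).mp h3
  · intro y hy ho hey
    have h1 := hcomm y hy
    rw [hey] at h1
    obtain ⟨n, hn⟩ := exists_half ho
    have h2 : (y⁻¹ * y⁻¹) ^ n ∈ Q := Q.pow_mem h1 n
    have h3 : (y⁻¹ * y⁻¹) ^ n = y⁻¹ := by
      rw [← pow_two, ← pow_mul, mul_comm, pow_mul, inv_pow, inv_pow, pow_two, hn]
    rw [h3] at h2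
    exact (Q.inv_mem_iff).mp h2
  · intro y hy
    have h1 := hcomm y hy
    set q := e * y * e⁻¹ * y⁻¹ with hq
    have h2 : y * e * y⁻¹ = e * q := by
      rw [hq, h.einv]
      calc y * e * y⁻¹ = (e * e) * y * e * y⁻¹ := by rw [h.ee, one_mul]
        _ = _ := by group
    have heq : e * q * e⁻¹ = q⁻¹ := by
      rw [hq, h.einv]
      calc e * (e * y * e * y⁻¹) * e = (e * e) * y * e * y⁻¹ * e := by group
        _ = (e * y * e * y⁻¹)⁻¹ := by
          rw [h.ee, mul_inv_rev, mul_inv_rev, mul_inv_rev, h.einv, inv_inv]; group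
    obtain ⟨n, hn⟩ := exists_half (odd_orderOf hQo h1)
    set j := q ^ n with hj
    have hjQ : j ∈ Q := Q.pow_mem h1 _
    have hej : e * j * e⁻¹ = j⁻¹ := by rw [hj, ← conj_pow, heq, inv_pow]
    have hej2 : e * j = j⁻¹ * e := by rw [← hej]; group
    have h3 : (j * y) * e = e * (j * y) := by
      have h4 : (j * y) * e * (j * y)⁻¹ = e := by
        calc (j * y) * e * (j * y)⁻¹ = j * (y * e * y⁻¹) * j⁻¹ := by group
          _ = j * (e * (j * j)) * j⁻¹ := by rw [h2, hn]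
          _ = j * (e * j) := by group
          _ = e := by rw [hej2]; group
      calc (j * y) * e = (j * y) * e * (j * y)⁻¹ * (j * y) := by group
        _ = e * (j * y) := by rw [h4]
    obtain ⟨x, hx, k, hk, hxk⟩ := h.cent (j * y) (mem_cent.mp (mul_mem (hQY hjQ) hy)) h3
    refine ⟨j⁻¹ * x, Q.mul_mem (Q.inv_mem hjQ) (hXQ hx), k, hk, ?_⟩
    calc y = j⁻¹ * (j * y) := by group
      _ = _ := by rw [hxk]; group

/-- the commutator relation -/
theorem Core.comm_mem {Q : Subgroup G} (h : Core e X K Q) {a b n m : G}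
    (ha : a ∈ centralizer (X : Set G)) (ha' : Odd (orderOf a)) (hae : e * a * e⁻¹ = a⁻¹)
    (hb : b ∈ centralizer (X : Set G)) (hb' : Odd (orderOf b)) (hbe : e * b * e⁻¹ = b⁻¹)
    (hn : n ∈ centralizer (X : Set G)) (hm : m ∈ centralizer (X : Set G)) :
    (n * a * n⁻¹) * (m * b * m⁻¹) * (n * a * n⁻¹)⁻¹ * (m * b * m⁻¹)⁻¹ ∈ X :=
  h.comm _ (h.norm n hn a (h.mem a ha ha' hae)) _ (h.norm m hm b (h.mem b hb hb' hbe))

end Cfsg.Agent.LFourFive.StepFive
end

private theorem dce_b15412f8dcc3 : _root_.True := by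
  try have : _root_.True := by simp only [_root_.Cfsg.Agent.LFourFive.K.eq_1]
  try have : _root_.True := by simp only [_root_.Cfsg.Agent.LFourFive.cj.eq_1]
  exact _root_.True.intro
end

-- part: LFourB/ClBGen
section
set_option linter.all false
open scoped Cfsg.Agent.FastGrp

/-!
# `PSL₃(q)` and `PSU₃(q)` are generated by the centralisers of the involutions of a four-group
-/

set_option autoImplicit false

namespace Cfsg.Agent.LFourB

open Subgroup

/-- Every four-group generates with its centralisers. -/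
def Gen4 (P : Type*) [Group P] : Prop :=
  ∀ u v : P, u * u = 1 → v * v = 1 → u ≠ 1 → v ≠ 1 → u ≠ v → u * v = v * u →
    ∀ H : Subgroup P, centralizer {u} ≤ H → centralizer {v} ≤ H → H = ⊤

theorem Gen4.of_equiv {P Q : Type*} [Group P] [Group Q] (e : P ≃* Q) (h : Gen4 P) : Gen4 Q := by
  intro u v hu hv hu1 hv1 huv hc H h1 h2
  have key : ∀ x : Q, centralizer {x} ≤ H → centralizer {e.symm x} ≤ H.comap e.toMonoidHom := by
    intro x hx y hy
    rw [mem_centralizer_singleton_iff] at hy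
    apply hx
    rw [mem_centralizer_singleton_iff]
    change e y * x = x * e y
    rw [← e.apply_symm_apply x, ← map_mul, hy, map_mul]
  have h3 := h (e.symm u) (e.symm v) (by rw [← map_mul, hu, map_one]) (by rw [← map_mul, hv, map_one])
    (fun k => hu1 (by rwa [map_eq_one_iff _ e.symm.injective] at k))
    (fun k => hv1 (by rwa [map_eq_one_iff _ e.symm.injective] at k)) (fun k => huv (e.symm.injective k))
    (by rw [← map_mul, ← map_mul, hc]) _ (key u h1) (key v h2)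
  rw [eq_top_iff]
  intro y _
  have h4 : e.symm y ∈ H.comap e.toMonoidHom := by rw [h3]; exact mem_top _
  have h5 : e (e.symm y) ∈ H := h4
  rwa [e.apply_symm_apply] at h5

/-- the common argument -/
theorem gen4_aux {S P : Type*} [Group S] [Group P] (ρ : S →* P) (hρ : Function.Surjective ρ) {A B : Subgroup S}
    {a b : S} (hA : ∀ x ∈ A, x * a = a * x) (hB : ∀ x ∈ B, x * b = b * x) (hAB : A ⊔ B = ⊤)
    (hc : ∀ u v : P, u * u = 1 → v * v = 1 → u ≠ 1 → v ≠ 1 → u ≠ v → u * v = v * u →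
      ∃ g : P, g * u * g⁻¹ = ρ a ∧ g * v * g⁻¹ = ρ b) : Gen4 P := by
  intro u v hu hv hu1 hv1 huv huc H h1 h2
  obtain ⟨g, hga, hgb⟩ := hc u v hu hv hu1 hv1 huv huc
  have key : ∀ (x : P) (a : S) (A : Subgroup S), (∀ x ∈ A, x * a = a * x) → centralizer {x} ≤ H →
      g * x * g⁻¹ = ρ a → A ≤ H.comap ((MulAut.conj g⁻¹).toMonoidHom.comp ρ) := by
    intro x a A hA hx hg y hy
    apply hx
    rw [mem_centralizer_singleton_iff]
    change g⁻¹ * ρ y * g⁻¹⁻¹ * x = x * (g⁻¹ * ρ y * g⁻¹⁻¹)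
    have h3 : x = g⁻¹ * ρ a * g := by rw [← hg]; group
    rw [h3]
    calc g⁻¹ * ρ y * g⁻¹⁻¹ * (g⁻¹ * ρ a * g) = g⁻¹ * ρ (y * a) * g := by rw [map_mul]; group
      _ = g⁻¹ * ρ (a * y) * g := by rw [hA y hy]
      _ = _ := by rw [map_mul]; group
  have h3 : (⊤ : Subgroup S) ≤ H.comap ((MulAut.conj g⁻¹).toMonoidHom.comp ρ) := by
    rw [← hAB]
    exact sup_le (key u a A hA h1 hga) (key v b B hB h2 hgb)
  rw [eq_top_iff]
  intro y _
  obtain ⟨s, hs⟩ := hρ (g * y * g⁻¹)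
  have h4 : g⁻¹ * ρ s * g⁻¹⁻¹ ∈ H := h3 (mem_top s)
  have h5 : g⁻¹ * ρ s * g⁻¹⁻¹ = y := by rw [hs]; group
  rwa [h5] at h4

theorem gen4_psl {F : Type*} [Field F] (h2 : (2 : F) ≠ 0) :
    Gen4 (CTFrame.SL3.S3 F ⧸ Subgroup.center (CTFrame.SL3.S3 F)) := by
  have hcomm : ∀ {a b c : Fin 3} (_ : a ≠ b) (_ : b ≠ c) (_ : a ≠ c),
      ∀ x ∈ (CTFrame.SL3.std a b : Subgroup (CTFrame.SL3.S3 F)), x * CTFrame.SL3.dg c = CTFrame.SL3.dg c * x := by
    intro a b c hab hbc hac x hx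
    have hB := CTFrame.SL3.std_le_Blk hab hbc hac hx
    have h1 : CTFrame.SL3.dg c * x * (CTFrame.SL3.dg c)⁻¹ = x := by
      have hdg := CTFrame.SL3.std_le_Blk (F := F) hab hbc hac (CTFrame.SL3.dg_mem_std hab hbc hac)
      refine CTFrame.SL3.blk_ext hab hbc hac (mul_mem (mul_mem hdg hB) (inv_mem hdg)) hB ?_ ?_ ?_ ?_
      · rw [CTFrame.SL3.dg_conj, if_neg hac]; ring
      · rw [CTFrame.SL3.dg_conj, if_neg hac, if_neg hbc]; ring
      · rw [CTFrame.SL3.dg_conj, if_neg hbc, if_neg hac]; ring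
      · rw [CTFrame.SL3.dg_conj, if_neg hbc]; ring
    exact (mul_inv_eq_iff_eq_mul.mp h1).symm
  refine gen4_aux (LThreeModel.SL3.pr F) (QuotientGroup.mk'_surjective _)
    (A := CTFrame.SL3.std 1 2) (B := CTFrame.SL3.std 2 0) (a := CTFrame.SL3.dg 0) (b := CTFrame.SL3.dg 1)
    (hcomm (by decide) (by decide) (by decide)) (hcomm (by decide) (by decide) (by decide))
    (LThreeModel.SL3.std_sup (by decide) (by decide) (by decide)) ?_
  intro u v hu hv hu1 hv1 huv huc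
  exact LThreeModel.SL3.exists_conj h2 hu hv hu1 hv1 huv huc (show (0 : Fin 3) ≠ 1 by decide)

theorem gen4_psu {F : Type*} [Field F] [Fintype F] {q : ℕ} (hF : Fintype.card F = q ^ 2) (h2 : (2 : F) ≠ 0)
    (hq : 3 ≤ q) : Gen4 (Cfsg.PSU 3 F q) := by
  have hcomm : ∀ c : Fin 3, ∀ x ∈ LThreeExt.SU3.std hF c,
      x * LThreeModel.SU3.dg hF c = LThreeModel.SU3.dg hF c * x := by
    intro c x hx
    apply Phan.mat_inj
    rw [Phan.mat_mul, Phan.mat_mul, LThreeModel.SU3.mat_dg]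
    ext i j
    rw [Matrix.mul_diagonal, Matrix.diagonal_mul]
    by_cases hi : i = c
    · by_cases hj : j = c
      · rw [hi, hj]; ring
      · have h1 := (LThreeModel.SU3.blk_of_mem_std hF hx j).2
        rw [if_neg hj] at h1
        rw [hi, h1]; ring
    · by_cases hj : j = c
      · have h1 := (LThreeModel.SU3.blk_of_mem_std hF hx i).1
        rw [if_neg hi] at h1
        rw [hj, h1]; ring
      · rw [if_neg hi, if_neg hj]; ring
  refine gen4_aux (LThreeModel.SU3.pr F q) (QuotientGroup.mk'_surjective _)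
    (A := LThreeExt.SU3.std hF 0) (B := LThreeExt.SU3.std hF 1) (a := LThreeModel.SU3.dg hF 0)
    (b := LThreeModel.SU3.dg hF 1) ?_ ?_ (LThreeModel.SU3.std_sup hF hq (by decide)) ?_
  · exact hcomm 0
  · exact hcomm 1
  · intro u v hu hv hu1 hv1 huv huc
    exact LThreeModel.SU3.exists_conj hF h2 hu hv hu1 hv1 huv huc (by decide)

end Cfsg.Agent.LFourB
end

-- part: LFourB/ProdPerfect
section
set_option linter.all false
open scoped Cfsg.Agent.FastGrp

/-!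
# Two commuting strongly closed subgroups: perfection of the normal closures

`Fam R Q1 Q2 t` in a group `K = O^2(K)`, `Q1` induces all automorphisms of `Q1` induced by `N_K(Q1)`, `t ∈ [Q1, Q1]`.
Then `N1 = ⟨Q1^K⟩` is perfect.
-/

set_option autoImplicit false

namespace Cfsg.Agent.LFourB.ProdPerfect

open Subgroup Cfsg.Agent.SylowSp4 Cfsg.Agent.SylowSp4.Split

universe u

variable {K : Type u} [Group K] [Finite K]

/-- A group `K = O^2(K)` with a central Sylow 2-subgroup has trivial Sylow 2-subgroup. -/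
theorem eq_bot_of_central (P : Sylow 2 K) (hres : Cfsg.pResidual 2 K = ⊤)
    (hc : ∀ g : K, ∀ x ∈ (P : Subgroup K), g * x = x * g) : (P : Subgroup K) = ⊥ := by
  have hfact : Fact (Nat.Prime 2) := ⟨Nat.prime_two⟩
  have hP : normalizer ((P : Subgroup K) : Set K) ≤ centralizer ((P : Subgroup K) : Set K) := by
    intro g _
    rw [mem_centralizer_iff]
    intro x hx
    exact (hc g x hx).symm
  have h1 := MonoidHom.ker_transferSylow_isComplement' P hP
  have h2 : (MonoidHom.transferSylow P hP).ker = ⊤ := by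
    rw [eq_top_iff, ← hres]
    apply TwoFusion.PResidual.pResidual_le 2
    intro g hg
    rw [MonoidHom.mem_ker, ← orderOf_eq_one_iff]
    obtain ⟨n, hn⟩ := IsPGroup.iff_orderOf.1 P.isPGroup' (MonoidHom.transferSylow P hP g)
    have h3 : orderOf (MonoidHom.transferSylow P hP g) ∣ orderOf g := orderOf_map_dvd _ g
    rw [hn] at h3 ⊢
    exact Nat.Coprime.eq_one_of_dvd (Nat.Coprime.pow_left n hg.symm) h3
  rw [h2] at h1
  exact isComplement'_top_left.1 h1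

variable {R : Sylow 2 K} {Q1 Q2 : Subgroup K} {t : K} (h : Fam R Q1 Q2 t) (hPT : Hyps.ProductThm.{u})

include h hPT

/-- The Sylow subgroup of `N1`. -/
theorem card_relIndex : ¬ 2 ∣ Q1.relIndex (normalClosure (Q1 : Set K)) := by
  have hfact : Fact (Nat.Prime 2) := ⟨Nat.prime_two⟩
  have h1 := Cfsg.Agent.Lib.SylowNormalInf.not_dvd_relIndex R (normalClosure (Q1 : Set K))
  have h2 : (R : Subgroup K) ⊓ normalClosure (Q1 : Set K) = Q1 := by
    apply le_antisymm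
    · rintro x ⟨hx, hx'⟩
      exact h.mem_Q1 hPT hx' hx
    · exact le_inf h.le1 subset_normalClosure
  rw [← inf_relIndex_right, h2] at h1
  exact h1

/-- `Q1` is a Sylow subgroup of `N1`. -/
theorem exists_sylow : ∃ P : Sylow 2 (normalClosure (Q1 : Set K)),
    (P : Subgroup (normalClosure (Q1 : Set K))) = Q1.subgroupOf (normalClosure (Q1 : Set K)) := by
  have hfact : Fact (Nat.Prime 2) := ⟨Nat.prime_two⟩
  have hp : IsPGroup 2 (Q1.subgroupOf (normalClosure (Q1 : Set K))) :=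
    (R.isPGroup'.to_le h.le1).comap_of_injective (normalClosure (Q1 : Set K)).subtype (subtype_injective _)
  exact ⟨hp.toSylow (card_relIndex h hPT), rfl⟩

/-- The Frattini argument. -/
theorem frattini (g : K) : ∃ n ∈ normalClosure (Q1 : Set K), ∃ m : K, (∀ x ∈ Q1, m * x * m⁻¹ ∈ Q1) ∧ g = n * m := by
  have hfact : Fact (Nat.Prime 2) := ⟨Nat.prime_two⟩
  obtain ⟨P, hP⟩ := exists_sylow h hPT
  have h1 := Sylow.normalizer_sup_eq_top P
  have h2 : (P : Subgroup (normalClosure (Q1 : Set K))).map (normalClosure (Q1 : Set K)).subtype = Q1 := by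
    rw [hP, subgroupOf_map_subtype]
    exact inf_eq_left.2 subset_normalClosure
  have h3 : g ∈ normalizer (((P : Subgroup (normalClosure (Q1 : Set K))).map
      (normalClosure (Q1 : Set K)).subtype : Subgroup K) : Set K) ⊔ normalClosure (Q1 : Set K) := by
    rw [h1]; exact mem_top _
  rw [sup_comm, mem_sup_of_normal_left] at h3
  obtain ⟨n, hn, m, hm, e⟩ := h3
  refine ⟨n, hn, m, ?_, e.symm⟩
  rw [h2] at hm
  intro x hx
  exact (mem_normalizer_iff.1 hm x).1 hx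

/-- `N1` is perfect. -/
theorem perfect (hres : Cfsg.pResidual 2 K = ⊤)
    (hinn : ∀ g : K, (∀ x ∈ Q1, g * x * g⁻¹ ∈ Q1) → ∃ q ∈ Q1, ∀ x ∈ Q1, g * x * g⁻¹ = q * x * q⁻¹)
    (ht : t ∈ ⁅Q1, Q1⁆) :
    ⁅normalClosure (Q1 : Set K), normalClosure (Q1 : Set K)⁆ = normalClosure (Q1 : Set K) := by
  have hfact : Fact (Nat.Prime 2) := ⟨Nat.prime_two⟩
  set N1 := normalClosure (Q1 : Set K) with hN1
  set N2 := normalClosure (Q2 : Set K) with hN2
  have hQ1 : Q1 ≤ N1 := subset_normalClosure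
  have hQ2 : Q2 ≤ N2 := subset_normalClosure
  have hD : ⁅N1, N1⁆ ≤ N1 := commutator_le_left N1 N1
  refine le_antisymm hD ?_
  -- the quotient
  have hZn : (⁅N1, N1⁆ ⊔ N2).Normal := inferInstance
  set Z := ⁅N1, N1⁆ ⊔ N2 with hZ
  let φ := QuotientGroup.mk' Z
  have hφ : Function.Surjective φ := QuotientGroup.mk'_surjective Z
  have hcen : ∀ g : K ⧸ Z, ∀ x ∈ ((R.mapSurjective hφ : Sylow 2 (K ⧸ Z)) : Subgroup (K ⧸ Z)), g * x = x * g := by
    rintro g _ ⟨r, hr, rfl⟩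
    obtain ⟨g, rfl⟩ := hφ g
    obtain ⟨a, ha, b, hb, rfl⟩ := h.prod r hr
    have h1 : φ b = 1 := (QuotientGroup.eq_one_iff b).2 (mem_sup_right (hQ2 hb))
    rw [map_mul φ a b, h1, mul_one]
    rw [← map_mul, ← map_mul]
    have h2 : (a * g)⁻¹ * (g * a) ∈ Z := by
      obtain ⟨n, hn, m, hm, rfl⟩ := frattini h hPT g
      obtain ⟨q, hq, e⟩ := hinn m hm
      apply mem_sup_left
      have h3 : (a * (n * m))⁻¹ * (n * m * a) = m⁻¹ * ((n⁻¹ * a⁻¹ * n * a) * (a⁻¹ * (m * a * m⁻¹))) * m := by group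
      rw [h3]
      have hDn : (⁅N1, N1⁆).Normal := inferInstance
      have h4 : n⁻¹ * a⁻¹ * n * a ∈ ⁅N1, N1⁆ := by
        have := commutator_mem_commutator (inv_mem hn) (inv_mem (hQ1 ha))
        rw [commutatorElement_def, inv_inv, inv_inv] at this
        exact this
      have h5 : a⁻¹ * (m * a * m⁻¹) ∈ ⁅N1, N1⁆ := by
        rw [e a ha]
        have := commutator_mem_commutator (inv_mem (hQ1 ha)) (hQ1 hq)
        rw [commutatorElement_def, inv_inv] at this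
        have e2 : a⁻¹ * (q * a * q⁻¹) = a⁻¹ * q * a * q⁻¹ := by group
        rw [e2]
        exact this
      have h6 := hDn.conj_mem _ (mul_mem h4 h5) m⁻¹
      rwa [inv_inv] at h6
    exact (QuotientGroup.eq.2 h2).symm
  have hres' : Cfsg.pResidual 2 (K ⧸ Z) = ⊤ := by
    rw [eq_top_iff]
    have h1 := TwoFusion.PResidual.map_pResidual_le 2 φ
    rw [hres] at h1
    rwa [← MonoidHom.range_eq_map, MonoidHom.range_eq_top.2 hφ] at h1
  have hbot := eq_bot_of_central _ hres' hcen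
  -- so `Q1 ≤ Z`
  have hQZ : Q1 ≤ Z := by
    intro q hq
    have h1 : φ q ∈ ((R.mapSurjective hφ : Sylow 2 (K ⧸ Z)) : Subgroup (K ⧸ Z)) := ⟨q, h.le1 hq, rfl⟩
    rw [hbot, mem_bot] at h1
    exact (QuotientGroup.eq_one_iff q).1 h1
  apply normalClosure_le_normal
  intro q hq
  obtain ⟨d, hd, n, hn, e⟩ := mem_sup_of_normal_left.1 (hQZ hq)
  have h1 : n = 1 ∨ n = t := by
    apply h.mem_inf hPT _ hn
    have : n = d⁻¹ * q := by rw [← e, inv_mul_cancel_left]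
    rw [this]
    exact mul_mem (inv_mem (hD hd)) (hQ1 hq)
  have ht' : t ∈ ⁅N1, N1⁆ := commutator_mono hQ1 hQ1 ht
  rw [← e]
  rcases h1 with rfl | rfl
  · rw [mul_one]; exact hd
  · exact mul_mem hd ht'

end Cfsg.Agent.LFourB.ProdPerfect
end

-- part: LFourFive/SixMod
section
set_option linter.all false
open scoped Cfsg.Agent.FastGrp

/-!
# From a faithful action on `(ZMod p)³` by transvections to `SL₃(p)`

`b : Fin 3 → G` commuting elements of order `p`, `al b : (ZMod p)³ → G`, `Rep b g M` : `g` acts on `⟨b⟩` by the matrix `M`.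
`exists_hom` : if the root groups `X i j` act as the transvection groups and `⟨X⟩` acts faithfully, there is an injective
`φ : SL₃(p) →* G` mapping the transvection group `X i j` onto `X i j`.
-/

set_option autoImplicit false
set_option linter.unusedSectionVars false

namespace Cfsg.Agent.LFourFive.SixMod

open Matrix
open Cfsg.Agent.CTFrame.SL3 (S3 mem_X tr_mem)

universe u

variable {p : ℕ} [Fact p.Prime] {G : Type u} [Group G]

/-- powers with exponent in `ZMod p` -/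
def pw (g : G) (a : ZMod p) : G := g ^ a.val

theorem pw_zero (g : G) : pw g (0 : ZMod p) = 1 := by
  rw [pw, ZMod.val_zero, pow_zero]

theorem pw_one (g : G) : pw g (1 : ZMod p) = g := by
  rw [pw, ZMod.val_one, pow_one]

theorem pw_add {g : G} (hg : g ^ p = 1) (a b : ZMod p) : pw g (a + b) = pw g a * pw g b := by
  rw [pw, pw, pw, ZMod.val_add, ← pow_add, ← pow_eq_pow_mod _ hg]

theorem pw_pw {g : G} (hg : g ^ p = 1) (a b : ZMod p) : pw (pw g a) b = pw g (b * a) := by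
  rw [pw, pw, pw, ZMod.val_mul, ← pow_mul, mul_comm b.val, ← pow_eq_pow_mod _ hg]

theorem pw_comm {g h : G} (hgh : g * h = h * g) (a b : ZMod p) : pw g a * pw h b = pw h b * pw g a :=
  (Commute.pow_pow (show Commute g h from hgh) _ _).eq

theorem mul_pw {g h : G} (hgh : g * h = h * g) (a : ZMod p) : pw (g * h) a = pw g a * pw h a :=
  (show Commute g h from hgh).mul_pow _

theorem conj_pw (n g : G) (a : ZMod p) : n * pw g a * n⁻¹ = pw (n * g * n⁻¹) a := by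
  rw [pw, pw, conj_pow]

/-- commuting elements of order dividing `p` -/
structure Bas (p : ℕ) (b : Fin 3 → G) : Prop where
  comm : ∀ i j, b i * b j = b j * b i
  ord : ∀ i, b i ^ p = 1

/-- the parametrisation of `⟨b⟩` -/
def al (b : Fin 3 → G) (v : Fin 3 → ZMod p) : G := pw (b 0) (v 0) * pw (b 1) (v 1) * pw (b 2) (v 2)

variable {b : Fin 3 → G}

theorem al_zero (b : Fin 3 → G) : al b (0 : Fin 3 → ZMod p) = 1 := by
  simp only [al, Pi.zero_apply, pw_zero, mul_one]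

theorem al_add (h : Bas p b) (v w : Fin 3 → ZMod p) : al b (v + w) = al b v * al b w := by
  have h10 := pw_comm (p := p) (h.comm 1 0)
  have h20 := pw_comm (p := p) (h.comm 2 0)
  have h21 := pw_comm (p := p) (h.comm 2 1)
  simp only [al, Pi.add_apply, pw_add (h.ord _)]
  calc pw (b 0) (v 0) * pw (b 0) (w 0) * (pw (b 1) (v 1) * pw (b 1) (w 1)) * (pw (b 2) (v 2) * pw (b 2) (w 2))
      = pw (b 0) (v 0) * (pw (b 0) (w 0) * pw (b 1) (v 1)) * pw (b 1) (w 1) * pw (b 2) (v 2) * pw (b 2) (w 2) := by group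
    _ = pw (b 0) (v 0) * (pw (b 1) (v 1) * pw (b 0) (w 0)) * pw (b 1) (w 1) * pw (b 2) (v 2) * pw (b 2) (w 2) := by
        rw [h10]
    _ = pw (b 0) (v 0) * pw (b 1) (v 1) * pw (b 0) (w 0) * (pw (b 1) (w 1) * pw (b 2) (v 2)) * pw (b 2) (w 2) := by group
    _ = pw (b 0) (v 0) * pw (b 1) (v 1) * pw (b 0) (w 0) * (pw (b 2) (v 2) * pw (b 1) (w 1)) * pw (b 2) (w 2) := by
        rw [h21]
    _ = pw (b 0) (v 0) * pw (b 1) (v 1) * (pw (b 0) (w 0) * pw (b 2) (v 2)) * pw (b 1) (w 1) * pw (b 2) (w 2) := by group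
    _ = pw (b 0) (v 0) * pw (b 1) (v 1) * (pw (b 2) (v 2) * pw (b 0) (w 0)) * pw (b 1) (w 1) * pw (b 2) (w 2) := by
        rw [h20]
    _ = _ := by group

theorem al_smul (h : Bas p b) (c : ZMod p) (v : Fin 3 → ZMod p) : al b (c • v) = pw (al b v) c := by
  have h10 := pw_comm (p := p) (h.comm 0 1)
  have e1 : (pw (b 0) (v 0) * pw (b 1) (v 1)) * pw (b 2) (v 2) = pw (b 2) (v 2) * (pw (b 0) (v 0) * pw (b 1) (v 1)) := by
    rw [mul_assoc, pw_comm (h.comm 1 2), ← mul_assoc, pw_comm (h.comm 0 2), mul_assoc]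
  rw [al, al, mul_pw e1, mul_pw (h10 _ _), pw_pw (h.ord 0), pw_pw (h.ord 1), pw_pw (h.ord 2)]
  rfl

theorem al_single (b : Fin 3 → G) (k : Fin 3) : al b (Pi.single k (1 : ZMod p)) = b k := by
  fin_cases k <;> simp [al, pw_zero, pw_one]

/-- `g` acts on `⟨b⟩` by the matrix `M` (columns = images of the basis) -/
def Rep (b : Fin 3 → G) (g : G) (M : Matrix (Fin 3) (Fin 3) (ZMod p)) : Prop :=
  ∀ k, g * b k * g⁻¹ = al b (fun i => M i k)

theorem rep_apply (h : Bas p b) {g : G} {M : Matrix (Fin 3) (Fin 3) (ZMod p)} (hM : Rep b g M)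
    (v : Fin 3 → ZMod p) : g * al b v * g⁻¹ = al b (M *ᵥ v) := by
  have e : M *ᵥ v = v 0 • (fun i => M i 0) + v 1 • (fun i => M i 1) + v 2 • (fun i => M i 2) := by
    ext i
    simp only [Matrix.mulVec, dotProduct, Fin.sum_univ_three, Pi.add_apply, Pi.smul_apply, smul_eq_mul]
    ring
  rw [e, al_add h, al_add h, al_smul h, al_smul h, al_smul h, ← hM 0, ← hM 1, ← hM 2, ← conj_pw, ← conj_pw,
    ← conj_pw, al]
  group

theorem rep_mul (h : Bas p b) {g g' : G} {M M' : Matrix (Fin 3) (Fin 3) (ZMod p)} (hM : Rep b g M)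
    (hM' : Rep b g' M') : Rep b (g * g') (M * M') := by
  intro k
  have e : g * g' * b k * (g * g')⁻¹ = g * (g' * b k * g'⁻¹) * g⁻¹ := by group
  rw [e, hM' k, rep_apply h hM]
  rfl

theorem rep_one (b : Fin 3 → G) : Rep b 1 (1 : Matrix (Fin 3) (Fin 3) (ZMod p)) := by
  intro k
  rw [one_mul, inv_one, mul_one]
  nth_rw 1 [← al_single (p := p) b k]
  congr 1
  ext i
  rw [Matrix.one_apply, Pi.single_apply]

theorem rep_inv (h : Bas p b) {g : G} {M : S3 (ZMod p)} (hM : Rep b g M.1) : Rep b g⁻¹ (M⁻¹ : S3 (ZMod p)).1 := by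
  intro k
  have e1 : M.1 * (M⁻¹ : S3 (ZMod p)).1 = 1 := by
    have : M * M⁻¹ = 1 := mul_inv_cancel M
    exact congrArg Subtype.val this
  have e2 := rep_apply h hM (fun i => (M⁻¹ : S3 (ZMod p)).1 i k)
  have e3 : M.1 *ᵥ (fun i => (M⁻¹ : S3 (ZMod p)).1 i k) = Pi.single k 1 := by
    ext i
    have : (M.1 * (M⁻¹ : S3 (ZMod p)).1) i k = (1 : Matrix (Fin 3) (Fin 3) (ZMod p)) i k := by rw [e1]
    rw [Matrix.one_apply] at this
    rw [Pi.single_apply]
    exact this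
  rw [e3, al_single] at e2
  rw [← e2]
  group

theorem rep_inj (hi : Function.Injective (al b : (Fin 3 → ZMod p) → G)) {g : G}
    {M M' : Matrix (Fin 3) (Fin 3) (ZMod p)} (hM : Rep b g M) (hM' : Rep b g M') : M = M' := by
  ext i k
  have := hi ((hM k).symm.trans (hM' k))
  exact congrFun this i

theorem rep_transvection (h : Bas p b) {i j : Fin 3} (hij : i ≠ j) {g : G} {c : ZMod p}
    (h1 : ∀ k, k ≠ j → g * b k = b k * g) (h2 : g * b j * g⁻¹ = b j * pw (b i) c) :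
    Rep b g (SpecialLinearGroup.transvection hij c : S3 (ZMod p)).1 := by
  intro k
  by_cases hk : k = j
  · subst hk
    rw [h2]
    nth_rw 1 [← al_single (p := p) b k]
    rw [← al_single (p := p) b i, ← al_smul h, ← al_add h]
    congr 1
    ext l
    rw [SpecialLinearGroup.transvection_coe, Matrix.add_apply, Matrix.one_apply, Matrix.single_apply, Pi.add_apply,
      Pi.single_apply, Pi.smul_apply, Pi.single_apply, smul_eq_mul]
    simp [eq_comm]
  · rw [h1 k hk, mul_inv_cancel_right]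
    nth_rw 1 [← al_single (p := p) b k]
    congr 1
    ext l
    rw [SpecialLinearGroup.transvection_coe, Matrix.add_apply, Matrix.one_apply, Matrix.single_apply,
      Pi.single_apply]
    simp [Ne.symm hk]

/-- the group generated by the root groups -/
def J (X : Fin 3 → Fin 3 → Subgroup G) : Subgroup G := ⨆ (i : Fin 3) (j : Fin 3) (_ : i ≠ j), X i j

theorem le_J {X : Fin 3 → Fin 3 → Subgroup G} {i j : Fin 3} (hij : i ≠ j) : X i j ≤ J X :=
  le_iSup_of_le i (le_iSup_of_le j (le_iSup_of_le hij le_rfl))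

theorem J_le {X : Fin 3 → Fin 3 → Subgroup G} {H : Subgroup G} (h : ∀ i j, i ≠ j → X i j ≤ H) : J X ≤ H :=
  iSup_le fun i => iSup_le fun j => iSup_le fun hij => h i j hij

/-- the elements acting by a matrix of determinant one -/
def W (h : Bas p b) : Subgroup G where
  carrier := {g | ∃ M : S3 (ZMod p), Rep b g M.1}
  one_mem' := ⟨1, rep_one b⟩
  mul_mem' := by
    rintro x y ⟨M, hM⟩ ⟨N, hN⟩
    exact ⟨M * N, rep_mul h hM hN⟩
  inv_mem' := by
    rintro x ⟨M, hM⟩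
    exact ⟨M⁻¹, rep_inv h hM⟩

/-- **Theorem.** A faithful action by the transvection groups gives `SL₃(p)`. -/
theorem exists_hom (h : Bas p b) (hi : Function.Injective (al b : (Fin 3 → ZMod p) → G))
    {X : Fin 3 → Fin 3 → Subgroup G}
    (hX : ∀ i j (hij : i ≠ j), ∀ x ∈ X i j, ∃ c : ZMod p,
      Rep b x (SpecialLinearGroup.transvection hij c : S3 (ZMod p)).1)
    (hX' : ∀ i j (hij : i ≠ j) (c : ZMod p), ∃ x ∈ X i j,
      Rep b x (SpecialLinearGroup.transvection hij c : S3 (ZMod p)).1)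
    (hker : ∀ g ∈ J X, (∀ k, g * b k = b k * g) → g = 1) :
    ∃ φ : S3 (ZMod p) →* G, Function.Injective φ ∧
      (∀ i j, i ≠ j → (Cfsg.Agent.CTFrame.SL3.X i j : Subgroup (S3 (ZMod p))).map φ = X i j) ∧
      (∀ M, Rep b (φ M) M.1) ∧ φ.range = J X := by
  have huniq : ∀ g ∈ J X, ∀ g' ∈ J X, ∀ M : S3 (ZMod p), Rep b g M.1 → Rep b g' M.1 → g = g' := by
    intro g hg g' hg' M h1 h2
    have h3 := rep_mul h h1 (rep_inv h h2)
    have h4 : M.1 * (M⁻¹ : S3 (ZMod p)).1 = 1 := by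
      have : M * M⁻¹ = 1 := mul_inv_cancel M
      exact congrArg Subtype.val this
    rw [h4] at h3
    have h5 := hker (g * g'⁻¹) ((J X).mul_mem hg ((J X).inv_mem hg')) (by
      intro k
      have := (h3 k).trans (rep_one (p := p) b k).symm
      rw [one_mul, inv_one, mul_one] at this
      exact mul_inv_eq_iff_eq_mul.1 this)
    exact mul_inv_eq_one.1 h5
  have hJW : J X ≤ W h := J_le fun i j hij x hx => by
    obtain ⟨c, hc⟩ := hX i j hij x hx
    exact ⟨_, hc⟩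
  have hex : ∀ M : S3 (ZMod p), ∃ g ∈ J X, Rep b g M.1 := by
    intro M
    refine Cfsg.Agent.LieClassical.SLGen.transvection_induction (fun M : S3 (ZMod p) => ∃ g ∈ J X, Rep b g M.1)
      ?_ ?_ M
    · intro i j hij c
      obtain ⟨x, hx, hxc⟩ := hX' i j hij c
      exact ⟨x, le_J hij hx, hxc⟩
    · rintro A B ⟨g, hg, hgA⟩ ⟨g', hg', hgB⟩
      exact ⟨g * g', (J X).mul_mem hg hg', rep_mul h hgA hgB⟩
  choose f hfJ hf using hex
  let φ : S3 (ZMod p) →* G :=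
    { toFun := f
      map_one' := huniq _ (hfJ 1) 1 (J X).one_mem 1 (hf 1) (rep_one b)
      map_mul' := fun M N => huniq _ (hfJ (M * N)) _ ((J X).mul_mem (hfJ M) (hfJ N)) (M * N) (hf (M * N))
        (rep_mul h (hf M) (hf N)) }
  have hφ : ∀ M, φ M = f M := fun _ => rfl
  have hrep : ∀ M, Rep b (φ M) M.1 := hf
  have hX1 : ∀ i j, i ≠ j → (Cfsg.Agent.CTFrame.SL3.X i j : Subgroup (S3 (ZMod p))).map φ = X i j := by
    intro i j hij
    ext x
    constructor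
    · rintro ⟨M, hM, rfl⟩
      obtain ⟨t, rfl⟩ := (mem_X hij).1 hM
      obtain ⟨x, hx, hxc⟩ := hX' i j hij t
      have := huniq _ (hfJ _) x (le_J hij hx) _ (hf _) hxc
      show f _ ∈ _
      rw [this]; exact hx
    · intro hx
      obtain ⟨c, hc⟩ := hX i j hij x hx
      exact ⟨SpecialLinearGroup.transvection hij c, tr_mem hij c, huniq _ (hfJ _) x (le_J hij hx) _ (hf _) hc⟩
  refine ⟨φ, ?_, hX1, hrep, ?_⟩
  · intro M N hMN
    have h1 := hrep M
    have h2 := hrep N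
    rw [hMN] at h1
    exact Subtype.ext (rep_inj hi h1 h2)
  · refine le_antisymm ?_ (J_le fun i j hij => ?_)
    · rintro _ ⟨M, rfl⟩
      exact hfJ M
    · rw [← hX1 i j hij]
      exact Subgroup.map_le_range φ _

end Cfsg.Agent.LFourFive.SixMod

private theorem dce_97f02cdd0fe9 : _root_.True := by
  try have : _root_.True := by simp only [_root_.Cfsg.Agent.LFourFive.SixMod.pw.eq_1]
  try have : _root_.True := by simp only [_root_.Cfsg.Agent.LFourFive.SixMod.al.eq_1]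
  exact _root_.True.intro
end
end

-- part: LFourFive/SixAbs
section
set_option linter.all false
open scoped Cfsg.Agent.FastGrp

/-!
# Step (6) of the pencil: `SL₃(p)` from the system of root groups

`exists_hom : Sys p X z e → ∃ φ : SL₃(p) →* G, injective, φ (std i j) = K X i j` for `i, j < 3`.
-/

set_option autoImplicit false
set_option linter.unusedSectionVars false
set_option linter.unusedVariables false

namespace Cfsg.Agent.LFourFive.SixAbs

open Matrix Cfsg.Agent.LFourFive.SixMod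
open Cfsg.Agent.CTFrame.SL3 (S3 en dg dg_coe tr_coe mem_X tr_mem Blk X_le_Blk cases3)

universe u

/-! ### `SL(2, p)` -/

section SL

variable {p : ℕ} [Fact p.Prime] {H : Type u} [Group H]

theorem commutator_eq_top (hp : 3 < p) (e : H ≃* _root_.Matrix.SpecialLinearGroup (Fin 2) (ZMod p)) : commutator H = ⊤ := by
  have h1 : commutator (_root_.Matrix.SpecialLinearGroup (Fin 2) (ZMod p)) = ⊤ :=
    Cfsg.Agent.TwoFusion.SLTwoFacts.commutator_eq_top (by rw [ZMod.card]; exact hp)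
  rw [commutator_def] at h1 ⊢
  have h2 : (⊤ : Subgroup H) = (⊤ : Subgroup (_root_.Matrix.SpecialLinearGroup (Fin 2) (ZMod p))).map e.symm.toMonoidHom := by
    rw [← MonoidHom.range_eq_map, MonoidHom.range_eq_top.2 e.symm.surjective]
  rw [h2, ← Subgroup.map_commutator, h1]

/-- a normal subgroup not containing the central involution is trivial -/
theorem normal_eq_bot (hp : 3 < p) (e : H ≃* _root_.Matrix.SpecialLinearGroup (Fin 2) (ZMod p)) {t : H} (ht : t ≠ 1)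
    (htc : ∀ x, t * x = x * t) {N : Subgroup H} (hN : N.Normal) (htN : t ∉ N) : N = ⊥ := by
  have hn : (N.map e.toMonoidHom).Normal := hN.map _ e.surjective
  have key : ∀ x : H, e x ∈ Subgroup.center (_root_.Matrix.SpecialLinearGroup (Fin 2) (ZMod p)) → e x = 1 ∨ e x = -1 :=
    fun x hx => Cfsg.Agent.ClassicalGeometry.PSL2Klein.mem_center.1 hx
  have et : e t = -1 := by
    rcases key t (by
      rw [Subgroup.mem_center_iff]
      intro g
      obtain ⟨x, rfl⟩ := e.surjective g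
      rw [← map_mul, ← map_mul, htc]) with h | h
    · exact absurd ((map_eq_one_iff e e.injective).1 h) ht
    · exact h
  rcases Cfsg.Agent.SylowSp4.SLGen.normal_cases (by rw [ZMod.card]; exact hp) _ hn with h | h
  · rw [Subgroup.eq_bot_iff_forall]
    intro x hx
    rcases key x (h ⟨x, hx, rfl⟩) with h1 | h1
    · exact (map_eq_one_iff e e.injective).1 h1
    · exact absurd (e.injective (h1.trans et.symm) ▸ hx) htN
  · exfalso
    obtain ⟨n, hn', hny⟩ : e t ∈ N.map e.toMonoidHom := by rw [h]; trivial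
    have : n = t := e.injective hny
    exact htN (this ▸ hn')

/-- an abelian normal subgroup has exponent two -/
theorem sq_eq_one_of_abelian_normal (hp : 3 < p) (e : H ≃* _root_.Matrix.SpecialLinearGroup (Fin 2) (ZMod p)) {N : Subgroup H}
    (hN : N.Normal) (hc : ∀ x ∈ N, ∀ y ∈ N, x * y = y * x) {x : H} (hx : x ∈ N) : x * x = 1 := by
  have hn : (N.map e.toMonoidHom).Normal := hN.map _ e.surjective
  have key : ∀ x : H, e x ∈ Subgroup.center (_root_.Matrix.SpecialLinearGroup (Fin 2) (ZMod p)) → x * x = 1 := by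
    intro x hx
    have : e x * e x = 1 := by
      rcases Cfsg.Agent.ClassicalGeometry.PSL2Klein.mem_center.1 hx with h | h
      · rw [h, mul_one]
      · rw [h]
        apply Subtype.ext
        ext i j
        (revert i j; simp [_root_.Fin.forall_fin_succ])
    rw [← map_mul] at this
    exact (map_eq_one_iff e e.injective).1 this
  rcases Cfsg.Agent.SylowSp4.SLGen.normal_cases (by rw [ZMod.card]; exact hp) _ hn with h | h
  · exact key x (h ⟨x, hx, rfl⟩)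
  · refine key x ?_
    rw [Subgroup.mem_center_iff]
    intro g
    have hg : g ∈ N.map e.toMonoidHom := by rw [h]; trivial
    obtain ⟨n, hn', rfl⟩ := hg
    show e n * e x = e x * e n
    rw [← map_mul, ← map_mul, hc n hn' x hx]

end SL

/-! ### Powers -/

variable {p : ℕ} [Fact p.Prime] {G : Type u} [Group G]

theorem pw_eq_one {g : G} (hg : g ^ p = 1) (hg1 : g ≠ 1) {a : ZMod p} (h : pw g a = 1) : a = 0 := by
  have h1 : orderOf g = p := orderOf_eq_prime hg hg1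
  have h2 : p ∣ a.val := (dvd_of_eq h1.symm).trans (orderOf_dvd_of_pow_eq_one h)
  have h3 : a.val < p := ZMod.val_lt a
  have h4 : a.val = 0 := Nat.eq_zero_of_dvd_of_lt h2 h3
  exact (ZMod.val_eq_zero a).1 h4

theorem al_neg {b : Fin 3 → G} (h : Bas p b) (v : Fin 3 → ZMod p) : al b (-v) = (al b v)⁻¹ := by
  rw [eq_inv_iff_mul_eq_one, ← al_add h, neg_add_cancel, al_zero]

theorem al_sub {b : Fin 3 → G} (h : Bas p b) (v w : Fin 3 → ZMod p) : al b (v - w) = al b v * (al b w)⁻¹ := by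
  rw [sub_eq_add_neg, al_add h, al_neg h]

/-- generator of a group of prime order -/
theorem exists_gen {H : Subgroup G} (hH : Nat.card H = p) :
    ∃ b ∈ H, b ≠ 1 ∧ b ^ p = 1 ∧ ∀ x ∈ H, ∃ a : ZMod p, x = pw b a := by
  have hp : p.Prime := Fact.out
  have : Finite H := Nat.finite_of_card_ne_zero (by rw [hH]; exact hp.ne_zero)
  have : Nontrivial H := Finite.one_lt_card_iff_nontrivial.1 (by rw [hH]; exact hp.one_lt)
  obtain ⟨b, hb⟩ := exists_ne (1 : H)
  have hbp : (b : G) ^ p = 1 := by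
    have h1 : b ^ Nat.card H = 1 := pow_card_eq_one'
    rw [hH] at h1
    have := congrArg Subtype.val h1
    simpa only [_root_.SubmonoidClass.coe_pow, _root_.OneMemClass.coe_one] using this
  refine ⟨b, b.2, fun h => hb (Subtype.ext h), hbp, ?_⟩
  intro x hx
  have h1 : (⟨x, hx⟩ : H) ∈ Submonoid.powers b := mem_powers_of_prime_card (p := p) hH hb
  obtain ⟨n, hn⟩ := h1
  refine ⟨(n : ZMod p), ?_⟩
  have h2 : (b : G) ^ n = x := by
    have := congrArg Subtype.val hn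
    simpa using this
  rw [pw, ZMod.val_natCast, ← pow_eq_pow_mod _ hbp, h2]

/-! ### The system -/

variable {X : Fin 4 → Fin 4 → Subgroup G} {z e : G}

theorem zz_symm (i j : Fin 4) : zz z e i j = zz z e j i := by
  fin_cases i <;> fin_cases j <;> rfl

/-- embedding of the first three labels -/
abbrev c (i : Fin 3) : Fin 4 := i.castSucc

theorem c_ne {i j : Fin 3} (h : i ≠ j) : c i ≠ c j := fun h' => h (Fin.castSucc_injective _ h')

theorem c_ne3 (i : Fin 3) : c i ≠ 3 := by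
  fin_cases i <;> decide

theorem zz_compl {i j k : Fin 3} (hij : i ≠ j) (hjk : j ≠ k) (hik : i ≠ k) :
    zz z e (c i) (c j) = zz z e (c k) 3 := by
  fin_cases i <;> fin_cases j <;> first | exact absurd rfl hij | skip
  all_goals fin_cases k <;> first | exact absurd rfl hjk | exact absurd rfl hik | rfl

theorem third {i j : Fin 3} (hij : i ≠ j) : ∃ k, j ≠ k ∧ i ≠ k := by
  revert i j; decide

/-- generators of the three root groups `X i 3` -/
structure Gn (p : ℕ) (X : Fin 4 → Fin 4 → Subgroup G) (b : Fin 3 → G) : Prop where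
  mem : ∀ i, b i ∈ X (c i) 3
  ne : ∀ i, b i ≠ 1
  ord : ∀ i, b i ^ p = 1
  gen : ∀ i, ∀ x ∈ X (c i) 3, ∃ a : ZMod p, x = pw (b i) a

theorem exists_gn (h : Sys p X z e) : ∃ b, Gn p X b := by
  have h1 : ∀ i : Fin 3, ∃ b ∈ X (c i) 3, b ≠ 1 ∧ b ^ p = 1 ∧ ∀ x ∈ X (c i) 3, ∃ a : ZMod p, x = pw b a :=
    fun i => exists_gen (h.card _ _ (c_ne3 i))
  choose b hb h2 h3 h4 using h1
  exact ⟨b, ⟨hb, h2, h3, h4⟩⟩

variable {b : Fin 3 → G}

theorem bas (h : Sys p X z e) (hb : Gn p X b) : Bas p b where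
  comm i j := by
    by_cases hij : i = j
    · rw [hij]
    · exact h.col (c i) 3 (c j) (c_ne3 i) (c_ne3 j).symm (c_ne hij) _ (hb.mem i) _ (hb.mem j)
  ord := hb.ord

/-- the involution `t_k = zz k 3` acts as `dg k` -/
theorem rep_zz (h : Sys p X z e) (hb : Gn p X b) (k : Fin 3) :
    _root_.Cfsg.Agent.LFourFive.SixMod.Rep b (zz z e (c k) 3) (dg k : S3 (ZMod p)).1 := by
  have hB := bas h hb
  intro m
  by_cases hm : m = k
  · subst hm
    have e1 : zz z e (c m) 3 * b m * (zz z e (c m) 3)⁻¹ = b m := by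
      rw [mul_inv_eq_iff_eq_mul]
      exact h.z_fix _ _ (c_ne3 m) _ (hb.mem m)
    rw [e1]
    nth_rw 1 [← al_single (p := p) b m]
    congr 1
    ext i
    have := dg_coe (F := ZMod p) m i m
    rw [en] at this
    rw [this, Pi.single_apply]
    by_cases him : i = m <;> simp [him]
  · have e1 : zz z e (c k) 3 * b m * (zz z e (c k) 3)⁻¹ = (b m)⁻¹ := by
      rw [zz_symm]
      exact h.z_col 3 (c k) (c m) (c_ne3 k).symm (c_ne (Ne.symm hm)) (c_ne3 m).symm _ (hb.mem m)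
    rw [e1]
    nth_rw 1 [← al_single (p := p) b m]
    rw [← al_neg hB]
    congr 1
    ext i
    have := dg_coe (F := ZMod p) k i m
    rw [en] at this
    rw [this, Pi.neg_apply, Pi.single_apply]
    by_cases him : i = m
    · subst him; simp [hm]
    · simp [him]

theorem dg_vec (k : Fin 3) (v : Fin 3 → ZMod p) :
    v + (dg k : S3 (ZMod p)).1 *ᵥ v = (2 * v k) • Pi.single k (1 : ZMod p) := by
  ext i
  have hd : ∀ m, (dg k : S3 (ZMod p)).1 i m = if i = m then (if i = k then 1 else -1) else 0 := fun m => dg_coe k i m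
  rw [Pi.add_apply, Matrix.mulVec, dotProduct]
  simp only [hd, ite_mul, zero_mul, Finset.sum_ite_eq, Finset.mem_univ, if_true, Pi.smul_apply, Pi.single_apply,
    smul_eq_mul]
  by_cases hik : i = k
  · subst hik; simp; ring
  · simp [hik]

theorem mul_conj_zz (h : Sys p X z e) (hb : Gn p X b) (k : Fin 3) (v : Fin 3 → ZMod p) :
    al b v * (zz z e (c k) 3 * al b v * (zz z e (c k) 3)⁻¹) = pw (b k) (2 * v k) := by
  have hB := bas h hb
  rw [rep_apply hB (rep_zz h hb k), ← al_add hB, dg_vec, al_smul hB, al_single]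

theorem two_ne (hp : 3 < p) : (2 : ZMod p) ≠ 0 := by
  intro h
  have h1 : ((2 : ℕ) : ZMod p) = 0 := by exact_mod_cast h
  rw [ZMod.natCast_eq_zero_iff] at h1
  have := Nat.le_of_dvd (by norm_num) h1
  omega

theorem al_inj (hp : 3 < p) (h : Sys p X z e) (hb : Gn p X b) :
    Function.Injective (al b : (Fin 3 → ZMod p) → G) := by
  have hB := bas h hb
  have key : ∀ v : Fin 3 → ZMod p, al b v = 1 → v = 0 := by
    intro v hv
    ext k
    have h1 := mul_conj_zz h hb k v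
    rw [hv, mul_one, mul_inv_cancel, mul_one] at h1
    have h2 := pw_eq_one (hb.ord k) (hb.ne k) h1.symm
    rcases mul_eq_zero.1 h2 with h3 | h3
    · exact absurd h3 (two_ne hp)
    · exact h3
  intro v w hvw
  have := key (v - w) (by rw [al_sub hB, hvw, mul_inv_cancel])
  exact sub_eq_zero.1 this

/-- the three-dimensional part of the system -/
def Y (X : Fin 4 → Fin 4 → Subgroup G) (i j : Fin 3) : Subgroup G := X (c i) (c j)

theorem rep_X (h : Sys p X z e) (hb : Gn p X b) (i j : Fin 3) (hij : i ≠ j) (x : G) (hx : x ∈ Y X i j) :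
    ∃ a : ZMod p, _root_.Cfsg.Agent.LFourFive.SixMod.Rep b x (SpecialLinearGroup.transvection hij a : S3 (ZMod p)).1 := by
  have hB := bas h hb
  have h1 := h.com (c i) (c j) 3 (c_ne hij) (c_ne3 j) (c_ne3 i) x hx (b j) (hb.mem j)
  obtain ⟨a, ha⟩ := hb.gen i _ h1
  refine ⟨a, rep_transvection hB hij ?_ ?_⟩
  · intro k hk
    by_cases hki : k = i
    · subst hki
      exact h.row (c k) (c j) 3 (c_ne hij) (c_ne3 j) (c_ne3 k) x hx _ (hb.mem k)
    · exact h.opp (c i) (c j) (c k) 3 (c_ne hij) (c_ne (Ne.symm hki)) (c_ne3 i) (c_ne (Ne.symm hk)) (c_ne3 j)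
        (c_ne3 k) x hx _ (hb.mem k)
  · rw [mul_inv_eq_iff_eq_mul] at ha
    rw [ha]
    have : pw (b i) a * pw (b j) (1 : ZMod p) = pw (b j) (1 : ZMod p) * pw (b i) a := pw_comm (hB.comm i j) _ _
    rw [pw_one] at this
    exact this

theorem tr_inv {i j : Fin 3} (hij : i ≠ j) (a : ZMod p) :
    ((SpecialLinearGroup.transvection hij a)⁻¹ : S3 (ZMod p)) = SpecialLinearGroup.transvection hij (-a) :=
  (Cfsg.Agent.CTFrame.SL3.tr_neg hij a).symm

/-- the elements acting as a transvection of type `i j` -/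
def T (hB : Bas p b) {i j : Fin 3} (hij : i ≠ j) : Subgroup G where
  carrier := {g | ∃ a : ZMod p, _root_.Cfsg.Agent.LFourFive.SixMod.Rep b g (SpecialLinearGroup.transvection hij a : S3 (ZMod p)).1}
  one_mem' := ⟨0, by
    rw [Cfsg.Agent.CTFrame.SL3.tr_zero hij]
    exact rep_one b⟩
  mul_mem' := by
    rintro x y ⟨a, ha⟩ ⟨a', ha'⟩
    refine ⟨a + a', ?_⟩
    rw [Cfsg.Agent.CTFrame.SL3.tr_add hij]
    exact rep_mul hB ha ha'
  inv_mem' := by
    rintro x ⟨a, ha⟩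
    refine ⟨-a, ?_⟩
    rw [← tr_inv hij]
    exact rep_inv hB ha

/-- the centraliser of `⟨b⟩` -/
def C (b : Fin 3 → G) : Subgroup G := Subgroup.centralizer (Set.range b)

theorem mem_C {g : G} : g ∈ C b ↔ ∀ k, g * b k = b k * g := by
  rw [C, Subgroup.mem_centralizer_iff]
  constructor
  · intro h k
    exact (h (b k) ⟨k, rfl⟩).symm
  · rintro h _ ⟨k, rfl⟩
    exact (h k).symm

theorem mem_C_of_rep_one {g : G} (hg : _root_.Cfsg.Agent.LFourFive.SixMod.Rep b g (1 : Matrix (Fin 3) (Fin 3) (ZMod p))) : g ∈ C b := by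
  rw [mem_C]
  intro k
  have := (hg k).trans (rep_one (p := p) b k).symm
  rw [one_mul, inv_one, mul_one] at this
  exact mul_inv_eq_iff_eq_mul.1 this

theorem rep_one_of_mem_C {g : G} (hg : g ∈ C b) : _root_.Cfsg.Agent.LFourFive.SixMod.Rep b g (1 : Matrix (Fin 3) (Fin 3) (ZMod p)) := by
  intro k
  rw [mem_C.1 hg k, mul_inv_cancel_right]
  have := rep_one (p := p) b k
  rw [one_mul, inv_one, mul_one] at this
  exact this

theorem commutator_T_le (hB : Bas p b) {i j : Fin 3} (hij : i ≠ j) : ⁅T hB hij, T hB hij⁆ ≤ C b := by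
  rw [Subgroup.commutator_le]
  rintro x ⟨a, ha⟩ y ⟨a', ha'⟩
  apply mem_C_of_rep_one (p := p)
  have h1 := rep_mul hB (rep_mul hB (rep_mul hB ha ha') (rep_inv hB ha)) (rep_inv hB ha')
  have h2 : (SpecialLinearGroup.transvection hij a : S3 (ZMod p)).1 * (SpecialLinearGroup.transvection hij a' : S3 (ZMod p)).1 *
      ((SpecialLinearGroup.transvection hij a)⁻¹ : S3 (ZMod p)).1 *
      ((SpecialLinearGroup.transvection hij a')⁻¹ : S3 (ZMod p)).1 = 1 := by
    have h3 : (SpecialLinearGroup.transvection hij a : S3 (ZMod p)) * SpecialLinearGroup.transvection hij a' *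
        (SpecialLinearGroup.transvection hij a)⁻¹ * (SpecialLinearGroup.transvection hij a')⁻¹ = 1 := by
      rw [tr_inv, tr_inv, ← Cfsg.Agent.CTFrame.SL3.tr_add, ← Cfsg.Agent.CTFrame.SL3.tr_add,
        ← Cfsg.Agent.CTFrame.SL3.tr_add]
      have : a + a' + -a + -a' = 0 := by ring
      rw [this, Cfsg.Agent.CTFrame.SL3.tr_zero]
    exact congrArg Subtype.val h3
  rw [h2] at h1
  exact h1

theorem K_perfect (hp : 3 < p) (h : Sys p X z e) {i j : Fin 4} (hij : i ≠ j) : ⁅K X i j, K X i j⁆ = K X i j := by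
  obtain ⟨f⟩ := h.iso i j hij
  have h1 := commutator_eq_top hp f
  rw [commutator_def] at h1
  have h2 := congrArg (Subgroup.map (K X i j).subtype) h1
  rw [Subgroup.map_commutator, ← MonoidHom.range_eq_map, Subgroup.range_subtype] at h2
  exact h2

/-- `zz i j` does not centralise `⟨b⟩` -/
theorem zz_notMem_C (hp : 3 < p) (h : Sys p X z e) (hb : Gn p X b) {i j : Fin 3} (hij : i ≠ j) :
    zz z e (c i) (c j) ∉ C b := by
  intro hc
  have h1 := mem_C.1 hc i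
  have h2 := h.z_row (c i) (c j) 3 (c_ne hij) (c_ne3 j) (c_ne3 i) _ (hb.mem i)
  rw [h1, mul_inv_cancel_right] at h2
  have h3 : pw (b i) (2 : ZMod p) = 1 := by
    have : (2 : ZMod p) = 1 + 1 := by norm_num
    rw [this, pw_add (hb.ord i), pw_one]
    nth_rw 1 [h2]
    exact inv_mul_cancel _
  exact two_ne hp (pw_eq_one (hb.ord i) (hb.ne i) h3)

theorem rep_X' (hp : 3 < p) (h : Sys p X z e) (hb : Gn p X b) (i j : Fin 3) (hij : i ≠ j) (a : ZMod p) :
    ∃ x ∈ Y X i j, _root_.Cfsg.Agent.LFourFive.SixMod.Rep b x (SpecialLinearGroup.transvection hij a : S3 (ZMod p)).1 := by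
  have hB := bas h hb
  have hi := al_inj hp h hb
  -- some element acts non-trivially
  have hex : ∃ x ∈ Y X i j, ∃ a : ZMod p, a ≠ 0 ∧ _root_.Cfsg.Agent.LFourFive.SixMod.Rep b x (SpecialLinearGroup.transvection hij a : S3 (ZMod p)).1 := by
    by_contra hno
    push Not at hno
    have h1 : Y X i j ≤ C b := by
      intro x hx
      obtain ⟨a, ha⟩ := rep_X h hb i j hij x hx
      have : a = 0 := by
        by_contra ha0
        exact hno x hx a ha0 ha
      subst this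
      rw [Cfsg.Agent.CTFrame.SL3.tr_zero hij] at ha
      exact mem_C_of_rep_one ha
    have h2 : K X (c i) (c j) ≤ T hB hij.symm := by
      refine sup_le ?_ ?_
      · intro x hx
        refine ⟨0, ?_⟩
        rw [Cfsg.Agent.CTFrame.SL3.tr_zero]
        exact rep_one_of_mem_C (h1 hx)
      · intro x hx
        exact rep_X h hb j i hij.symm x hx
    have h3 : K X (c i) (c j) ≤ C b := by
      rw [← K_perfect hp h (c_ne hij)]
      exact (Subgroup.commutator_mono h2 h2).trans (commutator_T_le hB _)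
    exact zz_notMem_C hp h hb hij (h3 (h.z_mem _ _ (c_ne hij)))
  obtain ⟨x, hx, a0, ha0, hr⟩ := hex
  have hpow : ∀ n : ℕ, _root_.Cfsg.Agent.LFourFive.SixMod.Rep b (x ^ n) (SpecialLinearGroup.transvection hij ((n : ZMod p) * a0) : S3 (ZMod p)).1 := by
    intro n
    induction n with
    | zero =>
      rw [pow_zero, Nat.cast_zero, zero_mul, Cfsg.Agent.CTFrame.SL3.tr_zero]
      exact rep_one b
    | succ n ih =>
      rw [pow_succ, Nat.cast_succ, add_mul, one_mul, Cfsg.Agent.CTFrame.SL3.tr_add]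
      exact rep_mul hB ih hr
  refine ⟨x ^ (a / a0).val, (Y X i j).pow_mem hx _, ?_⟩
  have := hpow (a / a0).val
  rw [ZMod.natCast_zmod_val, div_mul_cancel₀ _ ha0] at this
  exact this

/-- the elements acting as an element of the block group `Blk m` -/
def TB (hB : Bas p b) (m : Fin 3) : Subgroup G where
  carrier := {g | ∃ M ∈ (Blk m : Subgroup (S3 (ZMod p))), _root_.Cfsg.Agent.LFourFive.SixMod.Rep b g M.1}
  one_mem' := ⟨1, (Blk m).one_mem, rep_one b⟩
  mul_mem' := by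
    rintro x y ⟨M, hM, h1⟩ ⟨N, hN, h2⟩
    exact ⟨M * N, (Blk m).mul_mem hM hN, rep_mul hB h1 h2⟩
  inv_mem' := by
    rintro x ⟨M, hM, h1⟩
    exact ⟨M⁻¹, (Blk m).inv_mem hM, rep_inv hB h1⟩

theorem K_le_TB (h : Sys p X z e) (hb : Gn p X b) {i j k : Fin 3} (hij : i ≠ j) (hjk : j ≠ k) (hik : i ≠ k) :
    K X (c i) (c j) ≤ TB (bas h hb) k := by
  refine sup_le ?_ ?_
  · intro x hx
    obtain ⟨a, ha⟩ := rep_X h hb i j hij x hx
    exact ⟨_, X_le_Blk hij hjk hik (tr_mem hij a), ha⟩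
  · intro x hx
    obtain ⟨a, ha⟩ := rep_X h hb j i hij.symm x hx
    exact ⟨_, X_le_Blk hij.symm hik hjk (tr_mem hij.symm a), ha⟩

/-- `K i j` acts faithfully on `⟨b⟩` -/
theorem K_faithful (hp : 3 < p) (h : Sys p X z e) (hb : Gn p X b) {i j : Fin 3} (hij : i ≠ j) {g : G}
    (hg : g ∈ K X (c i) (c j)) (hgC : g ∈ C b) : g = 1 := by
  have hB := bas h hb
  obtain ⟨f⟩ := h.iso (c i) (c j) (c_ne hij)
  obtain ⟨k, hjk, hik⟩ := third hij
  have ht := h.z_mem _ _ (c_ne hij)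
  have hN : ((C b).subgroupOf (K X (c i) (c j))).Normal := by
    refine ⟨fun n hn g => ?_⟩
    rw [Subgroup.mem_subgroupOf] at hn ⊢
    obtain ⟨M, _, hM⟩ := K_le_TB h hb hij hjk hik g.2
    apply mem_C_of_rep_one (p := p)
    have h1 := rep_mul hB (rep_mul hB hM (rep_one_of_mem_C (p := p) hn)) (rep_inv hB hM)
    have h2 : M.1 * 1 * (M⁻¹ : S3 (ZMod p)).1 = 1 := by
      rw [mul_one]
      have : M * M⁻¹ = 1 := mul_inv_cancel M
      exact congrArg Subtype.val this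
    rw [h2] at h1
    exact h1
  have h1 := normal_eq_bot hp f (t := ⟨zz z e (c i) (c j), ht⟩) (fun h' => h.z_ne _ _ (c_ne hij) (congrArg Subtype.val h'))
    (by
      rintro ⟨x, hx⟩
      apply Subtype.ext
      show zz z e (c i) (c j) * x = x * zz z e (c i) (c j)
      have h2 : K X (c i) (c j) ≤ Subgroup.centralizer {zz z e (c i) (c j)} := by
        refine sup_le ?_ ?_
        · intro y hy
          rw [Subgroup.mem_centralizer_singleton_iff]
          exact (h.z_fix _ _ (c_ne hij) y hy).symm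
        · intro y hy
          rw [Subgroup.mem_centralizer_singleton_iff, zz_symm]
          exact (h.z_fix _ _ (c_ne hij).symm y hy).symm
      exact (Subgroup.mem_centralizer_singleton_iff.1 (h2 hx)).symm) hN
    (by
      rw [Subgroup.mem_subgroupOf]
      exact zz_notMem_C hp h hb hij)
  have h3 : (⟨g, hg⟩ : K X (c i) (c j)) ∈ (C b).subgroupOf (K X (c i) (c j)) := by
    rw [Subgroup.mem_subgroupOf]; exact hgC
  rw [h1, Subgroup.mem_bot] at h3
  exact congrArg Subtype.val h3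

/-- conjugation by an element acting by a matrix preserves `C` -/
theorem conj_mem_C (hB : Bas p b) {t : G} {M : S3 (ZMod p)} (hM : _root_.Cfsg.Agent.LFourFive.SixMod.Rep b t M.1) {g : G} (hg : g ∈ C b) :
    t * g * t⁻¹ ∈ C b := by
  apply mem_C_of_rep_one (p := p)
  have h1 := rep_mul hB (rep_mul hB hM (rep_one_of_mem_C (p := p) hg)) (rep_inv hB hM)
  have h2 : M.1 * 1 * (M⁻¹ : S3 (ZMod p)).1 = 1 := by
    rw [mul_one]
    have : M * M⁻¹ = 1 := mul_inv_cancel M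
    exact congrArg Subtype.val this
  rw [h2] at h1
  exact h1

theorem exists_other (i : Fin 3) : ∃ j k : Fin 3, i ≠ j ∧ j ≠ k ∧ i ≠ k := by
  revert i; decide

/-- the centraliser of `⟨b⟩` is contained in the odd groups `Q i` -/
theorem exists_Q (hp : 3 < p) (h : Sys p X z e) (hb : Gn p X b) (i : Fin 3) : ∃ Q : Subgroup G, Odd (Nat.card Q) ∧
    C b ≤ Q ∧ ∀ q ∈ Q, q * zz z e (c i) 3 = zz z e (c i) 3 * q → q ∈ X (c i) 3 := by
  have hB := bas h hb
  have hi := al_inj hp h hb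
  obtain ⟨j, k, hij, hjk, hik⟩ := exists_other i
  obtain ⟨Q, hodd, hdec, hcent, hcomm, -, -, hj3, hk3⟩ := h.core (c i) 3 (c j) (c k) (c_ne3 i) (c_ne hij) (c_ne hik)
    (c_ne3 j).symm (c_ne3 k).symm (c_ne hjk)
  refine ⟨Q, hodd, ?_, hcent⟩
  intro g hg
  obtain ⟨q, hq, k', hk', rfl⟩ := hdec g (by
    intro x hx
    obtain ⟨a, rfl⟩ := hb.gen i x hx
    have := pw_comm (p := p) (mem_C.1 hg i) 1 a
    rw [pw_one] at this
    exact this)
  obtain ⟨M, hM, hr⟩ := K_le_TB h hb hjk (Ne.symm hik) (Ne.symm hij) hk'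
  have hmQ : ∀ m, m ≠ i → b m ∈ Q := by
    intro m hm
    rcases cases3 hij hjk hik m with rfl | rfl | rfl
    · exact absurd rfl hm
    · exact hj3 (hb.mem _)
    · exact hk3 (hb.mem _)
  have hk1 : k' ∈ C b := by
    rw [mem_C]
    intro m
    rw [← mul_inv_eq_iff_eq_mul]
    by_cases hm : m = i
    · subst hm
      refine (hr m).trans (Eq.trans (congrArg (al b) ?_) (al_single (p := p) b m))
      ext l
      rw [Pi.single_apply]
      exact (hM l).1
    · have h1 : q⁻¹ * b m * q * (b m)⁻¹ ∈ X (c i) 3 := by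
        have := hcomm q⁻¹ (Q.inv_mem hq) (b m) (hmQ m hm)
        rw [inv_inv] at this
        exact this
      obtain ⟨a, ha⟩ := hb.gen i _ h1
      have h2 : k' * b m * k'⁻¹ = pw (b i) a * b m := by
        have h3 := mem_C.1 hg m
        have h4 : k' * b m * k'⁻¹ = q⁻¹ * b m * q := by
          have h5 : q * k' * b m * k'⁻¹ * q⁻¹ = b m := by
            rw [h3]; group
          calc k' * b m * k'⁻¹ = q⁻¹ * (q * k' * b m * k'⁻¹ * q⁻¹) * q := by group
            _ = q⁻¹ * b m * q := by rw [h5]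
        rw [h4]
        exact mul_inv_eq_iff_eq_mul.1 ha
      have h3 : al b (fun l => M.1 l m) = al b (a • Pi.single i 1 + Pi.single m 1) := by
        rw [← hr m, h2, al_add hB, al_smul hB, al_single, al_single]
      have h4 := congrFun (hi h3) i
      have h5 : M.1 i m = 0 := by
        have := (hM m).2
        rw [if_neg hm] at this
        exact this
      have h6 : a = 0 := by
        simp only [h5, Pi.add_apply, Pi.smul_apply, Pi.single_apply, smul_eq_mul, if_true, mul_one,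
          if_neg (Ne.symm hm), add_zero] at h4
        exact h4.symm
      rw [h2, h6, pw_zero, one_mul]
  have := K_faithful hp h hb hjk hk' hk1
  rw [this, mul_one]
  exact hq

/-- the group `⟨b⟩` -/
def A (hB : Bas p b) : Subgroup G where
  carrier := {g | ∃ v : Fin 3 → ZMod p, g = al b v}
  one_mem' := ⟨0, (al_zero b).symm⟩
  mul_mem' := by
    rintro x y ⟨v, rfl⟩ ⟨w, rfl⟩
    exact ⟨v + w, (al_add hB v w).symm⟩
  inv_mem' := by
    rintro x ⟨v, rfl⟩
    exact ⟨-v, (al_neg hB v).symm⟩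

/-- `C_G(⟨b⟩) = ⟨b⟩` -/
theorem C_le [Finite G] (hp : 3 < p) (h : Sys p X z e) (hb : Gn p X b) : C b ≤ A (bas h hb) := by
  have hB := bas h hb
  have hodd : Odd (Nat.card (C b)) := by
    obtain ⟨Q, h1, h2, -⟩ := exists_Q hp h hb 0
    exact Odd.of_dvd_nat h1 (Subgroup.card_dvd_of_le h2)
  have key : ∀ i : Fin 3, C b ⊓ Subgroup.centralizer {zz z e (c i) 3} ≤ A hB := by
    intro i g hg
    obtain ⟨Q, -, h2, h3⟩ := exists_Q hp h hb i
    have h4 := h3 g (h2 hg.1) (Subgroup.mem_centralizer_singleton_iff.1 hg.2)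
    obtain ⟨a, rfl⟩ := hb.gen i g h4
    refine ⟨a • Pi.single i 1, ?_⟩
    rw [al_smul hB, al_single]
  have hconj : ∀ i : Fin 3, ∀ g ∈ C b, zz z e (c i) 3 * g * (zz z e (c i) 3)⁻¹ ∈ C b := fun i g hg =>
    conj_mem_C hB (rep_zz h hb i) hg
  have hsq : zz z e (c 0) 3 * zz z e (c 0) 3 = 1 := by
    show e * z * (e * z) = 1
    rw [mul_assoc, ← mul_assoc z e z, h.ze, mul_assoc e z z, h.sqz, mul_one, h.sqe]
  have hm : zz z e (c 0) 3 * zz z e (c 1) 3 = zz z e (c 2) 3 := by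
    show e * z * e = z
    rw [mul_assoc, h.ze, ← mul_assoc, h.sqe, one_mul]
  refine Cfsg.Agent.Lib.KleinGen.le_of_klein (C b) (A hB) hodd (zz z e (c 0) 3) (zz z e (c 1) 3) hsq h.sqe ?_
    (hconj 0) (hconj 1) (key 0) (key 1) ?_
  · show e * z * e = e * (e * z)
    rw [mul_assoc, h.ze]
  · rw [hm]; exact key 2

/-- **The action of `J` is faithful.** -/
theorem hker [Finite G] (hp : 3 < p) (h : Sys p X z e) (hb : Gn p X b) :
    ∀ g ∈ _root_.Cfsg.Agent.LFourFive.SixMod.J (Y X), (∀ k, g * b k = b k * g) → g = 1 := by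
  intro g hgJ hgC
  have hB := bas h hb
  obtain ⟨v, rfl⟩ := C_le hp h hb (mem_C.2 hgC)
  suffices hv : v = 0 by rw [hv, al_zero]
  ext k
  rw [Pi.zero_apply]
  by_contra hk
  obtain ⟨i, j, hki, hij, hkj⟩ := exists_other k
  -- `b k ∈ J`
  have hY : ∀ i j : Fin 3, i ≠ j → X (c i) (c j) ≤ _root_.Cfsg.Agent.LFourFive.SixMod.J (Y X) := fun i j hij => le_J (X := Y X) hij
  have htJ : zz z e (c k) 3 ∈ _root_.Cfsg.Agent.LFourFive.SixMod.J (Y X) := by
    rw [← zz_compl hij (Ne.symm hkj) (Ne.symm hki)]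
    exact (sup_le (hY i j hij) (hY j i hij.symm) : K X (c i) (c j) ≤ _root_.Cfsg.Agent.LFourFive.SixMod.J (Y X)) (h.z_mem _ _ (c_ne hij))
  have hu : pw (b k) (2 * v k) ∈ _root_.Cfsg.Agent.LFourFive.SixMod.J (Y X) := by
    rw [← mul_conj_zz h hb k v]
    exact (_root_.Cfsg.Agent.LFourFive.SixMod.J (Y X)).mul_mem hgJ ((_root_.Cfsg.Agent.LFourFive.SixMod.J (Y X)).mul_mem ((_root_.Cfsg.Agent.LFourFive.SixMod.J (Y X)).mul_mem htJ hgJ) ((_root_.Cfsg.Agent.LFourFive.SixMod.J (Y X)).inv_mem htJ))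
  have h2v : 2 * v k ≠ 0 := mul_ne_zero (two_ne hp) hk
  have hbJ : b k ∈ _root_.Cfsg.Agent.LFourFive.SixMod.J (Y X) := by
    have h1 : pw (pw (b k) (2 * v k)) (2 * v k)⁻¹ ∈ _root_.Cfsg.Agent.LFourFive.SixMod.J (Y X) := (_root_.Cfsg.Agent.LFourFive.SixMod.J (Y X)).pow_mem hu _
    rw [pw_pw (hb.ord k), inv_mul_cancel₀ h2v, pw_one] at h1
    exact h1
  -- the dual module
  set S : Set G := ⋃ i : Fin 3, (X 3 (c i) : Set G) with hS
  set A' : Subgroup G := Subgroup.closure S with hA'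
  have hle : ∀ i : Fin 3, X 3 (c i) ≤ A' := fun i x hx => Subgroup.subset_closure (Set.mem_iUnion.2 ⟨i, hx⟩)
  have hcomm : ∀ x ∈ A', ∀ y ∈ A', x * y = y * x := by
    have h1 : A' ≤ Subgroup.centralizer (A' : Set G) := by
      rw [hA', Subgroup.centralizer_closure, Subgroup.closure_le]
      intro x hx
      obtain ⟨i, hi⟩ := Set.mem_iUnion.1 hx
      show x ∈ Subgroup.centralizer S
      rw [Subgroup.mem_centralizer_iff]
      intro y hy
      obtain ⟨j, hj⟩ := Set.mem_iUnion.1 hy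
      by_cases hij : i = j
      · subst hij
        obtain ⟨w, -, -, -, hw⟩ := exists_gen (p := p) (h.card 3 (c i) (c_ne3 i).symm)
        obtain ⟨s, rfl⟩ := hw x hi
        obtain ⟨s', rfl⟩ := hw y hj
        exact pw_comm rfl _ _
      · exact (h.row 3 (c i) (c j) (c_ne3 i).symm (c_ne hij) (c_ne3 j).symm x hi y hj).symm
    intro x hx y hy
    exact (Subgroup.mem_centralizer_iff.1 (h1 hx) y hy).symm
  have hnorm : _root_.Cfsg.Agent.LFourFive.SixMod.J (Y X) ≤ Subgroup.normalizer (A' : Set G) := by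
    refine J_le fun i j hij x hx => ?_
    refine Subgroup.mem_normalizer_fintype (S := (A' : Set G)) ?_
    intro y hy
    have h1 : A' ≤ A'.comap (MulAut.conj x).toMonoidHom := by
      rw [hA', Subgroup.closure_le]
      intro y hy
      obtain ⟨m, hm⟩ := Set.mem_iUnion.1 hy
      show x * y * x⁻¹ ∈ A'
      by_cases hmi : m = i
      · subst hmi
        have h2 := h.com 3 (c m) (c j) (c_ne3 m).symm (c_ne hij) (c_ne3 j).symm y hm x hx
        have h3 : x * y * x⁻¹ = (y * x * y⁻¹ * x⁻¹)⁻¹ * y := by group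
        rw [h3]
        exact A'.mul_mem (A'.inv_mem (hle j h2)) (hle m hm)
      · have h2 : x * y = y * x := by
          by_cases hmj : m = j
          · subst hmj
            exact h.col (c i) (c m) 3 (c_ne hij) (c_ne3 m) (c_ne3 i) x hx y hm
          · exact h.opp (c i) (c j) 3 (c m) (c_ne hij) (c_ne3 i) (c_ne (Ne.symm hmi)) (c_ne3 j)
              (c_ne (Ne.symm hmj)) (c_ne3 m).symm x hx y hm
        rw [h2, mul_inv_cancel_right]
        exact hle m hm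
    exact h1 hy
  have hKN : K X (c k) 3 ≤ Subgroup.normalizer (A' : Set G) := by
    refine sup_le ?_ ?_
    · intro x hx
      obtain ⟨a, rfl⟩ := hb.gen k x hx
      exact (Subgroup.normalizer (A' : Set G)).pow_mem (hnorm hbJ) _
    · exact (hle k).trans Subgroup.le_normalizer
  obtain ⟨w, hw, hw1, hwp, -⟩ := exists_gen (p := p) (h.card 3 (c k) (c_ne3 k).symm)
  have hN : (A'.subgroupOf (K X (c k) 3)).Normal := by
    refine ⟨fun n hn g => ?_⟩
    rw [Subgroup.mem_subgroupOf] at hn ⊢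
    exact (Subgroup.mem_normalizer_iff.1 (hKN g.2) n).1 hn
  obtain ⟨f⟩ := h.iso (c k) 3 (c_ne3 k)
  have hwK : w ∈ K X (c k) 3 := (le_sup_right : X 3 (c k) ≤ K X (c k) 3) hw
  have hfin := sq_eq_one_of_abelian_normal hp f hN (by
    intro x hx y hy
    apply Subtype.ext
    exact hcomm _ (Subgroup.mem_subgroupOf.1 hx) _ (Subgroup.mem_subgroupOf.1 hy)) (x := ⟨w, hwK⟩)
    (Subgroup.mem_subgroupOf.2 (hle k hw))
  have h3 : pw w (2 : ZMod p) = 1 := by
    have : (2 : ZMod p) = 1 + 1 := by norm_num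
    rw [this, pw_add hwp, pw_one]
    exact congrArg Subtype.val hfin
  exact two_ne hp (pw_eq_one hwp hw1 h3)

/-- **Step (6).** -/
theorem exists_hom [Finite G] (hp : 3 < p) (h : Sys p X z e) :
    ∃ φ : S3 (ZMod p) →* G, Function.Injective φ ∧
      ∀ i j : Fin 3, i ≠ j → (Cfsg.Agent.CTFrame.SL3.std i j : Subgroup (S3 (ZMod p))).map φ = K X (c i) (c j) := by
  obtain ⟨b, hb⟩ := exists_gn h
  obtain ⟨φ, h1, h2, h3, h4⟩ := SixMod.exists_hom (bas h hb) (al_inj hp h hb) (X := Y X) (rep_X h hb) (rep_X' hp h hb)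
    (hker hp h hb)
  refine ⟨φ, h1, fun i j hij => ?_⟩
  rw [Cfsg.Agent.CTFrame.SL3.std, Subgroup.map_sup, h2 i j hij, h2 j i hij.symm]
  rfl

end Cfsg.Agent.LFourFive.SixAbs

private theorem dce_817d32502213 : _root_.True := by
  try have : _root_.True := by simp only [_root_.Cfsg.Agent.CTFrame.SL3.en.eq_1]
  try have : _root_.True := by simp only [_root_.Cfsg.Agent.CTFrame.SL3.std.eq_1]
  try have : _root_.True := by simp only [_root_.Cfsg.Agent.LFourFive.SixAbs.C.eq_1]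
  exact _root_.True.intro
end

section
prune_inst 0xfcfefbaff8bddfffff7e7ffffddffff9fcffffffdffbcbfffcefffffff6b0efbe5fbaf9fe8daff5ef762b630f87b53ffffdeffef6bdc7ffffd5ff45ffbff9fffffbfad51dfb8be1ffe6ffffbf97fce7f000000000000000000000000000000004200000000

-- part: LFourB/ClBComm
section
set_option linter.all false
open scoped Cfsg.Agent.FastGrp

/-!
# An odd automorphism commuting with an involutory one

`C` is a subgroup with a central Sylow 2-subgroup `B`, `d` of odd order and `e` with `e * e ∈ B` normalise `C`, `d`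
centralises `B`, `e` normalises `B` and commutes with `d` modulo `C`.  Then some element of `d C` commutes with `e`.
-/

set_option autoImplicit false

namespace Cfsg.Agent.LFourB.ClB

open Subgroup

variable {G : Type*} [Group G]

theorem pow_mul_mem {d c : G} {C : Subgroup G} (hdC : ∀ c ∈ C, d⁻¹ * c * d ∈ C) (hc : c ∈ C) (k : ℕ) :
    ∃ c' ∈ C, (d * c) ^ k = d ^ k * c' := by
  induction k with
  | zero => exact ⟨1, C.one_mem, by simp⟩
  | succ k ih =>
    obtain ⟨c', hc', e⟩ := ih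
    refine ⟨d⁻¹ * c' * d * c, C.mul_mem (hdC _ hc') hc, ?_⟩
    rw [pow_succ, e, pow_succ]
    group

theorem exists_comm [Finite G] {d e : G} {B C : Subgroup G} {n a : ℕ} (hn : d ^ n = 1) (hodd : ¬ 2 ∣ n)
    (hB : Nat.card B = 2 ^ a) (hdB : ∀ b ∈ B, d * b = b * d) (heB : ∀ b ∈ B, e * b * e⁻¹ ∈ B) (he2 : e * e ∈ B)
    (_hBC : B ≤ C) (hcen : ∀ b ∈ B, ∀ c ∈ C, b * c = c * b) (h2 : ∀ c ∈ C, ∀ k : ℕ, c ^ 2 ^ k = 1 → c ∈ B)
    (hdC : ∀ c ∈ C, d⁻¹ * c * d ∈ C) (heC : ∀ c ∈ C, e * c * e⁻¹ ∈ C) (hde : d⁻¹ * e * d * e⁻¹ ∈ C) :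
    ∃ c ∈ C, e * (d * c) = d * c * e := by
  classical
  have : Fact (Nat.Prime 2) := ⟨Nat.prime_two⟩
  set B' := B.subgroupOf C with hB'
  have hBn : B'.Normal := by
    refine ⟨fun b hb c => ?_⟩
    rw [hB', mem_subgroupOf] at hb ⊢
    have h1 : ((c * b * c⁻¹ : C) : G) = b := by
      change (c : G) * b * (c : G)⁻¹ = b
      rw [← hcen _ hb _ c.2, mul_inv_cancel_right]
    rw [h1]
    exact hb
  -- the quotient has odd order
  have hoddq : ¬ 2 ∣ Nat.card (C ⧸ B') := by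
    intro h
    obtain ⟨q, hq⟩ := exists_prime_orderOf_dvd_card' 2 h
    obtain ⟨c, rfl⟩ := QuotientGroup.mk_surjective q
    have h1 : c * c ∈ B' := by
      rw [← QuotientGroup.eq_one_iff, QuotientGroup.mk_mul, ← pow_two, ← hq, pow_orderOf_eq_one]
    have h3 : c ∈ B' := by
      rw [hB', mem_subgroupOf] at h1 ⊢
      apply h2 _ c.2 (a + 1)
      have h4 : ((c * c : C) : G) ^ 2 ^ a = 1 := by
        have h5 : (⟨((c * c : C) : G), h1⟩ : B) ^ Nat.card B = 1 := pow_card_eq_one'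
        rw [hB] at h5
        exact congrArg Subtype.val h5
      rw [pow_succ', pow_mul, pow_two]
      exact h4
    rw [(QuotientGroup.eq_one_iff c).mpr h3, orderOf_one] at hq
    exact absurd hq (by norm_num)
  -- the involution of the quotient
  have hmem : ∀ c ∈ C, d⁻¹ * e * d * c * e⁻¹ ∈ C := by
    intro c hc
    have h1 : d⁻¹ * e * d * c * e⁻¹ = d⁻¹ * e * d * e⁻¹ * (e * c * e⁻¹) := by group
    rw [h1]
    exact C.mul_mem hde (heC c hc)
  let s0 : C → C := fun c => ⟨d⁻¹ * e * d * c * e⁻¹, hmem c c.2⟩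
  have hs0 : ∀ a b : C, QuotientGroup.leftRel B' a b → QuotientGroup.leftRel B' (s0 a) (s0 b) := by
    intro a b hab
    rw [QuotientGroup.leftRel_apply, hB', mem_subgroupOf] at hab ⊢
    have h1 : (((s0 a)⁻¹ * s0 b : C) : G) = e * ((a⁻¹ * b : C) : G) * e⁻¹ := by
      change (d⁻¹ * e * d * (a : G) * e⁻¹)⁻¹ * (d⁻¹ * e * d * (b : G) * e⁻¹) = e * ((a : G)⁻¹ * (b : G)) * e⁻¹
      group
    rw [h1]
    exact heB _ hab
  let s : C ⧸ B' → C ⧸ B' := Quotient.map s0 hs0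
  have hss : ∀ q, s (s q) = q := by
    intro q
    obtain ⟨c, rfl⟩ := QuotientGroup.mk_surjective q
    change ((s0 (s0 c) : C) : C ⧸ B') = (c : C ⧸ B')
    congr 1
    apply Subtype.ext
    change d⁻¹ * e * d * (d⁻¹ * e * d * c * e⁻¹) * e⁻¹ = c
    have h1 : d⁻¹ * e * d * (d⁻¹ * e * d * (c : G) * e⁻¹) * e⁻¹ = d⁻¹ * ((e * e) * (d * (c : G))) * (e * e)⁻¹ := by
      group
    rw [h1, ← mul_assoc (e * e), ← hdB _ he2, mul_assoc d, hcen _ he2 _ c.2]
    group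
  let σ : Equiv.Perm (C ⧸ B') := ⟨s, s, hss, hss⟩
  have hσ : σ ^ 2 ^ 1 = 1 := by
    rw [pow_one, pow_two]
    ext q
    exact hss q
  have : Fintype (C ⧸ B') := Fintype.ofFinite _
  obtain ⟨q, hq⟩ := Equiv.Perm.exists_fixed_point_of_prime (p := 2) (n := 1) (by
    rw [← Nat.card_eq_fintype_card]; exact hoddq) hσ
  obtain ⟨c, rfl⟩ := QuotientGroup.mk_surjective q
  have hq1 : ((s0 c : C) : C ⧸ B') = (c : C ⧸ B') := hq
  have hq2 := QuotientGroup.eq.mp hq1.symm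
  rw [hB', mem_subgroupOf] at hq2
  have hβ : (c : G)⁻¹ * (d⁻¹ * e * d * (c : G) * e⁻¹) ∈ B := hq2
  set β := (c : G)⁻¹ * (d⁻¹ * e * d * (c : G) * e⁻¹) with hβd
  have hx : e * (d * (c : G)) * e⁻¹ = d * (c : G) * β := by rw [hβd]; group
  have hxβ : Commute (d * (c : G)) β := by
    change d * (c : G) * β = β * (d * (c : G))
    rw [mul_assoc, ← hcen _ hβ _ c.2, ← mul_assoc, hdB _ hβ, mul_assoc]
  -- the exponent
  have hcop : Nat.Coprime (2 ^ a) n := by
    apply Nat.Coprime.pow_left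
    rw [Nat.prime_two.coprime_iff_not_dvd]
    exact hodd
  obtain ⟨k, hk0, hk1⟩ := Nat.chineseRemainder hcop 0 1
  have hβk : β ^ k = 1 := by
    have h5 : (⟨β, hβ⟩ : B) ^ Nat.card B = 1 := pow_card_eq_one'
    rw [hB] at h5
    have h6 : β ^ 2 ^ a = 1 := congrArg Subtype.val h5
    obtain ⟨j, hj⟩ := (Nat.modEq_zero_iff_dvd.mp hk0)
    rw [hj, pow_mul, h6, one_pow]
  have hdk : d ^ k = d := by
    have h1 : orderOf d ∣ n := orderOf_dvd_of_pow_eq_one hn
    have h3 : k ≡ 1 [MOD orderOf d] := hk1.of_dvd h1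
    have h4 := (pow_eq_pow_iff_modEq (x := d) (n := k) (m := 1)).mpr h3
    rw [h4, pow_one]
  obtain ⟨c', hc', e'⟩ := pow_mul_mem hdC c.2 k
  rw [hdk] at e'
  refine ⟨c', hc', ?_⟩
  rw [← e', ← mul_inv_eq_iff_eq_mul, ← conj_pow, hx, hxβ.mul_pow, hβk, mul_one]

end Cfsg.Agent.LFourB.ClB
end

-- part: LFourFive/Inp
section
set_option linter.all false

/-!
# Statement S0510, type B5, `|F| = 5`: the input of the recognition of `PSL(4, 5)`

`z` an involution, `L1`, `L2 ≅ SL(2, 5)` commuting, permuted by `C(z)`, `h i, n i ∈ L i` of order `4`, `n i` inverts `h i`,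
`e = h1 h2`, `ρ : z → e → z e → z`, `w = ρ (n1 n2) ρ⁻¹` swaps `L1` and `L2`, `U` an abelian `2`-group normalised by `ρ` which
contains the centralisers of `e` in `L1`, `L2`.
-/

set_option autoImplicit false

namespace Cfsg.Agent.LFourFive

open Subgroup Cfsg.Agent.LFourR

/-- The input of the recognition of `PSL(4, 5)`. -/
structure InpFive {G : Type*} [Group G] (z e ρ n1 n2 h1 h2 : G) (L1 L2 U : Subgroup G) : Prop where
  zz : z * z = 1
  z_ne : z ≠ 1
  ee : e * e = 1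
  e_ne : e ≠ 1
  e_ne_z : e ≠ z
  ze : z * e = e * z
  iso1 : Nonempty (L1 ≃* Matrix.SpecialLinearGroup (Fin 2) (ZMod 5))
  z_mem : z ∈ L1
  comm : ∀ x ∈ L1, ∀ y ∈ L2, x * y = y * x
  perm : ∀ c : G, c * z = z * c → (cg c L1 = L1 ∧ cg c L2 = L2) ∨ (cg c L1 = L2 ∧ cg c L2 = L1)
  h1_mem : h1 ∈ L1
  h1_sq : h1 * h1 = z
  h2_mem : h2 ∈ L2
  h2_sq : h2 * h2 = z
  e_eq : e = h1 * h2
  n1_mem : n1 ∈ L1
  n1_sq : n1 * n1 = z
  n1_h1 : n1 * h1 * n1⁻¹ = h1⁻¹
  n2_mem : n2 ∈ L2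
  n2_sq : n2 * n2 = z
  n2_h2 : n2 * h2 * n2⁻¹ = h2⁻¹
  ρ_z : ρ * z * ρ⁻¹ = e
  ρ_e : ρ * e * ρ⁻¹ = z * e
  swap : cg (ρ * (n1 * n2) * ρ⁻¹) L1 = L2
  U_comm : ∀ u ∈ U, ∀ v ∈ U, u * v = v * u
  U_two : ∀ u ∈ U, ∃ m : ℕ, u ^ 2 ^ m = 1
  U_ρ : cg ρ U = U
  T1_le : ∀ t ∈ L1, t * e = e * t → t ∈ U
  T2_le : ∀ t ∈ L2, t * e = e * t → t ∈ U
  w_rot : ρ * (ρ * (n1 * n2) * ρ⁻¹) * ρ⁻¹ * (n1 * n2 * (ρ * (n1 * n2) * ρ⁻¹))⁻¹ ∈ U
  c_rot : ρ⁻¹ * (n1 * n2) * ρ * (n1 * n2 * (ρ * (n1 * n2) * ρ⁻¹))⁻¹ ∈ U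
  str : ∀ x : G, x * z = z * x → cg x L1 = L1 → ∃ l1 ∈ L1, ∃ l2 ∈ L2, ∃ u ∈ U, x = l1 * l2 * u
  cen : ∀ x : G, (∀ l ∈ L1, x * l = l * x) → x ∈ L2
  closed : ∀ M : Subgroup G, centralizer ({z} : Set G) ≤ M → ρ ∈ M → M = ⊤

end Cfsg.Agent.LFourFive
end

-- part: LFourB/InpFiveInst
section
prune_inst 0x4022000000000000000000000000000000030000010000000008000000000600200002000000000000000000000000000000000000000000400000000000000000000000000000000000000000000000000000000000000000000000000000000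
set_option linter.all false
open scoped Cfsg.Agent.FastGrp

-- part: LFourB/LBFive
section
/-!
# Type B5, case (a2): the subgroups `L₁, L₂ ≃* SL(2,F)` of `C(z)`

`LB φ F L₁ L₂` : `L₁`, `L₂` commute, contain `φ Q1`, `φ Q2`, are permuted by `C(z)` and commute with `O(C(z))`, which is
inverted by the elements of `V1 \ Q`; `C(L₁L₂) = ⟨z⟩ O(C(z))`; 2-elements of `C(L₁)` lie in `L₂`.
`exists_lb` : from `CZL`, `SPos` and the fact that `x2` inverts `O(C(z))`.
-/

set_option autoImplicit false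

namespace Cfsg.Agent.LFourB.LBFive

open Subgroup Cfsg Cfsg.Agent.LFourB M7 StepSixModel StepSixOut
open Cfsg.Agent.LFourA.CzCt Cfsg.Agent.LFourR.LiftSL Cfsg.Agent.LFourR

universe u

/-- The subgroups `L₁`, `L₂` of `C(z)`. -/
structure LB {G : Type*} [Group G] (φ : M7 →* G) (F : Type*) [Field F] (L₁ L₂ : Subgroup G) : Prop where
  iso₁ : Nonempty (L₁ ≃* Matrix.SpecialLinearGroup (Fin 2) F)
  iso₂ : Nonempty (L₂ ≃* Matrix.SpecialLinearGroup (Fin 2) F)
  comm : ∀ x ∈ L₁, ∀ y ∈ L₂, x * y = y * x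
  q₁ : ∀ m ∈ Q1, φ m ∈ L₁
  q₂ : ∀ m ∈ Q2, φ m ∈ L₂
  inf₁ : ∀ m, φ m ∈ L₁ → m ∈ Q1
  inf₂ : ∀ m, φ m ∈ L₂ → m ∈ Q2
  keep : ∀ m, tU m = true → cg (φ m) L₁ = L₁ ∧ cg (φ m) L₂ = L₂
  swap : ∀ m, tU m = false → cg (φ m) L₁ = L₂ ∧ cg (φ m) L₂ = L₁
  perm : ∀ g : G, g * φ z = φ z * g → (cg g L₁ = L₁ ∧ cg g L₂ = L₂) ∨ (cg g L₁ = L₂ ∧ cg g L₂ = L₁)
  cent : ∀ g : G, (∀ x ∈ L₁, g * x = x * g) → (∀ x ∈ L₂, g * x = x * g) →
    g ∈ centralizerPPrimeCore 2 (φ z) ∨ g * φ z ∈ centralizerPPrimeCore 2 (φ z)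
  core₁ : ∀ o ∈ centralizerPPrimeCore 2 (φ z), ∀ x ∈ L₁, o * x = x * o
  core₂ : ∀ o ∈ centralizerPPrimeCore 2 (φ z), ∀ x ∈ L₂, o * x = x * o
  inv : ∀ m ∈ V1, m ∉ Q → ∀ o ∈ centralizerPPrimeCore 2 (φ z), φ m * o * (φ m)⁻¹ = o⁻¹
  two₁ : ∀ (x : G) (k : ℕ), x ^ 2 ^ k = 1 → (∀ a ∈ L₁, x * a = a * x) → x ∈ L₂
  two₂ : ∀ (x : G) (k : ℕ), x ^ 2 ^ k = 1 → (∀ a ∈ L₂, x * a = a * x) → x ∈ L₁

/-! ### Facts on `M7` -/

theorem Q_mul : ∀ m : M7, m ∈ Q → (∃ a ∈ Q1, ∃ b ∈ Q2, m = a * b) := by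
  have h : ∀ m : M7, m ∈ Q → (m ∈ Q1 ∨ m ∈ Q2 ∨ a1⁻¹ * m ∈ Q2 ∨ b1⁻¹ * m ∈ Q2 ∨ (a1 * b1)⁻¹ * m ∈ Q2) := by
    decide +kernel
  intro m hm
  rcases h m hm with h1 | h1 | h1 | h1 | h1
  · exact ⟨m, h1, 1, one_mem _, by rw [mul_one]⟩
  · exact ⟨1, one_mem _, m, h1, by rw [one_mul]⟩
  · exact ⟨a1, a1_mem, _, h1, by group⟩
  · exact ⟨b1, StepSixFive.b1_mem, _, h1, by group⟩
  · exact ⟨a1 * b1, mul_mem a1_mem StepSixFive.b1_mem, _, h1, by group⟩

theorem V1_x2 : ∀ m : M7, m ∈ V1 → m ∉ Q → x2⁻¹ * m ∈ Q := by decide +kernel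

theorem cg_le_of {G : Type*} [Group G] {g : G} {L M : Subgroup G} (h : ∀ x ∈ L, g * x * g⁻¹ ∈ M) : cg g L ≤ M := by
  intro x hx
  have h1 := h _ (mem_cg.1 hx)
  have e : g * (g⁻¹ * x * g) * g⁻¹ = x := by group
  rwa [e] at h1

theorem card_cg {G : Type*} [Group G] (g : G) (L : Subgroup G) : Nat.card (cg g L) = Nat.card L :=
  Subgroup.card_map_of_injective (MulAut.conj g).injective

theorem cg_eq_of_card {G : Type*} [Group G] [Finite G] {g : G} {L M : Subgroup G} (h : ∀ x ∈ L, g * x * g⁻¹ ∈ M)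
    (hc : Nat.card L = Nat.card M) : cg g L = M :=
  Subgroup.eq_of_le_of_card_ge (cg_le_of h) (by rw [card_cg, hc])

section

variable {G : Type u} [Group G] [Finite G] {S : Sylow 2 G} {φ : M7 →* G}
  {X : Type u} [Group X] [Finite X] {p : centralizer ({φ z} : Set G) →* X} {K₁ K₂ : Subgroup X}
  {F : Type*} [Field F] [Fintype F]

omit [Finite G] [Finite X] in
theorem up_conj {g : G} (hg : g ∈ centralizer ({φ z} : Set G)) {K K' : Subgroup X}
    (hk : ∀ x ∈ K, p ⟨g, hg⟩ * x * (p ⟨g, hg⟩)⁻¹ ∈ K') {x : G} (hx : x ∈ up p K) : g * x * g⁻¹ ∈ up p K' := by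
  obtain ⟨h1, h2⟩ := mem_up.1 hx
  refine mem_up.2 ⟨mul_mem (mul_mem hg h1) (inv_mem hg), ?_⟩
  have h3 := hk _ h2
  rw [← map_inv, ← map_mul, ← map_mul] at h3
  exact h3

omit [Finite G] [Finite X] in
theorem dat (hE : Emb7 (S : Subgroup G) φ) (hC : CZL (φ z) F p K₁ K₂) (hS : SPos φ p K₁ K₂)
    (hodd : Odd (Fintype.card F)) (h3 : 3 < Fintype.card F) (h9 : Fintype.card F ≠ 9)
    (hinv : ∀ o ∈ centralizerPPrimeCore 2 (φ z), φ x2 * o * (φ x2)⁻¹ = o⁻¹) :
    Dat F p K₁ (φ x2) ∧ Dat F p K₂ (φ x2) := by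
  have hz1 : φ z ≠ 1 := fun h => z_ne (hE.inj (h.trans (map_one φ).symm))
  have hzz : φ z * φ z = 1 := by rw [← map_mul, z_sq, map_one]
  have hbz : φ x2 * φ z = φ z * φ x2 := by rw [← map_mul, ← map_mul, z_comm]
  have key : ∀ K K' : Subgroup X, (∀ x ∈ K, ∀ y ∈ K', x * y = y * x) →
      (∀ x ∈ K, p (res φ x2) * x * (p (res φ x2))⁻¹ ∈ K') →
      ∀ x ∈ up p K, ∀ y ∈ up p K, x * (φ x2 * y * (φ x2)⁻¹) * x⁻¹ * (φ x2 * y * (φ x2)⁻¹)⁻¹ ∈
        centralizerPPrimeCore 2 (φ z) := by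
    intro K K' hc hs x hx y hy
    obtain ⟨hx1, hx2⟩ := mem_up.1 hx
    obtain ⟨hy1, hy2⟩ := mem_up.1 (up_conj (mem_cent φ x2) hs hy)
    have h1 : p (⟨x, hx1⟩ * ⟨_, hy1⟩ * ⟨x, hx1⟩⁻¹ * ⟨_, hy1⟩⁻¹) = 1 := by
      rw [map_mul, map_mul, map_mul, map_inv, map_inv, hc _ hx2 _ hy2]; group
    exact (hC.ker _).1 h1
  constructor
  · exact { z_ne := hz1, zz := hzz, surj := hC.surj, ker := hC.ker, z₁ := hC.z₁, iso := hC.e₁, odd := hodd, three := h3,
            nine := fun h => absurd h h9, bz := hbz, inv := hinv,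
            swap := key K₁ K₂ hC.comm (fun x hx => (hS.swap x2 tU_x2 x).1 hx) }
  · exact { z_ne := hz1, zz := hzz, surj := hC.surj, ker := hC.ker, z₁ := hC.z₂, iso := hC.e₂, odd := hodd, three := h3,
            nine := fun h => absurd h h9, bz := hbz, inv := hinv,
            swap := key K₂ K₁ (fun x hx y hy => (hC.comm y hy x hx).symm) (fun x hx => (hS.swap x2 tU_x2 x).2 hx) }

/-- **The subgroups `L₁`, `L₂`.** -/
theorem exists_lb (hE : Emb7 (S : Subgroup G) φ) (hC : CZL (φ z) F p K₁ K₂) (hS : SPos φ p K₁ K₂)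
    (hodd : Odd (Fintype.card F)) (h3 : 3 < Fintype.card F) (h9 : Fintype.card F ≠ 9)
    (hinv : ∀ o ∈ centralizerPPrimeCore 2 (φ z), φ x2 * o * (φ x2)⁻¹ = o⁻¹) :
    LB φ F (lof p K₁) (lof p K₂) := by
  obtain ⟨D1, D2⟩ := dat hE hC hS hodd h3 h9 hinv
  have hcard : Nat.card (lof p K₁) = Nat.card (lof p K₂) := by
    obtain ⟨e1⟩ := D1.iso_lof
    obtain ⟨e2⟩ := D2.iso_lof
    exact Nat.card_congr (e1.trans e2.symm).toEquiv
  have horder : ∀ m : M7, m ^ 2 ^ 3 = 1 := by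
    have : ∀ m : M7, m * m * (m * m) * (m * m * (m * m)) = 1 := by decide +kernel
    intro m
    rw [← this m]
    norm_num only
    simp only [pow_succ, pow_zero, one_mul, mul_assoc]
  have cgw : ∀ (g : G) (hg : g ∈ centralizer ({φ z} : Set G)) (K K' : Subgroup X),
      Nat.card (lof p K) = Nat.card (lof p K') → (∀ x ∈ K, p ⟨g, hg⟩ * x * (p ⟨g, hg⟩)⁻¹ ∈ K') →
      cg g (lof p K) = lof p K' := by
    intro g hg K K' hc hk
    exact cg_eq_of_card (fun x hx => conj_lof (fun y hy => up_conj hg hk hy) hx) hc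
  have hcore₁ : ∀ o ∈ centralizerPPrimeCore 2 (φ z), ∀ x ∈ lof p K₁, o * x = x * o := fun o ho x hx => D1.comm_core hx ho
  have hcore₂ : ∀ o ∈ centralizerPPrimeCore 2 (φ z), ∀ x ∈ lof p K₂, o * x = x * o := fun o ho x hx => D2.comm_core hx ho
  have hq₁ : ∀ m ∈ Q1, φ m ∈ lof p K₁ := fun m hm =>
    D1.mem_of_pow (hS.q₁ m hm) (m := 3) (by rw [← map_pow, horder, map_one])
  have hq₂ : ∀ m ∈ Q2, φ m ∈ lof p K₂ := fun m hm =>
    D2.mem_of_pow (hS.q₂ m hm) (m := 3) (by rw [← map_pow, horder, map_one])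
  refine
    { iso₁ := D1.iso_lof
      iso₂ := D2.iso_lof
      comm := fun x hx y hy => comm_lof D1 hC.comm hx hy
      q₁ := hq₁
      q₂ := hq₂
      inf₁ := fun m hm => hS.inf₁ m (lof_le_up p K₁ hm)
      inf₂ := fun m hm => hS.inf₂ m (lof_le_up p K₂ hm)
      keep := fun m hm => ⟨cgw _ (mem_cent φ m) K₁ K₁ rfl (fun x hx => (hS.keep m hm x).1 hx),
        cgw _ (mem_cent φ m) K₂ K₂ rfl (fun x hx => (hS.keep m hm x).2 hx)⟩
      swap := fun m hm => ⟨cgw _ (mem_cent φ m) K₁ K₂ hcard (fun x hx => (hS.swap m hm x).1 hx),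
        cgw _ (mem_cent φ m) K₂ K₁ hcard.symm (fun x hx => (hS.swap m hm x).2 hx)⟩
      perm := ?_
      cent := ?_
      core₁ := hcore₁
      core₂ := hcore₂
      inv := ?_
      two₁ := ?_
      two₂ := ?_ }
  · intro g hg
    have hg' := mem_centralizer_singleton_iff.2 hg
    rcases hC.norm (p ⟨g, hg'⟩) with ⟨h1, h2⟩ | ⟨h1, h2⟩
    · exact Or.inl ⟨cgw g hg' K₁ K₁ rfl h1, cgw g hg' K₂ K₂ rfl h2⟩
    · exact Or.inr ⟨cgw g hg' K₁ K₂ hcard h1, cgw g hg' K₂ K₁ hcard.symm h2⟩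
  · intro g h1 h2
    have hgz : g ∈ centralizer ({φ z} : Set G) := mem_centralizer_singleton_iff.2 (h1 _ D1.z_mem)
    have key : ∀ (K : Subgroup X), (∀ k ∈ K, ∃ l : G, ∃ hl : l ∈ centralizer ({φ z} : Set G), l ∈ lof p K ∧ p ⟨l, hl⟩ = k) →
        (∀ x ∈ lof p K, g * x = x * g) → ∀ x ∈ K, p ⟨g, hgz⟩ * x = x * p ⟨g, hgz⟩ := by
      intro K hK hx x hxK
      obtain ⟨l, hl, hl', rfl⟩ := hK x hxK
      rw [← map_mul, ← map_mul]
      congr 1
      exact Subtype.ext (hx l hl')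
    rcases hC.cent (p ⟨g, hgz⟩) (key K₁ (fun k hk => D1.exists_lof hk) h1) (key K₂ (fun k hk => D2.exists_lof hk) h2)
      with h4 | h4
    · left
      exact (hC.ker _).1 h4
    · right
      have h5 : p (⟨g, hgz⟩ * self (φ z)) = 1 := by
        rw [map_mul, h4, ← map_mul]
        have : self (φ z) * self (φ z) = 1 := Subtype.ext D1.zz
        rw [this, map_one]
      exact (hC.ker _).1 h5
  · intro m hm hmQ o ho
    obtain ⟨a, ha, b, hb, e⟩ := Q_mul _ (V1_x2 m hm hmQ)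
    have e1 : m = x2 * (a * b) := by rw [← e]; group
    have h4 : φ a * φ b * o * (φ a * φ b)⁻¹ = o := by
      have h5 := hcore₁ o ho _ (hq₁ a ha)
      have h6 := hcore₂ o ho _ (hq₂ b hb)
      calc φ a * φ b * o * (φ a * φ b)⁻¹ = φ a * (φ b * o) * (φ b)⁻¹ * (φ a)⁻¹ := by group
        _ = φ a * (o * φ b) * (φ b)⁻¹ * (φ a)⁻¹ := by rw [h6]
        _ = (φ a * o) * (φ a)⁻¹ := by group
        _ = (o * φ a) * (φ a)⁻¹ := by rw [h5]
        _ = o := by group
    rw [e1, map_mul, map_mul]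
    calc φ x2 * (φ a * φ b) * o * (φ x2 * (φ a * φ b))⁻¹
        = φ x2 * (φ a * φ b * o * (φ a * φ b)⁻¹) * (φ x2)⁻¹ := by group
      _ = o⁻¹ := by rw [h4, hinv o ho]
  · intro x k hk hx
    have hxz : x ∈ centralizer ({φ z} : Set G) := mem_centralizer_singleton_iff.2 (hx _ D1.z_mem)
    have hpk : (p ⟨x, hxz⟩) ^ 2 ^ k = 1 := by
      rw [← map_pow]
      have : (⟨x, hxz⟩ : centralizer ({φ z} : Set G)) ^ 2 ^ k = 1 := Subtype.ext hk
      rw [this, map_one]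
    have h4 := (StepSixFive.two hE hC hS hpk).1 (by
      intro a ha
      obtain ⟨l, hl, hl', rfl⟩ := D1.exists_lof ha
      rw [← map_mul, ← map_mul]
      congr 1
      exact Subtype.ext (hx l hl'))
    exact D2.mem_of_pow (mem_up.2 ⟨hxz, h4⟩) hk
  · intro x k hk hx
    have hxz : x ∈ centralizer ({φ z} : Set G) := mem_centralizer_singleton_iff.2 (hx _ D2.z_mem)
    have hpk : (p ⟨x, hxz⟩) ^ 2 ^ k = 1 := by
      rw [← map_pow]
      have : (⟨x, hxz⟩ : centralizer ({φ z} : Set G)) ^ 2 ^ k = 1 := Subtype.ext hk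
      rw [this, map_one]
    have h4 := (StepSixFive.two hE hC hS hpk).2 (by
      intro a ha
      obtain ⟨l, hl, hl', rfl⟩ := D2.exists_lof ha
      rw [← map_mul, ← map_mul]
      congr 1
      exact Subtype.ext (hx l hl'))
    exact D1.mem_of_pow (mem_up.2 ⟨hxz, h4⟩) hk

end

end Cfsg.Agent.LFourB.LBFive
end

-- part: LFourB/NumFive
section
/-!
# Type B5, case (a2): `q ≡ 3, 5 mod 8`
-/

set_option autoImplicit false

namespace Cfsg.Agent.LFourB.NumFive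

open Subgroup Cfsg Cfsg.Agent.LFourB M7 StepSixModel StepSixOut
open Cfsg.Agent.LFourA.CzCt

universe u

theorem card_Q1 : Nat.card Q1 = 8 := by
  rw [StepSixModel.card_filter Q1 (p := (· ∈ Q1)) (fun _ => Iff.rfl)]; decide +kernel
theorem card_Q2 : Nat.card Q2 = 8 := by
  rw [StepSixModel.card_filter Q2 (p := (· ∈ Q2)) (fun _ => Iff.rfl)]; decide +kernel

theorem mod_eight {q : ℕ} (hq : Odd q) (h16 : ¬ 16 ∣ q * (q ^ 2 - 1)) : q % 8 = 3 ∨ q % 8 = 5 := by
  by_contra hcon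
  apply h16
  have h1 : q % 8 = 1 ∨ q % 8 = 7 := by
    have := Nat.odd_iff.1 hq
    omega
  apply Dvd.dvd.mul_left
  obtain ⟨k, hk⟩ : ∃ k, q = 8 * k + 1 ∨ q = 8 * k + 7 := ⟨q / 8, by omega⟩
  rcases hk with rfl | rfl
  · have : (8 * k + 1) ^ 2 - 1 = 16 * (4 * k ^ 2 + k) := by
      have : (8 * k + 1) ^ 2 = 16 * (4 * k ^ 2 + k) + 1 := by ring
      omega
    rw [this]
    exact dvd_mul_right _ _
  · have : (8 * k + 7) ^ 2 - 1 = 16 * (4 * k ^ 2 + 7 * k + 3) := by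
      have : (8 * k + 7) ^ 2 = 16 * (4 * k ^ 2 + 7 * k + 3) + 1 := by ring
      omega
    rw [this]
    exact dvd_mul_right _ _

variable {G : Type u} [Group G] [Finite G] {S : Sylow 2 G} {φ : M7 →* G}
  {X : Type u} [Group X] [Finite X] {p : centralizer ({φ z} : Set G) →* X} {K₁ K₂ : Subgroup X}
  {F : Type*} [Field F] [Fintype F]

omit [Finite G] in
theorem card_le {K : Subgroup X} {Q' : Subgroup M7} (hQ : ∀ m, p (res φ m) ∈ K → m ∈ Q') {H : Subgroup X} (hHK : H ≤ K)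
    (hH : ∀ x ∈ H, ∃ m, p (res φ m) = x) : Nat.card H ≤ Nat.card Q' := by
  have hle : H ≤ Q'.map (p.comp (res φ)) := by
    intro x hx
    obtain ⟨m, rfl⟩ := hH x hx
    exact ⟨m, hQ m (hHK hx), rfl⟩
  exact (Subgroup.card_le_of_le hle).trans (Nat.le_of_dvd Nat.card_pos (Subgroup.card_map_dvd _ _))

/-- `q ≡ 3, 5 mod 8` -/
theorem card_mod (hE : Emb7 (S : Subgroup G) φ) (hC : CZL (φ z) F p K₁ K₂) (hS : SPos φ p K₁ K₂)
    (hodd : Odd (Fintype.card F)) : Fintype.card F % 8 = 3 ∨ Fintype.card F % 8 = 5 := by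
  obtain ⟨P, hP⟩ := StepSixFive.exists_sylow hE hC.surj
  have f2 : Fact (Nat.Prime 2) := ⟨Nat.prime_two⟩
  obtain ⟨e⟩ := hC.e₁
  have hcard : Nat.card K₁ = Fintype.card F * (Fintype.card F ^ 2 - 1) := by
    rw [Nat.card_congr e.toEquiv, Cfsg.Agent.ClassicalGeometry.PSL2Basic.card_SL2]
  refine mod_eight hodd fun h16 => ?_
  rw [← hcard] at h16
  obtain ⟨H', hH'⟩ := Sylow.exists_subgroup_card_pow_prime (G := K₁) 2 (n := 4) (by norm_num; exact h16)
  set H : Subgroup X := H'.map K₁.subtype with hH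
  have hHc : Nat.card H = 16 := by
    rw [hH, Subgroup.card_map_of_injective K₁.subtype_injective, hH']
    norm_num
  have hHK : H ≤ K₁ := by
    rintro _ ⟨x, _, rfl⟩
    exact x.2
  have hp : IsPGroup 2 H := IsPGroup.of_card (n := 4) (by rw [hHc]; norm_num)
  obtain ⟨Q, hQ⟩ := hp.exists_le_sylow
  obtain ⟨g, hg⟩ := MulAction.exists_smul_eq X Q P
  have hgH : ∀ x ∈ H.map (MulAut.conj g).toMonoidHom, ∃ m, p (res φ m) = x := by
    rintro _ ⟨x, hx, rfl⟩
    rw [← hP, ← hg]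
    exact Subgroup.smul_mem_pointwise_smul _ _ _ (hQ hx)
  have hc : Nat.card (H.map (MulAut.conj g).toMonoidHom) = 16 := by
    rw [Subgroup.card_map_of_injective (MulAut.conj g).injective, hHc]
  rcases hC.norm g with ⟨h1, _⟩ | ⟨h1, _⟩
  · have h2 := card_le (K := K₁) (Q' := Q1) (fun m hm => StepSixFive.of_mem₁ hS hm) (H := H.map (MulAut.conj g).toMonoidHom)
      (by rintro _ ⟨x, hx, rfl⟩; exact h1 x (hHK hx)) hgH
    rw [hc, card_Q1] at h2
    omega
  · have h2 := card_le (K := K₂) (Q' := Q2) (fun m hm => StepSixFive.of_mem₂ hS hm) (H := H.map (MulAut.conj g).toMonoidHom)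
      (by rintro _ ⟨x, hx, rfl⟩; exact h1 x (hHK hx)) hgH
    rw [hc, card_Q2] at h2
    omega

end Cfsg.Agent.LFourB.NumFive
end

-- part: LFourB/PreFive
section
/-!
# Type B5, case (a2): the input of the recognition theorem

From `LB φ F L₁ L₂` and `Rho φ ρ` we construct `Pre F ε N 2 (φ z) (φ ze) ρ (φ n1) (φ n2) L₁ L₂ (U.map φ)` for
`5 < q = |F|`. The single fields are valid for all `q > 3`, `q ≡ 3, 5 mod 8`.
-/

set_option autoImplicit false

namespace Cfsg.Agent.LFourB.PreFive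

open Subgroup Cfsg Cfsg.Agent.LFourB M7 StepSixModel LBFive
open Cfsg.Agent.LFourR
open Cfsg.Agent.LFourB.MQ (Rho Nm xa xa_mem)

universe u

/-- test for `U` -/
def tUU (x : M7) : Bool := z0 (x.a + x.b) && !x.e
/-- `{(a, a, c)}`, isomorphic to `C4 × C4` -/
def U : Subgroup M7 := sub tUU (by decide) (by (set_option synthInstance.maxSize 2000 in open scoped Cfsg.Agent.Lib.Hoist in decide +kernel)) (by decide +kernel)
instance : DecidablePred (· ∈ U) := fun x => inferInstanceAs (Decidable (tUU x = true))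

/-- Weyl element of `L₁` -/
def n1 : M7 := ⟨.i, .o, .w, true⟩
/-- Weyl element of `L₂` -/
def n2 : M7 := ⟨.o, .o, .w, true⟩

theorem n1_mem : n1 ∈ Q1 := by decide
theorem n2_mem : n2 ∈ Q2 := by decide
theorem n1_sq : n1 * n1 = z := by decide
theorem n2_sq : n2 * n2 = z := by decide
theorem n1_a1 : n1 * a1 * n1⁻¹ = a1⁻¹ := by decide
theorem n2_a2 : n2 * a2 * n2⁻¹ = a2⁻¹ := by decide
theorem n1_ze : ze * n1 * ze⁻¹ = n1 * z := by decide
theorem n2_ze : ze * n2 * ze⁻¹ = n2 * z := by decide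
theorem ze_eq : ze = a1 * a2 := by decide
theorem a2_sq : a2 * a2 = z := by decide
theorem c_mem : n1 * n2 ∈ V1 := by decide
theorem c_a : (n1 * n2).a = .i := by decide
theorem U_mem : ∀ m : M7, m ∈ U ↔ m.a = m.b ∧ m.e = false := by decide +kernel
theorem U_a1 : ∀ m : M7, m ∈ U → m * a1 = a1 * m := by decide +kernel
theorem U_a2 : ∀ m : M7, m ∈ U → m * a2 = a2 * m := by decide +kernel
theorem U_ze' : ∀ m : M7, m ∈ U → m * ze = ze * m := by decide +kernel
theorem U_tU : ∀ m : M7, m ∈ U → tU m = true := by decide +kernel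
theorem U_four : ∀ m : M7, m ∈ U → m * m * (m * m) = 1 := by decide +kernel
theorem Z_le_U : ∀ m : M7, m ∈ Z → m ∈ U := by decide +kernel
theorem U_split : ∀ m : M7, m ∈ U → (xa m.a)⁻¹ * m ∈ V2 ∧ ((xa m.a)⁻¹ * m).b = m.b := by decide +kernel
theorem tU_of_v : ∀ m : M7, m ∈ V1 → m.a = .v → tU m = false := by decide +kernel
theorem f_mem : (⟨.v, .v, .o, false⟩ : M7) ∈ U := by decide
theorem f_sq : (⟨.v, .v, .o, false⟩ : M7) * ⟨.v, .v, .o, false⟩ = ze := by decide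

section

variable {G : Type u} [Group G] [Finite G] {S : Sylow 2 G} {φ : M7 →* G} {F : Type*} [Field F]
  {L₁ L₂ : Subgroup G}

section basic

variable (hL : LB φ F L₁ L₂)

include hL

omit [Finite G] in
/-- in `L₁`, commuting with `ze` means commuting with `a1` -/
theorem comm_iff₁ {x : G} (hx : x ∈ L₁) : x * φ ze = φ ze * x ↔ x * φ a1 = φ a1 * x := by
  have h1 := hL.comm x hx _ (hL.q₂ a2 StepSixFive.a2_mem)
  rw [ze_eq, map_mul]
  constructor
  · intro h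
    apply mul_right_cancel (b := φ a2)
    calc x * φ a1 * φ a2 = x * (φ a1 * φ a2) := by group
      _ = φ a1 * (φ a2 * x) := by rw [h]; group
      _ = φ a1 * (x * φ a2) := by rw [h1]
      _ = φ a1 * x * φ a2 := by group
  · intro h
    calc x * (φ a1 * φ a2) = (x * φ a1) * φ a2 := by group
      _ = φ a1 * (x * φ a2) := by rw [h]; group
      _ = φ a1 * φ a2 * x := by rw [h1]; group

omit [Finite G] in
/-- in `L₂`, commuting with `ze` means commuting with `a2` -/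
theorem comm_iff₂ {x : G} (hx : x ∈ L₂) : x * φ ze = φ ze * x ↔ x * φ a2 = φ a2 * x := by
  have h1 := (hL.comm _ (hL.q₁ a1 a1_mem) x hx).symm
  rw [ze_eq, map_mul]
  constructor
  · intro h
    apply mul_left_cancel (a := φ a1)
    calc φ a1 * (x * φ a2) = (φ a1 * x) * φ a2 := by group
      _ = x * (φ a1 * φ a2) := by rw [← h1]; group
      _ = φ a1 * φ a2 * x := by rw [h]
      _ = φ a1 * (φ a2 * x) := by group
  · intro h
    calc x * (φ a1 * φ a2) = (x * φ a1) * φ a2 := by group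
      _ = φ a1 * (x * φ a2) := by rw [h1]; group
      _ = φ a1 * φ a2 * x := by rw [h]; group

omit [Finite G] in
theorem T_eq : (L₁ ⊓ centralizer {φ ze} : Subgroup G) = L₁ ⊓ centralizer {φ a1} := by
  ext x
  rw [mem_inf, mem_inf, mem_centralizer_singleton_iff, mem_centralizer_singleton_iff]
  exact ⟨fun h => ⟨h.1, (comm_iff₁ hL h.1).1 h.2⟩, fun h => ⟨h.1, (comm_iff₁ hL h.1).2 h.2⟩⟩

variable (hE : Emb7 (S : Subgroup G) φ) [Finite F] (h2 : (2 : F) ≠ 0)

include hE h2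

omit [Finite G] in
theorem T_cyc : IsCyclic (L₁ ⊓ centralizer {φ ze} : Subgroup G) ∧
    ((Nat.card F % 4 = 1 ∧ Nat.card (L₁ ⊓ centralizer {φ ze} : Subgroup G) = Nat.card F - 1) ∨
      (Nat.card F % 4 = 3 ∧ Nat.card (L₁ ⊓ centralizer {φ ze} : Subgroup G) = Nat.card F + 1)) := by
  obtain ⟨e0⟩ := hL.iso₁
  rw [T_eq hL]
  exact TorusB.cyc e0 (hL.q₁ a1 a1_mem) (z := φ z) (by rw [← map_mul, a1_sq]) (by rw [← map_mul, z_sq, map_one])
    (fun h => z_ne (hE.inj (h.trans (map_one φ).symm))) h2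

omit [Finite G] [Finite F] in
theorem n1_inv {t : G} (ht : t ∈ L₁) (hte : t * φ ze = φ ze * t) : φ n1 * t * (φ n1)⁻¹ = t⁻¹ := by
  obtain ⟨e0⟩ := hL.iso₁
  exact TorusB.inv_mem_of e0 (hL.q₁ a1 a1_mem) (z := φ z) (by rw [← map_mul, a1_sq]) (by rw [← map_mul, z_sq, map_one])
    (fun h => z_ne (hE.inj (h.trans (map_one φ).symm))) h2 (hL.q₁ n1 n1_mem)
    (by rw [← map_inv, ← map_mul, ← map_mul, n1_a1, map_inv]) ht ((comm_iff₁ hL ht).1 hte)

omit [Finite G] [Finite F] in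
theorem n2_inv {t : G} (ht : t ∈ L₂) (hte : t * φ ze = φ ze * t) : φ n2 * t * (φ n2)⁻¹ = t⁻¹ := by
  obtain ⟨e0⟩ := hL.iso₂
  exact TorusB.inv_mem_of e0 (hL.q₂ a2 StepSixFive.a2_mem) (z := φ z) (by rw [← map_mul, a2_sq])
    (by rw [← map_mul, z_sq, map_one])
    (fun h => z_ne (hE.inj (h.trans (map_one φ).symm))) h2 (hL.q₂ n2 n2_mem)
    (by rw [← map_inv, ← map_mul, ← map_mul, n2_a2, map_inv]) ht ((comm_iff₂ hL ht).1 hte)

variable (hns : ¬ IsSquare (Nat.card F))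

include hns

omit [Finite G] in
theorem U_T1 {u : M7} (hu : u ∈ U) {t : G} (ht : t ∈ L₁) (hte : t * φ ze = φ ze * t) : φ u * t = t * φ u := by
  obtain ⟨e0⟩ := hL.iso₁
  refine TorusB.fix_mem_of e0 (hL.q₁ a1 a1_mem) (z := φ z) (by rw [← map_mul, a1_sq]) (by rw [← map_mul, z_sq, map_one])
    (fun h => z_ne (hE.inj (h.trans (map_one φ).symm))) h2 hns
    (mem_normalizer_iff_cg.2 (hL.keep u (U_tU u hu)).1) (m := 2) ?_ ?_ ht ((comm_iff₁ hL ht).1 hte)
  · rw [← map_pow]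
    have : u ^ 2 ^ 2 = u * u * (u * u) := by
      norm_num only
      simp only [pow_succ, pow_zero, one_mul, mul_assoc]
    rw [this, U_four u hu, map_one]
  · rw [← map_mul, U_a1 u hu, map_mul]

omit [Finite G] in
theorem U_T2 {u : M7} (hu : u ∈ U) {t : G} (ht : t ∈ L₂) (hte : t * φ ze = φ ze * t) : φ u * t = t * φ u := by
  obtain ⟨e0⟩ := hL.iso₂
  refine TorusB.fix_mem_of e0 (hL.q₂ a2 StepSixFive.a2_mem) (z := φ z) (by rw [← map_mul, a2_sq])
    (by rw [← map_mul, z_sq, map_one])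
    (fun h => z_ne (hE.inj (h.trans (map_one φ).symm))) h2 hns
    (mem_normalizer_iff_cg.2 (hL.keep u (U_tU u hu)).2) (m := 2) ?_ ?_ ht ((comm_iff₂ hL ht).1 hte)
  · rw [← map_pow]
    have : u ^ 2 ^ 2 = u * u * (u * u) := by
      norm_num only
      simp only [pow_succ, pow_zero, one_mul, mul_assoc]
    rw [this, U_four u hu, map_one]
  · rw [← map_mul, U_a2 u hu, map_mul]

end basic

/-! ### The fields with `ρ` -/

section rho

variable {ρ : G} (hρ : Rho φ ρ)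

include hρ

omit [Finite G] in
theorem rho_c : ∃ m ∈ V1, ρ * (φ n1 * φ n2) * ρ⁻¹ = φ m ∧ m.a = .v := by
  obtain ⟨m, hm, h1, h2⟩ := hρ.ra _ c_mem
  refine ⟨m, hm, by rw [← map_mul, h1], ?_⟩
  rw [h2, c_a]; rfl

omit [Finite G] in
theorem rho_e : ρ * φ ze * ρ⁻¹ = φ z * φ ze := by
  rw [hρ.rot.2, ← map_mul]
  congr 1

omit [Finite G] in
theorem conj_U {u : M7} (hu : u ∈ U) : ∃ u' ∈ U, ρ * φ u * ρ⁻¹ = φ u' := by
  obtain ⟨m1, hm1, e1, f1⟩ := hρ.ra _ (xa_mem u.a)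
  obtain ⟨h2, h3⟩ := U_split u hu
  obtain ⟨m2, hm2, e2, f2⟩ := hρ.rb _ h2
  refine ⟨m1 * m2, ?_, ?_⟩
  · obtain ⟨hm1b, hm1e⟩ := (mem_V1 m1).1 hm1
    obtain ⟨hm2a, hm2e⟩ := (mem_V2 m2).1 hm2
    rw [U_mem]
    have hab := ((U_mem u).1 hu).1
    constructor
    · rw [mul_a, mul_b, hm1e, hm2a, hm1b, f1, f2, h3]
      show K4.v * u.a + K4.fr false 0 = 0 + K4.fr false (K4.v * u.b)
      rw [K4.fr_false, K4.fr_false, add_zero, zero_add, hab]
    · rw [mul_e, hm1e, hm2e]; rfl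
  · rw [map_mul, ← e1, ← e2, map_mul, map_inv]
    group

theorem U_ρ : cg ρ (U.map φ) = U.map φ := by
  apply LBFive.cg_eq_of_card _ rfl
  rintro _ ⟨u, hu, rfl⟩
  obtain ⟨u', hu', e⟩ := conj_U hρ hu
  exact ⟨u', hu', e.symm⟩

omit [Finite G] in
theorem w_rot : ρ * (ρ * (φ n1 * φ n2) * ρ⁻¹) * ρ⁻¹ * (φ n1 * φ n2 * (ρ * (φ n1 * φ n2) * ρ⁻¹))⁻¹ ∈ U.map φ := by
  obtain ⟨m, hm, e1, f1⟩ := rho_c hρ
  obtain ⟨m', hm', e2, f2⟩ := hρ.ra _ hm
  rw [e1, e2, ← map_mul, ← map_mul, ← map_inv, ← map_mul]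
  refine ⟨_, Z_le_U _ ?_, rfl⟩
  have key : ∀ m : M7, m ∈ V1 → m.a = .v → ∀ m' : M7, m' ∈ V1 → m'.a = .v * m.a → m' * (n1 * n2 * m)⁻¹ ∈ Z := by
    decide +kernel
  exact key m hm f1 m' hm' f2

omit [Finite G] in
theorem c_rot (hE : Emb7 (S : Subgroup G) φ) : ρ⁻¹ * (φ n1 * φ n2) * ρ * (φ n1 * φ n2 * (ρ * (φ n1 * φ n2) * ρ⁻¹))⁻¹ ∈ U.map φ := by
  obtain ⟨m, hm, e1, f1⟩ := rho_c hρ
  obtain ⟨m', hm', e2⟩ := hρ.nV1.inv.exists c_mem
  rw [inv_inv] at e2
  obtain ⟨m'', hm'', e3, f3⟩ := hρ.ra _ hm'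
  have h4 : φ m'' = φ (n1 * n2) := by
    rw [← e3, ← e2]; group
  rw [map_mul] at e2
  rw [e1, e2, ← map_mul, ← map_mul, ← map_inv, ← map_mul]
  refine ⟨_, Z_le_U _ ?_, rfl⟩
  have h5 := hE.inj h4
  rw [h5, c_a] at f3
  have h6 : m'.a = .w := by
    have : ∀ x : K4, K4.i = K4.v * x → x = .w := by decide
    exact this _ f3
  have key : ∀ m : M7, m ∈ V1 → m.a = .v → ∀ m' : M7, m' ∈ V1 → m'.a = .w → m' * (n1 * n2 * m)⁻¹ ∈ Z := by
    decide +kernel
  exact key m hm f1 m' hm' h6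

omit [Finite G] in
theorem swap (hL : LB φ F L₁ L₂) : cg (ρ * (φ n1 * φ n2) * ρ⁻¹) L₁ = L₂ := by
  obtain ⟨m, hm, e1, f1⟩ := rho_c hρ
  rw [e1]
  exact (hL.swap m (tU_of_v m hm f1)).1

end rho

/-- commuting with `L₁` and `L₂` -/
theorem Z_field (hL : LB φ F L₁ L₂) (hE : Emb7 (S : Subgroup G) φ) (x : G) (h1 : ∀ l ∈ L₁, x * l = l * x)
    (h2 : ∀ l ∈ L₂, x * l = l * x) : x * φ ze = φ ze * x ∧ (x * x = 1 → x = 1 ∨ x = φ z) := by
  constructor
  · rw [ze_eq, map_mul]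
    have h3 := h1 _ (hL.q₁ a1 a1_mem)
    have h4 := h2 _ (hL.q₂ a2 StepSixFive.a2_mem)
    calc x * (φ a1 * φ a2) = (x * φ a1) * φ a2 := by group
      _ = φ a1 * (x * φ a2) := by rw [h3]; group
      _ = φ a1 * φ a2 * x := by rw [h4]; group
  · intro hx
    have hzx : x * φ z = φ z * x := h1 _ (hL.q₁ z z_mem_Q1)
    have hzz : φ z * φ z = 1 := by rw [← map_mul, z_sq, map_one]
    have key : ∀ y ∈ centralizerPPrimeCore 2 (φ z), y * y = 1 → y = 1 := by
      intro y hy hyy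
      have h3 := LiftSL.core_odd hy
      have h4 : orderOf y ∣ 2 := orderOf_dvd_of_pow_eq_one (by rw [pow_two, hyy])
      rcases (Nat.dvd_prime Nat.prime_two).1 h4 with h5 | h5
      · exact orderOf_eq_one_iff.1 h5
      · rw [h5] at h3
        exact absurd h3 (by decide)
    rcases hL.cent x h1 h2 with h3 | h3
    · exact Or.inl (key x h3 hx)
    · right
      have h4 : x * φ z = 1 := key _ h3 (by
        calc x * φ z * (x * φ z) = x * (φ z * x) * φ z := by group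
          _ = x * (x * φ z) * φ z := by rw [hzx]
          _ = (x * x) * (φ z * φ z) := by group
          _ = 1 := by rw [hx, hzz, one_mul])
      calc x = x * φ z * φ z := by rw [mul_assoc, hzz, mul_one]
        _ = φ z := by rw [h4, one_mul]

theorem not_square_of_mod {q : ℕ} (h : q % 8 = 3 ∨ q % 8 = 5) : ¬ IsSquare q := by
  rintro ⟨r, rfl⟩
  have : r % 8 = 0 ∨ r % 8 = 1 ∨ r % 8 = 2 ∨ r % 8 = 3 ∨ r % 8 = 4 ∨ r % 8 = 5 ∨ r % 8 = 6 ∨ r % 8 = 7 := by omega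
  rw [Nat.mul_mod] at h
  rcases this with h' | h' | h' | h' | h' | h' | h' | h' <;> rw [h'] at h <;> norm_num at h

theorem exists_nums [Fintype F] (hodd : Odd (Fintype.card F)) (h3 : 3 < Fintype.card F)
    (hmod : Fintype.card F % 8 = 3 ∨ Fintype.card F % 8 = 5) (h5 : Fintype.card F ≠ 5) :
    ∃ (ε : ℤ) (N : ℕ), Nums F ε N 2 ∧ ((Fintype.card F % 4 = 1 ∧ N * 2 ^ 2 = Fintype.card F - 1) ∨
      (Fintype.card F % 4 = 3 ∧ N * 2 ^ 2 = Fintype.card F + 1)) := by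
  obtain ⟨q, hq⟩ : ∃ q, q = Fintype.card F := ⟨_, rfl⟩
  have hns := not_square_of_mod hmod
  rw [← hq] at hodd h3 hmod h5 hns ⊢
  obtain ⟨k, hk⟩ : ∃ k, q = 8 * k + 3 ∨ q = 8 * k + 5 := ⟨q / 8, by omega⟩
  rcases hk with hk | hk
  · refine ⟨-1, 2 * k + 1, ⟨Or.inr rfl, ⟨k, rfl⟩, by omega, by rwa [← hq], by rwa [← hq], ?_, ?_⟩, Or.inr ?_⟩
    · rw [← hq, hk]; push_cast; ring
    · rw [← hq]; exact fun _ => hns
    · omega
  · refine ⟨1, 2 * k + 1, ⟨Or.inl rfl, ⟨k, rfl⟩, by omega, by rwa [← hq], by rwa [← hq], ?_, ?_⟩, Or.inl ?_⟩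
    · rw [← hq, hk]; push_cast; ring
    · rw [← hq]; exact fun _ => hns
    · omega

/-- **The input of the recognition theorem for type B5**, `5 < q`. -/
theorem pre [Fintype F] (hE : Emb7 (S : Subgroup G) φ) (hL : LB φ F L₁ L₂) {ρ : G} (hρ : Rho φ ρ)
    (hodd : Odd (Fintype.card F)) (h3 : 3 < Fintype.card F)
    (hmod : Fintype.card F % 8 = 3 ∨ Fintype.card F % 8 = 5) (h5 : Fintype.card F ≠ 5) :
    ∃ (ε : ℤ) (N : ℕ), Pre F ε N 2 (φ z) (φ ze) ρ (φ n1) (φ n2) L₁ L₂ (U.map φ) := by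
  obtain ⟨ε, N, hN, hN'⟩ := exists_nums (F := F) hodd h3 hmod h5
  have h2 : (2 : F) ≠ 0 := AutTorus.two_ne_zero' hodd
  have hns : ¬ IsSquare (Nat.card F) := by
    rw [Nat.card_eq_fintype_card]; exact not_square_of_mod hmod
  have hcyc := T_cyc hL hE h2
  have hne : ∀ m : M7, m ≠ 1 → φ m ≠ 1 := fun m hm h => hm (hE.inj (h.trans (map_one φ).symm))
  refine ⟨ε, N,
    { nums := hN
      zz := by rw [← map_mul, z_sq, map_one]
      z_ne := hne z z_ne
      ee := by rw [← map_mul, ← map_one φ]; congr 1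
      e_ne := hne ze (by decide)
      e_ne_z := fun h => absurd (hE.inj h) (by decide)
      ze := by rw [← map_mul, ← map_mul]; congr 1
      iso1 := hL.iso₁
      z_mem := hL.q₁ z z_mem_Q1
      comm := hL.comm
      perm := fun c hc => hL.perm c hc
      e_norm := (hL.keep ze (by decide)).1
      T_cyc := hcyc.1
      T_card := ?_
      e_act := ?_
      n1_mem := hL.q₁ n1 n1_mem
      n1_sq := by rw [← map_mul, n1_sq]
      n1_inv := fun t ht hte => n1_inv hL hE h2 ht hte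
      n1_e := by rw [← map_inv, ← map_mul, ← map_mul, n1_ze, map_mul]
      n2_mem := hL.q₂ n2 n2_mem
      n2_sq := by rw [← map_mul, n2_sq]
      n2_inv := fun t ht hte => n2_inv hL hE h2 ht hte
      n2_e := by rw [← map_inv, ← map_mul, ← map_mul, n2_ze, map_mul]
      ρ_z := hρ.rot.1
      ρ_e := rho_e hρ
      swap := swap hρ hL
      U_z := ?_
      U_e := ?_
      U_ρ := U_ρ hρ
      U_T1 := ?_
      U_T2 := ?_
      w_rot := w_rot hρ
      c_rot := c_rot hρ hE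
      Z := fun x h1 h2 => Z_field hL hE x h1 h2
      two := fun x hx ⟨m, hm⟩ => hL.two₁ x m hm hx
      f := Or.inr ⟨rfl, φ ⟨.v, .v, .o, false⟩, ⟨_, f_mem, rfl⟩, by rw [← map_mul, f_sq]⟩ }⟩
  · rw [← Nat.card_eq_fintype_card] at hN'
    rcases hN' with ⟨h4, h6⟩ | ⟨h4, h6⟩ <;> rcases hcyc.2 with ⟨h7, h8⟩ | ⟨h7, h8⟩
    · rw [h6, h8]
    · omega
    · omega
    · rw [h6, h8]
  · intro h
    have h4 := h _ (hL.q₁ n1 n1_mem)
    rw [← map_mul, ← map_mul] at h4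
    exact absurd (hE.inj h4) (by decide)
  · rintro _ ⟨u, hu, rfl⟩
    rw [← map_mul, ← map_mul, z_comm]
  · rintro _ ⟨u, hu, rfl⟩
    rw [← map_mul, ← map_mul, U_ze' u hu]
  · rintro _ ⟨u, hu, rfl⟩ t ht hte
    exact U_T1 hL hE h2 hns hu ht hte
  · rintro _ ⟨u, hu, rfl⟩ t ht hte
    exact U_T2 hL hE h2 hns hu ht hte

end

end Cfsg.Agent.LFourB.PreFive
end

-- part: LFourB/KInst
section
/-!
# The `B5` instance of the input of `KForm` and `KLoc`: `E = V1`, `H = V1 ⊓ Q` and `E = V2`, `H = V2 ⊓ Q`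
-/

set_option autoImplicit false


namespace Cfsg.Agent.LFourB.KInst

open Subgroup Cfsg.Agent.LFourB K4 M7 StepSixModel StepSixOut StepSixInst
open Cfsg.Agent.LFourA.CzCt
open MSevenFa MSevenFb MSevenFd MSevenFf
open Cfsg.Agent.SignalizersComponents.RelSylow
open Cfsg.Agent.SylowL5.Weak

universe u

theorem W1_le_Q : ∀ m : M7, m ∈ W1 → m ∈ M7.Q := by decide +kernel
theorem mem_V1_inv : ∀ m : M7, m ∈ V1 → m * m = 1 := by decide +kernel
theorem z_mem_W1 : z ∈ W1 := by decide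
theorem W1_pr : ∀ m : M7, m ∈ W1 → pr m.a = true := by decide +kernel
theorem conj_W : ∀ m : M7, m ∈ V1 → m ∉ W1 → pr m.a = false := by decide +kernel
theorem V1_out : ∀ m : M7, m ∈ V1 → m ∉ W1 → tU m = false := by decide +kernel

instance : DecidablePred (· ∈ V2 ⊓ M7.Q) := fun x => inferInstanceAs (Decidable (x ∈ V2 ∧ x ∈ M7.Q))

theorem swap_W1 (m : M7) : swap m ∈ W1 ↔ m ∈ V2 ⊓ M7.Q := by
  unfold W1
  rw [Subgroup.mem_inf, Subgroup.mem_inf, swap_mem_V1, swap_mem_Q]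
theorem V2_out (m : M7) (hm : m ∈ V2) (hm' : m ∉ V2 ⊓ M7.Q) : tU m = false := by
  have h1 : ∀ m : M7, m ∈ V2 → m ∉ M7.Q → tU m = false := by decide +kernel
  exact h1 m hm (fun h => hm' (Subgroup.mem_inf.2 ⟨hm, h⟩))
theorem Q_sq : ∀ m : M7, m ∈ M7.Q → m * m = 1 → m ≠ 1 → m ≠ z →
    p1 m * p1 m = z ∧ (p1 m)⁻¹ * m * ((p1 m)⁻¹ * m) = z := by decide +kernel

theorem card_W1 : Nat.card W1 = 8 := by
  rw [StepSixModel.card_filter W1 (p := (· ∈ W1)) (fun _ => Iff.rfl)]; decide +kernel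

section

variable {G : Type u} [Group G] [Finite G] {S : Sylow 2 G} {φ : M7 →* G}

omit [Finite G] in
theorem mem_norm {g : G} {A : Subgroup G} : g ∈ normalizer (A : Set G) ↔ cj g A = A := cj_eq_iff.symm

theorem orb (F : Fus S φ) (hτ : ¬ Tau φ) : KForm.Orb (φ z) (V1.map φ) (W1.map φ) where
  elem := by
    constructor
    · constructor
      constructor
      rintro ⟨_, a, ha, rfl⟩ ⟨_, b, hb, rfl⟩
      apply Subtype.ext
      change φ a * φ b = φ b * φ a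
      rw [← map_mul, ← map_mul, StepSixModel.V1_comm a ha b hb]
    · rintro _ ⟨a, ha, rfl⟩
      rw [pow_two, ← map_mul, mem_V1_inv a ha, map_one]
  card := by rw [Subgroup.card_map_of_injective F.emb.inj, StepSixModel.card_V1]
  le := Subgroup.map_mono W1_le_V1
  cardH := by rw [Subgroup.card_map_of_injective F.emb.inj, card_W1]
  z_mem := F.emb.mem_map.2 z_mem_W1
  z_ne := by
    intro h
    exact z_ne (F.emb.inj (by rw [h, map_one]))
  trans := by
    rintro _ ⟨m, hm, rfl⟩ hm1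
    obtain ⟨n, -, hn, e⟩ := F.all1 m hm (fun h => hm1 (by rw [h, map_one]))
    exact ⟨n⁻¹, inv_mem (mem_norm.2 hn), by rw [← e]; group⟩
  norm := by
    rintro g hg hgz _ ⟨m, hm, rfl⟩
    obtain ⟨n, hn, e⟩ : g * φ m * g⁻¹ ∈ V1.map φ := mem_of_cj (mem_norm.1 hg) (F.emb.mem_map.2 (W1_le_V1 hm))
    rw [← e]
    refine F.emb.mem_map.2 ?_
    by_contra hnW
    obtain ⟨s, hs⟩ := exists_conj_x2 n hn (conj_W n hn hnW)
    have h1 : (φ s * g)⁻¹ * φ x2 * (φ s * g)⁻¹⁻¹ = φ m := by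
      rw [← hs]
      calc (φ s * g)⁻¹ * φ (s * n * s⁻¹) * (φ s * g)⁻¹⁻¹ = g⁻¹ * φ n * g := by
            simp only [map_mul, map_inv]; group
        _ = φ m := by rw [e]; group
    have h2 := F.sep1 hτ (g := (φ s * g)⁻¹) (inv_mem (mul_mem (S_le_H F.emb (F.emb.mem s))
      (mem_centralizer_singleton_iff.2 hgz))) h1
    rw [W1_pr m hm] at h2
    exact absurd h2.2 (by decide)
  trans₁ := by
    rintro _ ⟨a, ha, rfl⟩ ha1 haz _ ⟨b, hb, rfl⟩ hb1 hbz
    obtain ⟨u, hu, huV, -, hua⟩ := W_trans F.emb F.q ha (fun h => ha1 (by rw [h, map_one])) (fun h => haz (by rw [h]))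
    obtain ⟨v, hv, hvV, -, hvb⟩ := W_trans F.emb F.q hb (fun h => hb1 (by rw [h, map_one])) (fun h => hbz (by rw [h]))
    refine ⟨v * u⁻¹, mul_mem (mem_norm.2 hvV) (inv_mem (mem_norm.2 huV)),
      mem_centralizer_singleton_iff.1 (mul_mem hv (inv_mem hu)), ?_⟩
    rw [← hua, ← hvb]; group
  trans₂ := by
    rintro _ ⟨a, ha, rfl⟩ ha1 _ ⟨b, hb, rfl⟩ hb1
    obtain ⟨s, hs⟩ := exists_conj_x2 a ha (conj_W a ha (fun h => ha1 (F.emb.mem_map.2 h)))
    obtain ⟨t, ht⟩ := exists_conj_x2 b hb (conj_W b hb (fun h => hb1 (F.emb.mem_map.2 h)))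
    refine ⟨φ (t⁻¹ * s), mem_norm.2 (cj_eq_iff.2 (norm_of F.emb V1_conj (F.emb.mem _))),
      mem_centralizer_singleton_iff.1 (S_le_H F.emb (F.emb.mem _)), ?_⟩
    rw [← map_mul, ← map_inv, ← map_mul]
    congr 1
    calc t⁻¹ * s * a * (t⁻¹ * s)⁻¹ = t⁻¹ * (s * a * s⁻¹) * t := by group
      _ = b := by rw [hs, ← ht]; group

/-- the fusion data with `V1` and `V2` interchanged, pattern (a2) or (b2) -/
theorem fus_swap (F : Fus S φ) (hG : ∀ H : Subgroup G, H.index ≠ 2) (hQ : Q2 φ) : Fus S (φ.comp swap.toMonoidHom) := by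
  refine fus_of F.emb.comp_swap hG ?_ hQ
  obtain ⟨n, -, -, e⟩ := F.norm
  refine ⟨n⁻¹, ?_, ?_⟩
  · change n⁻¹ * φ (swap z) * n⁻¹⁻¹ ∈ (S : Subgroup G)
    rw [swap_z, ← e]
    have h1 : n⁻¹ * (n * φ ze * n⁻¹) * n⁻¹⁻¹ = φ ze := by group
    rw [h1]
    exact F.emb.mem ze
  · change n⁻¹ * φ (swap z) * n⁻¹⁻¹ ≠ φ (swap z)
    rw [swap_z]
    intro h
    have h1 : φ z = φ ze := by
      have h2 : n⁻¹ * φ z * n⁻¹⁻¹ = φ ze := by rw [← e]; group
      rw [← h, h2]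
    exact absurd (F.emb.inj h1) (by decide)

omit [Finite G] in
theorem W1_comp_swap : W1.map (φ.comp swap.toMonoidHom) = (V2 ⊓ M7.Q).map φ := by
  ext g
  constructor
  · rintro ⟨m, hm, rfl⟩
    exact ⟨swap m, by
      rw [← swap_swap m] at hm
      exact (swap_W1 _).1 hm, rfl⟩
  · rintro ⟨m, hm, rfl⟩
    exact ⟨swap m, (swap_W1 m).2 hm, by change φ (swap (swap m)) = φ m; rw [swap_swap]⟩

theorem orb_two (F : Fus S φ) (hG : ∀ H : Subgroup G, H.index ≠ 2) (hτ : ¬ Tau φ) (hQ : Q2 φ) :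
    KForm.Orb (φ z) (V2.map φ) ((V2 ⊓ M7.Q).map φ) := by
  have h1 := orb (fus_swap F hG hQ) (Fus.not_tau_swap hτ)
  rw [Emb7.V1_comp_swap, W1_comp_swap] at h1
  exact h1

omit [Finite G] in
theorem res_z : res φ z = self (φ z) := rfl

omit [Finite G] in
theorem up_res {X : Type*} [Group X] {p : centralizer ({φ z} : Set G) →* X} {K : Subgroup X} {m : M7}
    (h : φ m ∈ up p K) : p (res φ m) ∈ K := by
  obtain ⟨_, h1⟩ := mem_up.1 h
  exact h1

omit [Finite G] in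
theorem res_eq {m : M7} (hb : φ m ∈ centralizer ({φ z} : Set G)) : (⟨φ m, hb⟩ : centralizer ({φ z} : Set G)) = res φ m :=
  rfl

omit [Finite G] in
theorem inner {X : Type*} [Group X] {p : centralizer ({φ z} : Set G) →* X} {K₁ K₂ : Subgroup X}
    (hS : SPos φ p K₁ K₂) {m : M7} (hm : m ∈ M7.Q) (hm2 : m * m = 1) (hm1 : m ≠ 1) (hmz : m ≠ z) :
    ∃ x₁ ∈ K₁, ∃ x₂ ∈ K₂, x₁ * x₁ = p (self (φ z)) ∧ x₂ * x₂ = p (self (φ z)) ∧ p (res φ m) = x₁ * x₂ := by
  obtain ⟨h1, h2⟩ := Q_split m hm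
  obtain ⟨h3, h4⟩ := Q_sq m hm hm2 hm1 hmz
  refine ⟨p (res φ (p1 m)), up_res (hS.q₁ _ h1), p (res φ ((p1 m)⁻¹ * m)), up_res (hS.q₂ _ h2), ?_, ?_, ?_⟩
  · rw [← map_mul, ← map_mul, h3, res_z]
  · rw [← map_mul, ← map_mul, h4, res_z]
  · rw [← map_mul, ← map_mul, mul_inv_cancel_left]

theorem loc {X : Type*} [Group X] {p : centralizer ({φ z} : Set G) →* X} {K₁ K₂ : Subgroup X} {F : Type*} [Field F]
    [Fintype F] (h : Emb7 (S : Subgroup G) φ) (hC : CZL (φ z) F p K₁ K₂) (hS : SPos φ p K₁ K₂) :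
    KLoc.Loc (φ z) F p K₁ K₂ (V1.map φ) (W1.map φ) where
  surj := hC.surj
  ker := hC.ker
  comm := hC.comm
  z₁ := hC.z₁
  z₂ := hC.z₂
  norm := hC.norm
  cent g hg h1 h2 := by
    rcases hC.cent g h1 h2 with e | e
    · exact e
    · exfalso
      have h3 : g * g = 1 := by
        rw [e, ← map_mul, ← map_one p]
        congr 1
        apply Subtype.ext
        change φ z * φ z = 1
        rw [← map_mul, z_sq, map_one]
      have h4 : orderOf g ∣ 2 := orderOf_dvd_of_pow_eq_one (by rw [pow_two, h3])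
      have h5 : orderOf g = 1 := by
        rcases (Nat.dvd_prime Nat.prime_two).1 h4 with h6 | h6
        · exact h6
        · rw [h6] at hg; exact absurd hg (by decide)
      have h6 : p (res φ z) = p (res φ 1) := by
        rw [res_z, ← e, orderOf_eq_one_iff.1 h5, map_one, map_one]
      exact absurd (StepSixFive.inj h hC h6) (by decide)
  e₁ := hC.e₁
  e₂ := hC.e₂
  le := by
    rintro _ ⟨m, hm, rfl⟩
    exact mem_cent φ m
  swap := by
    rintro _ ⟨m, hm, rfl⟩ hH hb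
    rw [res_eq]
    have h1 := hS.swap m (V1_out m hm (fun h2 => hH (h.mem_map.2 h2)))
    exact ⟨fun x hx => (h1 x).1 hx, fun x hx => (h1 x).2 hx⟩
  inner := by
    rintro _ ⟨m, hm, rfl⟩ hm1 hmz hb
    rw [res_eq]
    exact inner hS (W1_le_Q m hm) (mem_V1_inv m (W1_le_V1 hm)) (fun e => hm1 (by rw [e, map_one]))
      (fun e => hmz (by rw [e]))

theorem mem_V2_inv : ∀ m : M7, m ∈ V2 → m * m = 1 := by decide +kernel

theorem loc_two {X : Type*} [Group X] {p : centralizer ({φ z} : Set G) →* X} {K₁ K₂ : Subgroup X} {F : Type*} [Field F]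
    [Fintype F] (h : Emb7 (S : Subgroup G) φ) (hC : CZL (φ z) F p K₁ K₂) (hS : SPos φ p K₁ K₂) :
    KLoc.Loc (φ z) F p K₁ K₂ (V2.map φ) ((V2 ⊓ M7.Q).map φ) where
  surj := hC.surj
  ker := hC.ker
  comm := hC.comm
  z₁ := hC.z₁
  z₂ := hC.z₂
  norm := hC.norm
  cent := (loc h hC hS).cent
  e₁ := hC.e₁
  e₂ := hC.e₂
  le := by
    rintro _ ⟨m, hm, rfl⟩
    exact mem_cent φ m
  swap := by
    rintro _ ⟨m, hm, rfl⟩ hH hb
    rw [res_eq]
    have h1 := hS.swap m (V2_out m hm (fun h2 => hH (h.mem_map.2 h2)))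
    exact ⟨fun x hx => (h1 x).1 hx, fun x hx => (h1 x).2 hx⟩
  inner := by
    rintro _ ⟨m, hm, rfl⟩ hm1 hmz hb
    rw [res_eq]
    obtain ⟨hm2, hmQ⟩ := Subgroup.mem_inf.1 hm
    exact inner hS hmQ (mem_V2_inv m hm2) (fun e => hm1 (by rw [e, map_one]))
      (fun e => hmz (by rw [e]))

end

end Cfsg.Agent.LFourB.KInst
end

-- part: LFourB/ClBFive
section
/-!
# Type B5, pattern (a2): the closing theorem

A subgroup of the simple group `G` that contains `C(z)` and `ρ` is `G`: it contains the centralizers of all its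
involutions.
-/

set_option autoImplicit false
set_option linter.unusedSectionVars false

namespace Cfsg.Agent.LFourB.ClBFive

open Subgroup Cfsg K4 M7 MSevenFa MSevenFb MSevenFf MQ StepEight
open Cfsg.Agent.SignalizersComponents.RelSylow
open Cfsg.Agent.SylowL5.Weak

universe u

/-! ### kernel part -/

/-- the classes of involutions of `M7` -/
theorem classes : ∀ m : M7, m * m = 1 → m ≠ 1 → m = z ∨ (∃ s : M7, s * m * s⁻¹ = ze) ∨ (∃ s : M7, s * m * s⁻¹ = x1) ∨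
    (∃ s : M7, s * m * s⁻¹ = x2) ∨ (∃ s : M7, s * m * s⁻¹ = y1) ∨ (∃ s : M7, s * m * s⁻¹ = y2) ∨
    (∃ s : M7, s * m * s⁻¹ = f) := by decide +kernel

theorem rot_x : ∀ m : M7, m ∈ V1 → m.a = .v * x1.a → ∃ s : M7, s * m * s⁻¹ = x2 := by decide +kernel

theorem rot_y : ∀ m : M7, m ∈ V2 → m.b = .v * y1.b → ∃ s : M7, s * m * s⁻¹ = y2 := by decide +kernel

theorem center_eq : ∀ m : M7, (∀ s : M7, s * m = m * s) → m = 1 ∨ m = z := by decide +kernel

theorem z_comm : ∀ s : M7, s * z = z * s := by decide +kernel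

section

variable {G : Type u} [Group G] {S : Sylow 2 G} {φ : M7 →* G}

/-- `N(S) ≤ C(z)` -/
theorem normalizer_le (h : Emb7 (S : Subgroup G) φ) :
    normalizer ((S : Subgroup G) : Set G) ≤ centralizer ({φ z} : Set G) := by
  intro n hn
  rw [Subgroup.mem_normalizer_iff] at hn
  obtain ⟨m, hm⟩ := h.exists_eq ((hn (φ z)).1 (h.mem z))
  have h1 : ∀ s : M7, s * m = m * s := by
    intro s
    obtain ⟨t, ht⟩ := h.exists_eq (by
      have h2 := (hn (n⁻¹ * φ s * n)).2 (by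
        have e : n * (n⁻¹ * φ s * n) * n⁻¹ = φ s := by group
        rw [e]; exact h.mem s)
      exact h2)
    have hs : φ s = n * φ t * n⁻¹ := by rw [ht]; group
    apply h.inj
    rw [map_mul, map_mul, hs, hm]
    calc n * φ t * n⁻¹ * (n * φ z * n⁻¹) = n * (φ (t * z)) * n⁻¹ := by rw [map_mul]; group
      _ = n * (φ (z * t)) * n⁻¹ := by rw [z_comm]
      _ = n * φ z * n⁻¹ * (n * φ t * n⁻¹) := by rw [map_mul]; group
  rcases center_eq m h1 with h2 | h2
  · exfalso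
    rw [h2, map_one] at hm
    have h3 : φ z = 1 := by
      calc φ z = n⁻¹ * (n * φ z * n⁻¹) * n := by group
        _ = 1 := by rw [← hm]; group
    exact absurd (h.inj (h3.trans (map_one φ).symm)) (by decide)
  · rw [h2] at hm
    rw [mem_centralizer_singleton_iff]
    calc n * φ z = n * φ z * n⁻¹ * n := by group
      _ = φ z * n := by rw [← hm]

end

variable {G : Type u} [Group G] [Finite G] {S : Sylow 2 G} {φ : M7 →* G}

/-- every involution of `S` is conjugate to `z` in `M` -/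
theorem exists_conj (F : Fus S φ) (hQ : Q2 φ) {ρ : G} (hρ : Rho φ ρ) {M : Subgroup G}
    (hC : centralizer ({φ z} : Set G) ≤ M) (hρM : ρ ∈ M) :
    ∀ t ∈ (S : Subgroup G), orderOf t = 2 → ∃ g ∈ M, g * t * g⁻¹ = φ z := by
  have hSM : ∀ s : M7, φ s ∈ M := fun s => hC (S_le_H F.emb (F.emb.mem s))
  -- the relation
  let R : G → G → Prop := fun a b => ∃ g ∈ M, g * a * g⁻¹ = b
  have hsymm : ∀ {a b : G}, R a b → R b a := by
    rintro a b ⟨g, hg, rfl⟩
    exact ⟨g⁻¹, inv_mem hg, by group⟩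
  have htrans : ∀ {a b c : G}, R a b → R b c → R a c := by
    rintro a b c ⟨g, hg, rfl⟩ ⟨k, hk, rfl⟩
    exact ⟨k * g, mul_mem hk hg, by group⟩
  have hconj : ∀ {m n : M7}, (∃ s : M7, s * m * s⁻¹ = n) → R (φ m) (φ n) := by
    rintro m n ⟨s, rfl⟩
    exact ⟨φ s, hSM s, by rw [map_mul, map_mul, map_inv]⟩
  have h1 : R (φ ze) (φ z) := hsymm ⟨ρ, hρM, hρ.rot.1⟩
  have h2 : R (φ x1) (φ z) := by
    obtain ⟨n, hn, -, e⟩ := F.q
    exact htrans (hsymm ⟨n, hC hn, e⟩) h1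
  have h3 : R (φ y1) (φ z) := by
    obtain ⟨n, hn, -, e⟩ := hQ
    exact htrans (hsymm ⟨n, hC hn, e⟩) h1
  have h4 : R (φ x2) (φ z) := by
    obtain ⟨m, hm, e, hma⟩ := hρ.ra x1 (by decide)
    exact htrans (htrans (hsymm (hconj (rot_x m hm hma))) (hsymm ⟨ρ, hρM, e⟩)) h2
  have h5 : R (φ y2) (φ z) := by
    obtain ⟨m, hm, e, hma⟩ := hρ.rb y1 (by decide)
    exact htrans (htrans (hsymm (hconj (rot_y m hm hma))) (hsymm ⟨ρ, hρM, e⟩)) h3
  have h6 : R (φ f) (φ z) := by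
    obtain ⟨c, hc, e⟩ := F.y1_f
    exact htrans (hsymm ⟨c, hC hc, e⟩) h3
  intro t ht ht2
  obtain ⟨m, rfl⟩ := F.emb.exists_eq ht
  have hm1 : m ≠ 1 := by
    rintro rfl
    rw [map_one, orderOf_one] at ht2
    exact absurd ht2 (by norm_num)
  have hm2 : m * m = 1 := by
    apply F.emb.inj
    rw [map_mul, ← pow_two, map_one]
    exact orderOf_dvd_iff_pow_eq_one.1 (by rw [ht2])
  rcases classes m hm2 hm1 with h | h | h | h | h | h | h
  · rw [h]; exact ⟨1, one_mem _, by group⟩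
  · exact htrans (hconj h) h1
  · exact htrans (hconj h) h2
  · exact htrans (hconj h) h4
  · exact htrans (hconj h) h3
  · exact htrans (hconj h) h5
  · exact htrans (hconj h) h6

/-- a proper subgroup containing `C(z)` and `ρ` is strongly embedded -/
theorem stronglyEmbedded (F : Fus S φ) (hQ : Q2 φ) {ρ : G} (hρ : Rho φ ρ) {M : Subgroup G}
    (hC : centralizer ({φ z} : Set G) ≤ M) (hρM : ρ ∈ M) (hne : M ≠ ⊤) : IsStronglyEmbedded M := by
  have hSM : (S : Subgroup G) ≤ M := (S_le_H F.emb).trans hC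
  refine Cfsg.Agent.J2Sylow.BalancedEnd.stronglyEmbedded_of_centralizer S hne hSM
    ((normalizer_le F.emb).trans hC) ?_ ?_
  · rw [even_iff_two_dvd]
    have h1 : 2 ∣ Nat.card (S : Subgroup G) := by rw [F.emb.card]; norm_num
    exact h1.trans (Subgroup.card_dvd_of_le hSM)
  · intro t htM ht2
    have hP : IsPGroup 2 (zpowers t) := by
      rw [IsPGroup.iff_card]
      exact ⟨1, by rw [Nat.card_zpowers, ht2, pow_one]⟩
    obtain ⟨m, hm, hmx⟩ := exists_conj_mem hSM hP (by rw [zpowers_le]; exact htM)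
    obtain ⟨g, hg, e⟩ := exists_conj F hQ hρ hC hρM _ (hmx t (mem_zpowers t)) (by
      rw [← ht2]
      exact orderOf_injective (MulAut.conj m).toMonoidHom (MulAut.conj m).injective t)
    have hgm : g * m ∈ M := mul_mem hg hm
    have e' : (g * m) * t * (g * m)⁻¹ = φ z := by rw [← e]; group
    intro c hc
    rw [mem_centralizer_singleton_iff] at hc
    have h1 : (g * m) * c * (g * m)⁻¹ ∈ centralizer ({φ z} : Set G) := by
      rw [mem_centralizer_singleton_iff, ← e']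
      calc (g * m) * c * (g * m)⁻¹ * ((g * m) * t * (g * m)⁻¹) = (g * m) * (c * t) * (g * m)⁻¹ := by group
        _ = (g * m) * (t * c) * (g * m)⁻¹ := by rw [hc]
        _ = (g * m) * t * (g * m)⁻¹ * ((g * m) * c * (g * m)⁻¹) := by group
    have h3 : c = (g * m)⁻¹ * ((g * m) * c * (g * m)⁻¹) * (g * m) := by group
    rw [h3]
    exact mul_mem (mul_mem (inv_mem hgm) (hC h1)) hgm

/-- `S` is not abelian -/
theorem nonabelian (h : Emb7 (S : Subgroup G) φ) : ∃ a ∈ (S : Subgroup G), ∃ b ∈ (S : Subgroup G), a * b ≠ b * a := by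
  refine ⟨φ x1, h.mem _, φ y1, h.mem _, fun e => ?_⟩
  rw [← map_mul, ← map_mul] at e
  exact absurd (h.inj e) (by decide)

/-- **Closing of type B5, pattern (a2)** -/
theorem closed (F : Fus S φ) (hQ : Q2 φ) {ρ : G} (hρ : Rho φ ρ) (hben : Bender G) :
    ∀ M : Subgroup G, centralizer ({φ z} : Set G) ≤ M → ρ ∈ M → M = ⊤ := by
  intro M hC hρM
  by_contra hne
  exact SevenCmp.not_bender S (by rw [F.emb.card]; norm_num) (nonabelian F.emb)
    (hben M (stronglyEmbedded F hQ hρ hC hρM hne))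

end Cfsg.Agent.LFourB.ClBFive
end

-- part: LFourB/KNil
section
/-!
# Type B5: `C(Z) = O(C(Z)) S0` if there is no element `τ`
-/

set_option autoImplicit false

namespace Cfsg.Agent.LFourB.KNil

open Subgroup Cfsg K4 M7 MSevenFa MSevenFb MSevenFc MSevenFd MSevenFf
open Cfsg.Agent.SignalizersComponents.RelSylow
open Cfsg.Agent.SylowL5.Weak

/-! ### Burnside's theorem modulo a central subgroup -/

theorem exists_core_mul {L : Type*} [Group L] [Finite L] (T : Sylow 2 L) (Z : Subgroup L) [Z.Normal]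
    (hZc : ∀ c ∈ Z, ∀ y : L, c * y = y * c) (hZT : Z ≤ (T : Subgroup L))
    (hn : ∀ n ∈ normalizer ((T : Subgroup L) : Set L), ∀ t ∈ (T : Subgroup L), n * t * n⁻¹ * t⁻¹ ∈ Z) (x : L) :
    ∃ o ∈ pPrimeCore 2 L, ∃ t ∈ (T : Subgroup L), x = o * t := by
  have f2 : Fact (Nat.Prime 2) := ⟨Nat.prime_two⟩
  have hZ2 : IsPGroup 2 Z := T.isPGroup'.to_le hZT
  let q := QuotientGroup.mk' Z
  have hq : Function.Surjective q := QuotientGroup.mk'_surjective Z
  let T' : Sylow 2 (L ⧸ Z) := T.mapSurjective hq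
  have hT' : (T' : Subgroup (L ⧸ Z)) = (T : Subgroup L).map q := rfl
  have hmem : ∀ y : L, q y ∈ (T' : Subgroup (L ⧸ Z)) ↔ y ∈ (T : Subgroup L) := by
    intro y
    constructor
    · rintro ⟨t, ht, e⟩
      have h1 : t⁻¹ * y ∈ Z := QuotientGroup.eq.1 e
      have h2 := mul_mem ht (hZT h1)
      rwa [mul_inv_cancel_left] at h2
    · intro hy
      exact ⟨y, hy, rfl⟩
  have hnc : normalizer ((T' : Subgroup (L ⧸ Z)) : Set (L ⧸ Z)) ≤
      centralizer ((T' : Subgroup (L ⧸ Z)) : Set (L ⧸ Z)) := by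
    intro n' hn'
    obtain ⟨n, rfl⟩ := hq n'
    have hnT : n ∈ normalizer ((T : Subgroup L) : Set L) := by
      rw [Subgroup.mem_normalizer_iff]
      intro y
      have h1 := Subgroup.mem_normalizer_iff.1 hn' (q y)
      rw [← map_inv, ← map_mul, ← map_mul, hmem, hmem] at h1
      exact h1
    rw [mem_centralizer_iff]
    rintro _ ⟨t, ht, rfl⟩
    have h1 : q (n * t * n⁻¹ * t⁻¹) = 1 := (QuotientGroup.eq_one_iff _).2 (hn n hnT t ht)
    have h2 : q (n * t) = q (t * n) := by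
      calc q (n * t) = q (n * t * n⁻¹ * t⁻¹) * q (t * n) := by rw [← map_mul]; congr 1; group
        _ = q (t * n) := by rw [h1, one_mul]
    exact (map_mul q t n).symm.trans (h2.symm.trans (map_mul q n t))
  have hcomp := MonoidHom.ker_transferSylow_isComplement' T' hnc
  have hK := MonoidHom.not_dvd_card_ker_transferSylow T' hnc
  have h1 : (MonoidHom.transferSylow T' hnc).ker ≤ pPrimeCore 2 (L ⧸ Z) :=
    Lib.Cores.le_pPrimeCore inferInstance ((Nat.Prime.coprime_iff_not_dvd Nat.prime_two).2 hK).symm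
  obtain ⟨k, hk, t', ht', e⟩ : ∃ k ∈ (MonoidHom.transferSylow T' hnc).ker, ∃ t' ∈ (T' : Subgroup (L ⧸ Z)), q x = k * t' := by
    have h2 : q x ∈ (MonoidHom.transferSylow T' hnc).ker ⊔ (T' : Subgroup (L ⧸ Z)) := by
      rw [hcomp.sup_eq_top]; exact mem_top _
    obtain ⟨k, hk, t', ht', e⟩ := Subgroup.mem_sup_of_normal_left.1 h2
    exact ⟨k, hk, t', ht', e.symm⟩
  obtain ⟨t, ht, rfl⟩ := ht'
  have h3 : x * t⁻¹ ∈ (pPrimeCore 2 (L ⧸ Z)).comap (QuotientGroup.mk' Z) := by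
    rw [mem_comap]
    have h4 : q (x * t⁻¹) = k := by rw [map_mul, map_inv, e, mul_inv_cancel_right]
    change q (x * t⁻¹) ∈ _
    rw [h4]
    exact h1 hk
  have h5 := Cfsg.Agent.SylowL5.LiftQuot.comap_core_le hZc hZ2 h3
  obtain ⟨o, ho, c, hc, e2⟩ := Subgroup.mem_sup_of_normal_right.1 h5
  refine ⟨o, ho, c * t, mul_mem (hZT hc) ht, ?_⟩
  rw [← mul_assoc, e2, inv_mul_cancel_right]

/-! ### Kernel facts -/

theorem S0_dec : ∀ s : M7, s ∈ S0 → ∃ x ∈ V1, ∃ y ∈ V2, s = x * y := by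
  intro s hs
  have h1 : ∀ s : M7, s ∈ S0 → s = ⟨s.a, .o, .o, false⟩ * ⟨.o, s.b, s.c + s.a * s.b, false⟩ ∧
      (⟨s.a, .o, .o, false⟩ : M7) ∈ V1 ∧ (⟨.o, s.b, s.c + s.a * s.b, false⟩ : M7) ∈ V2 := by decide +kernel
  obtain ⟨h2, h3, h4⟩ := h1 s hs
  exact ⟨_, h3, _, h4, h2⟩

theorem comm_coord : ∀ m n : M7, m ∈ V1 → n ∈ V2 → m * n * m⁻¹ * n⁻¹ = ⟨.o, .o, m.a * n.b, false⟩ := by
  (set_option synthInstance.maxSize 2000 in open scoped Cfsg.Agent.Lib.Hoist in decide +kernel)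

theorem Z_coord : ∀ c : K4, (⟨.o, .o, c, false⟩ : M7) ∈ Z := by decide +kernel

theorem V1_coord : ∀ m n : M7, m ∈ V1 → n ∈ V1 → m.a = n.a → m * n⁻¹ ∈ Z := by (set_option synthInstance.maxSize 2000 in open scoped Cfsg.Agent.Lib.Hoist in decide +kernel)
theorem V2_coord : ∀ m n : M7, m ∈ V2 → n ∈ V2 → m.b = n.b → m * n⁻¹ ∈ Z := by (set_option synthInstance.maxSize 2000 in open scoped Cfsg.Agent.Lib.Hoist in decide +kernel)
theorem coord_i : ∀ l u : K4, pr l = true → (⟨.o, .o, l * u, false⟩ : M7) = ⟨.o, .o, x1.a * y1.b, false⟩ →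
    l = .i ∧ u = .i := by decide +kernel
theorem mul_i : ∀ a : K4, a * .i = a := by decide
theorem i_mul : ∀ a : K4, .i * a = a := by decide

/-! ### `C(Z)` -/

section

variable {G : Type*} [Group G] {S : Sylow 2 G} {φ : M7 →* G}

/-- `C(Z)` -/
def CC (φ : M7 →* G) : Subgroup G := centralizer {φ z} ⊓ centralizer {φ ze}

theorem mem_CC {g : G} : g ∈ CC φ ↔ g * φ z = φ z * g ∧ g * φ ze = φ ze * g := by
  unfold CC
  rw [Subgroup.mem_inf, mem_centralizer_singleton_iff, mem_centralizer_singleton_iff]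

theorem comm_Z' {g c : G} (hg : g ∈ CC φ) (hc : c ∈ Z.map φ) : g * c * g⁻¹ = c := by
  obtain ⟨h1, h2⟩ := mem_CC.1 hg
  have e1 : g * φ z * g⁻¹ = φ z := by rw [h1, mul_inv_cancel_right]
  have e2 : g * φ ze * g⁻¹ = φ ze := by rw [h2, mul_inv_cancel_right]
  obtain ⟨k, hk, rfl⟩ := hc
  rcases Z_cases k hk with rfl | rfl | rfl | rfl
  · rw [map_one]; group
  · exact e1
  · exact e2
  · rw [map_mul, conj_mul', e1, e2]

theorem S0_le_CC : S0.map φ ≤ CC φ := by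
  rintro _ ⟨s, hs, rfl⟩
  refine mem_CC.2 ⟨?_, ?_⟩
  · rw [← map_mul, (S0_comm s hs).1, map_mul]
  · rw [← map_mul, (S0_comm s hs).2, map_mul]

theorem Z_le_S0 : Z ≤ S0 := by
  have h : ∀ x ∈ Z, x ∈ S0 := by decide +kernel
  exact h

variable [Finite G]

/-- `S0` is a Sylow 2-subgroup of `C(Z)` -/
theorem isMaxP_CC (h : Emb7 (S : Subgroup G) φ) : IsMaxP 2 (CC φ) (S0.map φ) := by
  let N : Subgroup G := centralizer {φ z} ⊓ normalizer (Z.map φ : Set G)
  have hSN : (S : Subgroup G) ≤ N := le_inf (S_le_H h) (norm_of h Z_conj)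
  have hMN : CC φ ≤ N := by
    intro g hg
    refine ⟨hg.1, ?_⟩
    show g ∈ normalizer (Z.map φ : Set G)
    rw [← cj_eq_iff]
    refine cj_eq_of_le (cj_le_iff.2 fun x hx => ?_) le_rfl
    rw [comm_Z' hg hx]
    exact hx
  have hn : ∀ n ∈ N, ∀ l ∈ CC φ, n * l * n⁻¹ ∈ CC φ := by
    intro n hn l hl
    have hn1 : cj n (Z.map φ) = Z.map φ := cj_eq_iff.2 hn.2
    have key : ∀ c ∈ Z.map φ, n * l * n⁻¹ * c = c * (n * l * n⁻¹) := by
      intro c hc
      have h1 := comm_Z' hl (mem_of_cj (cj_inv' hn1) hc)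
      calc n * l * n⁻¹ * c = n * (l * (n⁻¹ * c * n⁻¹⁻¹) * l⁻¹) * n⁻¹ * (n * l * n⁻¹) := by group
        _ = c * (n * l * n⁻¹) := by rw [h1]; group
    exact mem_CC.2 ⟨key _ (h.mem_map.2 (by decide)), key _ (h.mem_map.2 (by decide))⟩
  have h1 := Cfsg.Agent.SylowL5.Act.isMaxP_inter (isMaxP_of_le S hSN) hMN hn
  have h2 : (S : Subgroup G) ⊓ CC φ = S0.map φ := by
    apply le_antisymm
    · rintro _ ⟨hs, hm⟩
      obtain ⟨s, rfl⟩ := h.exists_eq hs
      rw [h.mem_map, ← cent_ze]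
      apply h.inj
      rw [map_mul, map_mul]
      exact (mem_CC.1 hm).2
    · exact le_inf (h.map_le _) S0_le_CC
  rwa [h2] at h1

/-- `N(S0) ⊓ C(Z)` acts trivially on `S0 / Z` -/
theorem triv (h : Emb7 (S : Subgroup G) φ) (hτ : ¬ Tau φ) {n : G} (hn : n ∈ CC φ) (hnS : cj n (S0.map φ) = S0.map φ) :
    ∀ t ∈ S0.map φ, n * t * n⁻¹ * t⁻¹ ∈ Z.map φ := by
  have hle : cj n (S0.map φ) ≤ (S : Subgroup G) := hnS.le.trans (h.map_le _)
  have hV1 : cj n (V1.map φ) = V1.map φ := cj_V1_of_le h V1_le_S0 hle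
  have hV2 : cj n (V2.map φ) = V2.map φ := cj_V2_of_le h V2_le_S0 hle
  have hcm : ∀ {a a' b b' : M7}, a ∈ V1 → a' ∈ V1 → b ∈ V2 → b' ∈ V2 → n * φ a * n⁻¹ = φ a' → n * φ b * n⁻¹ = φ b' →
      (⟨.o, .o, a'.a * b'.b, false⟩ : M7) = ⟨.o, .o, a.a * b.b, false⟩ := by
    intro a a' b b' ha ha' hb hb' e1 e2
    rw [← comm_coord a b ha hb, ← comm_coord a' b' ha' hb']
    apply h.inj
    have h1 := comm_Z' hn (c := φ (a * b * a⁻¹ * b⁻¹)) (h.mem_map.2 (by rw [comm_coord a b ha hb]; exact Z_coord _))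
    rw [← h1]
    simp only [map_mul, map_inv]
    rw [← e1, ← e2]
    group
  obtain ⟨m, hm, em⟩ := mem_of_cj hV1 (h.mem_map.2 (show x1 ∈ V1 by decide))
  obtain ⟨m', hm', em'⟩ := mem_of_cj hV2 (h.mem_map.2 (show y1 ∈ V2 by decide))
  have hpm : pr m.a = true := by
    by_contra hp
    exact hτ (tau_of_t h (mem_CC.1 hn).1 (mem_CC.1 hn).2 hV1 hm (by simpa using hp) em.symm)
  obtain ⟨hma, hmb⟩ := coord_i m.a m'.b hpm (hcm (by decide) hm (by decide) hm' em.symm em'.symm)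
  have hx : ∀ x ∈ V1, ∃ c ∈ Z, n * φ x * n⁻¹ = φ (x * c) := by
    intro x hx
    obtain ⟨u, hu, eu⟩ := mem_of_cj hV1 (h.mem_map.2 hx)
    have h1 := hcm hx hu (show y1 ∈ V2 by decide) hm' eu.symm em'.symm
    have h2 : u.a = x.a := by
      have h3 := congrArg M7.c h1
      change u.a * m'.b = x.a * y1.b at h3
      rw [hmb, mul_i] at h3
      rw [h3]
      exact mul_i _
    refine ⟨x⁻¹ * u, ?_, by rw [mul_inv_cancel_left]; exact eu.symm⟩
    have h4 := V1_coord u x hu hx h2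
    have h5 : x⁻¹ * u = u * x⁻¹ := V1_comm _ (inv_mem hx) _ hu
    rw [h5]
    exact h4
  have hy : ∀ y ∈ V2, ∃ c ∈ Z, n * φ y * n⁻¹ = φ (y * c) := by
    intro y hy
    obtain ⟨u, hu, eu⟩ := mem_of_cj hV2 (h.mem_map.2 hy)
    have h1 := hcm (show x1 ∈ V1 by decide) hm hy hu em.symm eu.symm
    have h2 : u.b = y.b := by
      have h3 := congrArg M7.c h1
      change m.a * u.b = x1.a * y.b at h3
      rw [hma, i_mul] at h3
      rw [h3]
      exact i_mul _
    refine ⟨y⁻¹ * u, ?_, by rw [mul_inv_cancel_left]; exact eu.symm⟩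
    have h4 := V2_coord u y hu hy h2
    have h5 : y⁻¹ * u = u * y⁻¹ := V2_comm _ (inv_mem hy) _ hu
    rw [h5]
    exact h4
  rintro _ ⟨s, hs, rfl⟩
  obtain ⟨x, hxm, y, hym, rfl⟩ := S0_dec s hs
  obtain ⟨c, hc, ec⟩ := hx x hxm
  obtain ⟨d, hd, ed⟩ := hy y hym
  have h1 : n * φ (x * y) * n⁻¹ * (φ (x * y))⁻¹ = φ (x * c * (y * d) * (x * y)⁻¹) := by
    rw [map_mul φ x y, conj_mul', ec, ed]
    simp only [map_mul, map_inv]
  rw [h1]
  refine h.mem_map.2 ?_
  have hcx : ∀ k ∈ Z, ∀ u ∈ S0, u * k * u⁻¹ = k := by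
    intro k hk u hu
    apply h.inj
    rw [map_mul, map_mul, map_inv]
    exact comm_Z' (S0_le_CC (h.mem_map.2 hu)) (h.mem_map.2 hk)
  have h2 : x * c * (y * d) * (x * y)⁻¹ = (x * c * x⁻¹) * (x * y * d * (x * y)⁻¹) := by group
  rw [h2, hcx c hc x (V1_le_S0 hxm), hcx d hd (x * y) (mul_mem (V1_le_S0 hxm) (V2_le_S0 hym))]
  exact mul_mem hc hd

/-- **`C(Z) = O(C(Z)) S0`** -/
theorem exists_mul (h : Emb7 (S : Subgroup G) φ) (hτ : ¬ Tau φ) {x : G} (hx : x ∈ CC φ) :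
    ∃ o ∈ (pPrimeCore 2 (CC φ)).map (CC φ).subtype, ∃ s ∈ S0.map φ, x = o * s := by
  have hmax := isMaxP_CC h
  let ZZ : Subgroup (CC φ) := (Z.map φ).subgroupOf (CC φ)
  have hZS : Z.map φ ≤ S0.map φ := Subgroup.map_mono Z_le_S0
  have hZc : ∀ c ∈ ZZ, ∀ y : CC φ, c * y = y * c := by
    intro c hc y
    have h1 := comm_Z' y.2 (mem_subgroupOf.1 hc)
    apply Subtype.ext
    change (c : G) * (y : G) = (y : G) * (c : G)
    calc (c : G) * (y : G) = (y : G) * c * (y : G)⁻¹ * y := by rw [h1]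
      _ = (y : G) * (c : G) := by group
  have hZn : ZZ.Normal := ⟨fun c hc y => by
    have h1 := hZc c hc y
    have h2 : y * c * y⁻¹ = c := by rw [← h1, mul_inv_cancel_right]
    rw [h2]; exact hc⟩
  obtain ⟨o, ho, t, ht, e⟩ := exists_core_mul hmax.toSylow ZZ hZc (by
    rw [hmax.coe_toSylow]
    intro c hc
    exact mem_subgroupOf.2 (hZS (mem_subgroupOf.1 hc))) (by
    intro n hn t ht
    rw [hmax.coe_toSylow] at hn ht
    refine mem_subgroupOf.2 ?_
    refine triv h hτ n.2 ?_ _ (mem_subgroupOf.1 ht)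
    refine cj_eq_of_le (cj_le_iff.2 fun y hy => ?_) le_rfl
    have h1 := (Subgroup.mem_normalizer_iff.1 hn ⟨y, hmax.2.1 hy⟩).1 (mem_subgroupOf.2 hy)
    exact mem_subgroupOf.1 h1) ⟨x, hx⟩
  refine ⟨o, ⟨o, ho, rfl⟩, t, ?_, congrArg Subtype.val e⟩
  rw [hmax.coe_toSylow] at ht
  exact mem_subgroupOf.1 ht

end

end Cfsg.Agent.LFourB.KNil
end

-- part: LFourB/KFive
section
/-!
# Type B5, pattern (a2): the core of `C(z)`

* `core_inv`: `x2` inverts `O(C(z))`; `core_comm`, `core_cent`;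
* `core_eq_bot`: `O(C(z)) = 1` for `|F| ≤ 9`.
-/

set_option autoImplicit false

namespace Cfsg.Agent.LFourB.KFive

open Subgroup Cfsg Cfsg.Agent.LFourB K4 M7 StepSixModel StepSixOut StepSixInst
open Cfsg.Agent.LFourA.CzCt
open MSevenFa MSevenFb MSevenFc MSevenFd MSevenFf
open Cfsg.Agent.SignalizersComponents.RelSylow
open Cfsg.Agent.SylowL5.Weak
open Cfsg.Agent.Lib.SymFrame

universe u

/-! ### Kernel facts -/

theorem k_aa : (a1⁻¹ : M7) * a1⁻¹ = z := by decide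
theorem k_bb : (b1 : M7) * b1 = z := by decide
theorem k_ba : (b1 : M7) * a1⁻¹ * b1⁻¹ = a1⁻¹⁻¹ := by decide
theorem k_ca : (x2⁻¹ * y2 : M7) * a1⁻¹ * (x2⁻¹ * y2)⁻¹ = a1⁻¹ := by decide
theorem k_cb : (x2⁻¹ * y2 : M7) * b1 * (x2⁻¹ * y2)⁻¹ = a1⁻¹ * b1 := by decide

theorem card_Z : Nat.card Z = 4 := by
  rw [StepSixModel.card_filter Z (p := (· ∈ Z)) (fun _ => Iff.rfl)]; decide +kernel

theorem two_ne {F : Type*} [Field F] [Fintype F] (hF : Odd (Fintype.card F)) : (2 : F) ≠ 0 := by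
  refine Ring.two_ne_zero fun hc => ?_
  exact (Nat.not_even_iff_odd.2 hF) (Nat.even_iff.2 (FiniteField.even_card_of_char_two hc))

section

variable {G : Type u} [Group G] [Finite G] {S : Sylow 2 G} {φ : M7 →* G}

/-- a normal subgroup of odd order of the simple group `G` is trivial -/
theorem eq_bot [IsSimpleGroup G] (h : Emb7 (S : Subgroup G) φ) {W : Subgroup G} (hW : ¬ 2 ∣ Nat.card W)
    (hn : normalizer (W : Set G) = ⊤) : W = ⊥ := by
  have hN : W.Normal := Subgroup.normalizer_eq_top_iff.1 hn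
  rcases hN.eq_bot_or_eq_top with h1 | h1
  · exact h1
  · exfalso
    apply hW
    rw [h1, Subgroup.card_top]
    have h2 : 2 ∣ Nat.card (S : Subgroup G) := by rw [h.card]; norm_num
    exact h2.trans (Subgroup.card_subgroup_dvd_card _)

variable {X : Type*} [Group X] {p : centralizer ({φ z} : Set G) →* X} {K₁ K₂ : Subgroup X} {F : Type*} [Field F]
    [Fintype F]

/-- `C(z) ≤ N(W)`, `|F| ≥ 11` -/
theorem norm_two (Fu : Fus S φ) (hτ : ¬ Tau φ) (hC : CZL (φ z) F p K₁ K₂) (hS : SPos φ p K₁ K₂) (h2 : (2 : F) ≠ 0)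
    (h11 : 11 ≤ Fintype.card F) {W : Subgroup G} (hW : Completion (V1.map φ) W) :
    centralizer ({φ z} : Set G) ≤ normalizer (W : Set G) := by
  refine (KInst.loc Fu.emb hC hS).centralizer_le_two (KInst.orb Fu hτ) h2 h11 hW (v := φ ze)
    (Fu.emb.mem_map.2 (by decide)) (fun h => absurd (Fu.emb.inj (h.trans (map_one φ).symm)) (by decide))
    (fun h => absurd (Fu.emb.inj h) (by decide)) ?_
  intro x hxz hxe
  obtain ⟨o, ho, s, hs, rfl⟩ := KNil.exists_mul Fu.emb hτ (KNil.mem_CC.2 ⟨hxz, hxe⟩)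
  refine mul_mem ?_ ?_
  · refine hW.le_normalizer ((pPrimeCore 2 (KNil.CC φ)).map (KNil.CC φ).subtype) ?_ ?_ ho
    · rw [Subgroup.card_map_of_injective (KNil.CC φ).subtype_injective]
      exact (Nat.Prime.coprime_iff_not_dvd Nat.prime_two).1 (Cfsg.Agent.Lib.Cores.pPrimeCore_coprime 2).symm
    · rintro _ ⟨v, hv, rfl⟩ _ ⟨y, hy, rfl⟩
      have hvC : φ v ∈ KNil.CC φ := KNil.S0_le_CC (Fu.emb.mem_map.2 (V1_le_S0 hv))
      exact ⟨⟨φ v, hvC⟩ * y * ⟨φ v, hvC⟩⁻¹, (Cfsg.Agent.Lib.Cores.pPrimeCore_normal 2).conj_mem y hy ⟨φ v, hvC⟩, rfl⟩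
  · have h1 : φ.range ≤ normalizer (V1.map φ : Set G) := by
      rw [Fu.emb.range]; exact norm_of Fu.emb V1_conj
    obtain ⟨t, ht, rfl⟩ := hs
    refine hW.norm (V1.map φ) le_rfl ?_ (h1 ⟨t, rfl⟩)
    rw [hW.card]; norm_num

/-- `C(z) ≤ N(W)`, `|F| = 3` -/
theorem norm_three (Fu : Fus S φ) (hG : ∀ H : Subgroup G, H.index ≠ 2) (hτ : ¬ Tau φ) (hQ : Q2 φ)
    (hC : CZL (φ z) F p K₁ K₂) (hS : SPos φ p K₁ K₂) (h2 : (2 : F) ≠ 0)
    (h3 : Fintype.card F = 3) {W : Subgroup G} (hW : CompletionOne (V1.map φ) W) :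
    centralizer ({φ z} : Set G) ≤ normalizer (W : Set G) := by
  have hl1 := KInst.loc Fu.emb hC hS
  have ho1 := KInst.orb Fu hτ
  have hl2 := KInst.loc_two Fu.emb hC hS
  have ho2 := KInst.orb_two Fu hG hτ hQ
  obtain ⟨W', hW'⟩ := hl2.exists_completion_one ho2 h2
    ⟨2, Or.inr ⟨by rw [Nat.card_eq_fintype_card, h3], by rw [Nat.card_eq_fintype_card, h3]; norm_num⟩⟩
  have hcZ : 4 ≤ Nat.card (Z.map φ) := by rw [Subgroup.card_map_of_injective Fu.emb.inj, card_Z]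
  have hWW : W' = W := by
    rw [hW.sup (Z.map φ) (Subgroup.map_mono Z_le_V1) hcZ, hW'.sup (Z.map φ) (Subgroup.map_mono Z_le_V2) hcZ]
  rw [hWW] at hW'
  have hzE : φ z ∈ V1.map φ := Fu.emb.mem_map.2 (by decide)
  have hzE2 : φ z ∈ V2.map φ := Fu.emb.mem_map.2 (by decide)
  have hz1 : φ z ≠ 1 := fun h => absurd (Fu.emb.inj (h.trans (map_one φ).symm)) (by decide)
  have hne : ∀ {m : M7}, m ≠ 1 → φ m ≠ 1 := fun hm h => hm (Fu.emb.inj (h.trans (map_one φ).symm))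
  have hnz : ∀ {m : M7}, m ≠ z → φ m ≠ φ z := fun hm h => hm (Fu.emb.inj h)
  have hcom : ∀ b ∈ V1.map φ, b ≠ 1 → b ≠ φ z → ∀ x, x * φ z = φ z * x → x * b = b * x → x ∈ normalizer (W : Set G) := by
    intro b hb hb1 hbz x hxz hxb
    refine KClose.mem_of_comm (hW.norm (closure {φ z, b}) (KClose.card_zb_le ho1 hb) (KClose.card_zv ho1 hb1 hbz)) ?_
    rintro y (rfl | hy)
    · exact hxz
    · rw [Set.mem_singleton_iff.mp hy]; exact hxb
  have hcom2 : ∀ b ∈ V2.map φ, b ≠ 1 → b ≠ φ z → ∀ x, x * φ z = φ z * x → x * b = b * x → x ∈ normalizer (W : Set G) := by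
    intro b hb hb1 hbz x hxz hxb
    refine KClose.mem_of_comm (hW'.norm (closure {φ z, b}) (KClose.card_zb_le ho2 hb) (KClose.card_zv ho2 hb1 hbz)) ?_
    rintro y (rfl | hy)
    · exact hxz
    · rw [Set.mem_singleton_iff.mp hy]; exact hxb
  have hx2 : φ x2 ∈ V1.map φ := Fu.emb.mem_map.2 (by decide)
  have hx2' : φ x2 ∉ W1.map φ := fun h => absurd (Fu.emb.mem_map.1 h) (by decide)
  have hy2 : φ y2 ∈ V2.map φ := Fu.emb.mem_map.2 (by decide)
  have hy2' : φ y2 ∉ (V2 ⊓ M7.Q).map φ := fun h => absurd (Fu.emb.mem_map.1 h) (by decide)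
  have hze : φ ze ∈ W1.map φ := Fu.emb.mem_map.2 (by decide)
  have hab : (p ⟨φ x2, hl1.le hx2⟩)⁻¹ * p ⟨φ y2, hl2.le hy2⟩ = p (res φ (x2⁻¹ * y2)) := by
    rw [map_mul, map_inv, map_mul, map_inv]; rfl
  refine hl1.centralizer_le_three ho1 h2 h3 (M := normalizer (W : Set G)) ((hW.core_le hzE hz1).trans le_normalizer)
    hx2 hx2' (b := φ y2) (hl2.le hy2) ?_ (hl2.sw hy2 hy2')
    (hcom _ hx2 (hne (by decide)) (hnz (by decide))) (hcom2 _ hy2 (hne (by decide)) (hnz (by decide)))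
    (v := φ ze) hze (hne (by decide)) (hnz (by decide))
    (hcom _ (Fu.emb.mem_map.2 (by decide)) (hne (by decide)) (hnz (by decide)))
    (Y := p (res φ a1⁻¹)) (j := p (res φ b1)) (KInst.up_res (hS.q₁ _ (by decide))) (KInst.up_res (hS.q₁ _ (by decide)))
    ?_ ?_ ?_ ?_ ?_
  · rw [← map_mul, ← map_one φ]; congr 1
  · rw [← map_mul, ← map_mul, k_aa]; rfl
  · rw [← map_mul, ← map_mul, k_bb]; rfl
  · rw [← map_inv, ← map_inv, ← map_inv, ← map_inv, ← map_mul, ← map_mul, ← map_mul, ← map_mul, k_ba]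
  · rw [hab, ← map_inv, ← map_inv, ← map_mul, ← map_mul, ← map_mul, ← map_mul, k_ca]
  · rw [hab, ← map_inv, ← map_inv, ← map_mul, ← map_mul, ← map_mul, ← map_mul, ← map_mul, ← map_mul, k_cb]

variable [IsSimpleGroup G]

/-- `|F| ≥ 11` -/
theorem completion (Fu : Fus S φ) (hτ : ¬ Tau φ) (hQ : Q2 φ) {ρ : G} (hρ : MQ.Rho φ ρ) (hben : StepEight.Bender G)
    (hC : CZL (φ z) F p K₁ K₂) (hS : SPos φ p K₁ K₂) (h2 : (2 : F) ≠ 0) (h11 : 11 ≤ Fintype.card F) :
    Completion (V1.map φ) (⊥ : Subgroup G) := by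
  obtain ⟨W, hW⟩ := (KInst.loc Fu.emb hC hS).exists_completion (KInst.orb Fu hτ) h2
  have h1 := ClBFive.closed Fu hQ hρ hben _ (norm_two Fu hτ hC hS h2 h11 hW)
    (hW.norm (V1.map φ) le_rfl (by rw [hW.card]; norm_num) (cj_eq_iff.1 hρ.nV1))
  have h4 := eq_bot Fu.emb hW.odd h1
  rwa [h4] at hW

/-- `|F| ≤ 9` -/
theorem completion_one (Fu : Fus S φ) (hG : ∀ H : Subgroup G, H.index ≠ 2) (hτ : ¬ Tau φ) (hQ : Q2 φ) {ρ : G}
    (hρ : MQ.Rho φ ρ) (hben : StepEight.Bender G)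
    (hC : CZL (φ z) F p K₁ K₂) (hS : SPos φ p K₁ K₂) (h2 : (2 : F) ≠ 0)
    (hF : ∃ a : ℕ, (Nat.card F % 4 = 1 ∧ Nat.card F - 1 = 2 ^ a) ∨ (Nat.card F % 4 = 3 ∧ Nat.card F + 1 = 2 ^ a)) :
    CompletionOne (V1.map φ) (⊥ : Subgroup G) := by
  obtain ⟨W, hW⟩ := (KInst.loc Fu.emb hC hS).exists_completion_one (KInst.orb Fu hτ) h2 hF
  have hCW : centralizer ({φ z} : Set G) ≤ normalizer (W : Set G) := by
    by_cases h3 : 3 < Fintype.card F
    · exact (KInst.loc Fu.emb hC hS).centralizer_le_one (KInst.orb Fu hτ) h2 h3 hW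
    · have h4 : Fintype.card F = 3 := by
        have h5 : 1 < Fintype.card F := Fintype.one_lt_card
        have h6 : Fintype.card F ≠ 2 := by
          intro h6
          obtain ⟨a, h7 | h7⟩ := hF <;> · rw [Nat.card_eq_fintype_card, h6] at h7; omega
        omega
      exact norm_three Fu hG hτ hQ hC hS h2 h4 hW
  have h1 := ClBFive.closed Fu hQ hρ hben _ hCW
    (hW.norm (V1.map φ) le_rfl (by
      rw [Subgroup.card_map_of_injective Fu.emb.inj, StepSixModel.card_V1]; norm_num) (cj_eq_iff.1 hρ.nV1))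
  have h4 := eq_bot Fu.emb hW.odd h1
  rwa [h4] at hW

/-- **`O(C(z)) = 1`** for `|F| ≤ 9` (and for all Fermat and Mersenne primes) -/
theorem core_eq_bot_of (Fu : Fus S φ) (hG : ∀ H : Subgroup G, H.index ≠ 2) (hτ : ¬ Tau φ) (hQ : Q2 φ) {ρ : G}
    (hρ : MQ.Rho φ ρ) (hben : StepEight.Bender G)
    (hC : CZL (φ z) F p K₁ K₂) (hS : SPos φ p K₁ K₂) (h2 : (2 : F) ≠ 0)
    (hF : ∃ a : ℕ, (Nat.card F % 4 = 1 ∧ Nat.card F - 1 = 2 ^ a) ∨ (Nat.card F % 4 = 3 ∧ Nat.card F + 1 = 2 ^ a)) :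
    centralizerPPrimeCore 2 (φ z) = ⊥ := by
  have h1 := completion_one Fu hG hτ hQ hρ hben hC hS h2 hF
  rw [← h1.cent (φ z) (Fu.emb.mem_map.2 (by decide))
    (fun h => absurd (Fu.emb.inj (h.trans (map_one φ).symm)) (by decide))]
  exact bot_inf_eq _

theorem hF_of (hodd : Odd (Fintype.card F)) (h9 : Fintype.card F ≤ 9) :
    ∃ a : ℕ, (Nat.card F % 4 = 1 ∧ Nat.card F - 1 = 2 ^ a) ∨ (Nat.card F % 4 = 3 ∧ Nat.card F + 1 = 2 ^ a) := by
  rw [Nat.card_eq_fintype_card]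
  have h5 : 1 < Fintype.card F := Fintype.one_lt_card
  obtain ⟨k, hk⟩ := hodd
  have hcases : Fintype.card F = 3 ∨ Fintype.card F = 5 ∨ Fintype.card F = 7 ∨ Fintype.card F = 9 := by omega
  rcases hcases with h | h | h | h
  · exact ⟨2, Or.inr (by rw [h]; norm_num)⟩
  · exact ⟨2, Or.inl (by rw [h]; norm_num)⟩
  · exact ⟨3, Or.inr (by rw [h]; norm_num)⟩
  · exact ⟨3, Or.inl (by rw [h]; norm_num)⟩

/-- **`O(C(z)) = 1`** for `|F| ≤ 9` -/
theorem core_eq_bot (Fu : Fus S φ) (hG : ∀ H : Subgroup G, H.index ≠ 2) (hτ : ¬ Tau φ) (hQ : Q2 φ) {ρ : G}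
    (hρ : MQ.Rho φ ρ) (hben : StepEight.Bender G)
    (hC : CZL (φ z) F p K₁ K₂) (hS : SPos φ p K₁ K₂) (hodd : Odd (Fintype.card F)) (h9 : Fintype.card F ≤ 9) :
    centralizerPPrimeCore 2 (φ z) = ⊥ :=
  core_eq_bot_of Fu hG hτ hQ hρ hben hC hS (two_ne hodd) (hF_of hodd h9)

/-- **`V1 \ Q` inverts `O(C(z))`** -/
theorem core_inv (Fu : Fus S φ) (hG : ∀ H : Subgroup G, H.index ≠ 2) (hτ : ¬ Tau φ) (hQ : Q2 φ) {ρ : G}
    (hρ : MQ.Rho φ ρ) (hben : StepEight.Bender G)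
    (hC : CZL (φ z) F p K₁ K₂) (hS : SPos φ p K₁ K₂) (hodd : Odd (Fintype.card F)) :
    ∀ m ∈ V1, m ∉ W1 → ∀ x ∈ centralizerPPrimeCore 2 (φ z), φ m * x * (φ m)⁻¹ = x⁻¹ := by
  intro m hm hmW x hx
  rcases Nat.lt_or_ge 9 (Fintype.card F) with h9 | h9
  · have h11 : 11 ≤ Fintype.card F := by obtain ⟨k, hk⟩ := hodd; omega
    exact (KInst.loc Fu.emb hC hS).inv_core (KInst.orb Fu hτ) (two_ne hodd)
      (completion Fu hτ hQ hρ hben hC hS (two_ne hodd) h11) (Fu.emb.mem_map.2 hm)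
      (fun h => hmW (Fu.emb.mem_map.1 h)) hx
  · rw [core_eq_bot Fu hG hτ hQ hρ hben hC hS hodd h9] at hx
    rw [mem_bot.1 hx]; group

/-- `x2` inverts `O(C(z))` -/
theorem core_inv_x2 (Fu : Fus S φ) (hG : ∀ H : Subgroup G, H.index ≠ 2) (hτ : ¬ Tau φ) (hQ : Q2 φ) {ρ : G}
    (hρ : MQ.Rho φ ρ) (hben : StepEight.Bender G)
    (hC : CZL (φ z) F p K₁ K₂) (hS : SPos φ p K₁ K₂) (hodd : Odd (Fintype.card F)) :
    ∀ x ∈ centralizerPPrimeCore 2 (φ z), φ x2 * x * (φ x2)⁻¹ = x⁻¹ :=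
  core_inv Fu hG hτ hQ hρ hben hC hS hodd x2 (by decide) (by decide)

end

end Cfsg.Agent.LFourB.KFive
end

-- part: LFourB/InpFiveInst
section
/-!
# Type B5, case (a2), `|F| = 5`: the input of the recognition of `PSL(4, 5)`

From the structure of `C(z)` (`CZL`, `SPos`, `|F| = 5`), `O(C(z)) = 1` and `Rho φ ρ` we construct
`InpFive (φ z) (φ ze) ρ (φ n1) (φ n2) (φ a1) (φ a2) L₁ L₂ (U.map φ)`.
-/

set_option autoImplicit false

namespace Cfsg.Agent.LFourB.InpFiveInst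

open Subgroup Cfsg Cfsg.Agent.LFourB M7 StepSixModel StepSixOut LBFive PreFive
open Cfsg.Agent.LFourA.CzCt Cfsg.Agent.LFourR.LiftSL Cfsg.Agent.LFourR Cfsg.Agent.LFourFive
open MSevenFf
open Cfsg.Agent.LFourB.MSevenFd
open Cfsg.Agent.LFourB.MQ (Rho)

universe u

/-! ### Facts on `M7` -/

theorem U_comm : ∀ m : M7, m ∈ U → ∀ n : M7, n ∈ U → m * n = n * m := by decide +kernel
theorem s_mem : s ∈ U := by decide
theorem a1_memU : a1 ∈ U := by decide
theorem a2_memU : a2 ∈ U := by decide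

/-- a subgroup of order `4` that contains an element of order `4` -/
theorem mem_zpowers_of {G : Type*} [Group G] [Finite G] {T : Subgroup G} {a : G} (ha : a ∈ T) (hT : Nat.card T = 4)
    (h1 : orderOf a = 4) {t : G} (ht : t ∈ T) : t ∈ zpowers a := by
  have h2 : zpowers a = T := Subgroup.eq_of_le_of_card_ge (zpowers_le.2 ha) (by rw [Nat.card_zpowers, hT, h1])
  rw [h2]; exact ht

theorem order_four {G : Type*} [Group G] {a z : G} (h : a * a = z) (hzz : z * z = 1) (hz : z ≠ 1) : orderOf a = 4 := by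
  have h1 : ¬ a ^ 2 ^ 1 = 1 := by
    rw [pow_one, pow_two, h]; exact hz
  have h2 : a ^ 2 ^ (1 + 1) = 1 := by
    have : a ^ 2 ^ (1 + 1) = a * a * (a * a) := by
      norm_num only
      simp only [pow_succ, pow_zero, one_mul, mul_assoc]
    rw [this, h, hzz]
  have := orderOf_eq_prime_pow h1 h2
  rw [this]; norm_num

/-- `SL(2, F)` for `|F| = 5` -/
theorem exists_sl {F : Type*} [Field F] [Fintype F] (h5 : Fintype.card F = 5) :
    Nonempty (Matrix.SpecialLinearGroup (Fin 2) F ≃* Matrix.SpecialLinearGroup (Fin 2) (ZMod 5)) := by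
  have e : ZMod 5 ≃+* F := ZMod.ringEquivOfPrime F (by norm_num) h5
  refine ⟨{ Matrix.SpecialLinearGroup.map (n := Fin 2) e.symm.toRingHom with
            invFun := Matrix.SpecialLinearGroup.map (n := Fin 2) e.toRingHom
            left_inv := ?_
            right_inv := ?_ }⟩
  · intro A
    ext i j
    simp
  · intro A
    ext i j
    simp

section

variable {G : Type u} [Group G] [Finite G] {S : Sylow 2 G} {φ : M7 →* G}
  {X : Type u} [Group X] [Finite X] {p : centralizer ({φ z} : Set G) →* X} {K₁ K₂ : Subgroup X}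
  {F : Type*} [Field F] [Fintype F]

/-- **The input of the recognition of `PSL(4, 5)`.** -/
theorem inp_of (hE : Emb7 (S : Subgroup G) φ) (hC : CZL (φ z) F p K₁ K₂) (hS : SPos φ p K₁ K₂)
    (h5 : Fintype.card F = 5) (hbot : centralizerPPrimeCore 2 (φ z) = ⊥) {ρ : G} (hρ : Rho φ ρ)
    (hcl : ∀ M : Subgroup G, centralizer ({φ z} : Set G) ≤ M → ρ ∈ M → M = ⊤) :
    InpFive (φ z) (φ ze) ρ (φ n1) (φ n2) (φ a1) (φ a2) (lof p K₁) (lof p K₂) (U.map φ) := by
  have hodd : Odd (Fintype.card F) := by rw [h5]; decide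
  have hprime : (Fintype.card F).Prime := by rw [h5]; norm_num
  have hinv : ∀ o ∈ centralizerPPrimeCore 2 (φ z), φ x2 * o * (φ x2)⁻¹ = o⁻¹ := by
    intro o ho
    rw [hbot, mem_bot] at ho
    rw [ho]; group
  have h3 : 3 < Fintype.card F := by omega
  have h9 : Fintype.card F ≠ 9 := by omega
  obtain ⟨D1, D2⟩ := dat hE hC hS hodd h3 h9 hinv
  have hL := exists_lb hE hC hS hodd h3 h9 hinv
  have h2 : (2 : F) ≠ 0 := D1.two_ne
  have hzz : φ z * φ z = 1 := D1.zz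
  have hz1 : φ z ≠ 1 := D1.z_ne
  have hne : ∀ m : M7, m ≠ 1 → φ m ≠ 1 := fun m hm h => hm (hE.inj (h.trans (map_one φ).symm))
  have hker : ∀ x y : ↥(centralizer ({φ z} : Set G)), p x = p y → x = y := by
    intro x y hxy
    have h6 : p (x * y⁻¹) = 1 := by rw [map_mul, map_inv, hxy, mul_inv_cancel]
    have h7 := (hC.ker _).1 h6
    rw [hbot, mem_bot] at h7
    exact mul_inv_eq_one.1 (Subtype.ext h7)
  have horder : ∀ m : M7, m ^ 2 ^ 3 = 1 := by
    have : ∀ m : M7, m * m * (m * m) * (m * m * (m * m)) = 1 := by decide +kernel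
    intro m
    rw [← this m]
    norm_num only
    simp only [pow_succ, pow_zero, one_mul, mul_assoc]
  have hT : ∀ {L : Subgroup G} {a : G}, Nonempty (L ≃* Matrix.SpecialLinearGroup (Fin 2) F) → a ∈ L → a * a = φ z →
      ∀ t ∈ L, t * a = a * t → t ∈ zpowers a := by
    intro L a hL' ha haz t ht hta
    obtain ⟨e0⟩ := hL'
    have h6 := (TorusB.cyc e0 ha haz hzz hz1 h2).2
    rw [Nat.card_eq_fintype_card, h5] at h6
    have h7 : Nat.card (L ⊓ centralizer {a} : Subgroup G) = 4 := by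
      rcases h6 with ⟨-, h6⟩ | ⟨h6, -⟩
      · exact h6
      · exact absurd h6 (by norm_num)
    exact mem_zpowers_of (mem_inf.2 ⟨ha, mem_centralizer_singleton_iff.2 rfl⟩) h7 (order_four haz hzz hz1)
      (mem_inf.2 ⟨ht, mem_centralizer_singleton_iff.2 hta⟩)
  refine
    { zz := hzz
      z_ne := hz1
      ee := by rw [← map_mul, ← map_one φ]; congr 1
      e_ne := hne ze (by decide)
      e_ne_z := fun h => absurd (hE.inj h) (by decide)
      ze := by rw [← map_mul, ← map_mul]; congr 1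
      iso1 := ?_
      z_mem := D1.z_mem
      comm := hL.comm
      perm := fun c hc => hL.perm c hc
      h1_mem := hL.q₁ a1 a1_mem
      h1_sq := by rw [← map_mul, a1_sq]
      h2_mem := hL.q₂ a2 StepSixFive.a2_mem
      h2_sq := by rw [← map_mul, a2_sq]
      e_eq := by rw [← map_mul, ze_eq]
      n1_mem := hL.q₁ n1 n1_mem
      n1_sq := by rw [← map_mul, n1_sq]
      n1_h1 := by rw [← map_inv, ← map_mul, ← map_mul, n1_a1, map_inv]
      n2_mem := hL.q₂ n2 n2_mem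
      n2_sq := by rw [← map_mul, n2_sq]
      n2_h2 := by rw [← map_inv, ← map_mul, ← map_mul, n2_a2, map_inv]
      ρ_z := hρ.rot.1
      ρ_e := rho_e hρ
      swap := swap hρ hL
      U_comm := ?_
      U_two := ?_
      U_ρ := U_ρ hρ
      T1_le := ?_
      T2_le := ?_
      w_rot := w_rot hρ
      c_rot := c_rot hρ hE
      str := ?_
      cen := ?_
      closed := hcl }
  · obtain ⟨e1⟩ := hL.iso₁
    obtain ⟨e2⟩ := exists_sl (F := F) h5
    exact ⟨e1.trans e2⟩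
  · rintro _ ⟨u, hu, rfl⟩ _ ⟨v, hv, rfl⟩
    rw [← map_mul, ← map_mul, U_comm u hu v hv]
  · rintro _ ⟨u, hu, rfl⟩
    exact ⟨3, by rw [← map_pow, horder, map_one]⟩
  · intro t ht hte
    have h6 := hT hL.iso₁ (hL.q₁ a1 a1_mem) (by rw [← map_mul, a1_sq]) t ht ((comm_iff₁ hL ht).1 hte)
    exact (zpowers_le.2 (⟨a1, a1_memU, rfl⟩ : φ a1 ∈ U.map φ)) h6
  · intro t ht hte
    have h6 := hT hL.iso₂ (hL.q₂ a2 StepSixFive.a2_mem) (by rw [← map_mul, a2_sq]) t ht ((comm_iff₂ hL ht).1 hte)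
    exact (zpowers_le.2 (⟨a2, a2_memU, rfl⟩ : φ a2 ∈ U.map φ)) h6
  · intro x hxz hx
    have hxc := mem_centralizer_singleton_iff.2 hxz
    have h6 : ∀ k ∈ K₁, p ⟨x, hxc⟩ * k * (p ⟨x, hxc⟩)⁻¹ ∈ K₁ := by
      intro k hk
      obtain ⟨l, hl, hl', rfl⟩ := D1.exists_lof hk
      have h7 : x * l * x⁻¹ ∈ lof p K₁ := by
        rw [← hx, mem_cg]
        have e : x⁻¹ * (x * l * x⁻¹) * x = l := by group
        rw [e]; exact hl'
      obtain ⟨h8, h9⟩ := mem_up.1 (lof_le_up p K₁ h7)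
      rw [← map_inv, ← map_mul, ← map_mul]
      exact h9
    obtain ⟨k₁, hk₁, k₂, hk₂, h7⟩ := StepSixFive.ker_cases hprime hE hC hS h6
    obtain ⟨l1, hl1, hl1', rfl⟩ := D1.exists_lof hk₁
    obtain ⟨l2, hl2, hl2', rfl⟩ := D2.exists_lof hk₂
    rcases h7 with h7 | h7
    · refine ⟨l1, hl1', l2, hl2', 1, one_mem _, ?_⟩
      rw [← map_mul] at h7
      rw [mul_one]
      exact congrArg Subtype.val (hker _ _ h7)
    · refine ⟨l1, hl1', l2, hl2', φ s, ⟨s, s_mem, rfl⟩, ?_⟩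
      rw [← map_mul, ← map_mul] at h7
      exact congrArg Subtype.val (hker _ _ h7)
  · intro x hx
    have hxc : x ∈ centralizer ({φ z} : Set G) := mem_centralizer_singleton_iff.2 (hx _ D1.z_mem)
    have h6 : p ⟨x, hxc⟩ ∈ K₂ := by
      apply StepSixFive.cent₁ hprime hE hC hS
      intro k hk
      obtain ⟨l, hl, hl', rfl⟩ := D1.exists_lof hk
      rw [← map_mul, ← map_mul]
      congr 1
      exact Subtype.ext (hx l hl')
    obtain ⟨l, hl, hl', e⟩ := D2.exists_lof h6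
    have h7 : x = l := (congrArg Subtype.val (hker _ _ e)).symm
    rw [h7]; exact hl'

/-- **`InpFive` for type B5, pattern (a2), `|F| = 5`.** -/
theorem exists_inp [IsSimpleGroup G] (Fu : Fus S φ) (hG : ∀ H : Subgroup G, H.index ≠ 2) (hτ : ¬ Tau φ) (hQ : Q2 φ)
    (hben : StepEight.Bender G) (hC : CZL (φ z) F p K₁ K₂) (hS : SPos φ p K₁ K₂) (h5 : Fintype.card F = 5) :
    ∃ ρ : G, InpFive (φ z) (φ ze) ρ (φ n1) (φ n2) (φ a1) (φ a2) (lof p K₁) (lof p K₂) (U.map φ) := by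
  obtain ⟨ρ, hρ⟩ := MSevenFf.Fus.exists_rho Fu hτ hQ
  have hbot := KFive.core_eq_bot Fu hG hτ hQ hρ hben hC hS (by rw [h5]; decide) (by omega)
  exact ⟨ρ, inp_of Fu.emb hC hS h5 hbot hρ (ClBFive.closed Fu hQ hρ hben)⟩

end

end Cfsg.Agent.LFourB.InpFiveInst
end
end

-- part: LFourB/ProdTqq
section
set_option linter.all false
open scoped Cfsg.Agent.FastGrp

/-!
# Facts on the central product `Q ∘ Q`
-/

set_option autoImplicit false

namespace Cfsg.Agent.LFourB.ProdTqq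

open Subgroup QuaternionGroup Cfsg.Agent.SylowSp4.Coord Cfsg.Agent.SylowSp4.Closed

variable {G : Type*} [Group G] {R : Subgroup G} {k : ℕ} {f : Q k → Q k → G} (h : TQQ R k f)

include h

theorem f_one_right_inj {a b : Q k} (e : f a 1 = f b 1) : a = b := by
  rcases h.f_inj _ _ _ _ e with ⟨h1, -⟩ | ⟨-, h1⟩
  · exact h1
  · rw [mul_one] at h1
    exact absurd h1.symm z_ne_one

/-- The isomorphism of the first factor with `Q k`. -/
noncomputable def equivQ1 : h.Q1 ≃* Q k :=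
  (MulEquiv.ofBijective
    ({ toFun := fun a => ⟨f a 1, ⟨a, rfl⟩⟩
       map_one' := Subtype.ext h.f_one
       map_mul' := fun a b => Subtype.ext (by
        change f (a * b) 1 = f a 1 * f b 1
        rw [h.f_mul, one_mul]) } : Q k →* h.Q1)
    ⟨fun a b e => f_one_right_inj h (congrArg Subtype.val e), by
      rintro ⟨_, ⟨a, rfl⟩⟩
      exact ⟨a, rfl⟩⟩).symm

theorem t_mem_Q1 : f (z k) 1 ∈ h.Q1 := ⟨z k, rfl⟩

theorem t_mem_Q2 : f (z k) 1 ∈ h.Q2 := ⟨z k, h.f_one_z.symm⟩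

theorem t_mem_commutator : f (z k) 1 ∈ ⁅h.Q1, h.Q1⁆ := by
  have h1 : f (a ((2 ^ (k - 1) : ℕ) : ZMod (2 * 2 ^ k))) 1 ∈ h.Q1 := ⟨_, rfl⟩
  have h2 : f (xa 0) 1 ∈ h.Q1 := ⟨_, rfl⟩
  have h3 := commutator_mem_commutator h1 h2
  rw [commutatorElement_def] at h3
  have e : (a ((2 ^ (k - 1) : ℕ) : ZMod (2 * 2 ^ k)) : Q k) * xa 0 * (a ((2 ^ (k - 1) : ℕ) : ZMod (2 * 2 ^ k)))⁻¹ *
      (xa 0)⁻¹ = z k := by
    rw [mul_inv_eq_iff_eq_mul, mul_inv_eq_iff_eq_mul, z, a_mul_xa, a_mul_xa, xa_mul_a]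
    congr 1
    have hk := h.hk
    have e1 : ((2 ^ k : ℕ) : ZMod (2 * 2 ^ k)) = ((2 ^ (k - 1) : ℕ) : ZMod (2 * 2 ^ k)) +
        ((2 ^ (k - 1) : ℕ) : ZMod (2 * 2 ^ k)) := by
      rw [← Nat.cast_add]
      congr 1
      have : k = (k - 1) + 1 := by omega
      conv_lhs => rw [this, pow_succ]
      ring
    rw [e1]
    ring
  rw [h.f_inv, h.f_inv, h.f_mul, h.f_mul, h.f_mul, e] at h3
  simpa using h3

theorem t_mem_commutator' : f (z k) 1 ∈ ⁅h.Q2, h.Q2⁆ := by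
  have h1 := t_mem_commutator h.swap
  change f 1 (z k) ∈ ⁅h.Q2, h.Q2⁆ at h1
  rwa [h.f_one_z] at h1

theorem inner {r : G} (hr : r ∈ R) : ∃ q ∈ h.Q1, ∀ x ∈ h.Q1, r * x * r⁻¹ = q * x * q⁻¹ := by
  obtain ⟨a, b, rfl⟩ := (h.mem_iff r).1 hr
  refine ⟨f a 1, ⟨a, rfl⟩, ?_⟩
  rintro _ ⟨c, rfl⟩
  rw [h.f_inv, h.f_inv, h.f_mul, h.f_mul, h.f_mul, h.f_mul]
  simp

theorem inner' {r : G} (hr : r ∈ R) : ∃ q ∈ h.Q2, ∀ x ∈ h.Q2, r * x * r⁻¹ = q * x * q⁻¹ := inner h.swap hr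

theorem eq_of_central {c : Q k} (hc : ∀ d : Q k, c * d = d * c) : c = 1 ∨ c = z k := by
  have hk := h.hk
  rcases c with i | i
  · have h1 := hc (xa 0)
    rw [a_mul_xa, xa_mul_a] at h1
    have h2 := xa.inj h1
    rcases eq_of_add_self (k := k) (i := i) (by linear_combination -h2) with h3 | h3
    · left; rw [h3, ← one_def]
    · right; rw [h3, z]
  · exfalso
    have h1 := hc (a 1)
    rw [a_mul_xa, xa_mul_a] at h1
    have h2 := xa.inj h1
    have h3 : ((2 : ℕ) : ZMod (2 * 2 ^ k)) = 0 := by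
      push_cast
      linear_combination h2
    rw [ZMod.natCast_eq_zero_iff] at h3
    have h4 := Nat.le_of_dvd (by norm_num) h3
    have h5 : 2 ≤ 2 ^ k := by
      calc 2 = 2 ^ 1 := by norm_num
        _ ≤ 2 ^ k := Nat.pow_le_pow_right (by norm_num) hk
    omega

theorem eq_of_comm {x : G} (hx : x ∈ R) (h1 : ∀ y ∈ h.Q1, x * y = y * x) (h2 : ∀ y ∈ h.Q2, x * y = y * x) :
    x = 1 ∨ x = f (z k) 1 := by
  obtain ⟨a, b, rfl⟩ := (h.mem_iff x).1 hx
  have ha : ∀ d : Q k, a * d = d * a := by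
    intro d
    have h3 := h1 (f d 1) ⟨d, rfl⟩
    rw [h.f_mul, h.f_mul, mul_one, one_mul] at h3
    rcases h.f_inj _ _ _ _ h3 with ⟨h4, -⟩ | ⟨-, h4⟩
    · exact h4
    · exact absurd h4 (ne_z_mul b)
  have hb : ∀ d : Q k, b * d = d * b := by
    intro d
    have h3 := h2 (f 1 d) ⟨d, rfl⟩
    rw [h.f_mul, h.f_mul, mul_one, one_mul] at h3
    rcases h.f_inj _ _ _ _ h3 with ⟨-, h4⟩ | ⟨h4, -⟩
    · exact h4
    · exact absurd h4 (ne_z_mul a)
  rcases eq_of_central h ha with rfl | rfl <;> rcases eq_of_central h hb with rfl | rfl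
  · left; exact h.f_one
  · right; exact h.f_one_z
  · right; rfl
  · left; exact h.f_zz

theorem prod {r : G} (hr : r ∈ R) : ∃ a ∈ h.Q1, ∃ b ∈ h.Q2, r = a * b := by
  obtain ⟨a, b, rfl⟩ := (h.mem_iff r).1 hr
  refine ⟨f a 1, ⟨a, rfl⟩, f 1 b, ⟨b, rfl⟩, ?_⟩
  rw [h.f_mul, mul_one, one_mul]

theorem card_Q1 : Nat.card h.Q1 = 2 ^ (k + 2) := by
  rw [Nat.card_congr (equivQ1 h).toEquiv, card_Q]

end Cfsg.Agent.LFourB.ProdTqq
end

-- part: LFourB/ProdPair
section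
set_option linter.all false
open scoped Cfsg.Agent.FastGrp

/-!
# Groups with `O^2(X) ∩ P = Q ∘ Q`

`X` finite, `O(X) = 1`, `P` a Sylow 2-subgroup, `P ∩ O^2(X) = Q ∘ Q` (coordinates `f`), the central involution
`f (z k) 1` is central in `X`, `|Q| = 2 ^ (k + 2) ≥ 16`.  Then the normal closures `K1`, `K2` in `O^2(X)` of the two factors
are perfect, commute, meet in `⟨z⟩`, meet `P` in the factors, and their common centraliser lies in `P`.
-/

set_option autoImplicit false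

namespace Cfsg.Agent.LFourB.ProdPair

open Subgroup QuaternionGroup Cfsg.Agent.SylowSp4 Cfsg.Agent.SylowSp4.Coord Cfsg.Agent.SylowSp4.Closed
open Cfsg.Agent.SylowSp4.Split Cfsg.Agent.LFourB.ProdTqq

universe u

/-- The normal closure in `M` of a subgroup `Q ≤ M`, as a subgroup of `X`. -/
def KK {X : Type*} [Group X] (M Q : Subgroup X) : Subgroup X :=
  (normalClosure ((Q.subgroupOf M : Subgroup M) : Set M)).map M.subtype

structure Hyp {X : Type u} [Group X] [Finite X] (P : Sylow 2 X) (k : ℕ) (f : Q k → Q k → X) : Prop where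
  T : TQQ ((P : Subgroup X) ⊓ Cfsg.pResidual 2 X) k f
  O : Cfsg.oddCore X = ⊥
  Z : ∀ g, g * f (z k) 1 = f (z k) 1 * g
  k2 : 2 ≤ k

section gen

variable {X : Type*} [Group X] {M Q : Subgroup X}

theorem KK_le : KK M Q ≤ M := by
  rintro _ ⟨x, -, rfl⟩
  exact x.2

theorem le_KK (hQ : Q ≤ M) : Q ≤ KK M Q := fun x hx =>
  ⟨⟨x, hQ hx⟩, subset_normalClosure (show x ∈ Q from hx), rfl⟩

theorem KK_conj_mem {g x : X} (hg : g ∈ M) (hx : x ∈ KK M Q) : g * x * g⁻¹ ∈ KK M Q := by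
  obtain ⟨y, hy, rfl⟩ := hx
  have hn : (normalClosure ((Q.subgroupOf M : Subgroup M) : Set M)).Normal := normalClosure_normal
  exact ⟨_, hn.conj_mem y hy ⟨g, hg⟩, rfl⟩

theorem KK_conj {Q' : Subgroup X} (hM : M.Normal) {p : X} (hp : ∀ x ∈ Q, x ∈ M → p * x * p⁻¹ ∈ Q') {x : X}
    (hx : x ∈ KK M Q) : p * x * p⁻¹ ∈ KK M Q' := by
  obtain ⟨y, hy, rfl⟩ := hx
  let φ : M →* X := (MulAut.conj p).toMonoidHom.comp M.subtype
  have hφ : ∀ y : M, φ y = p * y * p⁻¹ := fun y => rfl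
  have hn : (normalClosure ((Q'.subgroupOf M : Subgroup M) : Set M)).Normal := normalClosure_normal
  have h1 : normalClosure ((Q.subgroupOf M : Subgroup M) : Set M) ≤ (KK M Q').comap φ := by
    have hn' : ((KK M Q').comap φ).Normal := by
      refine ⟨fun y hy g => ?_⟩
      rw [mem_comap, hφ] at hy ⊢
      have h2 := KK_conj_mem (hM.conj_mem _ g.2 p) hy
      have e : p * (g : X) * p⁻¹ * (p * (y : X) * p⁻¹) * (p * (g : X) * p⁻¹)⁻¹ =
          p * ((g * y * g⁻¹ : M) : X) * p⁻¹ := by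
        push_cast
        group
      rwa [e] at h2
    apply normalClosure_le_normal
    intro y hy
    have hyQ : (y : X) ∈ Q := hy
    have h2 := hp _ hyQ y.2
    exact ⟨⟨_, hM.conj_mem _ y.2 p⟩, subset_normalClosure (show _ ∈ Q' from h2), rfl⟩
  exact h1 hy

end gen

variable {X : Type u} [Group X] [Finite X] {P : Sylow 2 X} {k : ℕ} {f : Q k → Q k → X} (h : Hyp P k f)

/-- `X = O^2(X) P` -/
theorem exists_mul (P : Sylow 2 X) (g : X) : ∃ m ∈ Cfsg.pResidual 2 X, ∃ p ∈ (P : Subgroup X), g = m * p := by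
  have hfact : Fact (Nat.Prime 2) := ⟨Nat.prime_two⟩
  have hM := TwoFusion.PResidual.pResidual_normal (G := X) 2
  have h1 := TwoFusion.PResidual.isPGroup_quotient_pResidual (G := X) 2
  have hs := QuotientGroup.mk'_surjective (Cfsg.pResidual 2 X)
  have h2 : ((P.mapSurjective hs : Sylow 2 (X ⧸ Cfsg.pResidual 2 X)) : Subgroup (X ⧸ Cfsg.pResidual 2 X)) = ⊤ :=
    ((P.mapSurjective hs).is_maximal' (h1.to_subgroup ⊤) le_top).symm
  have h3 : QuotientGroup.mk' (Cfsg.pResidual 2 X) g ∈ (P : Subgroup X).map (QuotientGroup.mk' (Cfsg.pResidual 2 X)) := by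
    change _ ∈ ((P.mapSurjective hs : Sylow 2 (X ⧸ Cfsg.pResidual 2 X)) : Subgroup (X ⧸ Cfsg.pResidual 2 X))
    rw [h2]
    exact mem_top _
  obtain ⟨p, hp, e⟩ := h3
  have h4 : p⁻¹ * g ∈ Cfsg.pResidual 2 X := QuotientGroup.eq.1 e
  refine ⟨p * (p⁻¹ * g) * p⁻¹, hM.conj_mem _ h4 p, p, hp, by group⟩

include h

theorem Q1_le_M : h.T.Q1 ≤ Cfsg.pResidual 2 X := fun _ hx => (h.T.Q1_le hx).2
theorem Q2_le_M : h.T.Q2 ≤ Cfsg.pResidual 2 X := fun _ hx => (h.T.Q2_le hx).2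
/-- The Sylow subgroup of `M = O^2(X)`. -/
noncomputable def syl (P : Sylow 2 X) : Sylow 2 (Cfsg.pResidual 2 X) :=
  have hfact : Fact (Nat.Prime 2) := ⟨Nat.prime_two⟩
  have hM := TwoFusion.PResidual.pResidual_normal (G := X) 2
  (Cfsg.Agent.Lib.SylowNormalInf.isPGroup_subgroupOf P (Cfsg.pResidual 2 X)).toSylow
    (Cfsg.Agent.Lib.SylowNormalInf.not_dvd_relIndex P (Cfsg.pResidual 2 X))

omit h in
theorem mem_syl {x : Cfsg.pResidual 2 X} : x ∈ (syl P : Subgroup (Cfsg.pResidual 2 X)) ↔ (x : X) ∈ (P : Subgroup X) :=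
  Iff.rfl

theorem tqq_syl : TQQ (syl P : Subgroup (Cfsg.pResidual 2 X)) k
    (fun a b => (⟨f a b, (h.T.f_mem a b).2⟩ : Cfsg.pResidual 2 X)) := by
  have h1 := h.T.restrict (K := Cfsg.pResidual 2 X) (fun a b => (h.T.f_mem a b).2)
  have e : ((P : Subgroup X) ⊓ Cfsg.pResidual 2 X).subgroupOf (Cfsg.pResidual 2 X) =
      (syl P : Subgroup (Cfsg.pResidual 2 X)) := by
    ext x
    rw [mem_syl, mem_subgroupOf]
    exact ⟨fun hx => hx.1, fun hx => ⟨hx, x.2⟩⟩
  rwa [e] at h1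

theorem sub_Q1 : h.T.Q1.subgroupOf (Cfsg.pResidual 2 X) = (tqq_syl h).Q1 := by
  ext x
  constructor
  · rintro ⟨a, e⟩
    exact ⟨a, Subtype.ext e⟩
  · rintro ⟨a, e⟩
    exact ⟨a, congrArg Subtype.val e⟩

theorem sub_Q2 : h.T.Q2.subgroupOf (Cfsg.pResidual 2 X) = (tqq_syl h).Q2 := by
  ext x
  constructor
  · rintro ⟨a, e⟩
    exact ⟨a, Subtype.ext e⟩
  · rintro ⟨a, e⟩
    exact ⟨a, congrArg Subtype.val e⟩

/-- The family. -/
theorem fam : Fam (syl P) ((tqq_syl h).Q1) ((tqq_syl h).Q2) ⟨f (z k) 1, (h.T.f_mem _ _).2⟩ where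
  hO := by
    have hM := TwoFusion.PResidual.pResidual_normal (G := X) 2
    exact Cfsg.Agent.TwoFusion.ClosedZ.oddCore_eq_bot_of_normal h.O _ hM
  tt := Subtype.ext h.T.t_sq
  t1 e := h.T.t_ne_one (congrArg Subtype.val e)
  tc g := Subtype.ext (h.Z g)
  t1m := t_mem_Q1 (tqq_syl h)
  t2m := t_mem_Q2 (tqq_syl h)
  comm a ha b hb := (tqq_syl h).comm_Q1_Q2 ha hb
  inf a ha hb := (tqq_syl h).eq_of_mem_both ha hb
  prod r hr := prod (tqq_syl h) hr
  le1 := (tqq_syl h).Q1_le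
  le2 := (tqq_syl h).Q2_le
  c1 a ha g hg := strongly_closed (tqq_syl h) (fun g => Subtype.ext (h.Z g)) ha hg
  c2 a ha g hg := strongly_closed' (tqq_syl h) (fun g => Subtype.ext (h.Z g)) ha hg

omit h in
theorem res_M : Cfsg.pResidual 2 (Cfsg.pResidual 2 X) = ⊤ := by
  have h1 : Cfsg.pResidual 2 X ≤ (Cfsg.pResidual 2 (Cfsg.pResidual 2 X)).map (Cfsg.pResidual 2 X).subtype := by
    refine TwoFusion.PResidual.pResidual_le 2 (fun g hg => ?_)
    refine ⟨⟨g, TwoFusion.PResidual.mem_pResidual_of_coprime 2 hg⟩,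
      TwoFusion.PResidual.mem_pResidual_of_coprime 2 ?_, rfl⟩
    rwa [← orderOf_coe]
  rw [eq_top_iff]
  intro x _
  obtain ⟨y, hy, e⟩ := h1 x.2
  have : y = x := Subtype.ext e
  rwa [← this]

theorem Q1_le_KK : h.T.Q1 ≤ KK (Cfsg.pResidual 2 X) h.T.Q1 := le_KK (Q1_le_M h)
theorem Q2_le_KK : h.T.Q2 ≤ KK (Cfsg.pResidual 2 X) h.T.Q2 := le_KK (Q2_le_M h)

theorem t_mem_KK1 : f (z k) 1 ∈ KK (Cfsg.pResidual 2 X) h.T.Q1 := Q1_le_KK h (t_mem_Q1 h.T)
theorem t_mem_KK2 : f (z k) 1 ∈ KK (Cfsg.pResidual 2 X) h.T.Q2 := Q2_le_KK h (t_mem_Q2 h.T)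

variable (hPT : Hyps.ProductThm.{u})

include hPT

theorem comm {x y : X} (hx : x ∈ KK (Cfsg.pResidual 2 X) h.T.Q1) (hy : y ∈ KK (Cfsg.pResidual 2 X) h.T.Q2) :
    x * y = y * x := by
  obtain ⟨x, hx, rfl⟩ := hx
  obtain ⟨y, hy, rfl⟩ := hy
  rw [sub_Q1 h] at hx
  rw [sub_Q2 h] at hy
  exact congrArg Subtype.val ((fam h).comm_N hPT hx hy)

theorem inf {x : X} (hx : x ∈ KK (Cfsg.pResidual 2 X) h.T.Q1) (hy : x ∈ KK (Cfsg.pResidual 2 X) h.T.Q2) :
    x = 1 ∨ x = f (z k) 1 := by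
  obtain ⟨x, hx, rfl⟩ := hx
  obtain ⟨y, hy, e⟩ := hy
  have : y = x := Subtype.ext e
  rw [this] at hy
  rw [sub_Q1 h] at hx
  rw [sub_Q2 h] at hy
  rcases (fam h).mem_inf hPT hx hy with h1 | h1
  · left; exact congrArg Subtype.val h1
  · right; exact congrArg Subtype.val h1

theorem mem_Q1 {x : X} (hx : x ∈ KK (Cfsg.pResidual 2 X) h.T.Q1) (hP : x ∈ (P : Subgroup X)) : x ∈ h.T.Q1 := by
  obtain ⟨x, hx, rfl⟩ := hx
  rw [sub_Q1 h] at hx
  have h1 := (fam h).mem_Q1 hPT hx (mem_syl.2 hP)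
  rw [← sub_Q1 h] at h1
  exact h1

theorem mem_Q2 {x : X} (hx : x ∈ KK (Cfsg.pResidual 2 X) h.T.Q2) (hP : x ∈ (P : Subgroup X)) : x ∈ h.T.Q2 := by
  obtain ⟨x, hx, rfl⟩ := hx
  rw [sub_Q2 h] at hx
  have h1 := (fam h).symm.mem_Q1 hPT hx (mem_syl.2 hP)
  rw [← sub_Q2 h] at h1
  exact h1

theorem perfect1 : ⁅KK (Cfsg.pResidual 2 X) h.T.Q1, KK (Cfsg.pResidual 2 X) h.T.Q1⁆ = KK (Cfsg.pResidual 2 X) h.T.Q1 := by
  have h1 := ProdPerfect.perfect (fam h) hPT res_M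
    (fun g hg => ProdAut.exists_inner (syl P) _ h.k2 (equivQ1 (tqq_syl h)) (fun r hr => inner (tqq_syl h) hr) hg)
    (t_mem_commutator (tqq_syl h))
  rw [KK, sub_Q1 h, ← Subgroup.map_commutator, h1]

theorem perfect2 : ⁅KK (Cfsg.pResidual 2 X) h.T.Q2, KK (Cfsg.pResidual 2 X) h.T.Q2⁆ = KK (Cfsg.pResidual 2 X) h.T.Q2 := by
  have h1 := ProdPerfect.perfect (fam h).symm hPT res_M
    (fun g hg => ProdAut.exists_inner (syl P) _ h.k2 (equivQ1 (tqq_syl h).swap) (fun r hr => inner' (tqq_syl h) hr) hg)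
    (t_mem_commutator' (tqq_syl h))
  rw [KK, sub_Q2 h, ← Subgroup.map_commutator, h1]

end Cfsg.Agent.LFourB.ProdPair

private theorem dce_7e195c786067 : _root_.True := by
  try have : _root_.True := by simp only [_root_.Cfsg.Agent.LFourB.ProdPair.KK.eq_1]
  exact _root_.True.intro
end

-- part: LFourB/ProdPairTwo
section
set_option linter.all false
open scoped Cfsg.Agent.FastGrp

/-!
# Groups with `O^2(X) ∩ P = Q ∘ Q`: permutation of the factors, their centraliser, and their isomorphism type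
-/

set_option autoImplicit false

namespace Cfsg.Agent.LFourB.ProdPair

open Subgroup QuaternionGroup Cfsg.Agent.SylowSp4 Cfsg.Agent.SylowSp4.Coord Cfsg.Agent.SylowSp4.Closed
open Cfsg.Agent.SylowSp4.Split Cfsg.Agent.LFourB.ProdTqq

universe u

/-- A core-free group with a central Sylow 2-subgroup is a 2-group. -/
theorem eq_top_of_central {K : Type*} [Group K] [Finite K] (P : Sylow 2 K) (hO : Cfsg.oddCore K = ⊥)
    (hc : ∀ g : K, ∀ x ∈ (P : Subgroup K), g * x = x * g) : (P : Subgroup K) = ⊤ := by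
  have hfact : Fact (Nat.Prime 2) := ⟨Nat.prime_two⟩
  have hP : normalizer ((P : Subgroup K) : Set K) ≤ centralizer ((P : Subgroup K) : Set K) := by
    intro g _
    rw [mem_centralizer_iff]
    intro x hx
    exact (hc g x hx).symm
  have h1 := MonoidHom.ker_transferSylow_isComplement' P hP
  have h2 : (MonoidHom.transferSylow P hP).ker = ⊥ := by
    rw [eq_bot_iff, ← hO]
    refine Cfsg.Agent.Lib.Cores.le_pPrimeCore inferInstance ?_
    have h3 := MonoidHom.not_dvd_card_ker_transferSylow P hP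
    exact ((Nat.Prime.coprime_iff_not_dvd Nat.prime_two).2 h3).symm
  rw [h2] at h1
  exact isComplement'_bot_left.1 h1

variable {X : Type u} [Group X] [Finite X] {P : Sylow 2 X} {k : ℕ} {f : Q k → Q k → X} (h : Hyp P k f)

/-- `P` permutes the two factors. -/
def Perm (h : Hyp P k f) : Prop := ∀ p ∈ (P : Subgroup X),
  ((∀ x ∈ h.T.Q1, p * x * p⁻¹ ∈ h.T.Q1) ∧ ∀ x ∈ h.T.Q2, p * x * p⁻¹ ∈ h.T.Q2) ∨
  ((∀ x ∈ h.T.Q1, p * x * p⁻¹ ∈ h.T.Q2) ∧ ∀ x ∈ h.T.Q2, p * x * p⁻¹ ∈ h.T.Q1)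

include h

theorem perm (hp : Perm h) (g : X) :
    ((∀ x ∈ KK (Cfsg.pResidual 2 X) h.T.Q1, g * x * g⁻¹ ∈ KK (Cfsg.pResidual 2 X) h.T.Q1) ∧
      ∀ x ∈ KK (Cfsg.pResidual 2 X) h.T.Q2, g * x * g⁻¹ ∈ KK (Cfsg.pResidual 2 X) h.T.Q2) ∨
    ((∀ x ∈ KK (Cfsg.pResidual 2 X) h.T.Q1, g * x * g⁻¹ ∈ KK (Cfsg.pResidual 2 X) h.T.Q2) ∧
      ∀ x ∈ KK (Cfsg.pResidual 2 X) h.T.Q2, g * x * g⁻¹ ∈ KK (Cfsg.pResidual 2 X) h.T.Q1) := by
  have hM := TwoFusion.PResidual.pResidual_normal (G := X) 2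
  obtain ⟨m, hm, p, hpP, rfl⟩ := exists_mul P g
  have e : ∀ x, m * p * x * (m * p)⁻¹ = m * (p * x * p⁻¹) * m⁻¹ := fun x => by group
  rcases hp p hpP with ⟨h1, h2⟩ | ⟨h1, h2⟩
  · left
    constructor
    · intro x hx
      rw [e]
      exact KK_conj_mem hm (KK_conj hM (fun y hy _ => h1 y hy) hx)
    · intro x hx
      rw [e]
      exact KK_conj_mem hm (KK_conj hM (fun y hy _ => h2 y hy) hx)
  · right
    constructor
    · intro x hx
      rw [e]
      exact KK_conj_mem hm (KK_conj hM (fun y hy _ => h1 y hy) hx)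
    · intro x hx
      rw [e]
      exact KK_conj_mem hm (KK_conj hM (fun y hy _ => h2 y hy) hx)

/-- The common centraliser of the two factors. -/
def CC (h : Hyp P k f) : Subgroup X :=
  centralizer (KK (Cfsg.pResidual 2 X) h.T.Q1 : Set X) ⊓ centralizer (KK (Cfsg.pResidual 2 X) h.T.Q2 : Set X)

omit h in
theorem mem_CC {h : Hyp P k f} {g : X} : g ∈ CC h ↔ (∀ x ∈ KK (Cfsg.pResidual 2 X) h.T.Q1, g * x = x * g) ∧
    ∀ x ∈ KK (Cfsg.pResidual 2 X) h.T.Q2, g * x = x * g := by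
  rw [CC, mem_inf, mem_centralizer_iff, mem_centralizer_iff]
  constructor
  · rintro ⟨h1, h2⟩
    exact ⟨fun x hx => (h1 x hx).symm, fun x hx => (h2 x hx).symm⟩
  · rintro ⟨h1, h2⟩
    exact ⟨fun x hx => (h1 x hx).symm, fun x hx => (h2 x hx).symm⟩

theorem CC_normal (hp : Perm h) : (CC h).Normal := by
  refine ⟨fun c hc g => ?_⟩
  rw [mem_CC] at hc ⊢
  have key : ∀ x, c * (g⁻¹ * x * g) = (g⁻¹ * x * g) * c → g * c * g⁻¹ * x = x * (g * c * g⁻¹) := by
    intro x hx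
    calc g * c * g⁻¹ * x = g * (c * (g⁻¹ * x * g)) * g⁻¹ := by group
      _ = g * ((g⁻¹ * x * g) * c) * g⁻¹ := by rw [hx]
      _ = x * (g * c * g⁻¹) := by group
  rcases perm h hp g⁻¹ with ⟨h1, h2⟩ | ⟨h1, h2⟩
  · rw [inv_inv] at h1 h2
    exact ⟨fun x hx => key x (hc.1 _ (h1 x hx)), fun x hx => key x (hc.2 _ (h2 x hx))⟩
  · rw [inv_inv] at h1 h2
    exact ⟨fun x hx => key x (hc.2 _ (h1 x hx)), fun x hx => key x (hc.1 _ (h2 x hx))⟩

theorem eq_of_mem_CC_of_mem_P {x : X} (hx : x ∈ CC h) (hM : x ∈ Cfsg.pResidual 2 X) (hP : x ∈ (P : Subgroup X)) :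
    x = 1 ∨ x = f (z k) 1 := by
  rw [mem_CC] at hx
  exact eq_of_comm h.T ⟨hP, hM⟩ (fun y hy => hx.1 y (Q1_le_KK h hy)) (fun y hy => hx.2 y (Q2_le_KK h hy))

/-- `C ∩ M` is of order two. -/
theorem eq_of_mem_CC (hp : Perm h) {x : X} (hx : x ∈ CC h) (hM : x ∈ Cfsg.pResidual 2 X) :
    x = 1 ∨ x = f (z k) 1 := by
  have hfact : Fact (Nat.Prime 2) := ⟨Nat.prime_two⟩
  have hMn := TwoFusion.PResidual.pResidual_normal (G := X) 2
  have hCn := CC_normal h hp
  set D : Subgroup X := CC h ⊓ Cfsg.pResidual 2 X with hD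
  have hDn : D.Normal := inferInstance
  have hDO := Cfsg.Agent.TwoFusion.ClosedZ.oddCore_eq_bot_of_normal h.O D hDn
  let PD : Sylow 2 D := (Cfsg.Agent.Lib.SylowNormalInf.isPGroup_subgroupOf P D).toSylow
    (Cfsg.Agent.Lib.SylowNormalInf.not_dvd_relIndex P D)
  have h1 : ∀ y ∈ (PD : Subgroup D), (y : X) = 1 ∨ (y : X) = f (z k) 1 := by
    intro y hy
    have hyP : (y : X) ∈ (P : Subgroup X) := hy
    exact eq_of_mem_CC_of_mem_P h y.2.1 y.2.2 hyP
  have h2 := eq_top_of_central PD hDO (by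
    intro g y hy
    apply Subtype.ext
    rcases h1 y hy with e | e
    · rw [coe_mul, coe_mul, e, mul_one, one_mul]
    · rw [coe_mul, coe_mul, e, h.Z])
  exact h1 ⟨x, hx, hM⟩ (by rw [h2]; exact mem_top _)

/-- The common centraliser lies in `P`. -/
theorem CC_le (hp : Perm h) : CC h ≤ (P : Subgroup X) := by
  have hfact : Fact (Nat.Prime 2) := ⟨Nat.prime_two⟩
  have h1 : IsPGroup 2 (CC h) := by
    rw [IsPGroup.iff_orderOf]
    intro x
    obtain ⟨a, b, hab, ⟨j, hj⟩, hb⟩ := TwoFusion.PResidual.exists_pPart_mul_pPrimePart 2 (x : X)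
    have hxb : (x : X) ^ b ∈ CC h := zpow_mem x.2 b
    have h2 : (x : X) ^ b = 1 := by
      rcases eq_of_mem_CC h hp hxb (TwoFusion.PResidual.mem_pResidual_of_coprime 2 hb) with h3 | h3
      · exact h3
      · exfalso
        rw [h3] at hb
        have h4 : orderOf (f (z k) 1) = 2 := orderOf_eq_prime (by rw [sq, h.T.t_sq]) h.T.t_ne_one
        rw [h4] at hb
        norm_num at hb
    rw [h2, mul_one] at hab
    refine ⟨j, ?_⟩
    rw [← orderOf_coe, hab, hj]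
  exact (Cfsg.Agent.Lib.Cores.le_pCore (CC_normal h hp) h1).trans (Cfsg.Agent.Lib.Cores.pCore_le_sylow P)

variable (hPT : Hyps.ProductThm.{u}) (hGW : Hyps.GW.{u})

include hPT hGW

omit h in
theorem sl_aux {K : Type u} [Group K] [Finite K] {R : Sylow 2 K} {Q1 Q2 : Subgroup K} {t : K} (h : Fam R Q1 Q2 t)
    (hperf : ⁅normalClosure (Q1 : Set K), normalClosure (Q1 : Set K)⁆ = normalClosure (Q1 : Set K))
    (hk : 1 ≤ k) (e : Q1 ≃* Q k) :
    (∃ (F : Type) (_ : Field F) (_ : Fintype F), Odd (Fintype.card F) ∧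
        Nonempty (normalClosure (Q1 : Set K) ≃* Matrix.SpecialLinearGroup (Fin 2) F)) ∨
      (k = 2 ∧ ∃ φ : normalClosure (Q1 : Set K) →* alternatingGroup (Fin 7), Function.Surjective φ ∧
        ∀ x, φ x = 1 ↔ (x : K) = 1 ∨ (x : K) = t) := by
  have hfact : Fact (Nat.Prime 2) := ⟨Nat.prime_two⟩
  set N := normalClosure (Q1 : Set K) with hN
  obtain ⟨P, hP⟩ : ∃ P : Sylow 2 N, (P : Subgroup N) = Q1.subgroupOf N := ProdPerfect.exists_sylow h hPT
  have hQN : Q1 ≤ N := subset_normalClosure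
  have hNO : Cfsg.oddCore N = ⊥ := Cfsg.Agent.TwoFusion.ClosedZ.oddCore_eq_bot_of_normal h.hO N inferInstance
  have hNp : commutator N = ⊤ := by
    have h1 : (commutator N).map N.subtype = (⊤ : Subgroup N).map N.subtype := by
      rw [commutator_def, Subgroup.map_commutator, ← MonoidHom.range_eq_map, N.range_subtype, hperf]
    exact Subgroup.map_injective N.subtype_injective h1
  have eP : (P : Subgroup N) ≃* Q k := by
    rw [hP]
    exact (subgroupOfEquivOfLe hQN).trans e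
  let τ : N := ⟨t, hQN h.t1m⟩
  have hτ : orderOf τ = 2 := by
    rw [← orderOf_coe]
    exact h.orderOf_t
  have hτc : τ ∈ center N := mem_center_iff.2 fun g => Subtype.ext (h.tc g)
  have hn : (zpowers τ).Normal := by
    have h1 := h.normal_t
    refine ⟨fun x hx g => ?_⟩
    have h2 : Commute g x := by
      obtain ⟨n, rfl⟩ := mem_zpowers_iff.1 hx
      exact (show Commute g τ from Subtype.ext (h.tc g)).zpow_right n
    rw [h2.eq, mul_inv_cancel_right]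
    exact hx
  rcases QuatId.exists_sl hGW hNO hNp P hk eP hτ hτc with h1 | ⟨h1, ⟨e1⟩⟩
  · exact Or.inl h1
  · right
    refine ⟨h1, e1.toMonoidHom.comp (QuotientGroup.mk' (zpowers τ)),
      e1.surjective.comp (QuotientGroup.mk'_surjective _), fun x => ?_⟩
    have h2 : (e1.toMonoidHom.comp (QuotientGroup.mk' (zpowers τ))) x = 1 ↔ x ∈ zpowers τ := by
      rw [MonoidHom.comp_apply]
      change e1 (QuotientGroup.mk' (zpowers τ) x) = 1 ↔ _
      rw [MulEquiv.map_eq_one_iff]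
      exact QuotientGroup.eq_one_iff x
    rw [h2]
    constructor
    · intro hx
      have h3 : (x : K) ∈ zpowers t := by
        obtain ⟨n, rfl⟩ := mem_zpowers_iff.1 hx
        exact zpow_mem (Subgroup.mem_zpowers t) n
      exact h.mem_zpowers h3
    · rintro (h3 | h3)
      · have : x = 1 := Subtype.ext h3
        rw [this]
        exact one_mem _
      · have : x = τ := Subtype.ext h3
        rw [this]
        exact Subgroup.mem_zpowers τ

omit h hPT hGW in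
theorem transport {M Q : Subgroup X} {t : X} {ht : t ∈ M}
    (h2 : (∃ (F : Type) (_ : Field F) (_ : Fintype F), Odd (Fintype.card F) ∧
        Nonempty (normalClosure ((Q.subgroupOf M : Subgroup M) : Set M) ≃* Matrix.SpecialLinearGroup (Fin 2) F)) ∨
      (k = 2 ∧ ∃ φ : normalClosure ((Q.subgroupOf M : Subgroup M) : Set M) →* alternatingGroup (Fin 7),
        Function.Surjective φ ∧ ∀ x, φ x = 1 ↔ (x : M) = 1 ∨ (x : M) = ⟨t, ht⟩)) :
    (∃ (F : Type) (_ : Field F) (_ : Fintype F), Odd (Fintype.card F) ∧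
        Nonempty (KK M Q ≃* Matrix.SpecialLinearGroup (Fin 2) F)) ∨
      (k = 2 ∧ ∃ φ : KK M Q →* alternatingGroup (Fin 7), Function.Surjective φ ∧
        ∀ x, φ x = 1 ↔ (x : X) = 1 ∨ (x : X) = t) := by
  let e : normalClosure ((Q.subgroupOf M : Subgroup M) : Set M) ≃* KK M Q :=
    (normalClosure ((Q.subgroupOf M : Subgroup M) : Set M)).equivMapOfInjective _ M.subtype_injective
  rcases h2 with ⟨F, hF1, hF2, h3, ⟨e1⟩⟩ | ⟨h3, φ, h4, h5⟩
  · exact Or.inl ⟨F, hF1, hF2, h3, ⟨e.symm.trans e1⟩⟩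
  · right
    refine ⟨h3, φ.comp e.symm.toMonoidHom, h4.comp e.symm.surjective, fun x => ?_⟩
    rw [MonoidHom.comp_apply]
    change φ (e.symm x) = 1 ↔ _
    rw [h5]
    have h6 : ((e.symm x : M) : X) = x := by
      have h7 := congrArg (Subtype.val : KK M Q → X) (e.apply_symm_apply x)
      exact h7
    constructor
    · rintro (h7 | h7)
      · left; rw [← h6, h7]; rfl
      · right; rw [← h6, h7]
    · rintro (h7 | h7)
      · left; apply Subtype.ext; rw [h6, h7]; rfl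
      · right; apply Subtype.ext; rw [h6, h7]

/-- The type of the first factor. -/
theorem sl_one : (∃ (F : Type) (_ : Field F) (_ : Fintype F), Odd (Fintype.card F) ∧
        Nonempty (KK (Cfsg.pResidual 2 X) h.T.Q1 ≃* Matrix.SpecialLinearGroup (Fin 2) F)) ∨
      (k = 2 ∧ ∃ φ : KK (Cfsg.pResidual 2 X) h.T.Q1 →* alternatingGroup (Fin 7), Function.Surjective φ ∧
        ∀ x, φ x = 1 ↔ (x : X) = 1 ∨ (x : X) = f (z k) 1) := by
  have h1 := ProdPerfect.perfect (fam h) hPT res_M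
    (fun g hg => ProdAut.exists_inner (syl P) _ h.k2 (equivQ1 (tqq_syl h)) (fun r hr => inner (tqq_syl h) hr) hg)
    (t_mem_commutator (tqq_syl h))
  have h2 := sl_aux hPT hGW (fam h) h1 (le_trans (by norm_num) h.k2) (equivQ1 (tqq_syl h))
  rw [← sub_Q1 h] at h2
  exact transport h2

end Cfsg.Agent.LFourB.ProdPair

private theorem dce_51d5055e7da3 : _root_.True := by
  try have : _root_.True := by simp only [_root_.Cfsg.Agent.LFourB.ProdPair.CC.eq_1]
  exact _root_.True.intro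
end

-- part: LFourB/ProdCent
section
set_option linter.all false
open scoped Cfsg.Agent.FastGrp

/-!
# The centraliser of an involution `z` with `O^2(C(z)) ∩ S = Q ∘ Q`

`CZP z p K₁ K₂ S Q₁ Q₂` is the variant of `LFourA.CzCt.CZ` without the assumption that `C_X(K₁K₂) = ⟨z⟩`: here the common
centraliser of `K₁` and `K₂` is only in the image of `C_S(Q₁Q₂)`.
-/

set_option autoImplicit false

namespace Cfsg.Agent.LFourB.ProdCent

open Subgroup QuaternionGroup Cfsg.Agent.SylowSp4 Cfsg.Agent.SylowSp4.Coord Cfsg.Agent.SylowSp4.Closed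
open Cfsg.Agent.LFourB.ProdTqq Cfsg.Agent.LFourA.Quot Cfsg.Agent.LFourA.CzCt

universe u

/-! ### Passage to the quotient by the odd core -/

section quot

variable {Y : Type*} [Group Y] [Finite Y]

theorem oddCore_le_pResidual : Cfsg.oddCore Y ≤ Cfsg.pResidual 2 Y := by
  intro x hx
  apply TwoFusion.PResidual.mem_pResidual_of_coprime
  have h1 : (Nat.card (Cfsg.oddCore Y)).Coprime 2 := Cfsg.Agent.Lib.Cores.pPrimeCore_coprime 2
  have h2 : orderOf x ∣ Nat.card (Cfsg.oddCore Y) := by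
    have := orderOf_dvd_natCard (⟨x, hx⟩ : Cfsg.oddCore Y)
    rwa [← orderOf_coe] at this
  exact Nat.Coprime.coprime_dvd_left h2 h1

theorem pResidual_quot_le : Cfsg.pResidual 2 (Y ⧸ Cfsg.oddCore Y) ≤ (Cfsg.pResidual 2 Y).map (pr Y) := by
  have hfact : Fact (Nat.Prime 2) := ⟨Nat.prime_two⟩
  refine TwoFusion.PResidual.pResidual_le 2 (fun g hg => ?_)
  obtain ⟨g, rfl⟩ := pr_surj g
  obtain ⟨a, b, hab, ⟨j, hj⟩, hb⟩ := TwoFusion.PResidual.exists_pPart_mul_pPrimePart 2 g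
  have h1 : pr Y (g ^ a) = 1 := by
    rw [← orderOf_eq_one_iff]
    have h2 : orderOf (pr Y (g ^ a)) ∣ 2 ^ j := hj ▸ orderOf_map_dvd (pr Y) (g ^ a)
    have h3 : orderOf (pr Y (g ^ a)) ∣ orderOf (pr Y g) := by
      rw [map_zpow]
      exact orderOf_dvd_of_mem_zpowers ⟨a, rfl⟩
    exact Nat.Coprime.eq_one_of_dvd (Nat.Coprime.coprime_dvd_left h3 (Nat.Coprime.pow_right j hg)) h2
  refine ⟨g ^ b, TwoFusion.PResidual.mem_pResidual_of_coprime 2 hb, ?_⟩
  conv_rhs => rw [hab, map_mul, h1, one_mul]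

theorem pr_mem_pResidual {y : Y} : pr Y y ∈ Cfsg.pResidual 2 (Y ⧸ Cfsg.oddCore Y) ↔ y ∈ Cfsg.pResidual 2 Y := by
  constructor
  · intro hy
    obtain ⟨m, hm, e⟩ := pResidual_quot_le hy
    have h1 : m⁻¹ * y ∈ Cfsg.oddCore Y := by
      rw [← pr_eq_one, map_mul, map_inv, e, inv_mul_cancel]
    have h2 := mul_mem hm (oddCore_le_pResidual h1)
    rwa [mul_inv_cancel_left] at h2
  · intro hy
    exact TwoFusion.PResidual.map_pResidual_le 2 (pr Y) ⟨y, hy, rfl⟩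

theorem tqq_quot {S : Sylow 2 Y} {k : ℕ} {f : Q k → Q k → Y}
    (h : TQQ ((S : Subgroup Y) ⊓ Cfsg.pResidual 2 Y) k f) :
    TQQ ((Cfsg.Agent.LFourA.Quot.syl S : Subgroup (Y ⧸ Cfsg.oddCore Y)) ⊓ Cfsg.pResidual 2 (Y ⧸ Cfsg.oddCore Y)) k
      (fun a b => pr Y (f a b)) where
  hk := h.hk
  f_mul a b c d := by rw [← map_mul, h.f_mul]
  f_zz := by rw [h.f_zz, map_one]
  f_inj a b c d e := h.f_inj a b c d (inj_of_mem S (h.f_mem a b).1 (h.f_mem c d).1 e)
  mem_iff g := by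
    constructor
    · rintro ⟨h1, h2⟩
      obtain ⟨x, hx, rfl⟩ := (Cfsg.Agent.LFourA.Quot.mem_syl S).1 h1
      obtain ⟨a, b, e⟩ := (h.mem_iff x).1 ⟨hx, pr_mem_pResidual.1 h2⟩
      exact ⟨a, b, by rw [e]⟩
    · rintro ⟨a, b, rfl⟩
      exact ⟨pr_mem_syl S (h.f_mem a b).1, pr_mem_pResidual.2 (h.f_mem a b).2⟩

end quot

/-! ### The interface -/

/-- `C(z)` modulo its odd core with two commuting subgroups `K₁`, `K₂` and the position of the Sylow subgroup `S`. -/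
structure CZP {G X : Type*} [Group G] [Group X] (z : G) (p : ↥(centralizer ({z} : Set G)) →* X) (K₁ K₂ : Subgroup X)
    (S Q₁ Q₂ : Subgroup G) : Prop where
  surj : Function.Surjective p
  ker : ∀ x, p x = 1 ↔ (x : G) ∈ Cfsg.centralizerPPrimeCore 2 z
  comm : ∀ x ∈ K₁, ∀ y ∈ K₂, x * y = y * x
  z₁ : p (self z) ∈ K₁
  z₂ : p (self z) ∈ K₂
  inf : ∀ x ∈ K₁, x ∈ K₂ → x = 1 ∨ x = p (self z)
  norm : ∀ g : X, ((∀ x ∈ K₁, g * x * g⁻¹ ∈ K₁) ∧ ∀ x ∈ K₂, g * x * g⁻¹ ∈ K₂) ∨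
    ((∀ x ∈ K₁, g * x * g⁻¹ ∈ K₂) ∧ ∀ x ∈ K₂, g * x * g⁻¹ ∈ K₁)
  perf₁ : ⁅K₁, K₁⁆ = K₁
  perf₂ : ⁅K₂, K₂⁆ = K₂
  q₁ : Q₁ ≤ up p K₁
  q₂ : Q₂ ≤ up p K₂
  s₁ : ∀ s ∈ S, s ∈ up p K₁ → s ∈ Q₁
  s₂ : ∀ s ∈ S, s ∈ up p K₂ → s ∈ Q₂
  /-- the common centraliser is in the image of `C_S(Q₁Q₂)` -/
  cent : ∀ g : X, (∀ x ∈ K₁, g * x = x * g) → (∀ x ∈ K₂, g * x = x * g) →
    ∃ s : ↥(centralizer ({z} : Set G)), (s : G) ∈ S ∧ (∀ x ∈ Q₁, (s : G) * x = x * s) ∧
      (∀ x ∈ Q₂, (s : G) * x = x * s) ∧ g = p s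
  /-- elements of odd order normalise both factors -/
  odd : ∀ g : X, Odd (orderOf g) → (∀ x ∈ K₁, g * x * g⁻¹ ∈ K₁) ∧ ∀ x ∈ K₂, g * x * g⁻¹ ∈ K₂

/-- Moreover `K₁`, `K₂` are isomorphic to `SL(2,F)`. -/
structure CZPL {G X : Type*} [Group G] [Group X] (z : G) (F : Type*) [Field F]
    (p : ↥(centralizer ({z} : Set G)) →* X) (K₁ K₂ : Subgroup X) (S Q₁ Q₂ : Subgroup G) : Prop
    extends CZP z p K₁ K₂ S Q₁ Q₂ where
  e₁ : Nonempty (K₁ ≃* Matrix.SpecialLinearGroup (Fin 2) F)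
  e₂ : Nonempty (K₂ ≃* Matrix.SpecialLinearGroup (Fin 2) F)

/-- Moreover `K₁ / ⟨z⟩` is isomorphic to `A₇` (the case to be excluded). -/
structure CZPA {G X : Type*} [Group G] [Group X] (z : G) (p : ↥(centralizer ({z} : Set G)) →* X) (K₁ K₂ : Subgroup X)
    (S Q₁ Q₂ : Subgroup G) : Prop extends CZP z p K₁ K₂ S Q₁ Q₂ where
  a₁ : ∃ φ : K₁ →* alternatingGroup (Fin 7), Function.Surjective φ ∧ ∀ x : K₁, φ x = 1 ↔ (x : X) = 1 ∨ (x : X) = p (self z)
  a₂ : ∃ φ : K₂ →* alternatingGroup (Fin 7), Function.Surjective φ ∧ ∀ x : K₂, φ x = 1 ↔ (x : X) = 1 ∨ (x : X) = p (self z)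

end Cfsg.Agent.LFourB.ProdCent
end

-- part: LFourB/ProdCentMain
section
prune_inst 0x20104400002200000818000020000040100000020043400011000000094610410004060170500a1009d088e0604ac00002000009423800002a008a0040040000040122e200741c00110000406801180c00000000000000000000000000041000000000000
set_option linter.all false
open scoped Cfsg.Agent.FastGrp

/-!
# The centraliser of an involution `z` with `O^2(C(z)) ∩ S = Q ∘ Q`: existence of the two factors
-/

set_option autoImplicit false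

namespace Cfsg.Agent.LFourB.ProdCent

open Subgroup QuaternionGroup Cfsg.Agent.SylowSp4 Cfsg.Agent.SylowSp4.Coord Cfsg.Agent.SylowSp4.Closed
open Cfsg.Agent.LFourB.ProdTqq Cfsg.Agent.LFourA.Quot Cfsg.Agent.LFourA.CzCt

universe u

variable {G : Type u} [Group G] [Finite G] {S : Sylow 2 G} {c : G} {k : ℕ} {f : Q k → Q k → G} {R : Subgroup G}

/-- The hypotheses on `G`. -/
structure HypG (S : Sylow 2 G) (c : G) (k : ℕ) (f : Q k → Q k → G) (R : Subgroup G) : Prop where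
  T : TQQ R k f
  c_eq : f (z k) 1 = c
  le : (S : Subgroup G) ≤ centralizer ({c} : Set G)
  R_eq : (Cfsg.pResidual 2 (centralizer ({c} : Set G))).map (centralizer ({c} : Set G)).subtype ⊓ (S : Subgroup G) = R
  k2 : 2 ≤ k
  perm : ∀ s ∈ (S : Subgroup G),
    ((∀ x ∈ T.Q1, s * x * s⁻¹ ∈ T.Q1) ∧ ∀ x ∈ T.Q2, s * x * s⁻¹ ∈ T.Q2) ∨
    ((∀ x ∈ T.Q1, s * x * s⁻¹ ∈ T.Q2) ∧ ∀ x ∈ T.Q2, s * x * s⁻¹ ∈ T.Q1)

variable (h : HypG S c k f R)

include h

theorem f_mem_S (a b : Q k) : f a b ∈ (S : Subgroup G) := by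
  have h1 := h.T.f_mem a b
  rw [← h.R_eq] at h1
  exact h1.2

theorem f_mem_C (a b : Q k) : f a b ∈ centralizer ({c} : Set G) := h.le (f_mem_S h a b)

/-- The Sylow subgroup of `C(z)`. -/
noncomputable def sylC (h : HypG S c k f R) : Sylow 2 (centralizer ({c} : Set G)) := S.subtype h.le

omit h in
theorem mem_sylC {h : HypG S c k f R} {x : centralizer ({c} : Set G)} :
    x ∈ (sylC h : Subgroup (centralizer ({c} : Set G))) ↔ (x : G) ∈ (S : Subgroup G) := Iff.rfl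

theorem tqq_C : TQQ ((sylC h : Subgroup (centralizer ({c} : Set G))) ⊓ Cfsg.pResidual 2 (centralizer ({c} : Set G))) k
    (fun a b => (⟨f a b, f_mem_C h a b⟩ : centralizer ({c} : Set G))) := by
  have h1 := h.T.restrict (K := centralizer ({c} : Set G)) (f_mem_C h)
  have e : R.subgroupOf (centralizer ({c} : Set G)) =
      (sylC h : Subgroup (centralizer ({c} : Set G))) ⊓ Cfsg.pResidual 2 (centralizer ({c} : Set G)) := by
    ext x
    have e0 : (x : G) ∈ R ↔ (x : G) ∈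
        (Cfsg.pResidual 2 (centralizer ({c} : Set G))).map (centralizer ({c} : Set G)).subtype ⊓ (S : Subgroup G) := by
      rw [h.R_eq]
    rw [mem_subgroupOf, e0, mem_inf, mem_inf, mem_sylC]
    constructor
    · rintro ⟨⟨y, hy, e⟩, h2⟩
      have : y = x := Subtype.ext e
      exact ⟨h2, by rwa [← this]⟩
    · rintro ⟨h2, h3⟩
      exact ⟨⟨x, h3, rfl⟩, h2⟩
  rwa [e] at h1

/-- The hypotheses for `C(z) / O(C(z))`. -/
theorem hypX : ProdPair.Hyp (Cfsg.Agent.LFourA.Quot.syl (sylC h)) k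
    (fun a b => pr (centralizer ({c} : Set G)) ⟨f a b, f_mem_C h a b⟩) where
  T := tqq_quot (tqq_C h)
  O := oddCore_quot
  Z g := by
    obtain ⟨g, rfl⟩ := pr_surj g
    rw [← map_mul, ← map_mul]
    congr 1
    apply Subtype.ext
    change (g : G) * f (z k) 1 = f (z k) 1 * g
    rw [h.c_eq]
    exact mem_centralizer_singleton_iff.1 g.2
  k2 := h.k2

theorem mem_Q1_iff {x : centralizer ({c} : Set G)} (hx : (x : G) ∈ (S : Subgroup G)) :
    pr _ x ∈ (hypX h).T.Q1 ↔ (x : G) ∈ h.T.Q1 := by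
  constructor
  · rintro ⟨a, e⟩
    have h1 := inj_of_mem (sylC h) (mem_sylC.2 hx) (f_mem_S h a 1) e
    exact ⟨a, congrArg Subtype.val h1⟩
  · rintro ⟨a, e⟩
    exact ⟨a, congrArg (pr _) (Subtype.ext e)⟩

theorem mem_Q2_iff {x : centralizer ({c} : Set G)} (hx : (x : G) ∈ (S : Subgroup G)) :
    pr _ x ∈ (hypX h).T.Q2 ↔ (x : G) ∈ h.T.Q2 := by
  constructor
  · rintro ⟨a, e⟩
    have h1 := inj_of_mem (sylC h) (mem_sylC.2 hx) (f_mem_S h 1 a) e
    exact ⟨a, congrArg Subtype.val h1⟩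
  · rintro ⟨a, e⟩
    exact ⟨a, congrArg (pr _) (Subtype.ext e)⟩

theorem Q1_le_S : h.T.Q1 ≤ (S : Subgroup G) := by
  rintro _ ⟨a, rfl⟩
  exact f_mem_S h _ _

theorem Q2_le_S : h.T.Q2 ≤ (S : Subgroup G) := by
  rintro _ ⟨a, rfl⟩
  exact f_mem_S h _ _

theorem conj_key {s : centralizer ({c} : Set G)} (hs' : (s : G) ∈ (S : Subgroup G))
    (A B : Subgroup G)
    (A' B' : Subgroup (centralizer ({c} : Set G) ⧸ Cfsg.oddCore (centralizer ({c} : Set G))))
    (h1 : ∀ x : centralizer ({c} : Set G), (x : G) ∈ (S : Subgroup G) → (pr _ x ∈ A' ↔ (x : G) ∈ A))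
    (h2 : ∀ x : centralizer ({c} : Set G), (x : G) ∈ (S : Subgroup G) → (pr _ x ∈ B' ↔ (x : G) ∈ B))
    (h3 : ∀ y ∈ A', ∃ x : centralizer ({c} : Set G), (x : G) ∈ (S : Subgroup G) ∧ pr _ x = y)
    (h4 : ∀ x ∈ A, (s : G) * x * (s : G)⁻¹ ∈ B) : ∀ y ∈ A', pr _ s * y * (pr _ s)⁻¹ ∈ B' := by
  have _ := h
  intro y hy
  obtain ⟨x, hx, rfl⟩ := h3 y hy
  rw [← map_mul, ← map_inv, ← map_mul]
  have h5 : ((s * x * s⁻¹ : centralizer ({c} : Set G)) : G) ∈ (S : Subgroup G) := by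
    push_cast
    exact mul_mem (mul_mem hs' hx) (inv_mem hs')
  rw [h2 _ h5]
  push_cast
  exact h4 x ((h1 x hx).1 hy)

theorem lift_Q1 : ∀ y ∈ (hypX h).T.Q1, ∃ x : centralizer ({c} : Set G), (x : G) ∈ (S : Subgroup G) ∧ pr _ x = y := by
  rintro _ ⟨a, rfl⟩
  exact ⟨_, f_mem_S h _ _, rfl⟩

theorem lift_Q2 : ∀ y ∈ (hypX h).T.Q2, ∃ x : centralizer ({c} : Set G), (x : G) ∈ (S : Subgroup G) ∧ pr _ x = y := by
  rintro _ ⟨a, rfl⟩
  exact ⟨_, f_mem_S h _ _, rfl⟩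

theorem conj_swap {s : centralizer ({c} : Set G)} (hs' : (s : G) ∈ (S : Subgroup G))
    (h1 : ∀ x ∈ h.T.Q1, (s : G) * x * (s : G)⁻¹ ∈ h.T.Q2) (h2 : ∀ x ∈ h.T.Q2, (s : G) * x * (s : G)⁻¹ ∈ h.T.Q1) :
    (∀ x ∈ (hypX h).T.Q1, pr _ s * x * (pr _ s)⁻¹ ∈ (hypX h).T.Q2) ∧
      ∀ x ∈ (hypX h).T.Q2, pr _ s * x * (pr _ s)⁻¹ ∈ (hypX h).T.Q1 :=
  ⟨conj_key h hs' _ _ _ _ (fun _ => mem_Q1_iff h) (fun _ => mem_Q2_iff h) (lift_Q1 h) h1,
    conj_key h hs' _ _ _ _ (fun _ => mem_Q2_iff h) (fun _ => mem_Q1_iff h) (lift_Q2 h) h2⟩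

theorem permX : ProdPair.Perm (hypX h) := by
  intro p hp
  obtain ⟨s, hs, rfl⟩ := (Cfsg.Agent.LFourA.Quot.mem_syl (sylC h)).1 hp
  have hs' : (s : G) ∈ (S : Subgroup G) := hs
  rcases h.perm s hs' with ⟨h1, h2⟩ | ⟨h1, h2⟩
  · left
    exact ⟨conj_key h hs' _ _ _ _ (fun _ => mem_Q1_iff h) (fun _ => mem_Q1_iff h) (lift_Q1 h) h1,
      conj_key h hs' _ _ _ _ (fun _ => mem_Q2_iff h) (fun _ => mem_Q2_iff h) (lift_Q2 h) h2⟩
  · right
    exact conj_swap h hs' h1 h2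

theorem pr_self : pr (centralizer ({c} : Set G)) (self c) =
    pr (centralizer ({c} : Set G)) ⟨f (z k) 1, f_mem_C h (z k) 1⟩ := by
  congr 1
  exact Subtype.ext h.c_eq.symm

/-- The two factors of `C(z) / O(C(z))`. -/
noncomputable def K1 (h : HypG S c k f R) :
    Subgroup (centralizer ({c} : Set G) ⧸ Cfsg.oddCore (centralizer ({c} : Set G))) :=
  ProdPair.KK (Cfsg.pResidual 2 _) (hypX h).T.Q1

noncomputable def K2 (h : HypG S c k f R) :
    Subgroup (centralizer ({c} : Set G) ⧸ Cfsg.oddCore (centralizer ({c} : Set G))) :=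
  ProdPair.KK (Cfsg.pResidual 2 _) (hypX h).T.Q2

theorem czp (hPT : Hyps.ProductThm.{u}) :
    CZP c (pr (centralizer ({c} : Set G))) (K1 h) (K2 h) (S : Subgroup G) h.T.Q1 h.T.Q2 where
  surj := pr_surj
  ker x := by
    rw [pr_eq_one]
    constructor
    · intro hx
      exact ⟨x, hx, rfl⟩
    · rintro ⟨y, hy, e⟩
      have : y = x := Subtype.ext e
      rwa [← this]
  comm x hx y hy := ProdPair.comm (hypX h) hPT hx hy
  z₁ := by
    rw [pr_self h]
    exact ProdPair.t_mem_KK1 (hypX h)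
  z₂ := by
    rw [pr_self h]
    exact ProdPair.t_mem_KK2 (hypX h)
  inf x hx hy := by
    rw [pr_self h]
    exact ProdPair.inf (hypX h) hPT hx hy
  norm g := ProdPair.perm (hypX h) (permX h) g
  perf₁ := ProdPair.perfect1 (hypX h) hPT
  perf₂ := ProdPair.perfect2 (hypX h) hPT
  q₁ := by
    intro x hx
    have hxS := Q1_le_S h hx
    refine mem_up.2 ⟨h.le hxS, ProdPair.Q1_le_KK (hypX h) ((mem_Q1_iff h hxS).2 hx)⟩
  q₂ := by
    intro x hx
    have hxS := Q2_le_S h hx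
    refine mem_up.2 ⟨h.le hxS, ProdPair.Q2_le_KK (hypX h) ((mem_Q2_iff h hxS).2 hx)⟩
  s₁ s hs hs1 := by
    obtain ⟨h1, h2⟩ := mem_up.1 hs1
    exact (mem_Q1_iff h hs).1 (ProdPair.mem_Q1 (hypX h) hPT h2 (pr_mem_syl (sylC h) hs))
  s₂ s hs hs1 := by
    obtain ⟨h1, h2⟩ := mem_up.1 hs1
    exact (mem_Q2_iff h hs).1 (ProdPair.mem_Q2 (hypX h) hPT h2 (pr_mem_syl (sylC h) hs))
  cent g hg1 hg2 := by
    have h1 : g ∈ ProdPair.CC (hypX h) := ProdPair.mem_CC.2 ⟨hg1, hg2⟩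
    obtain ⟨s, hs, rfl⟩ := (Cfsg.Agent.LFourA.Quot.mem_syl (sylC h)).1 (ProdPair.CC_le (hypX h) (permX h) h1)
    have hs' : (s : G) ∈ (S : Subgroup G) := hs
    refine ⟨s, hs', ?_, ?_, rfl⟩
    · intro x hx
      have hxS := Q1_le_S h hx
      have h2 := hg1 (pr _ ⟨x, h.le hxS⟩) (ProdPair.Q1_le_KK (hypX h) ((mem_Q1_iff h hxS).2 hx))
      rw [← map_mul, ← map_mul] at h2
      have h3 := inj_of_mem (sylC h) (mem_sylC.2 (by push_cast; exact mul_mem hs' hxS))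
        (mem_sylC.2 (by push_cast; exact mul_mem hxS hs')) h2
      exact congrArg Subtype.val h3
    · intro x hx
      have hxS := Q2_le_S h hx
      have h2 := hg2 (pr _ ⟨x, h.le hxS⟩) (ProdPair.Q2_le_KK (hypX h) ((mem_Q2_iff h hxS).2 hx))
      rw [← map_mul, ← map_mul] at h2
      have h3 := inj_of_mem (sylC h) (mem_sylC.2 (by push_cast; exact mul_mem hs' hxS))
        (mem_sylC.2 (by push_cast; exact mul_mem hxS hs')) h2
      exact congrArg Subtype.val h3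
  odd g hg := by
    have h1 : g ∈ Cfsg.pResidual 2 (centralizer ({c} : Set G) ⧸ Cfsg.oddCore (centralizer ({c} : Set G))) :=
      TwoFusion.PResidual.mem_pResidual_of_coprime 2 hg.coprime_two_right
    exact ⟨fun x hx => ProdPair.KK_conj_mem h1 hx, fun x hx => ProdPair.KK_conj_mem h1 hx⟩

/-- The isomorphism between the two factors. -/
theorem nonempty_equiv (hsw : ∃ s ∈ (S : Subgroup G), (∀ x ∈ h.T.Q1, s * x * s⁻¹ ∈ h.T.Q2) ∧
    ∀ x ∈ h.T.Q2, s * x * s⁻¹ ∈ h.T.Q1) :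
    ∃ e : K1 h ≃* K2 h, ∀ x : K1 h, (x : centralizer ({c} : Set G) ⧸ Cfsg.oddCore (centralizer ({c} : Set G))) =
      pr _ (self c) ↔ ((e x : K2 h) : centralizer ({c} : Set G) ⧸ Cfsg.oddCore (centralizer ({c} : Set G))) =
      pr _ (self c) := by
  obtain ⟨s, hs, h1, h2⟩ := hsw
  obtain ⟨h3, h4⟩ := conj_swap h (s := ⟨s, h.le hs⟩) hs h1 h2
  have hM := TwoFusion.PResidual.pResidual_normal
    (G := centralizer ({c} : Set G) ⧸ Cfsg.oddCore (centralizer ({c} : Set G))) 2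
  set g := pr (centralizer ({c} : Set G)) ⟨s, h.le hs⟩ with hg
  have h5 : ∀ x ∈ K1 h, g * x * g⁻¹ ∈ K2 h := fun x hx => ProdPair.KK_conj hM (fun y hy _ => h3 y hy) hx
  have h6 : ∀ x ∈ K2 h, g * x * g⁻¹ ∈ K1 h := fun x hx => ProdPair.KK_conj hM (fun y hy _ => h4 y hy) hx
  let φ : K1 h →* K2 h :=
    { toFun := fun x => ⟨g * x * g⁻¹, h5 x x.2⟩
      map_one' := Subtype.ext (by simp only [_root_.OneMemClass.coe_one, _root_.mul_one, _root_.mul_inv_cancel])
      map_mul' := fun x y => Subtype.ext (by simp only [mul_assoc, _root_.Subgroup.coe_mul, _root_.mul_assoc, _root_.MulMemClass.mk_mul_mk, _root_.inv_mul_cancel_left]) }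
  let ψ : K2 h →* K1 h :=
    { toFun := fun x => ⟨g * x * g⁻¹, h6 x x.2⟩
      map_one' := Subtype.ext (by simp only [_root_.OneMemClass.coe_one, _root_.mul_one, _root_.mul_inv_cancel])
      map_mul' := fun x y => Subtype.ext (by simp only [mul_assoc, _root_.Subgroup.coe_mul, _root_.mul_assoc, _root_.MulMemClass.mk_mul_mk, _root_.inv_mul_cancel_left]) }
  have hφ : Function.Injective φ := by
    intro x y hxy
    have h7 := congrArg (Subtype.val) hxy
    exact Subtype.ext (mul_left_cancel (mul_right_cancel h7))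
  have hψ : Function.Injective ψ := by
    intro x y hxy
    have h7 := congrArg (Subtype.val) hxy
    exact Subtype.ext (mul_left_cancel (mul_right_cancel h7))
  have hb : Function.Bijective φ := (Nat.bijective_iff_injective_and_card φ).2
    ⟨hφ, le_antisymm (Nat.card_le_card_of_injective φ hφ) (Nat.card_le_card_of_injective ψ hψ)⟩
  have hc : g * pr _ (self c) * g⁻¹ = pr _ (self c) := by
    rw [hg, ← map_mul, ← map_inv, ← map_mul]
    congr 1
    apply Subtype.ext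
    change s * c * s⁻¹ = c
    rw [mem_centralizer_singleton_iff.1 (h.le hs), mul_inv_cancel_right]
  refine ⟨MulEquiv.ofBijective φ hb, fun x => ?_⟩
  change _ ↔ g * (x : centralizer ({c} : Set G) ⧸ Cfsg.oddCore (centralizer ({c} : Set G))) * g⁻¹ = _
  constructor
  · intro h7
    rw [h7, hc]
  · intro h7
    rw [← hc] at h7
    exact mul_left_cancel (mul_right_cancel h7)

theorem typ (hPT : Hyps.ProductThm.{u}) (hGW : Hyps.GW.{u})
    (hsw : ∃ s ∈ (S : Subgroup G), (∀ x ∈ h.T.Q1, s * x * s⁻¹ ∈ h.T.Q2) ∧ ∀ x ∈ h.T.Q2, s * x * s⁻¹ ∈ h.T.Q1) :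
    (∃ (F : Type) (_ : Field F) (_ : Fintype F), Odd (Fintype.card F) ∧
      CZPL c F (pr (centralizer ({c} : Set G))) (K1 h) (K2 h) (S : Subgroup G) h.T.Q1 h.T.Q2) ∨
    (k = 2 ∧ CZPA c (pr (centralizer ({c} : Set G))) (K1 h) (K2 h) (S : Subgroup G) h.T.Q1 h.T.Q2) := by
  obtain ⟨e, he⟩ := nonempty_equiv h hsw
  have h0 : (∃ (F : Type) (_ : Field F) (_ : Fintype F), Odd (Fintype.card F) ∧
        Nonempty (K1 h ≃* Matrix.SpecialLinearGroup (Fin 2) F)) ∨
      (k = 2 ∧ ∃ φ : K1 h →* alternatingGroup (Fin 7), Function.Surjective φ ∧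
        ∀ x : K1 h, φ x = 1 ↔ (x : centralizer ({c} : Set G) ⧸ Cfsg.oddCore (centralizer ({c} : Set G))) = 1 ∨
          (x : centralizer ({c} : Set G) ⧸ Cfsg.oddCore (centralizer ({c} : Set G))) =
            pr (centralizer ({c} : Set G)) ⟨f (z k) 1, f_mem_C h (z k) 1⟩) :=
    ProdPair.sl_one (hypX h) hPT hGW
  rw [← pr_self h] at h0
  rcases h0 with ⟨F, hF, hF2, hodd, ⟨e1⟩⟩ | ⟨hk, φ, hφ, hφ2⟩
  · left
    exact ⟨F, hF, hF2, hodd, { czp h hPT with e₁ := ⟨e1⟩, e₂ := ⟨e.symm.trans e1⟩ }⟩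
  · right
    refine ⟨hk, { czp h hPT with a₁ := ⟨φ, hφ, fun x => ?_⟩, a₂ := ⟨φ.comp e.symm.toMonoidHom, (hφ.comp e.symm.surjective :), fun x => ?_⟩ }⟩
    · exact hφ2 x
    · rw [MonoidHom.comp_apply]
      change φ (e.symm x) = 1 ↔ _
      have h1 := hφ2 (e.symm x)
      refine h1.trans ?_
      have h2 := he (e.symm x)
      rw [e.apply_symm_apply] at h2
      rw [← h2]
      constructor
      · rintro (h3 | h3)
        · left
          have h4 : e.symm x = 1 := Subtype.ext h3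
          have h5 := (e.symm.map_eq_one_iff).1 h4
          rw [h5]; rfl
        · exact Or.inr h3
      · rintro (h3 | h3)
        · left
          have h4 : x = 1 := Subtype.ext h3
          rw [h4, map_one]; rfl
        · exact Or.inr h3

end Cfsg.Agent.LFourB.ProdCent
end
end
end
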