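import Mathlib
import Cfsg.Agent.GH.Q2.ModelSp4_m3
import Cfsg.Agent.Lib.AutSL2
import Cfsg.Agent.Lib.PSL2Inv
import Cfsg.Agent.LFourB.RBStd_m3
import Cfsg.Agent.LFourB.KSL
import Cfsg.Agent.LFourB.RBSix_m3
import Cfsg.Agent.Lib.FastPerm
import Cfsg.Agent.Lib.TwoClassEnd_m3
import Cfsg.Agent.LFourB.FixQuat
import Cfsg.Agent.Lib.EssBridge
import Cfsg.Agent.LFourA.LCent_mg_m3
import Cfsg.Agent.TwoFusion.IsolatedCenter
import Cfsg.Agent.FastGrp
import Cfsg.Agent.Prune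
set_option linter.all false

section
prune_inst 0x7fbcbcfbaff8addfffff7e77fedddffc3995dfffffdff94bffe069ffafdf230a0de56b8d0de058ff1ed660b410b87813fd7ecabfe86bdc7ffffd5ff41ffbee0fe5f7b508519588341fbc0fff83f07f8e7f3fffffffffffffffffffffffffffbeffffffffffff

-- part: LFourFive/LabPair_mg
section
prune_inst 0x40000000001000000000000102000184282000002004800005040000004865c0000020820c020081208200804003400081110000002000000000004000118018000800000a0480000000006000000000000000000000000000000000000041000000000000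
set_option linter.all false
open scoped Cfsg.Agent.FastGrp

-- part: LFourFive/LabSL
section
/-!
# The two root groups of `SL(2, 5)` normalised by an element of order four
-/

set_option autoImplicit false

namespace Cfsg.Agent.LFourFive.LabSL

open Subgroup Cfsg.Agent.LFourR Cfsg.Agent.Lib.SL2Mat Cfsg.Agent.Lib.AutSL2

local notation "SL5" => Matrix.SpecialLinearGroup (Fin 2) (ZMod 5)

local instance factFive : Fact (Nat.Prime 5) := ⟨by norm_num⟩

theorem two_ne : (2 : ZMod 5) ≠ 0 := by decide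

/-- `diag(2, 3)` -/
def D : SL5 := dg 2 two_ne

/-- the lower unitriangular matrices -/
def loG : Subgroup SL5 where
  carrier := {x | ∃ b, lo b = x}
  one_mem' := ⟨0, lo_zero⟩
  mul_mem' := by
    rintro _ _ ⟨a, rfl⟩ ⟨b, rfl⟩
    exact ⟨a + b, (lo_mul a b).symm⟩
  inv_mem' := by
    rintro _ ⟨a, rfl⟩
    exact ⟨-a, (lo_inv a).symm⟩

theorem card_up : Nat.card (upG (ZMod 5)) = 5 := by
  have : Nat.card (upG (ZMod 5)) = Nat.card (ZMod 5) := by
    refine Nat.card_congr (Equiv.ofBijective (fun b : ZMod 5 => (⟨up b, up_mem b⟩ : upG (ZMod 5))) ⟨?_, ?_⟩).symm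
    · intro a b h
      exact up_inj (congrArg Subtype.val h)
    · rintro ⟨_, b, rfl⟩
      exact ⟨b, rfl⟩
  rw [this, Nat.card_zmod]

theorem card_lo : Nat.card loG = 5 := by
  have : Nat.card loG = Nat.card (ZMod 5) := by
    refine Nat.card_congr (Equiv.ofBijective (fun b : ZMod 5 => (⟨lo b, ⟨b, rfl⟩⟩ : loG)) ⟨?_, ?_⟩).symm
    · intro a b h
      exact lo_inj (congrArg Subtype.val h)
    · rintro ⟨_, b, rfl⟩
      exact ⟨b, rfl⟩
  rw [this, Nat.card_zmod]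

theorem sup_eq_top : upG (ZMod 5) ⊔ loG = ⊤ := by
  rw [eq_top_iff]
  intro x _
  have key : ∀ x : SL5, ent x 1 0 ≠ 0 → x ∈ upG (ZMod 5) ⊔ loG := by
    intro x hx
    rw [eq_up_lo_up x hx]
    exact mul_mem (mul_mem (mem_sup_left ⟨_, rfl⟩) (mem_sup_right ⟨_, rfl⟩)) (mem_sup_left ⟨_, rfl⟩)
  by_cases hx : ent x 1 0 = 0
  · have h1 : ent (lo 1 * x) 1 0 ≠ 0 := by
      rw [ent_mul, lo_10, lo_11, hx]
      have h2 := det_eq x
      rw [hx, mul_zero, sub_zero] at h2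
      intro h3
      have h4 : ent x 0 0 = 0 := by linear_combination h3
      rw [h4, zero_mul] at h2
      exact zero_ne_one h2
    have h2 := key _ h1
    have h3 : x = (lo 1)⁻¹ * (lo 1 * x) := by group
    rw [h3]
    exact mul_mem (inv_mem (mem_sup_right ⟨1, rfl⟩)) h2
  · exact key x hx

theorem up_ne_lo : upG (ZMod 5) ≠ loG := by
  intro h
  obtain ⟨b, hb⟩ : up (1 : ZMod 5) ∈ loG := by rw [← h]; exact up_mem 1
  have := congrArg (fun x => ent x 0 1) hb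
  simp only [Fin.isValue, lo_01, up_01, zero_ne_one] at this

theorem D_up (b : ZMod 5) : D * up b * D⁻¹ = (up b)⁻¹ := by
  rw [D, dg_up, mul_inv_cancel_right, up_inv]
  congr 1
  have : (2 : ZMod 5) ^ 2 = -1 := by decide
  rw [this]; ring

theorem D_lo (b : ZMod 5) : D * lo b * D⁻¹ = (lo b)⁻¹ := by
  rw [lo_inv, mul_inv_eq_iff_eq_mul]
  refine ext_ent ?_ ?_ ?_ ?_ <;> simp only [D, ent_mul, dg_00, dg_01, dg_10, dg_11, lo_00, lo_01, lo_10, lo_11]
  · ring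
  · ring
  · have : (2 : ZMod 5)⁻¹ = -2 := inv_eq_of_mul_eq_one_right (by decide)
    rw [this]; ring
  · ring

private noncomputable def _root_.Cfsg.Agent.KO90f8195.k0 : type_of% @Decidable.decide := @(fun x0 x1 => @Decidable.rec.{1} _ @(fun x2 => @Bool) @(fun x2 => @Bool.false) @(fun x2 => @Bool.true) @x1)
private theorem _root_.Cfsg.Agent.KO90f8195.e0 : @Decidable.decide = @_root_.Cfsg.Agent.KO90f8195.k0 := by delta _root_.Cfsg.Agent.KO90f8195.k0; rfl'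
private noncomputable def _root_.Cfsg.Agent.KO90f8195.k1.{ku0, ku1} : type_of% @Quot.rec.{ku0, ku1} := @(fun x0 x1 x2 x3 x4 x5 => @Eq.rec.{ku1, ku0} (@Quot.{ku0} _ @x1) (@PSigma.fst.{ku0, ku1} _ _ (@Quot.lift.{ku0, (max (max 1 ku1) ku0)} _ _ _ (@Quot.indep.{ku0, ku1} _ _ _ @x3) (@Quot.indepCoherent.{ku0, ku1} _ _ _ @x3 @x4) @x5)) @(fun x6 x7 => @x2 @x6) (@PSigma.snd.{ku0, ku1} _ _ (@Quot.lift.{ku0, (max (max 1 ku1) ku0)} _ _ _ (@Quot.indep.{ku0, ku1} _ _ _ @x3) (@Quot.indepCoherent.{ku0, ku1} _ _ _ @x3 @x4) @x5)) @x5 (@Quot.liftIndepPr1.{ku0, ku1} _ _ _ @x3 @x4 @x5))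
private theorem _root_.Cfsg.Agent.KO90f8195.e1.{ku0, ku1} : @Quot.rec.{ku0, ku1} = @_root_.Cfsg.Agent.KO90f8195.k1.{ku0, ku1} := by delta _root_.Cfsg.Agent.KO90f8195.k1; rfl'
private noncomputable def _root_.Cfsg.Agent.KO90f8195.k2.{ku0, ku1} : type_of% @Quot.recOnSubsingleton.{ku0, ku1} := @(fun x0 x1 x2 x3 x4 x5 => @Cfsg.Agent.KO90f8195.k1.{ku0, ku1} _ _ @(fun x6 => @x2 @x6) @(fun x6 => @x5 @x6) (@Quot.recOnSubsingleton._proof_1.{ku1, ku0} _ _ _ _ @x5) @x4)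
private theorem _root_.Cfsg.Agent.KO90f8195.e2.{ku0, ku1} : @Quot.recOnSubsingleton.{ku0, ku1} = @_root_.Cfsg.Agent.KO90f8195.k2.{ku0, ku1} := by delta _root_.Cfsg.Agent.KO90f8195.k2; rewrite [← Cfsg.Agent.KO90f8195.e1.{ku0, ku1}]; rfl'
private theorem _root_.Cfsg.Agent.KO90f8195.e3.{ku, kv} {α : Type kv} {M : List α → Sort ku} (φ : ∀ l, M l) {z : M List.nil} {s : ∀ a l, M l → M (List.cons a l)} (h0 : φ List.nil = z) (hs : ∀ a l, φ (List.cons a l) = s a l (φ l)) (l : List α) : φ l = @List.rec α M z s l := List.rec h0 (fun a l ih => (hs a l).trans (congrArg (s a l) ih)) l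
private noncomputable def _root_.Cfsg.Agent.KO90f8195.k4.{ku0} : type_of% @List.decidableBAll.{ku0} := @(fun x0 x1 x2 x3 => @List.rec.{1, ku0} @x0 @(fun x4 => @Decidable ((x5 : @x0) → (@Membership.mem.{ku0, ku0} _ _ _ @x4 @x5) → @x1 @x5)) (@Decidable.isTrue _ (@List.decidableBAll._proof_1.{ku0} _ @x1)) @(fun x4 x5 x6 => @Decidable.rec.{1} _ @(fun x7 => @Decidable ((x8 : @x0) → (@Membership.mem.{ku0, ku0} _ _ _ (@x4 :: @x5) @x8) → @x1 @x8)) @(fun x7 => @Decidable.isFalse _ (@List.decidableBAll._proof_4.{ku0} _ @x1 @x4 @x5 @x7)) @(fun x7 => @Decidable.rec.{1} _ @(fun x8 => @Decidable ((x9 : @x0) → (@Membership.mem.{ku0, ku0} _ _ _ (@x4 :: @x5) @x9) → @x1 @x9)) @(fun x8 => @Decidable.isFalse _ (@List.decidableBAll._proof_3.{ku0} _ @x1 @x4 @x5 @x8)) @(fun x8 => @Decidable.isTrue _ (@List.decidableBAll._proof_2.{ku0} _ @x1 @x4 @x5 @x7 @x8)) @x6) (@x2 @x4)) @x3)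
private theorem _root_.Cfsg.Agent.KO90f8195.e4.{ku0} : @List.decidableBAll.{ku0} = @_root_.Cfsg.Agent.KO90f8195.k4.{ku0} := by delta _root_.Cfsg.Agent.KO90f8195.k4; funext a0 a1 a2 a3; refine (_root_.Cfsg.Agent.KO90f8195.e3 (fun a3 => @List.decidableBAll.{ku0} a0 a1 a2 a3) ?_ (fun c0 c1 => ?_) a3 :) <;> (rfl')
private noncomputable def _root_.Cfsg.Agent.KO90f8195.k5.{ku0} : type_of% @Multiset.decidableForallMultiset.{ku0} := @(fun (x0 : Sort (ku0+1)) (x1 : @Multiset.{ku0} @x0) (x2 : (x0 → Prop)) (x3 : ((x3 : x0) → @Decidable (@x2 @x3))) => @Cfsg.Agent.KO90f8195.k2.{(ku0+1), 1} (@List.{ku0} @x0) (@Setoid.r.{(ku0+1)} (@List.{ku0} @x0) (@List.isSetoid.{ku0} @x0)) @(fun (x4 : @Quotient.{(ku0+1)} (@List.{ku0} @x0) (@List.isSetoid.{ku0} @x0)) => @Decidable ((x5 : x0) → ((@Membership.mem.{ku0, ku0} @x0 (@Multiset.{ku0} @x0) (@Multiset.instMembership.{ku0} @x0) @x4 @x5) → @x2 @x5))) (@Multiset.decidableForallMultiset._proof_2.{ku0}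 @x0 @x2) @x1 @(fun (x4 : @List.{ku0} @x0) => @Decidable.rec.{1} ((x5 : x0) → ((@Membership.mem.{ku0, ku0} @x0 (@List.{ku0} @x0) (@List.instMembership.{ku0} @x0) @x4 @x5) → @x2 @x5)) @(fun (x5 : @Decidable ((x5 : x0) → ((@Membership.mem.{ku0, ku0} @x0 (@List.{ku0} @x0) (@List.instMembership.{ku0} @x0) @x4 @x5) → @x2 @x5))) => @Decidable ((x6 : x0) → ((@Membership.mem.{ku0, ku0} @x0 (@Multiset.{ku0} @x0) (@Multiset.instMembership.{ku0} @x0) (@Quotient.mk.{(ku0+1)} (@List.{ku0} @x0) (@List.isSetoid.{ku0} @x0) @x4) @x6) → @x2 @x6))) @(fun (x5 : @Not ((x5 : x0) → ((@Membership.mem.{ku0, ku0} @x0 (@List.{ku0} @x0) (@List.instMembership.{ku0} @x0) @x4 @x5) → @x2 @x5))) => @Decidable.isFalse ((x6 : x0) → ((@Membership.mem.{ku0, ku0} @x0 (@Multiset.{ku0} @x0) (@Multiset.instMembership.{ku0} @x0) (@Quotient.mk.{(ku0+1)} (@List.{ku0} @x0) (@List.isSetoid.{ku0} @x0) @x4) @x6) → @x2 @x6)) (@decidable_of_decidable_of_iff._proof_1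 ((x6 : x0) → ((@Membership.mem.{ku0, ku0} @x0 (@List.{ku0} @x0) (@List.instMembership.{ku0} @x0) @x4 @x6) → @x2 @x6)) ((x6 : x0) → ((@Membership.mem.{ku0, ku0} @x0 (@Multiset.{ku0} @x0) (@Multiset.instMembership.{ku0} @x0) (@Quotient.mk.{(ku0+1)} (@List.{ku0} @x0) (@List.isSetoid.{ku0} @x0) @x4) @x6) → @x2 @x6)) (@Multiset.decidableForallMultiset._proof_1.{ku0} @x0 @x2 @x4) @x5)) @(fun (x5 : ((x5 : x0) → ((@Membership.mem.{ku0, ku0} @x0 (@List.{ku0} @x0) (@List.instMembership.{ku0} @x0) @x4 @x5) → @x2 @x5))) => @Decidable.isTrue ((x6 : x0) → ((@Membership.mem.{ku0, ku0} @x0 (@Multiset.{ku0} @x0) (@Multiset.instMembership.{ku0} @x0) (@Quotient.mk.{(ku0+1)} (@List.{ku0} @x0) (@List.isSetoid.{ku0} @x0) @x4) @x6) → @x2 @x6)) (@Iff.mp ((x6 : x0) → ((@Membership.mem.{ku0, ku0} @x0 (@List.{ku0} @x0) (@List.instMembership.{ku0} @x0) @x4 @x6) → @x2 @x6)) ((x6 : x0) → ((@Membership.mem.{ku0, ku0} @x0 (@Multiset.{ku0}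 @x0) (@Multiset.instMembership.{ku0} @x0) (@Quotient.mk.{(ku0+1)} (@List.{ku0} @x0) (@List.isSetoid.{ku0} @x0) @x4) @x6) → @x2 @x6)) (@Multiset.decidableForallMultiset._proof_1.{ku0} @x0 @x2 @x4) @x5)) (@Cfsg.Agent.KO90f8195.k4.{ku0} @x0 @x2 @x3 @x4)))
private theorem _root_.Cfsg.Agent.KO90f8195.e5.{ku0} : @Multiset.decidableForallMultiset.{ku0} = @_root_.Cfsg.Agent.KO90f8195.k5.{ku0} := by delta _root_.Cfsg.Agent.KO90f8195.k5; rewrite [← Cfsg.Agent.KO90f8195.e4.{ku0}, ← Cfsg.Agent.KO90f8195.e2.{(ku0+1), 1}]; rfl'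
private noncomputable def _root_.Cfsg.Agent.KO90f8195.k9.{ku0} : type_of% @Multiset.decidableDforallMultiset.{ku0} := @(fun x0 x1 x2 x3 => @Decidable.rec.{1} _ @(fun x4 => @Decidable ((x5 : @x0) → (x6 : @Membership.mem.{ku0, ku0} _ _ _ @x1 @x5) → @x2 @x5 @x6)) @(fun x4 => @Decidable.isFalse _ (@decidable_of_decidable_of_iff._proof_1 _ _ (@Multiset.decidableDforallMultiset._proof_2.{ku0} _ _ _) @x4)) @(fun x4 => @Decidable.isTrue _ (@Iff.mp _ _ (@Multiset.decidableDforallMultiset._proof_2.{ku0} _ _ _) @x4)) (@Cfsg.Agent.KO90f8195.k5.{ku0} _ _ @(fun x4 => @x2 (@Subtype.val.{(ku0+1)} _ @(fun x5 => @Membership.mem.{ku0, ku0} _ _ _ @x1 @x5) @x4) (@Multiset.decidableDforallMultiset._proof_1.{ku0} _ _ @x4)) @(fun x4 => @x3 (@Subtype.val.{(ku0+1)} _ @(fun x5 => @Membership.mem.{ku0, ku0} _ _ _ @x1 @x5) @x4) (@Multiset.decidableDforallMultiset._proof_1.{ku0} _ _ @x4))))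
private theorem _root_.Cfsg.Agent.KO90f8195.e9.{ku0} : @Multiset.decidableDforallMultiset.{ku0} = @_root_.Cfsg.Agent.KO90f8195.k9.{ku0} := by delta _root_.Cfsg.Agent.KO90f8195.k9; rewrite [← Cfsg.Agent.KO90f8195.e5.{ku0}]; rfl'
private noncomputable def _root_.Cfsg.Agent.KO90f8195.k10.{ku0} : type_of% @Finset.decidableDforallFinset.{ku0} := @(fun x0 x1 x2 x3 => @Cfsg.Agent.KO90f8195.k9.{ku0} _ _ _ @x3)
private theorem _root_.Cfsg.Agent.KO90f8195.e10.{ku0} : @Finset.decidableDforallFinset.{ku0} = @_root_.Cfsg.Agent.KO90f8195.k10.{ku0} := by delta _root_.Cfsg.Agent.KO90f8195.k10; rewrite [← Cfsg.Agent.KO90f8195.e9.{ku0}]; rfl'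
private noncomputable def _root_.Cfsg.Agent.KO90f8195.k11.{ku0} : type_of% @Fintype.decidableForallFintype.{ku0} := @(fun x0 x1 x2 x3 => @Decidable.rec.{1} _ @(fun x4 => @Decidable ((x5 : @x0) → @x1 @x5)) @(fun x4 => @Decidable.isFalse _ (@decidable_of_decidable_of_iff._proof_1 _ _ (@Fintype.decidableForallFintype._proof_1.{ku0} _ _ _) @x4)) @(fun x4 => @Decidable.isTrue _ (@Iff.mp _ _ (@Fintype.decidableForallFintype._proof_1.{ku0} _ _ _) @x4)) (@Cfsg.Agent.KO90f8195.k10.{ku0} _ _ @(fun x4 x5 => @x1 @x4) @(fun x4 x5 => @x2 @x4)))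
private theorem _root_.Cfsg.Agent.KO90f8195.e11.{ku0} : @Fintype.decidableForallFintype.{ku0} = @_root_.Cfsg.Agent.KO90f8195.k11.{ku0} := by delta _root_.Cfsg.Agent.KO90f8195.k11; rewrite [← Cfsg.Agent.KO90f8195.e10.{ku0}]; rfl'
private noncomputable def _root_.Cfsg.Agent.KO90f8195.k12 : type_of% @instDecidableForall := @(fun x0 x1 x2 x3 => @Decidable.rec.{1} _ @(fun x4 => @Decidable (@x0 → @x1)) @(fun x4 => @Decidable.isTrue _ @(fun x5 => @absurd.{0} _ _ @x5 @x4)) @(fun x4 => @Decidable.rec.{1} _ @(fun x5 => @Decidable (@x0 → @x1)) @(fun x5 => @Decidable.isFalse _ (@instDecidableForall._proof_1 _ _ @x4 @x5)) @(fun x5 => @Decidable.isTrue _ @(fun x6 => @x5)) @x3) @x2)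
private theorem _root_.Cfsg.Agent.KO90f8195.e12 : @instDecidableForall = @_root_.Cfsg.Agent.KO90f8195.k12 := by delta _root_.Cfsg.Agent.KO90f8195.k12; rfl'
private noncomputable def _root_.Cfsg.Agent.KO90f8195.k13 : type_of% @Nat.decEq := @(fun x0 x1 => @Bool.rec.{1} @(fun x2 => (@Eq.{1} _ (@Nat.beq @x0 @x1) @x2) → @Decidable (@Eq.{1} _ @x0 @x1)) @(fun x2 => @Decidable.isFalse _ (@Nat.ne_of_beq_eq_false _ _ @x2)) @(fun x2 => @Decidable.isTrue _ (@Nat.eq_of_beq_eq_true _ _ @x2)) (@Nat.beq @x0 @x1) (@Eq.refl.{1} _ (@Nat.beq @x0 @x1)))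
private theorem _root_.Cfsg.Agent.KO90f8195.e13 : @Nat.decEq = @_root_.Cfsg.Agent.KO90f8195.k13 := by delta _root_.Cfsg.Agent.KO90f8195.k13; rfl'
private noncomputable def _root_.Cfsg.Agent.KO90f8195.k14 : type_of% @Int.decEq := @(fun x0 x1 => @Int.rec.{1} @(fun x2 => @Decidable (@Eq.{1} _ @x2 @x1)) @(fun x2 => @Int.rec.{1} @(fun x3 => @Decidable (@Eq.{1} _ (@Int.ofNat @x2) @x3)) @(fun x3 => @Decidable.rec.{1} _ @(fun x4 => @Decidable (@Eq.{1} _ (@Int.ofNat @x2) (@Int.ofNat @x3))) @(fun x4 => @Decidable.isFalse _ (@Int.decEq._proof_2 @x2 @x3 @x4)) @(fun x4 => @Decidable.isTrue _ (@Int.decEq._proof_1 @x2 @x3 @x4)) (@Cfsg.Agent.KO90f8195.k13 @x2 @x3)) @(fun x3 => @Decidable.isFalse _ (@Int.decEq._proof_3 @x2 @x3)) @x1) @(fun x2 => @Int.rec.{1} @(fun x3 => @Decidable (@Eq.{1} _ (@Int.negSucc @x2) @x3)) @(fun x3 => @Decidable.isFalse _ (@Int.decEq._proof_4 @x2 @x3)) @(fun x3 => @Decidable.rec.{1} _ @(fun x4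 => @Decidable (@Eq.{1} _ (@Int.negSucc @x2) (@Int.negSucc @x3))) @(fun x4 => @Decidable.isFalse _ (@Int.decEq._proof_6 @x2 @x3 @x4)) @(fun x4 => @Decidable.isTrue _ (@Int.decEq._proof_5 @x2 @x3 @x4)) (@Cfsg.Agent.KO90f8195.k13 @x2 @x3)) @x1) @x0)
private theorem _root_.Cfsg.Agent.KO90f8195.e14 : @Int.decEq = @_root_.Cfsg.Agent.KO90f8195.k14 := by delta _root_.Cfsg.Agent.KO90f8195.k14; rewrite [← Cfsg.Agent.KO90f8195.e13]; rfl'
private noncomputable def _root_.Cfsg.Agent.KO90f8195.k15 : type_of% @instDecidableEqFin := @(fun x0 x1 x2 => @Decidable.rec.{1} _ @(fun x3 => @Decidable (@Eq.{1} _ @x1 @x2)) @(fun x3 => @Decidable.isFalse _ (@instDecidableEqFin._proof_1 @x0 @x1 @x2 @x3)) @(fun x3 => @Decidable.isTrue _ (@Fin.eq_of_val_eq _ _ _ @x3)) (@Cfsg.Agent.KO90f8195.k13 (@Fin.val _ @x1) (@Fin.val _ @x2)))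
private theorem _root_.Cfsg.Agent.KO90f8195.e15 : @instDecidableEqFin = @_root_.Cfsg.Agent.KO90f8195.k15 := by delta _root_.Cfsg.Agent.KO90f8195.k15; rewrite [← Cfsg.Agent.KO90f8195.e13]; rfl'
private noncomputable def _root_.Cfsg.Agent.KO90f8195.k16 : type_of% @ZMod.decidableEq := @(fun x0 => @Nat.rec.{1} @(fun x1 => @DecidableEq.{1} (@ZMod @x1)) @Cfsg.Agent.KO90f8195.k14 @(fun x1 x2 => @Cfsg.Agent.KO90f8195.k15 (@Nat.add @x1 (nat_lit 1))) @x0)
private theorem _root_.Cfsg.Agent.KO90f8195.e16 : @ZMod.decidableEq = @_root_.Cfsg.Agent.KO90f8195.k16 := by delta _root_.Cfsg.Agent.KO90f8195.k16; rewrite [← Cfsg.Agent.KO90f8195.e15, ← Cfsg.Agent.KO90f8195.e14]; rfl'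
private noncomputable def _root_.Cfsg.Agent.KO90f8195.k17 : type_of% @forall_prop_decidable := @(fun x0 x1 x2 x3 => @Decidable.rec.{1} _ @(fun x4 => @Decidable ((x5 : @x0) → @x1 @x5)) @(fun x4 => @Decidable.isTrue _ (@forall_prop_decidable._proof_2 _ @x1 @x4)) @(fun x4 => @Decidable.rec.{1} _ @(fun x5 => @Decidable ((x6 : @x0) → @x1 @x6)) @(fun x5 => @Decidable.isFalse _ (@decidable_of_decidable_of_iff._proof_1 _ _ (@forall_prop_decidable._proof_1 _ @x1 @x4) @x5)) @(fun x5 => @Decidable.isTrue _ (@Iff.mp _ _ (@forall_prop_decidable._proof_1 _ @x1 @x4) @x5)) (@x3 @x4)) @x2)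
private theorem _root_.Cfsg.Agent.KO90f8195.e17 : @forall_prop_decidable = @_root_.Cfsg.Agent.KO90f8195.k17 := by delta _root_.Cfsg.Agent.KO90f8195.k17; rfl'
private noncomputable def _root_.Cfsg.Agent.KO90f8195.k18.{ku0} : type_of% @List.decidableBEx.{ku0} := @(fun x0 x1 x2 x3 => @List.rec.{1, ku0} @x0 @(fun x4 => @Decidable (@Exists.{(ku0+1)} _ @(fun x5 => @And (@Membership.mem.{ku0, ku0} _ _ _ @x4 @x5) (@x1 @x5)))) (@Decidable.isFalse _ (@List.decidableBEx._proof_1.{ku0} _ @x1)) @(fun x4 x5 x6 => @Decidable.rec.{1} _ @(fun x7 => @Decidable (@Exists.{(ku0+1)} _ @(fun x8 => @And (@Membership.mem.{ku0, ku0} _ _ _ (@x4 :: @x5) @x8) (@x1 @x8)))) @(fun x7 => @Decidable.rec.{1} _ @(fun x8 => @Decidable (@Exists.{(ku0+1)} _ @(fun x9 => @And (@Membership.mem.{ku0, ku0} _ _ _ (@x4 :: @x5) @x9) (@x1 @x9)))) @(fun x8 => @Decidable.isFalse _ (@List.decidableBEx._proof_4.{ku0} _ @x1 @x4 @x5 @x7 @x8)) @(fun x8 => @Decidable.isTrue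 _ (@List.decidableBEx._proof_3.{ku0} _ @x1 @x4 @x5 @x8)) @x6) @(fun x7 => @Decidable.isTrue _ (@List.decidableBEx._proof_2.{ku0} _ @x1 @x4 @x5 @x7)) (@x2 @x4)) @x3)
private theorem _root_.Cfsg.Agent.KO90f8195.e18.{ku0} : @List.decidableBEx.{ku0} = @_root_.Cfsg.Agent.KO90f8195.k18.{ku0} := by delta _root_.Cfsg.Agent.KO90f8195.k18; funext a0 a1 a2 a3; refine (_root_.Cfsg.Agent.KO90f8195.e3 (fun a3 => @List.decidableBEx.{ku0} a0 a1 a2 a3) ?_ (fun c0 c1 => ?_) a3 :) <;> (rfl')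
private noncomputable def _root_.Cfsg.Agent.KO90f8195.k19.{ku0} : type_of% @Multiset.decidableExistsMultiset.{ku0} := @(fun (x0 : Sort (ku0+1)) (x1 : @Multiset.{ku0} @x0) (x2 : (x0 → Prop)) (x3 : @DecidablePred.{(ku0+1)} @x0 @x2) => @Cfsg.Agent.KO90f8195.k2.{(ku0+1), 1} (@List.{ku0} @x0) (@Setoid.r.{(ku0+1)} (@List.{ku0} @x0) (@List.isSetoid.{ku0} @x0)) @(fun (x4 : @Quotient.{(ku0+1)} (@List.{ku0} @x0) (@List.isSetoid.{ku0} @x0)) => @Decidable (@Exists.{(ku0+1)} @x0 @(fun (x5 : x0) => @And (@Membership.mem.{ku0, ku0} @x0 (@Multiset.{ku0} @x0) (@Multiset.instMembership.{ku0} @x0) @x4 @x5) (@x2 @x5)))) (@Multiset.decidableExistsMultiset._proof_2.{ku0} @x0 @x2) @x1 @(fun (x4 : @List.{ku0} @x0) => @Decidable.rec.{1} (@Exists.{(ku0+1)} @x0 @(fun (x5 : x0) => @And (@Membership.mem.{ku0, ku0} @x0 (@List.{ku0} @x0) (@List.instMembership.{ku0} @x0) @x4 @x5) (@x2 @x5))) @(fun (x5 : @Decidable (@Exists.{(ku0+1)} @x0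 @(fun (x5 : x0) => @And (@Membership.mem.{ku0, ku0} @x0 (@List.{ku0} @x0) (@List.instMembership.{ku0} @x0) @x4 @x5) (@x2 @x5)))) => @Decidable (@Exists.{(ku0+1)} @x0 @(fun (x6 : x0) => @And (@Membership.mem.{ku0, ku0} @x0 (@Multiset.{ku0} @x0) (@Multiset.instMembership.{ku0} @x0) (@Quotient.mk.{(ku0+1)} (@List.{ku0} @x0) (@List.isSetoid.{ku0} @x0) @x4) @x6) (@x2 @x6)))) @(fun (x5 : @Not (@Exists.{(ku0+1)} @x0 @(fun (x5 : x0) => @And (@Membership.mem.{ku0, ku0} @x0 (@List.{ku0} @x0) (@List.instMembership.{ku0} @x0) @x4 @x5) (@x2 @x5)))) => @Decidable.isFalse (@Exists.{(ku0+1)} @x0 @(fun (x6 : x0) => @And (@Membership.mem.{ku0, ku0} @x0 (@Multiset.{ku0} @x0) (@Multiset.instMembership.{ku0} @x0) (@Quotient.mk.{(ku0+1)} (@List.{ku0} @x0) (@List.isSetoid.{ku0} @x0) @x4) @x6) (@x2 @x6))) (@decidable_of_decidable_of_iff._proof_1 (@Exists.{(ku0+1)} @x0 @(fun (x6 : x0) => @And (@Membership.mem.{ku0, ku0} @x0 (@List.{ku0}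 @x0) (@List.instMembership.{ku0} @x0) @x4 @x6) (@x2 @x6))) (@Exists.{(ku0+1)} @x0 @(fun (x6 : x0) => @And (@Membership.mem.{ku0, ku0} @x0 (@Multiset.{ku0} @x0) (@Multiset.instMembership.{ku0} @x0) (@Quotient.mk.{(ku0+1)} (@List.{ku0} @x0) (@List.isSetoid.{ku0} @x0) @x4) @x6) (@x2 @x6))) (@Multiset.decidableExistsMultiset._proof_1.{ku0} @x0 @x2 @x4) @x5)) @(fun (x5 : @Exists.{(ku0+1)} @x0 @(fun (x5 : x0) => @And (@Membership.mem.{ku0, ku0} @x0 (@List.{ku0} @x0) (@List.instMembership.{ku0} @x0) @x4 @x5) (@x2 @x5))) => @Decidable.isTrue (@Exists.{(ku0+1)} @x0 @(fun (x6 : x0) => @And (@Membership.mem.{ku0, ku0} @x0 (@Multiset.{ku0} @x0) (@Multiset.instMembership.{ku0} @x0) (@Quotient.mk.{(ku0+1)} (@List.{ku0} @x0) (@List.isSetoid.{ku0} @x0) @x4) @x6) (@x2 @x6))) (@Iff.mp (@Exists.{(ku0+1)} @x0 @(fun (x6 : x0) => @And (@Membership.mem.{ku0, ku0} @x0 (@List.{ku0} @x0) (@List.instMembership.{ku0} @x0) @x4 @x6)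 (@x2 @x6))) (@Exists.{(ku0+1)} @x0 @(fun (x6 : x0) => @And (@Membership.mem.{ku0, ku0} @x0 (@Multiset.{ku0} @x0) (@Multiset.instMembership.{ku0} @x0) (@Quotient.mk.{(ku0+1)} (@List.{ku0} @x0) (@List.isSetoid.{ku0} @x0) @x4) @x6) (@x2 @x6))) (@Multiset.decidableExistsMultiset._proof_1.{ku0} @x0 @x2 @x4) @x5)) (@Cfsg.Agent.KO90f8195.k18.{ku0} @x0 @x2 @x3 @x4)))
private theorem _root_.Cfsg.Agent.KO90f8195.e19.{ku0} : @Multiset.decidableExistsMultiset.{ku0} = @_root_.Cfsg.Agent.KO90f8195.k19.{ku0} := by delta _root_.Cfsg.Agent.KO90f8195.k19; rewrite [← Cfsg.Agent.KO90f8195.e18.{ku0}, ← Cfsg.Agent.KO90f8195.e2.{(ku0+1), 1}]; rfl'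
private noncomputable def _root_.Cfsg.Agent.KO90f8195.k20.{ku0} : type_of% @Multiset.decidableDexistsMultiset.{ku0} := @(fun x0 x1 x2 x3 => @Decidable.rec.{1} _ @(fun x4 => @Decidable (@Exists.{(ku0+1)} _ @(fun x5 => @Exists.{0} _ @(fun x6 => @x2 @x5 @x6)))) @(fun x4 => @Decidable.isFalse _ (@decidable_of_decidable_of_iff._proof_1 _ _ (@Multiset.decidableDexistsMultiset._proof_1.{ku0} _ _ _) @x4)) @(fun x4 => @Decidable.isTrue _ (@Iff.mp _ _ (@Multiset.decidableDexistsMultiset._proof_1.{ku0} _ _ _) @x4)) (@Cfsg.Agent.KO90f8195.k19.{ku0} _ _ @(fun x4 => @x2 (@Subtype.val.{(ku0+1)} _ @(fun x5 => @Membership.mem.{ku0, ku0} _ _ _ @x1 @x5) @x4) (@Multiset.decidableDforallMultiset._proof_1.{ku0} _ _ @x4)) @(fun x4 => @x3 (@Subtype.val.{(ku0+1)} _ @(fun x5 => @Membership.mem.{ku0, ku0} _ _ _ @x1 @x5) @x4) (@Multiset.decidableDforallMultiset._proof_1.{ku0} _ _ @x4))))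
private theorem _root_.Cfsg.Agent.KO90f8195.e20.{ku0} : @Multiset.decidableDexistsMultiset.{ku0} = @_root_.Cfsg.Agent.KO90f8195.k20.{ku0} := by delta _root_.Cfsg.Agent.KO90f8195.k20; rewrite [← Cfsg.Agent.KO90f8195.e19.{ku0}]; rfl'
private noncomputable def _root_.Cfsg.Agent.KO90f8195.k21.{ku0} : type_of% @Finset.decidableDExistsFinset.{ku0} := @(fun x0 x1 x2 x3 => @Cfsg.Agent.KO90f8195.k20.{ku0} _ _ _ @x3)
private theorem _root_.Cfsg.Agent.KO90f8195.e21.{ku0} : @Finset.decidableDExistsFinset.{ku0} = @_root_.Cfsg.Agent.KO90f8195.k21.{ku0} := by delta _root_.Cfsg.Agent.KO90f8195.k21; rewrite [← Cfsg.Agent.KO90f8195.e20.{ku0}]; rfl'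
private noncomputable def _root_.Cfsg.Agent.KO90f8195.k22.{ku0} : type_of% @Finset.decidableExistsAndFinset.{ku0} := @(fun x0 x1 x2 x3 => @Decidable.rec.{1} _ @(fun x4 => @Decidable (@Exists.{(ku0+1)} _ @(fun x5 => @And (@Membership.mem.{ku0, ku0} _ _ _ @x1 @x5) (@x2 @x5)))) @(fun x4 => @Decidable.isFalse _ (@decidable_of_decidable_of_iff._proof_1 _ _ (@Finset.decidableExistsAndFinset._proof_1.{ku0} _ _ _) @x4)) @(fun x4 => @Decidable.isTrue _ (@Iff.mp _ _ (@Finset.decidableExistsAndFinset._proof_1.{ku0} _ _ _) @x4)) (@Cfsg.Agent.KO90f8195.k21.{ku0} _ _ @(fun x4 x5 => @x2 @x4) @(fun x4 x5 => @x3 @x4)))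
private theorem _root_.Cfsg.Agent.KO90f8195.e22.{ku0} : @Finset.decidableExistsAndFinset.{ku0} = @_root_.Cfsg.Agent.KO90f8195.k22.{ku0} := by delta _root_.Cfsg.Agent.KO90f8195.k22; rewrite [← Cfsg.Agent.KO90f8195.e21.{ku0}]; rfl'
private noncomputable def _root_.Cfsg.Agent.KO90f8195.k23.{ku0} : type_of% @Fintype.decidableExistsFintype.{ku0} := @(fun x0 x1 x2 x3 => @Decidable.rec.{1} _ @(fun x4 => @Decidable (@Exists.{(ku0+1)} _ @(fun x5 => @x1 @x5))) @(fun x4 => @Decidable.isFalse _ (@decidable_of_decidable_of_iff._proof_1 _ _ (@Fintype.decidableExistsFintype._proof_1.{ku0} _ _ _) @x4)) @(fun x4 => @Decidable.isTrue _ (@Iff.mp _ _ (@Fintype.decidableExistsFintype._proof_1.{ku0} _ _ _) @x4)) (@Cfsg.Agent.KO90f8195.k22.{ku0} _ _ _ @x2))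
private theorem _root_.Cfsg.Agent.KO90f8195.e23.{ku0} : @Fintype.decidableExistsFintype.{ku0} = @_root_.Cfsg.Agent.KO90f8195.k23.{ku0} := by delta _root_.Cfsg.Agent.KO90f8195.k23; rewrite [← Cfsg.Agent.KO90f8195.e22.{ku0}]; rfl'
private noncomputable def _root_.Cfsg.Agent.KO90f8195.k24 : type_of% @instDecidableAnd := @(fun x0 x1 x2 x3 => @Decidable.rec.{1} _ @(fun x4 => @Decidable (@And @x0 @x1)) @(fun x4 => @Decidable.isFalse _ (@instDecidableAnd._proof_2 _ _ @x4)) @(fun x4 => @Decidable.rec.{1} _ @(fun x5 => @Decidable (@And @x0 @x1)) @(fun x5 => @Decidable.isFalse _ (@instDecidableAnd._proof_1 _ _ @x5)) @(fun x5 => @Decidable.isTrue _ (@And.intro _ _ @x4 @x5)) @x3) @x2)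
private theorem _root_.Cfsg.Agent.KO90f8195.e24 : @instDecidableAnd = @_root_.Cfsg.Agent.KO90f8195.k24 := by delta _root_.Cfsg.Agent.KO90f8195.k24; rfl'

theorem exists_conj : ∀ h : SL5, h * h = -1 → ∃ s : SL5, s * h * s⁻¹ = D := by
  have key : ∀ a b c d : ZMod 5, a * d - b * c = 1 → a * a + b * c = -1 → b * (a + d) = 0 → c * (a + d) = 0 →
      ∃ p q r s : ZMod 5, p * s - q * r = 1 ∧ p * a + q * c = 2 * p ∧ p * b + q * d = 2 * q ∧
        r * a + s * c = 3 * r ∧ r * b + s * d = 3 * s := by (first | (refine of_decide_eq_true ?_; rewrite [Cfsg.Agent.KO90f8195.e0, Cfsg.Agent.KO90f8195.e11.{0}, Cfsg.Agent.KO90f8195.e12, Cfsg.Agent.KO90f8195.e16, Cfsg.Agent.KO90f8195.e17, Cfsg.Agent.KO90f8195.e23.{0}, Cfsg.Agent.KO90f8195.e24]; decide +kernel) | decide +kernel)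
  intro h hh
  have e00 := congrArg (fun x => ent x 0 0) hh
  have e01 := congrArg (fun x => ent x 0 1) hh
  have e10 := congrArg (fun x => ent x 1 0) hh
  simp only [ent_mul] at e00 e01 e10
  have m00 : ent (-1 : SL5) 0 0 = -1 := rfl
  have m01 : ent (-1 : SL5) 0 1 = 0 := by decide
  have m10 : ent (-1 : SL5) 1 0 = 0 := by decide
  obtain ⟨p, q, r, s, h1, h2, h3, h4, h5⟩ := key (ent h 0 0) (ent h 0 1) (ent h 1 0) (ent h 1 1) (det_eq h)
    (by rw [m00] at e00; linear_combination e00) (by rw [m01] at e01; linear_combination e01)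
    (by rw [m10] at e10; linear_combination e10)
  refine ⟨mk p q r s h1, ?_⟩
  rw [mul_inv_eq_iff_eq_mul]
  have h23 : (2 : ZMod 5)⁻¹ = 3 := inv_eq_of_mul_eq_one_right (by decide)
  refine ext_ent ?_ ?_ ?_ ?_ <;> simp only [D, ent_mul, dg_00, dg_01, dg_10, dg_11, mk_00, mk_01, mk_10, mk_11, h23]
  · linear_combination h2
  · linear_combination h3
  · linear_combination h4
  · linear_combination h5

/-- the only subgroups of order `5` normalised by `D` -/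
theorem eq_or {X : Subgroup SL5} (hX : Nat.card X = 5) (hD : ∀ x ∈ X, D * x * D⁻¹ ∈ X) : X = upG (ZMod 5) ∨ X = loG := by
  have key : ∀ a b c k : ZMod 5, a * (2 - a) - b * c = 1 → ¬ (b = 0 ∧ c = 0) →
      a = 1 + k * (a - 1) → 4 * b = k * b → 4 * c = k * c → (a = 1 ∧ (b = 0 ∨ c = 0)) := by decide +kernel
  -- a generator
  have hfin : Finite X := Nat.finite_of_card_ne_zero (by rw [hX]; norm_num)
  obtain ⟨g, hg⟩ := exists_prime_orderOf_dvd_card' (G := X) 5 (by rw [hX])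
  obtain ⟨x, hx⟩ := g
  have hord : orderOf x = 5 := by
    have := hg
    rwa [Subgroup.orderOf_mk] at this
  have hzX : zpowers x = X := by
    refine Subgroup.eq_of_le_of_card_ge (zpowers_le.2 hx) ?_
    rw [Nat.card_zpowers, hord, hX]
  have hx5 : x ^ 5 = 1 := by
    have := pow_orderOf_eq_one x
    rwa [hord] at this
  have hx1 : x ≠ 1 := by
    rintro rfl
    rw [orderOf_one] at hord
    norm_num at hord
  -- (x - 1)^5 = 0, so (x-1)^2 = 0
  have hnil : (x.1 - 1) ^ 5 = 0 := by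
    have h1 : (x.1 : Matrix (Fin 2) (Fin 2) (ZMod 5)) ^ 5 = 1 := by
      have := congrArg Subtype.val hx5
      rwa [Matrix.SpecialLinearGroup.coe_pow, Matrix.SpecialLinearGroup.coe_one] at this
    have : CharP (Matrix (Fin 2) (Fin 2) (ZMod 5)) 5 := inferInstance
    rw [sub_pow_char_of_commute 5 (Commute.one_right _), h1, one_pow, sub_self]
  have htr : ent x 0 0 + ent x 1 1 = 2 := by
    have h1 : ((x.1 - 1) ^ 5).det = 0 := by rw [hnil]; simp
    rw [Matrix.det_pow] at h1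
    have h2 : (x.1 - 1).det = 0 := by
      by_contra h; exact pow_ne_zero 5 h h1
    rw [Matrix.det_fin_two] at h2
    simp only [Matrix.sub_apply, Matrix.one_apply_eq, Matrix.one_apply_ne (show (0 : Fin 2) ≠ 1 by decide),
      Matrix.one_apply_ne (show (1 : Fin 2) ≠ 0 by decide), sub_zero] at h2
    have h3 := det_eq x
    change (ent x 0 0 - 1) * (ent x 1 1 - 1) - ent x 0 1 * ent x 1 0 = 0 at h2
    linear_combination h3 - h2
  -- the powers of `x`
  have hsq : ∀ i j, ent (x * x) i j = 2 * ent x i j - (if i = j then 1 else 0) := by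
    have h3 := det_eq x
    intro i j
    rw [ent_mul]
    fin_cases i <;> fin_cases j <;> simp only [Fin.mk_zero, Fin.mk_one, Fin.isValue, if_true,
      show ((0 : Fin 2) = 1) = False from by simp, show ((1 : Fin 2) = 0) = False from by simp, if_false]
    · linear_combination ent x 0 0 * htr - h3
    · linear_combination ent x 0 1 * htr
    · linear_combination ent x 1 0 * htr
    · linear_combination ent x 1 1 * htr - h3
  have hpow : ∀ n : ℕ, ∀ i j, ent (x ^ n) i j = n * (ent x i j - (if i = j then 1 else 0)) + (if i = j then 1 else 0) := by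
    intro n
    induction n with
    | zero =>
      intro i j
      rw [pow_zero, Nat.cast_zero, zero_mul, zero_add]
      fin_cases i <;> fin_cases j <;> rfl
    | succ n ih =>
      intro i j
      have h3 := det_eq x
      rw [pow_succ, ent_mul, ih, ih]
      fin_cases i <;> fin_cases j <;> simp only [Fin.mk_zero, Fin.mk_one, Fin.isValue, if_true,
        show ((0 : Fin 2) = 1) = False from by simp, show ((1 : Fin 2) = 0) = False from by simp, if_false, Nat.cast_succ]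
      · linear_combination (n : ZMod 5) * ent x 0 0 * htr - n * h3
      · linear_combination (n : ZMod 5) * ent x 0 1 * htr
      · linear_combination (n : ZMod 5) * ent x 1 0 * htr
      · linear_combination (n : ZMod 5) * ent x 1 1 * htr - n * h3
  have hDx : D * x * D⁻¹ ∈ zpowers x := by rw [hzX]; exact hD x hx
  obtain ⟨n, hn⟩ : ∃ n : ℕ, x ^ n = D * x * D⁻¹ := by
    have hfo : IsOfFinOrder x := isOfFinOrder_iff_pow_eq_one.2 ⟨5, by norm_num, hx5⟩
    obtain ⟨n, hn⟩ := (hfo.mem_powers_iff_mem_zpowers).2 hDx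
    exact ⟨n, hn⟩
  have hDe : ∀ i j, ent (x ^ n * D) i j = ent (D * x) i j := by
    intro i j
    rw [hn, inv_mul_cancel_right]
  have h23 : (2 : ZMod 5)⁻¹ = 3 := inv_eq_of_mul_eq_one_right (by decide)
  have d00 := hDe 0 0
  have d01 := hDe 0 1
  have d10 := hDe 1 0
  have d11 := hDe 1 1
  simp only [ent_mul, D, dg_00, dg_01, dg_10, dg_11, hpow, h23, if_true,
    show ((0 : Fin 2) = 1) = False from by simp, show ((1 : Fin 2) = 0) = False from by simp, if_false] at d00 d01 d10 d11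
  have h15 : ∀ y : ZMod 5, 2 * y = 0 → y = 0 := by decide
  have h35 : ∀ y : ZMod 5, 3 * y = 0 → y = 0 := by decide
  have c5 : (5 : ZMod 5) = 0 := by decide
  have hd : ent x 1 1 = 2 - ent x 0 0 := by linear_combination htr
  obtain ⟨ha, hbc⟩ := key (ent x 0 0) (ent x 0 1) (ent x 1 0) (n : ZMod 5) (by rw [← hd]; exact det_eq x) (by
    rintro ⟨hb, hc⟩
    apply hx1
    have h1 := det_eq x
    rw [hb, hc, hd] at h1
    have h2 : (ent x 0 0 - 1) * (ent x 0 0 - 1) = 0 := by linear_combination -h1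
    have h3 : ent x 0 0 = 1 := sub_eq_zero.1 (mul_self_eq_zero.1 h2)
    refine ext_ent h3 hb hc ?_
    rw [hd, h3]
    change (2 : ZMod 5) - 1 = 1
    decide) (by
      have := h15 (ent x 0 0 - (1 + n * (ent x 0 0 - 1))) (by linear_combination -d00)
      linear_combination this) (by
      have := h35 (4 * ent x 0 1 - n * ent x 0 1) (by linear_combination (2 * ent x 0 1) * c5 - d01)
      linear_combination this) (by
      have := h15 (4 * ent x 1 0 - n * ent x 1 0) (by linear_combination (ent x 1 0) * c5 - d10)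
      linear_combination this)
  have hd1 : ent x 1 1 = 1 := by
    rw [hd, ha]; decide
  rcases hbc with hb | hc
  · right
    refine (Subgroup.eq_of_le_of_card_ge ?_ (by rw [hX, card_lo]))
    rw [← hzX, zpowers_le]
    exact ⟨ent x 1 0, ext_ent ha.symm hb.symm rfl hd1.symm⟩
  · left
    refine (Subgroup.eq_of_le_of_card_ge ?_ (by rw [hX, card_up]))
    rw [← hzX, zpowers_le]
    exact ⟨ent x 0 1, ext_ent ha.symm rfl hc.symm hd1.symm⟩

/-- automorphisms of `SL(2,5)` are conjugations by elements of `GL(2,5)` -/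
theorem exists_gl (α : MulAut SL5) : ∃ g : GL (Fin 2) (ZMod 5), ∀ x, (α x).1 * g.1 = g.1 * x.1 := by
  obtain ⟨g, σ, hg⟩ := exists_gl_ringEquiv (MonoidHom.id SL5) (fun x => ⟨x, rfl⟩)
    (by rw [MonoidHom.ker_id]; exact bot_le) α
  have hσ : σ = RingEquiv.refl (ZMod 5) := Subsingleton.elim _ _
  refine ⟨g, fun x => ?_⟩
  have h1 := hg x
  rw [hσ] at h1
  have h2 : fieldAut (RingEquiv.refl (ZMod 5)) x = x := by
    have : (RingEquiv.refl (ZMod 5)) = 1 := rfl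
    rw [this, map_one]; rfl
  rw [h2] at h1
  have h3 : α x = conjGL g x := h1
  rw [h3, conjGL_val, Matrix.mul_assoc, ← Units.val_mul, inv_mul_cancel, Units.val_one, Matrix.mul_one]

theorem mul_ent (A B : Matrix (Fin 2) (Fin 2) (ZMod 5)) (i j : Fin 2) :
    (A * B) i j = A i 0 * B 0 j + A i 1 * B 1 j := by
  rw [Matrix.mul_apply, Fin.sum_univ_two]

theorem aut_of_fix (α : MulAut SL5) (hα : α D = D) :
    (∀ b, α (up b) ∈ upG (ZMod 5)) ∧ ∀ b, α (lo b) ∈ loG := by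
  obtain ⟨g, hg⟩ := exists_gl α
  have h23 : (2 : ZMod 5)⁻¹ = 3 := inv_eq_of_mul_eq_one_right (by decide)
  have hD := hg D
  rw [hα] at hD
  have e01 := congrFun (congrFun hD 0) 1
  have e10 := congrFun (congrFun hD 1) 0
  rw [mul_ent, mul_ent] at e01 e10
  change (2 : ZMod 5) * g.1 0 1 + 0 * g.1 1 1 = g.1 0 0 * 0 + g.1 0 1 * (2 : ZMod 5)⁻¹ at e01
  change (0 : ZMod 5) * g.1 0 0 + (2 : ZMod 5)⁻¹ * g.1 1 0 = g.1 1 0 * 2 + g.1 1 1 * 0 at e10
  rw [h23] at e01 e10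
  have g01 : g.1 0 1 = 0 := by linear_combination -e01
  have g10 : g.1 1 0 = 0 := by linear_combination e10
  have hdet : g.1.det ≠ 0 := (g.isUnit.map Matrix.detMonoidHom).ne_zero
  rw [Matrix.det_fin_two, g01, zero_mul, sub_zero] at hdet
  have g00 : g.1 0 0 ≠ 0 := left_ne_zero_of_mul hdet
  have g11 : g.1 1 1 ≠ 0 := right_ne_zero_of_mul hdet
  constructor
  · intro b
    have h := hg (up b)
    have a00 := congrFun (congrFun h 0) 0
    have a10 := congrFun (congrFun h 1) 0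
    have a11 := congrFun (congrFun h 1) 1
    rw [mul_ent, mul_ent, g10, g01] at a00
    rw [mul_ent, mul_ent, g10] at a10
    rw [mul_ent, mul_ent, g10, g01] at a11
    change ent (α (up b)) 0 0 * g.1 0 0 + ent (α (up b)) 0 1 * 0 = g.1 0 0 * 1 + 0 * 0 at a00
    change ent (α (up b)) 1 0 * g.1 0 0 + ent (α (up b)) 1 1 * 0 = 0 * 1 + g.1 1 1 * 0 at a10
    change ent (α (up b)) 1 0 * 0 + ent (α (up b)) 1 1 * g.1 1 1 = 0 * b + g.1 1 1 * 1 at a11
    refine ⟨ent (α (up b)) 0 1, ext_ent ?_ rfl ?_ ?_⟩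
    · exact (mul_right_cancel₀ g00 (by linear_combination a00 : ent (α (up b)) 0 0 * g.1 0 0 = 1 * g.1 0 0)).symm
    · exact (mul_right_cancel₀ g00 (by linear_combination a10 : ent (α (up b)) 1 0 * g.1 0 0 = 0 * g.1 0 0)).symm
    · exact (mul_right_cancel₀ g11 (by linear_combination a11 : ent (α (up b)) 1 1 * g.1 1 1 = 1 * g.1 1 1)).symm
  · intro b
    have h := hg (lo b)
    have a00 := congrFun (congrFun h 0) 0
    have a01 := congrFun (congrFun h 0) 1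
    have a11 := congrFun (congrFun h 1) 1
    rw [mul_ent, mul_ent, g10, g01] at a00
    rw [mul_ent, mul_ent, g01] at a01
    rw [mul_ent, mul_ent, g10, g01] at a11
    change ent (α (lo b)) 0 0 * g.1 0 0 + ent (α (lo b)) 0 1 * 0 = g.1 0 0 * 1 + 0 * b at a00
    change ent (α (lo b)) 0 0 * 0 + ent (α (lo b)) 0 1 * g.1 1 1 = g.1 0 0 * 0 + 0 * 1 at a01
    change ent (α (lo b)) 1 0 * 0 + ent (α (lo b)) 1 1 * g.1 1 1 = 0 * 0 + g.1 1 1 * 1 at a11
    refine ⟨ent (α (lo b)) 1 0, ext_ent ?_ ?_ rfl ?_⟩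
    · exact (mul_right_cancel₀ g00 (by linear_combination a00 : ent (α (lo b)) 0 0 * g.1 0 0 = 1 * g.1 0 0)).symm
    · exact (mul_right_cancel₀ g11 (by linear_combination a01 : ent (α (lo b)) 0 1 * g.1 1 1 = 0 * g.1 1 1)).symm
    · exact (mul_right_cancel₀ g11 (by linear_combination a11 : ent (α (lo b)) 1 1 * g.1 1 1 = 1 * g.1 1 1)).symm

theorem aut_of_inv (α : MulAut SL5) (hα : α D = D⁻¹) :
    (∀ b, α (up b) ∈ loG) ∧ ∀ b, α (lo b) ∈ upG (ZMod 5) := by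
  -- compose with the Weyl element
  have hw : wm (1 : ZMod 5) one_ne_zero * D⁻¹ * (wm (1 : ZMod 5) one_ne_zero)⁻¹ = D := by
    rw [mul_inv_eq_iff_eq_mul, ent_inv D]
    have h23 : (2 : ZMod 5)⁻¹ = 3 := inv_eq_of_mul_eq_one_right (by decide)
    refine ext_ent ?_ ?_ ?_ ?_ <;>
      simp only [D, ent_mul, dg_00, dg_01, dg_10, dg_11, mk_00, mk_01, mk_10, mk_11, wm_00, wm_01, wm_10, wm_11, h23]
    · ring
    · ring
    · ring
    · ring
  obtain ⟨h1, h2⟩ := aut_of_fix (MulAut.conj (wm (1 : ZMod 5) one_ne_zero) * α) (by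
    rw [MulAut.mul_apply, hα, MulAut.conj_apply, hw])
  constructor
  · intro b
    obtain ⟨c, hc⟩ := h1 b
    rw [MulAut.mul_apply, MulAut.conj_apply] at hc
    have h3 : α (up b) = (wm (1 : ZMod 5) one_ne_zero)⁻¹ * up c * wm 1 one_ne_zero := by rw [hc]; group
    rw [h3]
    refine ⟨-c, ?_⟩
    rw [mul_assoc, eq_inv_mul_iff_mul_eq, wm_lo]
    congr 2; ring
  · intro b
    obtain ⟨c, hc⟩ := h2 b
    rw [MulAut.mul_apply, MulAut.conj_apply] at hc
    have h3 : α (lo b) = (wm (1 : ZMod 5) one_ne_zero)⁻¹ * lo c * wm 1 one_ne_zero := by rw [hc]; group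
    rw [h3]
    refine ⟨-c, ?_⟩
    rw [mul_assoc, eq_inv_mul_iff_mul_eq, wm_up]
    congr 2; ring

end Cfsg.Agent.LFourFive.LabSL
end

-- part: LFourFive/LabRoots
section
/-!
# The two root groups of a subgroup `L ≅ SL(2, 5)` normalised by an element of order four
-/

set_option autoImplicit false

namespace Cfsg.Agent.LFourFive

open Subgroup Cfsg.Agent.LFourR Cfsg.Agent.Lib.SL2Mat Cfsg.Agent.Lib.AutSL2 Cfsg.Agent.LFourFive.LabSL

universe u

variable {G : Type u} [Group G]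

/-- the two root groups `A`, `B` of `L` normalised by `h` -/
structure Roots (h : G) (L A B : Subgroup G) : Prop where
  A_le : A ≤ L
  B_le : B ≤ L
  cardA : Nat.card A = 5
  cardB : Nat.card B = 5
  ne : A ≠ B
  sup : A ⊔ B = L
  invA : ∀ x ∈ A, h * x * h⁻¹ = x⁻¹
  invB : ∀ x ∈ B, h * x * h⁻¹ = x⁻¹
  only : ∀ X : Subgroup G, X ≤ L → Nat.card X = 5 → (∀ x ∈ X, h * x * h⁻¹ ∈ X) → X = A ∨ X = B
  fix : ∀ y, cg y L = L → y * h = h * y → cg y A = A ∧ cg y B = B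
  swp : ∀ y, cg y L = L → y * h * y⁻¹ = h⁻¹ → cg y A = B ∧ cg y B = A

theorem card_cg (g : G) (H : Subgroup G) : Nat.card (cg g H) = Nat.card H :=
  (Nat.card_congr (cgEquiv g H).toEquiv).symm

theorem eq_of_le_of_card_five {A B : Subgroup G} (h : A ≤ B) (hA : Nat.card A = 5) (hB : Nat.card B = 5) : A = B := by
  have : Finite B := Nat.finite_of_card_ne_zero (by rw [hB]; norm_num)
  exact Subgroup.eq_of_le_of_card_ge h (by rw [hA, hB])

theorem exists_roots {L : Subgroup G} (iso : Nonempty (L ≃* Matrix.SpecialLinearGroup (Fin 2) (ZMod 5))) {h z : G}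
    (hh : h ∈ L) (hz : h * h = z) (hzz : z * z = 1) (hz1 : z ≠ 1) : ∃ A B : Subgroup G, Roots h L A B := by
  have hfact : Fact (Nat.Prime 5) := ⟨by norm_num⟩
  obtain ⟨f⟩ := iso
  have h2 : f ⟨h, hh⟩ * f ⟨h, hh⟩ = -1 := by
    have h3 : (f ⟨h, hh⟩ * f ⟨h, hh⟩) * (f ⟨h, hh⟩ * f ⟨h, hh⟩) = 1 := by
      rw [← map_mul, ← map_mul]
      have : (⟨h, hh⟩ : L) * ⟨h, hh⟩ * (⟨h, hh⟩ * ⟨h, hh⟩) = 1 := by
        apply Subtype.ext
        change h * h * (h * h) = 1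
        rw [hz, hzz]
      rw [this, map_one]
    rcases Cfsg.Agent.Lib.PSL2Inv.sq_eq_one LabSL.two_ne h3 with h4 | h4
    · exfalso
      apply hz1
      rw [← map_mul, ← map_one f] at h4
      have := congrArg Subtype.val (f.injective h4)
      rw [← hz]; exact this
    · exact h4
  obtain ⟨s, hs⟩ := exists_conj _ h2
  set φ : L ≃* Matrix.SpecialLinearGroup (Fin 2) (ZMod 5) := f.trans (MulAut.conj s) with hφ
  have hφh : φ ⟨h, hh⟩ = LabSL.D := hs
  let R : Subgroup (Matrix.SpecialLinearGroup (Fin 2) (ZMod 5)) → Subgroup G :=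
    fun X => (X.comap φ.toMonoidHom).map L.subtype
  have memR : ∀ X x, x ∈ R X ↔ ∃ hx : x ∈ L, φ ⟨x, hx⟩ ∈ X := by
    intro X x
    constructor
    · rintro ⟨y, hy, rfl⟩
      exact ⟨y.2, hy⟩
    · rintro ⟨hx, hX⟩
      exact ⟨⟨x, hx⟩, hX, rfl⟩
  have cardR : ∀ X, Nat.card (R X) = Nat.card X := by
    intro X
    have h1 : Nat.card (R X) = Nat.card (X.comap φ.toMonoidHom) :=
      Nat.card_congr ((X.comap φ.toMonoidHom).equivMapOfInjective L.subtype (Subgroup.subtype_injective L)).toEquiv.symm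
    rw [h1]
    refine Nat.card_congr (Equiv.ofBijective
      (fun x : (X.comap φ.toMonoidHom : Subgroup L) => (⟨φ x.1, x.2⟩ : X)) ⟨?_, ?_⟩)
    · intro a b hab
      exact Subtype.ext (φ.injective (congrArg Subtype.val hab))
    · rintro ⟨y, hy⟩
      refine ⟨⟨φ.symm y, ?_⟩, Subtype.ext (φ.apply_symm_apply y)⟩
      change φ (φ.symm y) ∈ X
      rw [φ.apply_symm_apply]
      exact hy
  have Rmono : ∀ X Y, R X = R Y → X = Y := by
    intro X Y hXY
    ext x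
    obtain ⟨y, rfl⟩ := φ.surjective x
    have h1 := memR X y
    have h2 := memR Y y
    rw [hXY] at h1
    constructor
    · intro hx
      exact ((memR Y y).1 ((memR X y |>.2 ⟨y.2, hx⟩) |> fun h => by rwa [hXY] at h)).2
    · intro hy
      exact ((memR X y).1 ((memR Y y |>.2 ⟨y.2, hy⟩) |> fun h => by rwa [← hXY] at h)).2
  have conjR : ∀ y : G, cg y L = L → ∃ α : MulAut (Matrix.SpecialLinearGroup (Fin 2) (ZMod 5)),
      (∀ x (hx : x ∈ L) (hx' : y * x * y⁻¹ ∈ L), α (φ ⟨x, hx⟩) = φ ⟨y * x * y⁻¹, hx'⟩) ∧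
      ∀ X Y, (∀ x ∈ X, α x ∈ Y) → cg y (R X) ≤ R Y := by
    intro y hy
    have hyn := mem_normalizer_iff_cg.2 hy
    refine ⟨MulAut.congr φ (nact L hyn), ?_, ?_⟩
    · intro x hx hx'
      change φ (nact L hyn (φ.symm (φ ⟨x, hx⟩))) = _
      rw [φ.symm_apply_apply]
      rfl
    · intro X Y hXY x hx
      rw [mem_cg, memR] at hx
      obtain ⟨hx1, hx2⟩ := hx
      have hx3 : x ∈ L := by
        have : x ∈ cg y L := mem_cg.2 hx1
        rwa [hy] at this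
      rw [memR]
      refine ⟨hx3, ?_⟩
      have h4 := hXY _ hx2
      change φ (nact L hyn (φ.symm (φ ⟨y⁻¹ * x * y, hx1⟩))) ∈ Y at h4
      rw [φ.symm_apply_apply] at h4
      have h5 : nact L hyn ⟨y⁻¹ * x * y, hx1⟩ = ⟨x, hx3⟩ := by
        apply Subtype.ext
        rw [coe_nact]
        change y * (y⁻¹ * x * y) * y⁻¹ = x
        group
      rwa [h5] at h4
  refine ⟨R (upG (ZMod 5)), R loG, ?_⟩
  have cA : Nat.card (R (upG (ZMod 5))) = 5 := by rw [cardR, card_up]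
  have cB : Nat.card (R loG) = 5 := by rw [cardR, card_lo]
  have leL : ∀ X, R X ≤ L := fun X x hx => ((memR X x).1 hx).1
  have hinv : ∀ X, (∀ x ∈ X, LabSL.D * x * LabSL.D⁻¹ = x⁻¹) → ∀ x ∈ R X, h * x * h⁻¹ = x⁻¹ := by
    intro X hX x hx
    obtain ⟨hxL, hx2⟩ := (memR X x).1 hx
    have h1 := hX _ hx2
    rw [← hφh, ← map_mul, ← map_inv, ← map_inv, ← map_mul] at h1
    exact congrArg Subtype.val (φ.injective h1)
  refine ⟨leL _, leL _, cA, cB, ?_, ?_, ?_, ?_, ?_, ?_, ?_⟩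
  · intro hAB
    exact up_ne_lo (Rmono _ _ hAB)
  · apply le_antisymm (sup_le (leL _) (leL _))
    intro x hx
    have h1 : φ ⟨x, hx⟩ ∈ upG (ZMod 5) ⊔ loG := by rw [sup_eq_top]; exact mem_top _
    have h2 : ((R (upG (ZMod 5)) ⊔ R loG).subgroupOf L).map φ.toMonoidHom ≥ upG (ZMod 5) ⊔ loG := by
      refine sup_le ?_ ?_
      · intro y hy
        obtain ⟨⟨x', hx'⟩, rfl⟩ := φ.surjective y
        exact ⟨⟨x', hx'⟩, mem_subgroupOf.2 (mem_sup_left ((memR _ _).2 ⟨hx', hy⟩)), rfl⟩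
      · intro y hy
        obtain ⟨⟨x', hx'⟩, rfl⟩ := φ.surjective y
        exact ⟨⟨x', hx'⟩, mem_subgroupOf.2 (mem_sup_right ((memR _ _).2 ⟨hx', hy⟩)), rfl⟩
    obtain ⟨y, hy, hyx⟩ := h2 h1
    have h3 : y = ⟨x, hx⟩ := φ.injective hyx
    rw [h3] at hy
    exact mem_subgroupOf.1 hy
  · exact hinv _ (by rintro _ ⟨b, rfl⟩; exact D_up b)
  · exact hinv _ (by rintro _ ⟨b, rfl⟩; exact D_lo b)
  · intro X hXL hXc hXh
    have h1 : R ((X.subgroupOf L).map φ.toMonoidHom) = X := by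
      ext x
      rw [memR]
      constructor
      · rintro ⟨hx, y, hy, hyx⟩
        have h3 : y = ⟨x, hx⟩ := φ.injective hyx
        rw [h3] at hy
        exact mem_subgroupOf.1 hy
      · intro hx
        exact ⟨hXL hx, ⟨x, hXL hx⟩, mem_subgroupOf.2 hx, rfl⟩
    have h2 : Nat.card ((X.subgroupOf L).map φ.toMonoidHom) = 5 := by
      rw [← cardR, h1, hXc]
    rcases LabSL.eq_or h2 (by
      rintro _ ⟨y, hy, rfl⟩
      refine ⟨⟨h, hh⟩ * y * ⟨h, hh⟩⁻¹, mem_subgroupOf.2 (hXh _ (mem_subgroupOf.1 hy)), ?_⟩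
      change φ _ = LabSL.D * φ y * LabSL.D⁻¹
      rw [map_mul, map_mul, map_inv, hφh]) with h3 | h3
    · left; rw [← h1, h3]
    · right; rw [← h1, h3]
  · intro y hy hyh
    obtain ⟨α, hα, hα2⟩ := conjR y hy
    have hyh' : y * h * y⁻¹ = h := by rw [hyh, mul_inv_cancel_right]
    obtain ⟨h5, h6⟩ := aut_of_fix α (by
      rw [← hφh, hα h hh (by rw [hyh']; exact hh)]
      congr 1
      exact Subtype.ext hyh')
    constructor
    · exact eq_of_le_of_card_five (hα2 _ _ (by rintro _ ⟨b, rfl⟩; exact h5 b)) (by rw [card_cg, cA]) cA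
    · exact eq_of_le_of_card_five (hα2 _ _ (by rintro _ ⟨b, rfl⟩; exact h6 b)) (by rw [card_cg, cB]) cB
  · intro y hy hyh
    obtain ⟨α, hα, hα2⟩ := conjR y hy
    obtain ⟨h5, h6⟩ := aut_of_inv α (by
      rw [← hφh, hα h hh (by rw [hyh]; exact inv_mem hh), ← map_inv]
      congr 1
      exact Subtype.ext hyh)
    constructor
    · exact eq_of_le_of_card_five (hα2 _ _ (by rintro _ ⟨b, rfl⟩; exact h5 b)) (by rw [card_cg, cA]) cB
    · exact eq_of_le_of_card_five (hα2 _ _ (by rintro _ ⟨b, rfl⟩; exact h6 b)) (by rw [card_cg, cB]) cA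

end Cfsg.Agent.LFourFive
end

-- part: LFourFive/LabGood
section
/-!
# The root groups (subgroups of order `5` normalised by `V = ⟨z, e⟩`) of a component `K`
-/

set_option autoImplicit false

namespace Cfsg.Agent.LFourFive

open Subgroup Cfsg.Agent.LFourR

universe u

variable {G : Type u} [Group G]

theorem cg_self_of_mem {H : Subgroup G} {x : G} (hx : x ∈ H) : cg x H = H :=
  mem_normalizer_iff_cg.1 (Subgroup.le_normalizer hx)

theorem cg_self_of_comm {H : Subgroup G} {x : G} (hx : ∀ y ∈ H, x * y = y * x) : cg x H = H := by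
  rw [← mem_normalizer_iff_cg, mem_normalizer_iff]
  intro y
  constructor
  · intro hy
    rw [hx y hy, mul_inv_cancel_right]
    exact hy
  · intro hy
    have h1 := hx _ hy
    have h2 : x * y * x⁻¹ = y := by
      rw [inv_mul_cancel_right] at h1
      exact mul_left_cancel h1
    rwa [h2] at hy

theorem cg_inj {x : G} {H K : Subgroup G} (h : cg x H = cg x K) : H = K := by
  rw [← cg_inv_eq h, ← cg_mul, inv_mul_cancel, cg_one]

theorem cg_mono {x : G} {H K : Subgroup G} (h : H ≤ K) : cg x H ≤ cg x K := Subgroup.map_mono h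

theorem cg_sup (x : G) (H K : Subgroup G) : cg x (H ⊔ K) = cg x H ⊔ cg x K := Subgroup.map_sup _ _ _

theorem cg_inv_cg (x : G) (H : Subgroup G) : cg x (cg x⁻¹ H) = H := by
  rw [← cg_mul, mul_inv_cancel, cg_one]

theorem cg_cg_inv (x : G) (H : Subgroup G) : cg x⁻¹ (cg x H) = H := by
  rw [← cg_mul, inv_mul_cancel, cg_one]

/-- `P` is a root group of `K` -/
structure RR (z e : G) (K P : Subgroup G) : Prop where
  le : P ≤ K
  card : Nat.card P = 5
  nz : cg z P = P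
  ne : cg e P = P

variable {z e : G} {U K P Q : Subgroup G}

theorem RR.vv (h : RR z e K P) {v : G} (hv : v ∈ closure ({z, e} : Set G)) : cg v P = P := by
  have h1 : closure ({z, e} : Set G) ≤ normalizer (P : Set G) := by
    rw [closure_le]
    rintro x (rfl | rfl)
    · exact mem_normalizer_iff_cg.2 h.nz
    · exact mem_normalizer_iff_cg.2 h.ne
  exact mem_normalizer_iff_cg.1 (h1 hv)

theorem RR.conj (h : RR z e K P) {x : G} (hx : cg x (closure ({z, e} : Set G)) = closure {z, e}) :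
    RR z e (cg x K) (cg x P) := by
  have key : ∀ v ∈ closure ({z, e} : Set G), cg v (cg x P) = cg x P := by
    intro v hv
    rw [← hx, mem_cg] at hv
    have h1 : v * x = x * (x⁻¹ * v * x) := by group
    rw [← cg_mul, h1, cg_mul, h.vv hv]
  exact
    { le := cg_mono h.le
      card := by rw [card_cg, h.card]
      nz := key z (subset_closure (by simp))
      ne := key e (subset_closure (by simp)) }

theorem RR.conj_inv {x : G} (h : RR z e (cg x K) P) (hx : cg x (closure ({z, e} : Set G)) = closure {z, e}) :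
    RR z e K (cg x⁻¹ P) := by
  have h1 := h.conj (x := x⁻¹) (cg_inv_eq hx)
  rwa [cg_cg_inv] at h1

theorem RR.inf (h : RR z e K P) (hQ : P ≤ Q) : RR z e Q P := ⟨hQ, h.card, h.nz, h.ne⟩

/-- `K` has exactly two root groups, they generate it, and `U` fixes them -/
structure Good (z e : G) (U K : Subgroup G) : Prop where
  sup : ∀ P Q, RR z e K P → RR z e K Q → P ≠ Q → P ⊔ Q = K
  two : ∀ P Q S, RR z e K P → RR z e K Q → RR z e K S → P ≠ Q → S = P ∨ S = Q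
  fix : ∀ u ∈ U, ∀ P, RR z e K P → cg u P = P
  ex : ∃ P Q, RR z e K P ∧ RR z e K Q ∧ P ≠ Q
  iso : Nonempty (K ≃* Matrix.SpecialLinearGroup (Fin 2) (ZMod 5))

theorem Good.conj (h : Good z e U K) {x : G} (hx : cg x (closure ({z, e} : Set G)) = closure {z, e})
    (hU : cg x U = U) : Good z e U (cg x K) := by
  refine ⟨?_, ?_, ?_, ?_, ?_⟩
  · intro P Q hP hQ hPQ
    have h1 := h.sup _ _ (hP.conj_inv hx) (hQ.conj_inv hx) (fun h2 => hPQ (cg_inj h2))
    rw [← h1, cg_sup, cg_inv_cg, cg_inv_cg]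
  · intro P Q S hP hQ hS hPQ
    rcases h.two _ _ _ (hP.conj_inv hx) (hQ.conj_inv hx) (hS.conj_inv hx) (fun h2 => hPQ (cg_inj h2)) with h1 | h1
    · exact Or.inl (cg_inj h1)
    · exact Or.inr (cg_inj h1)
  · intro u hu P hP
    rw [← hU, mem_cg] at hu
    have h1 := h.fix _ hu _ (hP.conj_inv hx)
    apply cg_inj (x := x⁻¹)
    rw [← cg_mul] at h1 ⊢
    rw [← h1]
    congr 1
    group
  · obtain ⟨P, Q, hP, hQ, hPQ⟩ := h.ex
    exact ⟨_, _, hP.conj hx, hQ.conj hx, fun h2 => hPQ (cg_inj h2)⟩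
  · obtain ⟨f⟩ := h.iso
    exact ⟨(cgEquiv x K).symm.trans f⟩

section roots

variable {h : G} {L A B : Subgroup G}

theorem Roots.eq_or (r : Roots h L A B) (heL : ∀ l ∈ L, e * l * e⁻¹ = h * l * h⁻¹) (hP : RR z e L P) : P = A ∨ P = B := by
  refine r.only P hP.le hP.card ?_
  intro x hx
  rw [← heL x (hP.le hx)]
  have h1 : e * x * e⁻¹ ∈ cg e P := conj_mem_cg hx
  rwa [hP.ne] at h1

theorem Roots.rr_of (hX : P ≤ L) (hc : Nat.card P = 5) (hinv : ∀ x ∈ P, h * x * h⁻¹ = x⁻¹)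
    (hzL : ∀ l ∈ L, z * l = l * z) (heL : ∀ l ∈ L, e * l * e⁻¹ = h * l * h⁻¹) : RR z e L P := by
  refine ⟨hX, hc, cg_self_of_comm (fun y hy => hzL y (hX hy)), ?_⟩
  refine eq_of_le_of_card_five ?_ (by rw [card_cg, hc]) hc
  rintro _ ⟨y, hy, rfl⟩
  change e * y * e⁻¹ ∈ P
  rw [heL y (hX hy), hinv y hy]
  exact inv_mem hy

theorem Roots.rrA (r : Roots h L A B) (hzL : ∀ l ∈ L, z * l = l * z) (heL : ∀ l ∈ L, e * l * e⁻¹ = h * l * h⁻¹) :
    RR z e L A := Roots.rr_of r.A_le r.cardA r.invA hzL heL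

theorem Roots.rrB (r : Roots h L A B) (hzL : ∀ l ∈ L, z * l = l * z) (heL : ∀ l ∈ L, e * l * e⁻¹ = h * l * h⁻¹) :
    RR z e L B := Roots.rr_of r.B_le r.cardB r.invB hzL heL

theorem Roots.good (r : Roots h L A B) (hzL : ∀ l ∈ L, z * l = l * z) (heL : ∀ l ∈ L, e * l * e⁻¹ = h * l * h⁻¹)
    (hUL : ∀ u ∈ U, cg u L = L) (hUh : ∀ u ∈ U, u * h = h * u)
    (iso : Nonempty (L ≃* Matrix.SpecialLinearGroup (Fin 2) (ZMod 5))) : Good z e U L := by
  refine ⟨?_, ?_, ?_, ⟨A, B, r.rrA hzL heL, r.rrB hzL heL, r.ne⟩, iso⟩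
  · intro P Q hP hQ hPQ
    rcases r.eq_or heL hP with rfl | rfl <;> rcases r.eq_or heL hQ with rfl | rfl
    · exact absurd rfl hPQ
    · exact r.sup
    · rw [sup_comm]; exact r.sup
    · exact absurd rfl hPQ
  · intro P Q S hP hQ hS hPQ
    rcases r.eq_or heL hP with rfl | rfl <;> rcases r.eq_or heL hQ with rfl | rfl
    · exact absurd rfl hPQ
    · exact r.eq_or heL hS
    · exact (r.eq_or heL hS).symm
    · exact absurd rfl hPQ
  · intro u hu P hP
    obtain ⟨h1, h2⟩ := r.fix u (hUL u hu) (hUh u hu)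
    rcases r.eq_or heL hP with rfl | rfl
    · exact h1
    · exact h2

theorem Roots.move (r : Roots h L A B) (heL : ∀ l ∈ L, e * l * e⁻¹ = h * l * h⁻¹) {y : G} (hy : cg y L = L)
    (hyh : y * h * y⁻¹ = h⁻¹) (hP : RR z e L P) : cg y P ≠ P := by
  obtain ⟨h1, h2⟩ := r.swp y hy hyh
  rcases r.eq_or heL hP with rfl | rfl
  · rw [h1]; exact r.ne.symm
  · rw [h2]; exact r.ne

theorem Roots.inv (r : Roots h L A B) (heL : ∀ l ∈ L, e * l * e⁻¹ = h * l * h⁻¹) (hP : RR z e L P) :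
    ∀ x ∈ P, e * x * e⁻¹ = x⁻¹ := by
  intro x hx
  rw [heL x (hP.le hx)]
  rcases r.eq_or heL hP with rfl | rfl
  · exact r.invA x hx
  · exact r.invB x hx

end roots

end Cfsg.Agent.LFourFive
end

-- part: LFourFive/LabInp
section
/-!
# Elementary consequences of `InpFive`
-/

set_option autoImplicit false
set_option linter.unusedSectionVars false

namespace Cfsg.Agent.LFourFive

open Subgroup Cfsg.Agent.LFourR

universe u

variable {G : Type u} [Group G] {z e ρ n1 n2 h1 h2 : G} {L1 L2 U : Subgroup G}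

theorem conj_mul3 (s a b : G) : s * (a * b) * s⁻¹ = s * a * s⁻¹ * (s * b * s⁻¹) := by group

namespace InpFive

variable (h : InpFive z e ρ n1 n2 h1 h2 L1 L2 U)

include h

theorem z_mem2 : z ∈ L2 := by rw [← h.h2_sq]; exact mul_mem h.h2_mem h.h2_mem

theorem z_L1 : ∀ l ∈ L1, z * l = l * z := fun l hl => (h.comm l hl z h.z_mem2).symm

theorem z_L2 : ∀ l ∈ L2, z * l = l * z := fun l hl => h.comm z h.z_mem l hl

theorem h1h2 : h1 * h2 = h2 * h1 := h.comm _ h.h1_mem _ h.h2_mem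

theorem h1_e : h1 * e = e * h1 := by rw [h.e_eq, mul_assoc, ← h.h1h2]

theorem h2_e : h2 * e = e * h2 := by rw [h.e_eq, ← mul_assoc, ← h.h1h2]

theorem h1_U : h1 ∈ U := h.T1_le _ h.h1_mem h.h1_e

theorem h2_U : h2 ∈ U := h.T2_le _ h.h2_mem h.h2_e

theorem z_U : z ∈ U := by rw [← h.h1_sq]; exact mul_mem h.h1_U h.h1_U

theorem e_U : e ∈ U := by rw [h.e_eq]; exact mul_mem h.h1_U h.h2_U

theorem U_z {u : G} (hu : u ∈ U) : u * z = z * u := h.U_comm u hu z h.z_U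

theorem U_e {u : G} (hu : u ∈ U) : u * e = e * u := h.U_comm u hu e h.e_U

theorem h1_inv : h1⁻¹ = z * h1 := by
  rw [inv_eq_iff_mul_eq_one, ← mul_assoc, ← h.z_L1 _ h.h1_mem, mul_assoc, h.h1_sq, h.zz]

theorem h2_inv : h2⁻¹ = z * h2 := by
  rw [inv_eq_iff_mul_eq_one, ← mul_assoc, ← h.z_L2 _ h.h2_mem, mul_assoc, h.h2_sq, h.zz]

theorem h1_ne : h1⁻¹ ≠ h1 := by
  intro h3
  apply h.z_ne
  rw [← h.h1_sq]
  nth_rewrite 2 [← h3]
  exact mul_inv_cancel _

theorem h1_notMem : h1 ∉ L2 := by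
  intro h3
  have h4 := h.comm _ h.n1_mem _ h3
  have h5 := h.n1_h1
  rw [h4, mul_inv_cancel_right] at h5
  exact h.h1_ne h5.symm

theorem L_ne : L1 ≠ L2 := fun h3 => h.h1_notMem (h3 ▸ h.h1_mem)

theorem perm' {x : G} (hx : x * z = z * x) (hx1 : cg x L1 = L1) : cg x L2 = L2 := by
  rcases h.perm x hx with ⟨-, h3⟩ | ⟨h3, -⟩
  · exact h3
  · exact absurd (hx1.symm.trans h3) h.L_ne

theorem perm_swap {x : G} (hx : x * z = z * x) (hx1 : cg x L1 = L2) : cg x L2 = L1 := by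
  rcases h.perm x hx with ⟨h3, -⟩ | ⟨-, h3⟩
  · exact absurd (h3.symm.trans hx1) h.L_ne
  · exact h3

theorem U_L1 {u : G} (hu : u ∈ U) : cg u L1 = L1 := by
  rcases h.perm u (h.U_z hu) with ⟨h3, -⟩ | ⟨h3, -⟩
  · exact h3
  · exfalso
    have h4 : u * h1 * u⁻¹ ∈ L2 := by rw [← h3]; exact conj_mem_cg h.h1_mem
    rw [h.U_comm u hu _ h.h1_U, mul_inv_cancel_right] at h4
    exact h.h1_notMem h4

theorem U_L2 {u : G} (hu : u ∈ U) : cg u L2 = L2 := h.perm' (h.U_z hu) (h.U_L1 hu)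

theorem n1_z : n1 * z = z * n1 := (h.z_L1 _ h.n1_mem).symm

theorem n2_z : n2 * z = z * n2 := (h.z_L2 _ h.n2_mem).symm

theorem n1n2 : n1 * n2 = n2 * n1 := h.comm _ h.n1_mem _ h.n2_mem

theorem n1_h2 : n1 * h2 = h2 * n1 := h.comm _ h.n1_mem _ h.h2_mem

theorem h1_n2 : h1 * n2 = n2 * h1 := h.comm _ h.h1_mem _ h.n2_mem

theorem n1_e : n1 * e * n1⁻¹ = z * e := by
  rw [h.e_eq, conj_mul3, h.n1_h1, h.n1_h2, mul_inv_cancel_right, h.h1_inv, mul_assoc]

theorem n2_e : n2 * e * n2⁻¹ = z * e := by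
  rw [h.e_eq, conj_mul3, h.n2_h2, ← h.h1_n2, mul_inv_cancel_right, h.h2_inv, ← mul_assoc, ← mul_assoc,
    h.z_L1 _ h.h1_mem]

theorem n1_L1 : cg n1 L1 = L1 := cg_self_of_mem h.n1_mem

theorem n2_L2 : cg n2 L2 = L2 := cg_self_of_mem h.n2_mem

theorem n1_L2 : cg n1 L2 = L2 := cg_self_of_comm (fun y hy => h.comm _ h.n1_mem y hy)

theorem n2_L1 : cg n2 L1 = L1 := cg_self_of_comm (fun y hy => (h.comm y hy _ h.n2_mem).symm)

theorem ez : e * z = z * e := h.ze.symm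

theorem z_inv : z⁻¹ = z := inv_eq_of_mul_eq_one_left h.zz

theorem e_inv : e⁻¹ = e := inv_eq_of_mul_eq_one_left h.ee

theorem e_L1 : ∀ l ∈ L1, e * l * e⁻¹ = h1 * l * h1⁻¹ := by
  intro l hl
  have h3 := h.comm l hl _ h.h2_mem
  rw [h.e_eq, mul_inv_rev, mul_assoc h1, ← h3, ← mul_assoc, ← mul_assoc, mul_inv_cancel_right]

theorem e_L2 : ∀ l ∈ L2, e * l * e⁻¹ = h2 * l * h2⁻¹ := by
  intro l hl
  have h3 := h.comm _ h.h1_mem l hl
  rw [h.e_eq, h.h1h2, mul_inv_rev, mul_assoc h2, h3, ← mul_assoc, ← mul_assoc, mul_inv_cancel_right]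

/-- `V`-normalising elements -/
theorem nv {x : G} {a b a' b' : G} (e1 : x * z * x⁻¹ = a) (e2 : x * e * x⁻¹ = b) (e3 : x⁻¹ * z * x = a')
    (e4 : x⁻¹ * e * x = b') (ha : a ∈ closure ({z, e} : Set G)) (hb : b ∈ closure ({z, e} : Set G))
    (ha' : a' ∈ closure ({z, e} : Set G)) (hb' : b' ∈ closure ({z, e} : Set G)) :
    cg x (closure ({z, e} : Set G)) = closure {z, e} := by
  apply le_antisymm
  · rw [cg, map_le_iff_le_comap, closure_le]
    intro y hy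
    have h3 : x * y * x⁻¹ ∈ closure ({z, e} : Set G) := by
      rcases hy with hy | hy
      · rw [hy, e1]; exact ha
      · rw [hy, e2]; exact hb
    exact h3
  · rw [closure_le]
    intro y hy
    have h3 : x⁻¹ * y * x ∈ closure ({z, e} : Set G) := by
      rcases hy with hy | hy
      · rw [hy, e3]; exact ha'
      · rw [hy, e4]; exact hb'
    exact mem_cg.2 h3

theorem z_V : z ∈ closure ({z, e} : Set G) := subset_closure (by simp)

theorem e_V : e ∈ closure ({z, e} : Set G) := subset_closure (by simp)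

theorem ze_V : z * e ∈ closure ({z, e} : Set G) := mul_mem h.z_V h.e_V

theorem ρ_ze : ρ * (z * e) * ρ⁻¹ = z := by
  rw [conj_mul3, h.ρ_z, h.ρ_e, h.ze, ← mul_assoc, h.ee, one_mul]

theorem ρ_inv_e : ρ⁻¹ * e * ρ = z := by rw [← h.ρ_z]; group

theorem ρ_inv_z : ρ⁻¹ * z * ρ = z * e := by nth_rewrite 1 [← h.ρ_ze]; group

theorem ρ_V : cg ρ (closure ({z, e} : Set G)) = closure {z, e} :=
  h.nv h.ρ_z h.ρ_e h.ρ_inv_z h.ρ_inv_e h.e_V h.ze_V h.ze_V h.z_V

theorem n1_ze : n1 * (z * e) * n1⁻¹ = e := by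
  rw [conj_mul3, h.n1_z, mul_inv_cancel_right, h.n1_e, ← mul_assoc, h.zz, one_mul]

theorem n2_ze : n2 * (z * e) * n2⁻¹ = e := by
  rw [conj_mul3, h.n2_z, mul_inv_cancel_right, h.n2_e, ← mul_assoc, h.zz, one_mul]

theorem n1_V : cg n1 (closure ({z, e} : Set G)) = closure {z, e} := by
  refine h.nv (a := z) (a' := z) (b' := z * e) ?_ h.n1_e ?_ ?_ h.z_V h.ze_V h.z_V h.ze_V
  · rw [h.n1_z, mul_inv_cancel_right]
  · rw [mul_assoc, ← h.n1_z, inv_mul_cancel_left]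
  · nth_rewrite 1 [← h.n1_ze]; group

theorem n2_V : cg n2 (closure ({z, e} : Set G)) = closure {z, e} := by
  refine h.nv (a := z) (a' := z) (b' := z * e) ?_ h.n2_e ?_ ?_ h.z_V h.ze_V h.z_V h.ze_V
  · rw [h.n2_z, mul_inv_cancel_right]
  · rw [mul_assoc, ← h.n2_z, inv_mul_cancel_left]
  · nth_rewrite 1 [← h.n2_ze]; group

theorem c_z : n1 * n2 * z = z * (n1 * n2) := by
  rw [mul_assoc, h.n2_z, ← mul_assoc, h.n1_z, mul_assoc]

theorem c_e : n1 * n2 * e = e * (n1 * n2) := by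
  have h3 : n1 * n2 * e * (n1 * n2)⁻¹ = e := by
    calc n1 * n2 * e * (n1 * n2)⁻¹ = n1 * (n2 * e * n2⁻¹) * n1⁻¹ := by group
      _ = e := by rw [h.n2_e, h.n1_ze]
  exact mul_inv_eq_iff_eq_mul.1 h3

theorem c_c : n1 * n2 * (n1 * n2) = 1 := by
  calc n1 * n2 * (n1 * n2) = n1 * (n2 * n1) * n2 := by group
    _ = n1 * n1 * (n2 * n2) := by rw [← h.n1n2]; group
    _ = 1 := by rw [h.n1_sq, h.n2_sq, h.zz]

theorem c_L1 : cg (n1 * n2) L1 = L1 := by rw [cg_mul, h.n2_L1, h.n1_L1]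

theorem c_L2 : cg (n1 * n2) L2 = L2 := by rw [cg_mul, h.n2_L2, h.n1_L2]

/-- elements which invert both `h1`, `h2` or centralise both -/
theorem U_or {x : G} (hxz : x * z = z * x) (hxe : x * e = e * x) (hx1 : cg x L1 = L1) : x ∈ U ∨ n1 * n2 * x ∈ U := by
  obtain ⟨l1, hl1, l2, hl2, u, hu, rfl⟩ := h.str x hxz hx1
  have hl12 : l1 * l2 = l2 * l1 := h.comm _ hl1 _ hl2
  -- `l1 l2` commutes with `e`
  have h3 : l1 * l2 * e = e * (l1 * l2) := by
    have h4 := h.U_e hu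
    have h5 : l1 * l2 * e * u = e * (l1 * l2) * u := by
      rw [mul_assoc _ e u, ← h4, ← mul_assoc, hxe, mul_assoc e]
    exact mul_right_cancel h5
  have ha : l1 * h2 = h2 * l1 := h.comm _ hl1 _ h.h2_mem
  have hb : h1 * l2 = l2 * h1 := h.comm _ h.h1_mem _ hl2
  -- the element `k = h1⁻¹ l1 h1 l1⁻¹` lies in `L1 ∩ L2`
  have h5 : l1 * h1 * l1⁻¹ * (l2 * h2 * l2⁻¹) = h1 * h2 := by
    have h6 : l1 * l2 * e * (l1 * l2)⁻¹ = e := by rw [h3, mul_inv_cancel_right]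
    rw [h.e_eq] at h6
    calc l1 * h1 * l1⁻¹ * (l2 * h2 * l2⁻¹) = l1 * h1 * (l1⁻¹ * (l2 * h2 * l2⁻¹)) := by group
      _ = l1 * h1 * ((l2 * h2 * l2⁻¹) * l1⁻¹) := by
          rw [h.comm l1⁻¹ (inv_mem hl1) _ (mul_mem (mul_mem hl2 h.h2_mem) (inv_mem hl2))]
      _ = l1 * (h1 * l2) * h2 * l2⁻¹ * l1⁻¹ := by group
      _ = l1 * (l2 * h1) * h2 * l2⁻¹ * l1⁻¹ := by rw [hb]
      _ = l1 * l2 * (h1 * h2) * (l1 * l2)⁻¹ := by group
      _ = h1 * h2 := h6
  have hk : h1⁻¹ * (l1 * h1 * l1⁻¹) = h2 * (l2 * h2 * l2⁻¹)⁻¹ := by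
    rw [inv_mul_eq_iff_eq_mul, ← mul_assoc, eq_mul_inv_iff_mul_eq]; exact h5
  have hk1 : h1⁻¹ * (l1 * h1 * l1⁻¹) ∈ L1 :=
    mul_mem (inv_mem h.h1_mem) (mul_mem (mul_mem hl1 h.h1_mem) (inv_mem hl1))
  have hk2 : h1⁻¹ * (l1 * h1 * l1⁻¹) ∈ L2 := by
    rw [hk]; exact mul_mem h.h2_mem (inv_mem (mul_mem (mul_mem hl2 h.h2_mem) (inv_mem hl2)))
  set k := h1⁻¹ * (l1 * h1 * l1⁻¹) with hkdef
  have e1 : l1 * h1 * l1⁻¹ = h1 * k := by rw [hkdef]; group
  have hkh : k * h1 = h1 * k := h.comm _ h.h1_mem _ hk2 |>.symm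
  have e2 : l2 * h2 * l2⁻¹ = k⁻¹ * h2 := by rw [hk]; group
  -- `k² = 1`
  have hkk : k * k = 1 := by
    have h7 : (l1 * h1 * l1⁻¹) * (l1 * h1 * l1⁻¹) = z := by
      calc (l1 * h1 * l1⁻¹) * (l1 * h1 * l1⁻¹) = l1 * (h1 * h1) * l1⁻¹ := by group
        _ = z := by rw [h.h1_sq, ← h.z_L1 _ hl1, mul_inv_cancel_right]
    rw [e1] at h7
    have h8 : h1 * k * (h1 * k) = h1 * h1 * (k * k) := by
      rw [mul_assoc, ← mul_assoc k, hkh]; group
    rw [h8, h.h1_sq] at h7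
    exact mul_eq_left.1 h7
  have hk1z : k = 1 ∨ k = z := by
    obtain ⟨f⟩ := h.iso1
    have hfact : Fact (Nat.Prime 5) := ⟨by norm_num⟩
    have key : ∀ (x : G) (hx : x ∈ L1), x * x = 1 → f ⟨x, hx⟩ = 1 ∨ f ⟨x, hx⟩ = -1 := by
      intro x hx hxx
      apply Cfsg.Agent.Lib.PSL2Inv.sq_eq_one LabSL.two_ne
      rw [← map_mul]
      have : (⟨x, hx⟩ : L1) * ⟨x, hx⟩ = 1 := Subtype.ext hxx
      rw [this, map_one]
    rcases key k hk1 hkk with h7 | h7
    · left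
      rw [← map_one f] at h7
      exact congrArg Subtype.val (f.injective h7)
    · right
      rcases key z h.z_mem h.zz with h8 | h8
      · rw [← map_one f] at h8
        exact absurd (congrArg Subtype.val (f.injective h8)) h.z_ne
      · rw [← h8] at h7
        exact congrArg Subtype.val (f.injective h7)
  rcases hk1z with hk0 | hk0
  · -- both centralise
    left
    rw [hk0, mul_one] at e1
    rw [hk0, inv_one, one_mul] at e2
    have f1 : l1 * h1 = h1 * l1 := mul_inv_eq_iff_eq_mul.1 e1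
    have f2 : l2 * h2 = h2 * l2 := mul_inv_eq_iff_eq_mul.1 e2
    have g1 : l1 ∈ U := h.T1_le _ hl1 (by rw [h.e_eq, ← mul_assoc, f1, mul_assoc, ha, mul_assoc])
    have g2 : l2 ∈ U := h.T2_le _ hl2 (by rw [h.e_eq, ← mul_assoc, ← hb, mul_assoc, f2, mul_assoc])
    exact mul_mem (mul_mem g1 g2) hu
  · -- both invert
    right
    have e3 : l1 * h1 * l1⁻¹ = h1⁻¹ := by rw [e1, hk0, h.h1_inv, h.z_L1 _ h.h1_mem]
    have e4 : l2 * h2 * l2⁻¹ = h2⁻¹ := by rw [e2, hk0, h.h2_inv, h.z_inv]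
    have f1 : n1 * l1 * h1 = h1 * (n1 * l1) := by
      have h7 : n1 * l1 * h1 * (n1 * l1)⁻¹ = h1 := by
        calc n1 * l1 * h1 * (n1 * l1)⁻¹ = n1 * (l1 * h1 * l1⁻¹) * n1⁻¹ := by group
          _ = (n1 * h1 * n1⁻¹)⁻¹ := by rw [e3]; group
          _ = h1 := by rw [h.n1_h1, inv_inv]
      exact mul_inv_eq_iff_eq_mul.1 h7
    have f2 : n2 * l2 * h2 = h2 * (n2 * l2) := by
      have h7 : n2 * l2 * h2 * (n2 * l2)⁻¹ = h2 := by
        calc n2 * l2 * h2 * (n2 * l2)⁻¹ = n2 * (l2 * h2 * l2⁻¹) * n2⁻¹ := by group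
          _ = (n2 * h2 * n2⁻¹)⁻¹ := by rw [e4]; group
          _ = h2 := by rw [h.n2_h2, inv_inv]
      exact mul_inv_eq_iff_eq_mul.1 h7
    have m1 : n1 * l1 ∈ L1 := mul_mem h.n1_mem hl1
    have m2 : n2 * l2 ∈ L2 := mul_mem h.n2_mem hl2
    have g1 : n1 * l1 ∈ U := h.T1_le _ m1 (by
      rw [h.e_eq, ← mul_assoc, f1, mul_assoc, h.comm _ m1 _ h.h2_mem, mul_assoc])
    have g2 : n2 * l2 ∈ U := h.T2_le _ m2 (by
      rw [h.e_eq, ← mul_assoc, ← h.comm _ h.h1_mem _ m2, mul_assoc, f2, mul_assoc])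
    have e5 : n1 * n2 * (l1 * l2 * u) = n1 * l1 * (n2 * l2) * u := by
      have h7 : n2 * l1 = l1 * n2 := (h.comm _ hl1 _ h.n2_mem).symm
      calc n1 * n2 * (l1 * l2 * u) = n1 * (n2 * l1) * l2 * u := by group
        _ = n1 * (l1 * n2) * l2 * u := by rw [h7]
        _ = _ := by group
    rw [e5]
    exact mul_mem (mul_mem g1 g2) hu

end InpFive

end Cfsg.Agent.LFourFive
end

-- part: LFourFive/LabComp
section
/-!
# The six components and the action of `n1`, `n2`, `g`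
-/

set_option autoImplicit false
set_option linter.unusedSectionVars false

namespace Cfsg.Agent.LFourFive

open Subgroup Cfsg.Agent.LFourR

universe u

variable {G : Type u} [Group G] {z e ρ n1 n2 h1 h2 : G} {L1 L2 U : Subgroup G}

namespace InpFive

variable (h : InpFive z e ρ n1 n2 h1 h2 L1 L2 U)

include h

theorem U_K02 {u : G} (hu : u ∈ U) : cg u (cg ρ L1) = cg ρ L1 := by
  have h3 : ρ⁻¹ * u * ρ ∈ U := by rw [← h.U_ρ, mem_cg] at hu; exact hu
  have h4 : u * ρ = ρ * (ρ⁻¹ * u * ρ) := by group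
  rw [← cg_mul, h4, cg_mul, h.U_L1 h3]

theorem U_K13 {u : G} (hu : u ∈ U) : cg u (cg ρ L2) = cg ρ L2 := by
  have h3 : ρ⁻¹ * u * ρ ∈ U := by rw [← h.U_ρ, mem_cg] at hu; exact hu
  have h4 : u * ρ = ρ * (ρ⁻¹ * u * ρ) := by group
  rw [← cg_mul, h4, cg_mul, h.U_L2 h3]

theorem w_eq : ∃ u ∈ U, ρ⁻¹ * (n1 * n2) * ρ = u * (n1 * n2 * (ρ * (n1 * n2) * ρ⁻¹)) :=
  ⟨_, h.c_rot, by group⟩

theorem w_eq' : ∃ u ∈ U, ρ * (ρ * (n1 * n2) * ρ⁻¹) * ρ⁻¹ = u * (n1 * n2 * (ρ * (n1 * n2) * ρ⁻¹)) :=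
  ⟨_, h.w_rot, by group⟩

/-- conjugation of the elements of `V` by `w` -/
theorem w_z : ρ * (n1 * n2) * ρ⁻¹ * z = z * (ρ * (n1 * n2) * ρ⁻¹) := by
  have h3 : n1 * n2 * (z * e) = z * e * (n1 * n2) := by
    rw [← mul_assoc, h.c_z, mul_assoc, h.c_e, ← mul_assoc]
  have h4 : z = ρ * (z * e) * ρ⁻¹ := h.ρ_ze.symm
  calc ρ * (n1 * n2) * ρ⁻¹ * z = ρ * (n1 * n2) * ρ⁻¹ * (ρ * (z * e) * ρ⁻¹) := by rw [← h4]
    _ = ρ * (n1 * n2 * (z * e)) * ρ⁻¹ := by group
    _ = ρ * (z * e) * ρ⁻¹ * (ρ * (n1 * n2) * ρ⁻¹) := by rw [h3]; group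
    _ = _ := by rw [← h4]

theorem w_e : ρ * (n1 * n2) * ρ⁻¹ * e = e * (ρ * (n1 * n2) * ρ⁻¹) := by
  have h4 : e = ρ * z * ρ⁻¹ := h.ρ_z.symm
  calc ρ * (n1 * n2) * ρ⁻¹ * e = ρ * (n1 * n2) * ρ⁻¹ * (ρ * z * ρ⁻¹) := by rw [← h4]
    _ = ρ * (n1 * n2 * z) * ρ⁻¹ := by group
    _ = ρ * z * ρ⁻¹ * (ρ * (n1 * n2) * ρ⁻¹) := by rw [h.c_z]; group
    _ = _ := by rw [← h4]

theorem w_L1 : cg (ρ * (n1 * n2) * ρ⁻¹) L1 = L2 := h.swap

theorem w_L2 : cg (ρ * (n1 * n2) * ρ⁻¹) L2 = L1 := h.perm_swap h.w_z h.swap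

theorem c_K02 : cg (n1 * n2) (cg ρ L1) = cg ρ L2 := by
  obtain ⟨u, hu, h3⟩ := h.w_eq
  have h4 : n1 * n2 * ρ = ρ * (ρ⁻¹ * (n1 * n2) * ρ) := by group
  rw [← cg_mul, h4, cg_mul, h3, cg_mul, cg_mul, h.w_L1, h.c_L2, h.U_L2 hu]

theorem c_K13 : cg (n1 * n2) (cg ρ L2) = cg ρ L1 := by
  obtain ⟨u, hu, h3⟩ := h.w_eq
  have h4 : n1 * n2 * ρ = ρ * (ρ⁻¹ * (n1 * n2) * ρ) := by group
  rw [← cg_mul, h4, cg_mul, h3, cg_mul, cg_mul, h.w_L2, h.c_L1, h.U_L1 hu]

theorem w_K02 : cg (ρ * (n1 * n2) * ρ⁻¹) (cg ρ L1) = cg ρ L1 := by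
  have h4 : ρ * (n1 * n2) * ρ⁻¹ * ρ = ρ * (n1 * n2) := by group
  rw [← cg_mul, h4, cg_mul, h.c_L1]

/-! `K12 = cg n1 (cg ρ L1)`, `K03 = cg n1 (cg ρ L2)` -/

theorem n1_K12 : cg n1 (cg n1 (cg ρ L1)) = cg ρ L1 := by
  rw [← cg_mul n1 n1, h.n1_sq, h.U_K02 h.z_U]

theorem n1_K03 : cg n1 (cg n1 (cg ρ L2)) = cg ρ L2 := by
  rw [← cg_mul n1 n1, h.n1_sq, h.U_K13 h.z_U]

theorem n2_K02 : cg n2 (cg ρ L1) = cg n1 (cg ρ L2) := by
  have h3 : n2 = n1⁻¹ * (n1 * n2) := by group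
  rw [h3, cg_mul, h.c_K02]
  exact cg_inv_eq h.n1_K03

theorem n2_K13 : cg n2 (cg ρ L2) = cg n1 (cg ρ L1) := by
  have h3 : n2 = n1⁻¹ * (n1 * n2) := by group
  rw [h3, cg_mul, h.c_K13]
  exact cg_inv_eq h.n1_K12

theorem n2_K12 : cg n2 (cg n1 (cg ρ L1)) = cg ρ L2 := by
  rw [← h.n2_K13, ← cg_mul n2 n2, h.n2_sq, h.U_K13 h.z_U]

theorem n2_K03 : cg n2 (cg n1 (cg ρ L2)) = cg ρ L1 := by
  rw [← h.n2_K02, ← cg_mul n2 n2, h.n2_sq, h.U_K02 h.z_U]

theorem c_K12 : cg (n1 * n2) (cg n1 (cg ρ L1)) = cg n1 (cg ρ L2) := by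
  rw [cg_mul, h.n2_K12]

theorem c_K03 : cg (n1 * n2) (cg n1 (cg ρ L2)) = cg n1 (cg ρ L1) := by
  rw [cg_mul, h.n2_K03]

/-- `ρ²` maps `L1`, `L2` to `K12`, `K03` -/
theorem ρρ : (cg (ρ * ρ) L1 = cg n1 (cg ρ L1) ∧ cg (ρ * ρ) L2 = cg n1 (cg ρ L2)) ∨
    (cg (ρ * ρ) L1 = cg n1 (cg ρ L2) ∧ cg (ρ * ρ) L2 = cg n1 (cg ρ L1)) := by
  have hx : (n1 * ρ)⁻¹ * (ρ * ρ) * z = z * ((n1 * ρ)⁻¹ * (ρ * ρ)) := by
    have h3 : ρ * ρ * z * (ρ * ρ)⁻¹ = z * e := by
      calc ρ * ρ * z * (ρ * ρ)⁻¹ = ρ * (ρ * z * ρ⁻¹) * ρ⁻¹ := by group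
        _ = z * e := by rw [h.ρ_z, h.ρ_e]
    have h4 : n1 * ρ * z * (n1 * ρ)⁻¹ = z * e := by
      calc n1 * ρ * z * (n1 * ρ)⁻¹ = n1 * (ρ * z * ρ⁻¹) * n1⁻¹ := by group
        _ = z * e := by rw [h.ρ_z, h.n1_e]
    calc (n1 * ρ)⁻¹ * (ρ * ρ) * z = (n1 * ρ)⁻¹ * (ρ * ρ * z * (ρ * ρ)⁻¹) * (ρ * ρ) := by group
      _ = (n1 * ρ)⁻¹ * (n1 * ρ * z * (n1 * ρ)⁻¹) * (ρ * ρ) := by rw [h3, h4]
      _ = z * ((n1 * ρ)⁻¹ * (ρ * ρ)) := by group
  have e1 : ∀ L, cg (ρ * ρ) L = cg (n1 * ρ) (cg ((n1 * ρ)⁻¹ * (ρ * ρ)) L) := by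
    intro L
    rw [← cg_mul]
    congr 1
    group
  rcases h.perm _ hx with ⟨h3, h4⟩ | ⟨h3, h4⟩
  · left
    rw [e1, e1 L2, h3, h4, cg_mul, cg_mul]
    exact ⟨rfl, rfl⟩
  · right
    rw [e1, e1 L2, h3, h4, cg_mul, cg_mul]
    exact ⟨rfl, rfl⟩

theorem ρρ_U : cg (ρ * ρ) U = U := by rw [cg_mul, h.U_ρ, h.U_ρ]

theorem ρρ_V : cg (ρ * ρ) (closure ({z, e} : Set G)) = closure {z, e} := by rw [cg_mul, h.ρ_V, h.ρ_V]

theorem w_K13 : cg (ρ * (n1 * n2) * ρ⁻¹) (cg ρ L2) = cg ρ L2 := by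
  have h4 : ρ * (n1 * n2) * ρ⁻¹ * ρ = ρ * (n1 * n2) := by group
  rw [← cg_mul, h4, cg_mul, h.c_L2]

theorem U_K12 {u : G} (hu : u ∈ U) : cg u (cg n1 (cg ρ L1)) = cg n1 (cg ρ L1) := by
  have h3 : (ρ * ρ)⁻¹ * u * (ρ * ρ) ∈ U := by rw [← h.ρρ_U, mem_cg] at hu; exact hu
  have h4 : u * (ρ * ρ) = (ρ * ρ) * ((ρ * ρ)⁻¹ * u * (ρ * ρ)) := by group
  rcases h.ρρ with ⟨h5, h6⟩ | ⟨h5, h6⟩
  · rw [← h5, ← cg_mul, h4, cg_mul _ ((ρ * ρ)⁻¹ * u * (ρ * ρ)), h.U_L1 h3]
  · rw [← h6, ← cg_mul, h4, cg_mul _ ((ρ * ρ)⁻¹ * u * (ρ * ρ)), h.U_L2 h3]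

theorem w_K12 : cg (ρ * (n1 * n2) * ρ⁻¹) (cg n1 (cg ρ L1)) = cg n1 (cg ρ L2) := by
  obtain ⟨u, hu, h3⟩ := h.w_eq'
  set w := ρ * (n1 * n2) * ρ⁻¹ with hw
  have e1 : cg (ρ * w * ρ⁻¹) (cg n1 (cg ρ L1)) = cg n1 (cg ρ L1) := by
    have h4 : ρ * w * ρ⁻¹ * (ρ * ρ) = ρ * (w * ρ) := by group
    rcases h.ρρ with ⟨h5, h6⟩ | ⟨h5, h6⟩
    · rw [← h5, ← cg_mul, h4, cg_mul, cg_mul, h.w_K02, ← cg_mul]
    · rw [← h6, ← cg_mul, h4, cg_mul, cg_mul, h.w_K13, ← cg_mul]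
  rw [h3, cg_mul, cg_mul] at e1
  have e2 : cg (n1 * n2) (cg w (cg n1 (cg ρ L1))) = cg n1 (cg ρ L1) := by
    have h5 := cg_inv_eq e1
    rw [h.U_K12 (inv_mem hu)] at h5
    exact h5.symm
  have e3 := cg_inv_eq e2
  rw [← e3]
  exact cg_inv_eq h.c_K03

theorem K02_ne : cg ρ L1 ≠ cg ρ L2 := fun h3 => h.L_ne (cg_inj h3)

theorem K12_ne : cg n1 (cg ρ L1) ≠ cg n1 (cg ρ L2) := fun h3 => h.K02_ne (cg_inj h3)

/-- **(F)** -/
theorem mem_U {x : G} (hxz : x * z = z * x) (hxe : x * e = e * x) (hx1 : cg x L1 = L1)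
    (hx2 : cg x (cg ρ L1) = cg ρ L1) : x ∈ U := by
  rcases h.U_or hxz hxe hx1 with h3 | h3
  · exact h3
  · exfalso
    have h4 := h.U_K02 h3
    rw [cg_mul, hx2, h.c_K02] at h4
    exact h.K02_ne h4.symm

/-- the parity -/
theorem parity {x : G} (hxz : x * z = z * x) (hxe : x * e = e * x) (hx1 : cg x L1 = L1)
    (hx2 : cg x (cg ρ L1) = cg ρ L2) : cg x (cg n1 (cg ρ L1)) = cg n1 (cg ρ L2) := by
  rcases h.U_or hxz hxe hx1 with h3 | h3
  · exfalso
    have h4 := h.U_K02 h3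
    rw [hx2] at h4
    exact h.K02_ne h4.symm
  · have h4 := h.U_K12 h3
    rw [cg_mul] at h4
    have h5 : cg x (cg n1 (cg ρ L1)) = cg (n1 * n2)⁻¹ (cg n1 (cg ρ L1)) := by
      rw [← h4, cg_cg_inv, h4]
    rw [h5]
    exact cg_inv_eq h.c_K03

end InpFive

/-- the element `g` -/
structure Rot (z e ρ n1 n2 : G) (L1 L2 U : Subgroup G) (g : G) : Prop where
  g_z : g * z * g⁻¹ = e
  g_e : g * e * g⁻¹ = z * e
  g01 : cg g L1 = cg ρ L1
  g23 : cg g L2 = cg ρ L2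
  g02 : cg g (cg ρ L1) = cg n1 (cg ρ L1)
  g13 : cg g (cg ρ L2) = cg n1 (cg ρ L2)
  g12 : cg g (cg n1 (cg ρ L1)) = L1
  g03 : cg g (cg n1 (cg ρ L2)) = L2

namespace InpFive

variable (h : InpFive z e ρ n1 n2 h1 h2 L1 L2 U)

include h

theorem exists_rot : ∃ g, Rot z e ρ n1 n2 L1 L2 U g := by
  -- `g` up to the last condition
  have key : ∃ g, (g = ρ ∨ g = ρ * (n1 * n2)) ∧ cg g (cg ρ L1) = cg n1 (cg ρ L1) ∧ cg g (cg ρ L2) = cg n1 (cg ρ L2) := by
    rcases h.ρρ with ⟨h5, h6⟩ | ⟨h5, h6⟩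
    · exact ⟨ρ, Or.inl rfl, by rw [← cg_mul, h5], by rw [← cg_mul, h6]⟩
    · refine ⟨ρ * (n1 * n2), Or.inr rfl, ?_, ?_⟩
      · rw [cg_mul, h.c_K02, ← cg_mul, h6]
      · rw [cg_mul, h.c_K13, ← cg_mul, h5]
  obtain ⟨g, hg, g02, g13⟩ := key
  have g_z : g * z * g⁻¹ = e := by
    rcases hg with rfl | rfl
    · exact h.ρ_z
    · calc ρ * (n1 * n2) * z * (ρ * (n1 * n2))⁻¹ = ρ * (n1 * n2 * z) * (n1 * n2)⁻¹ * ρ⁻¹ := by group
        _ = ρ * z * ρ⁻¹ := by rw [h.c_z]; group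
        _ = e := h.ρ_z
  have g_e : g * e * g⁻¹ = z * e := by
    rcases hg with rfl | rfl
    · exact h.ρ_e
    · calc ρ * (n1 * n2) * e * (ρ * (n1 * n2))⁻¹ = ρ * (n1 * n2 * e) * (n1 * n2)⁻¹ * ρ⁻¹ := by group
        _ = ρ * e * ρ⁻¹ := by rw [h.c_e]; group
        _ = z * e := h.ρ_e
  have g01 : cg g L1 = cg ρ L1 := by
    rcases hg with rfl | rfl
    · rfl
    · rw [cg_mul, h.c_L1]
  have g23 : cg g L2 = cg ρ L2 := by
    rcases hg with rfl | rfl
    · rfl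
    · rw [cg_mul, h.c_L2]
  have g_ze : g * (z * e) * g⁻¹ = z := by
    rw [conj_mul3, g_z, g_e, h.ze, ← mul_assoc, h.ee, one_mul]
  -- `g³`
  have q1 : g * g * g * z = z * (g * g * g) := by
    have h3 : g * g * g * z * (g * g * g)⁻¹ = z := by
      calc g * g * g * z * (g * g * g)⁻¹ = g * (g * (g * z * g⁻¹) * g⁻¹) * g⁻¹ := by group
        _ = z := by rw [g_z, g_e, g_ze]
    exact mul_inv_eq_iff_eq_mul.1 h3
  have q2 : g * g * g * e = e * (g * g * g) := by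
    have h3 : g * g * g * e * (g * g * g)⁻¹ = e := by
      calc g * g * g * e * (g * g * g)⁻¹ = g * (g * (g * e * g⁻¹) * g⁻¹) * g⁻¹ := by group
        _ = e := by rw [g_e, g_ze, g_z]
    exact mul_inv_eq_iff_eq_mul.1 h3
  have q3 : cg (g * g * g) L1 = cg g (cg n1 (cg ρ L1)) := by
    rw [cg_mul, g01, cg_mul, g02]
  have q4 : cg (g * g * g) L2 = cg g (cg n1 (cg ρ L2)) := by
    rw [cg_mul, g23, cg_mul, g13]
  have main : cg g (cg n1 (cg ρ L1)) = L1 := by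
    rcases h.perm _ q1 with ⟨h3, h4⟩ | ⟨h3, h4⟩
    · rw [← q3]; exact h3
    · exfalso
      have r1 : cg g (cg n1 (cg ρ L1)) = L2 := by rw [← q3]; exact h3
      have r2 : cg g (cg n1 (cg ρ L2)) = L1 := by rw [← q4]; exact h4
      set w := ρ * (n1 * n2) * ρ⁻¹ with hw
      have s1 : g * g * g * w * z = z * (g * g * g * w) := by
        rw [mul_assoc _ w z, h.w_z, ← mul_assoc, q1, mul_assoc]
      have s2 : g * g * g * w * e = e * (g * g * g * w) := by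
        rw [mul_assoc _ w e, h.w_e, ← mul_assoc, q2, mul_assoc]
      have s3 : cg (g * g * g * w) L1 = L1 := by rw [cg_mul, h.w_L1, h4]
      have s4 : cg (g * g * g * w) (cg ρ L1) = cg ρ L2 := by
        rw [cg_mul, h.w_K02, cg_mul, cg_mul, g02, r1, g23]
      have s5 := h.parity s1 s2 s3 s4
      rw [cg_mul, h.w_K12, cg_mul, cg_mul, r2, g01, g02] at s5
      exact h.K12_ne s5
  refine ⟨g, ⟨g_z, g_e, g01, g23, g02, g13, main, ?_⟩⟩
  rw [← q4]
  exact h.perm' q1 (by rw [q3]; exact main)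

end InpFive

end Cfsg.Agent.LFourFive
end

-- part: LFourFive/Labels
section
/-!
# Statement S0510, type B5, `|F| = 5`, step (3): the labelling of the twelve root groups

Abstract form: a group `G` acts on a type `Ω`; `R i j` = the (two) root groups of the component `K i j`; `n1`, `n2`, `g`
act on the labels as `(0 1)`, `(2 3)` and the `3`-cycle `2 → 1 → 0 → 2`. If certain words fix all root groups there is a
labelling `X i j` of the root groups which is compatible with the action.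
-/

set_option autoImplicit false

namespace Cfsg.Agent.LFourFive.Labels

variable {G Ω : Type*} [Group G] [MulAction G Ω]

/-- the label permutation of `n₁` -/
def s1 : Equiv.Perm (Fin 4) := Equiv.swap (0 : Fin 4) 1
/-- the label permutation of `n₂` -/
def s2 : Equiv.Perm (Fin 4) := Equiv.swap (2 : Fin 4) 3
/-- the label permutation of `g` : `2 → 1 → 0 → 2` -/
def s3 : Equiv.Perm (Fin 4) := Equiv.swap (1 : Fin 4) 2 * Equiv.swap (0 : Fin 4) 1

/-- `y` fixes all root groups -/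
def Fix (R : Fin 4 → Fin 4 → Ω → Prop) (y : G) : Prop := ∀ i j, i ≠ j → ∀ P, R i j P → y • P = P

/-- the hypotheses -/
structure Lab (n1 n2 g : G) (R : Fin 4 → Fin 4 → Ω → Prop) : Prop where
  symm : ∀ i j, i ≠ j → ∀ P, R i j P → R j i P
  two : ∀ P Q S, R 0 2 P → R 0 2 Q → R 0 2 S → P ≠ Q → S = P ∨ S = Q
  r1 : ∀ i j, i ≠ j → ∀ P, R i j P → R (s1 i) (s1 j) (n1 • P)
  r2 : ∀ i j, i ≠ j → ∀ P, R i j P → R (s2 i) (s2 j) (n2 • P)
  r3 : ∀ i j, i ≠ j → ∀ P, R i j P → R (s3 i) (s3 j) (g • P)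
  m1 : ∀ P, R 0 1 P → n1 • P ≠ P
  f1 : ∀ P, R 2 3 P → n1 • P = P
  m2 : ∀ P, R 2 3 P → n2 • P ≠ P
  f2 : ∀ P, R 0 1 P → n2 • P = P
  comm : n1 * n2 = n2 * n1
  z1 : Fix R (n1 * n1)
  z2 : Fix R (n2 * n2)
  g3 : Fix R (g * g * g)
  y1 : Fix R (n1 * g * n1⁻¹ * g)
  y2 : Fix R ((g * g * (n1 * n2))⁻¹ * (n1 * n2 * g * (n1 * n2) * g))

variable {n1 n2 g : G} {R : Fin 4 → Fin 4 → Ω → Prop}

namespace Lab

variable (h : Lab n1 n2 g R)

include h

theorem n1_n1 {i j : Fin 4} (hij : i ≠ j) {P : Ω} (hP : R i j P) : n1 • n1 • P = P := by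
  rw [← mul_smul]; exact h.z1 i j hij P hP

theorem n2_n2 {i j : Fin 4} (hij : i ≠ j) {P : Ω} (hP : R i j P) : n2 • n2 • P = P := by
  rw [← mul_smul]; exact h.z2 i j hij P hP

theorem ggg {i j : Fin 4} (hij : i ≠ j) {P : Ω} (hP : R i j P) : g • g • g • P = P := by
  have := h.g3 i j hij P hP
  rwa [mul_smul, mul_smul] at this

theorem n2_n1 (P : Ω) : n2 • n1 • P = n1 • n2 • P := by
  rw [← mul_smul, ← h.comm, mul_smul]

/-- `n₁ g n₁⁻¹ g` fixes the root groups -/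
theorem y1' {i j : Fin 4} (hij : i ≠ j) {P : Ω} (hP : R i j P) (hgP : n1 • n1 • g • P = g • P) :
    n1 • g • n1 • g • P = P := by
  have h1 := h.y1 i j hij P hP
  rw [mul_smul, mul_smul, mul_smul] at h1
  have h2 : n1⁻¹ • g • P = n1 • g • P := by
    rw [inv_smul_eq_iff, hgP]
  rwa [h2] at h1

/-- `g² c = c g c g` on the root groups -/
theorem y2' {i j : Fin 4} (hij : i ≠ j) {P : Ω} (hP : R i j P) :
    g • g • n1 • n2 • P = n1 • n2 • g • n1 • n2 • g • P := by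
  have h1 := h.y2 i j hij P hP
  rw [mul_smul, inv_smul_eq_iff] at h1
  simp only [mul_smul] at h1
  exact h1.symm

/-- the elements of `R 1 2` -/
theorem two12 {P Q S : Ω} (hP : R 0 2 P) (hQ : R 0 2 Q) (hS : R 1 2 S) (hPQ : P ≠ Q) : S = n1 • P ∨ S = n1 • Q := by
  have h1 : R 0 2 (n1 • S) := h.r1 1 2 (by decide) S hS
  have h2 : n1 • n1 • S = S := h.n1_n1 (by decide) hS
  rcases h.two P Q _ hP hQ h1 hPQ with h3 | h3
  · left; rw [← h3, h2]
  · right; rw [← h3, h2]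

/-- (A) -/
theorem g_ne {P : Ω} (hP : R 0 2 P) : g • P ≠ n1 • P := by
  intro hA
  have h1 : R 2 1 (g • P) := h.r3 0 2 (by decide) P hP
  have h2 : R 1 0 (g • g • P) := h.r3 2 1 (by decide) _ h1
  have h3 : g • g • g • P = P := h.ggg (by decide) hP
  have h4 : n1 • n1 • P = P := h.n1_n1 (by decide) hP
  have h5 := h.y1' (P := g • g • P) (by decide) h2 (by rw [h3]; exact h4)
  rw [h3, ← hA] at h5
  exact h.m1 _ (h.symm 1 0 (by decide) _ h2) h5

theorem g_eq {P Q : Ω} (hP : R 0 2 P) (hQ : R 0 2 Q) (hPQ : P ≠ Q) : g • P = n1 • Q := by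
  have h1 : R 1 2 (g • P) := h.symm 2 1 (by decide) _ (h.r3 0 2 (by decide) P hP)
  rcases h.two12 hP hQ h1 hPQ with h2 | h2
  · exact absurd h2 (h.g_ne hP)
  · exact h2

/-- the two elements of `R 0 1` are `g • n₁ • P` and `g • n₁ • Q`, and `n₁` swaps them -/
theorem n1_swap {P Q : Ω} (hP : R 0 2 P) (hQ : R 0 2 Q) (hPQ : P ≠ Q) : n1 • g • n1 • P = g • n1 • Q := by
  have h0 : R 1 2 (n1 • P) := h.r1 0 2 (by decide) P hP
  have h1 : R 0 1 (g • n1 • P) := h.r3 1 2 (by decide) _ h0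
  have h2 : R 1 0 (n1 • g • n1 • P) := h.r1 0 1 (by decide) _ h1
  have h3 : R 0 2 (g • n1 • g • n1 • P) := h.symm 2 0 (by decide) _ (h.r3 0 1 (by decide) _ (h.symm 1 0 (by decide) _ h2))
  -- apply `g` twice
  have h4 : R 1 2 (g • g • n1 • g • n1 • P) := h.symm 2 1 (by decide) _ (h.r3 0 2 (by decide) _ h3)
  have h5 : g • g • g • n1 • g • n1 • P = n1 • g • n1 • P := h.ggg (by decide) h2
  rcases h.two12 hP hQ h4 hPQ with h6 | h6
  · exfalso
    rw [h6] at h5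
    exact h.m1 _ h1 h5.symm
  · rw [← h5, h6]

/-- the two elements of `R 2 3`: `g • n₂ • P` and `g • n₂ • Q`, and `n₂` swaps them -/
theorem n2_swap {P Q : Ω} (hP : R 0 2 P) (hQ : R 0 2 Q) (hPQ : P ≠ Q) : n2 • g • n2 • P = g • n2 • Q := by
  have h0 : R 0 3 (n2 • P) := h.r2 0 2 (by decide) P hP
  have h1 : R 2 3 (g • n2 • P) := h.r3 0 3 (by decide) _ h0
  have h2 : R 3 2 (n2 • g • n2 • P) := h.r2 2 3 (by decide) _ h1
  have h2' : R 2 3 (n2 • g • n2 • P) := h.symm 3 2 (by decide) _ h2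
  have h3 : R 1 3 (g • n2 • g • n2 • P) := h.r3 2 3 (by decide) _ h2'
  have h4 : R 0 3 (g • g • n2 • g • n2 • P) := h.r3 1 3 (by decide) _ h3
  have h5 : g • g • g • n2 • g • n2 • P = n2 • g • n2 • P := h.ggg (by decide) h2
  have h6 : R 0 2 (n2 • g • g • n2 • g • n2 • P) := h.r2 0 3 (by decide) _ h4
  have h7 : n2 • n2 • g • g • n2 • g • n2 • P = g • g • n2 • g • n2 • P := h.n2_n2 (by decide) h4
  rcases h.two P Q _ hP hQ h6 hPQ with h8 | h8
  · exfalso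
    rw [h8] at h7
    rw [← h7] at h5
    exact h.m2 _ h1 h5.symm
  · rw [h8] at h7
    rw [← h7] at h5
    exact h5.symm

/-- (B) -/
theorem g_c {P Q : Ω} (hP : R 0 2 P) (hQ : R 0 2 Q) (hPQ : P ≠ Q) : g • n1 • n2 • P = n2 • P := by
  -- `X 1 0 = g • g • P = g • n₁ • Q`
  have hgP : g • P = n1 • Q := h.g_eq hP hQ hPQ
  have hgQ : g • Q = n1 • P := h.g_eq hQ hP hPQ.symm
  have h0 : R 1 2 (n1 • P) := h.r1 0 2 (by decide) P hP
  have h0' : R 1 2 (n1 • Q) := h.r1 0 2 (by decide) Q hQ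
  have h1 : R 1 0 (g • g • P) := h.r3 2 1 (by decide) _ (h.r3 0 2 (by decide) P hP)
  have h2 := h.y2' (by decide) h1
  rw [h.f2 _ (h.symm 1 0 (by decide) _ h1), h.ggg (by decide) hP] at h2
  -- `n₁ X 1 0 = X 0 1`
  have h3 : n1 • g • g • P = g • n1 • P := by
    rw [hgP, h.n1_swap hQ hP hPQ.symm]
  rw [h3, h.ggg (by decide) h0] at h2
  -- `h2 : n₁ P = n₁ n₂ g n₁ n₂ P`
  have h4 : P = n2 • g • n1 • n2 • P := by
    have := congrArg (fun x => n1⁻¹ • x) h2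
    simpa only [inv_smul_smul] using this
  have h5 : R 0 3 (g • n1 • n2 • P) := h.r3 1 3 (by decide) _ (h.r1 0 3 (by decide) _ (h.r2 0 2 (by decide) P hP))
  have h6 := h.n2_n2 (by decide) h5
  rw [← h4] at h6
  exact h6.symm

end Lab

/-- the labelling -/
def X (n1 n2 g : G) (b P Q : Ω) : Fin 4 → Fin 4 → Ω :=
  ![![b, g • n1 • P, P, n2 • P], ![g • n1 • Q, b, n1 • P, n1 • n2 • P], ![Q, n1 • Q, b, g • n2 • P],
    ![n2 • Q, n1 • n2 • Q, g • n2 • Q, b]]

namespace Lab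

variable (h : Lab n1 n2 g R)

include h

section

variable {b P Q : Ω} (hP : R 0 2 P) (hQ : R 0 2 Q) (hPQ : P ≠ Q)

include hP hQ

theorem mem {i j : Fin 4} (hij : i ≠ j) : R i j (X n1 n2 g b P Q i j) := by
  have a02 : R 0 2 P := hP
  have a20 : R 2 0 Q := h.symm 0 2 (by decide) _ hQ
  have a12 : R 1 2 (n1 • P) := h.r1 0 2 (by decide) _ hP
  have a21 : R 2 1 (n1 • Q) := h.r1 2 0 (by decide) _ a20
  have a03 : R 0 3 (n2 • P) := h.r2 0 2 (by decide) _ hP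
  have a30 : R 3 0 (n2 • Q) := h.r2 2 0 (by decide) _ a20
  have a13 : R 1 3 (n1 • n2 • P) := h.r1 0 3 (by decide) _ a03
  have a31 : R 3 1 (n1 • n2 • Q) := h.r1 3 0 (by decide) _ a30
  have a01 : R 0 1 (g • n1 • P) := h.r3 1 2 (by decide) _ a12
  have a10 : R 1 0 (g • n1 • Q) := h.r3 2 1 (by decide) _ a21
  have a23 : R 2 3 (g • n2 • P) := h.r3 0 3 (by decide) _ a03
  have a32 : R 3 2 (g • n2 • Q) := h.r3 3 0 (by decide) _ a30
  fin_cases i <;> fin_cases j <;> first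
    | exact absurd rfl hij
    | assumption

include hPQ

omit h hP hQ in
theorem ne {i j : Fin 4} (hij : i ≠ j) : X n1 n2 g b P Q i j ≠ X n1 n2 g b P Q j i := by
  have k : ∀ a : G, a • P ≠ a • Q := fun a h1 => hPQ (smul_left_cancel a h1)
  have k12 : n1 • P ≠ n1 • Q := k n1
  have k03 : n2 • P ≠ n2 • Q := k n2
  have k13 : n1 • n2 • P ≠ n1 • n2 • Q := by
    rw [← mul_smul, ← mul_smul]; exact k _
  have k01 : g • n1 • P ≠ g • n1 • Q := by
    rw [← mul_smul, ← mul_smul]; exact k _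
  have k23 : g • n2 • P ≠ g • n2 • Q := by
    rw [← mul_smul, ← mul_smul]; exact k _
  fin_cases i <;> fin_cases j <;> [exact absurd rfl hij; exact k01; exact hPQ; exact k03; exact k01.symm; exact absurd rfl hij; exact k12; exact k13; exact hPQ.symm; exact k12.symm;
                                   exact absurd rfl hij; exact k23; exact k03.symm; exact k13.symm; exact k23.symm; exact absurd rfl hij]

theorem act1 {i j : Fin 4} (hij : i ≠ j) : n1 • X n1 n2 g b P Q i j = X n1 n2 g b P Q (s1 i) (s1 j) := by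
  have a02 : R 0 2 P := hP
  have a20 : R 2 0 Q := h.symm 0 2 (by decide) _ hQ
  have a03 : R 0 3 (n2 • P) := h.r2 0 2 (by decide) _ hP
  have a30 : R 3 0 (n2 • Q) := h.r2 2 0 (by decide) _ a20
  have a23 : R 2 3 (g • n2 • P) := h.r3 0 3 (by decide) _ a03
  have a32 : R 3 2 (g • n2 • Q) := h.r3 3 0 (by decide) _ a30
  have e01 : n1 • g • n1 • P = g • n1 • Q := h.n1_swap hP hQ hPQ
  have e10 : n1 • g • n1 • Q = g • n1 • P := h.n1_swap hQ hP hPQ.symm
  have e12 : n1 • n1 • P = P := h.n1_n1 (by decide) hP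
  have e21 : n1 • n1 • Q = Q := h.n1_n1 (by decide) hQ
  have e13 : n1 • n1 • n2 • P = n2 • P := h.n1_n1 (by decide) a03
  have e31 : n1 • n1 • n2 • Q = n2 • Q := h.n1_n1 (by decide) a30
  have e23 : n1 • g • n2 • P = g • n2 • P := h.f1 _ a23
  have e32 : n1 • g • n2 • Q = g • n2 • Q := h.f1 _ (h.symm 3 2 (by decide) _ a32)
  fin_cases i <;> fin_cases j <;> [exact absurd rfl hij; exact e01; rfl; rfl; exact e10; exact absurd rfl hij; exact e12; exact e13; rfl; exact e21; exact absurd rfl hij; exact e23; rfl;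
                                   exact e31; exact e32; exact absurd rfl hij]

theorem act2 {i j : Fin 4} (hij : i ≠ j) : n2 • X n1 n2 g b P Q i j = X n1 n2 g b P Q (s2 i) (s2 j) := by
  have a20 : R 2 0 Q := h.symm 0 2 (by decide) _ hQ
  have a12 : R 1 2 (n1 • P) := h.r1 0 2 (by decide) _ hP
  have a21 : R 2 1 (n1 • Q) := h.r1 2 0 (by decide) _ a20
  have a01 : R 0 1 (g • n1 • P) := h.r3 1 2 (by decide) _ a12
  have a10 : R 1 0 (g • n1 • Q) := h.r3 2 1 (by decide) _ a21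
  have e23 : n2 • g • n2 • P = g • n2 • Q := h.n2_swap hP hQ hPQ
  have e32 : n2 • g • n2 • Q = g • n2 • P := h.n2_swap hQ hP hPQ.symm
  have e03 : n2 • n2 • P = P := h.n2_n2 (by decide) hP
  have e30 : n2 • n2 • Q = Q := h.n2_n2 (by decide) hQ
  have e12 : n2 • n1 • P = n1 • n2 • P := h.n2_n1 P
  have e21 : n2 • n1 • Q = n1 • n2 • Q := h.n2_n1 Q
  have e13 : n2 • n1 • n2 • P = n1 • P := by rw [h.n2_n1, e03]
  have e31 : n2 • n1 • n2 • Q = n1 • Q := by rw [h.n2_n1, e30]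
  have e01 : n2 • g • n1 • P = g • n1 • P := h.f2 _ a01
  have e10 : n2 • g • n1 • Q = g • n1 • Q := h.f2 _ (h.symm 1 0 (by decide) _ a10)
  fin_cases i <;> fin_cases j <;> [exact absurd rfl hij; exact e01; rfl; exact e03; exact e10; exact absurd rfl hij; exact e12; exact e13; rfl; exact e21; exact absurd rfl hij;
                                   exact e23; exact e30; exact e31; exact e32; exact absurd rfl hij]

theorem act3 {i j : Fin 4} (hij : i ≠ j) : g • X n1 n2 g b P Q i j = X n1 n2 g b P Q (s3 i) (s3 j) := by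
  have a12 : R 1 2 (n1 • P) := h.r1 0 2 (by decide) _ hP
  have a12' : R 1 2 (n1 • Q) := h.r1 0 2 (by decide) _ hQ
  have a03 : R 0 3 (n2 • P) := h.r2 0 2 (by decide) _ hP
  have a03' : R 0 3 (n2 • Q) := h.r2 0 2 (by decide) _ hQ
  have a13 : R 1 3 (n1 • n2 • P) := h.r1 0 3 (by decide) _ a03
  have a13' : R 1 3 (n1 • n2 • Q) := h.r1 0 3 (by decide) _ a03'
  have e02 : g • P = n1 • Q := h.g_eq hP hQ hPQ
  have e20 : g • Q = n1 • P := h.g_eq hQ hP hPQ.symm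
  have e13 : g • n1 • n2 • P = n2 • P := h.g_c hP hQ hPQ
  have e31 : g • n1 • n2 • Q = n2 • Q := h.g_c hQ hP hPQ.symm
  have e01 : g • g • n1 • P = Q := by
    rw [← e20]; exact h.ggg (by decide) hQ
  have e10 : g • g • n1 • Q = P := by
    rw [← e02]; exact h.ggg (by decide) hP
  have e23 : g • g • n2 • P = n1 • n2 • P := by
    conv_lhs => rw [← e13]
    exact h.ggg (by decide) a13
  have e32 : g • g • n2 • Q = n1 • n2 • Q := by
    conv_lhs => rw [← e31]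
    exact h.ggg (by decide) a13'
  fin_cases i <;> fin_cases j <;> [exact absurd rfl hij; exact e01; exact e02; rfl; exact e10; exact absurd rfl hij; rfl; exact e13; exact e20; rfl; exact absurd rfl hij; exact e23; rfl;
                                   exact e31; exact e32; exact absurd rfl hij]

end

end Lab

end Cfsg.Agent.LFourFive.Labels
end

-- part: LFourFive/LabelsBase
section
/-!
# Statement S0510, type B5, `|F| = 5`, steps (3), (4): `Base` from the labelling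

`exists_labels` = `Labels` for the conjugation action on subgroups; `Pre'.base` = all fields of `Base` from the data at
the root group `X 0 2`.
-/

set_option autoImplicit false

namespace Cfsg.Agent.LFourFive.LabelsBase

open Matrix Labels

universe u

variable {G : Type u} [Group G]

theorem cj_one (H : Subgroup G) : cj 1 H = H := by
  ext x
  constructor
  · rintro ⟨y, hy, rfl⟩
    simpa using hy
  · intro hx
    exact ⟨x, hx, by simp⟩

/-- `G` acts on its subgroups by `cj` -/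
@[reducible] def cjAct (G : Type u) [Group G] : MulAction G (Subgroup G) where
  smul := cj
  one_smul := cj_one
  mul_smul := fun a b H => (SixOf.cj_cj a b H).symm

/-- the hypotheses, for the action by conjugation -/
abbrev CLab (n1 n2 g : G) (R : Fin 4 → Fin 4 → Subgroup G → Prop) : Prop :=
  @Lab G (Subgroup G) _ (cjAct G) n1 n2 g R

theorem exists_labels {n1 n2 g : G} {R : Fin 4 → Fin 4 → Subgroup G → Prop} (h : CLab n1 n2 g R)
    {P Q : Subgroup G} (hP : R 0 2 P) (hQ : R 0 2 Q) (hPQ : P ≠ Q) :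
    ∃ X : Fin 4 → Fin 4 → Subgroup G, X 0 2 = P ∧ X 2 0 = Q ∧ X 1 2 = cj n1 P ∧ X 0 3 = cj n2 P ∧
      X 1 3 = cj n1 (cj n2 P) ∧ X 2 1 = cj n1 Q ∧ X 3 0 = cj n2 Q ∧ X 3 1 = cj n1 (cj n2 Q) ∧
      (∀ i j, i ≠ j → R i j (X i j)) ∧ (∀ i j, i ≠ j → X i j ≠ X j i) ∧
      (∀ i j, i ≠ j → cj n1 (X i j) = X (Equiv.swap (0 : Fin 4) 1 i) (Equiv.swap (0 : Fin 4) 1 j)) ∧
      (∀ i j, i ≠ j → cj n2 (X i j) = X (Equiv.swap (2 : Fin 4) 3 i) (Equiv.swap (2 : Fin 4) 3 j)) ∧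
      (∀ i j, i ≠ j → cj g (X i j) = X (SixOf.cyc i) (SixOf.cyc j)) := by
  let _ := cjAct G
  have hc : SixOf.cyc = s3 := by decide
  refine ⟨Labels.X n1 n2 g ⊥ P Q, rfl, rfl, rfl, rfl, rfl, rfl, rfl, rfl, fun i j hij => h.mem hP hQ hij,
    fun i j hij => Lab.ne hPQ hij, fun i j hij => h.act1 hP hQ hPQ hij, fun i j hij => h.act2 hP hQ hPQ hij, ?_⟩
  rw [hc]
  exact fun i j hij => h.act3 hP hQ hPQ hij

/-- the data which give `Base` -/
structure Pre' (p : ℕ) (z e n1 n2 g : G) (X : Fin 4 → Fin 4 → Subgroup G) : Prop where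
  sqz : z * z = 1
  sqe : e * e = 1
  e_ne : e ≠ 1
  ze : z * e = e * z
  n1z : n1 * z = z * n1
  n1e : n1 * e * n1⁻¹ = e * z
  n2z : n2 * z = z * n2
  n2e : n2 * e * n2⁻¹ = e * z
  gz : g * z * g⁻¹ = e
  ge : g * e * g⁻¹ = z * e
  a1 : ∀ i j, i ≠ j → cj n1 (X i j) = X (Equiv.swap (0 : Fin 4) 1 i) (Equiv.swap (0 : Fin 4) 1 j)
  a2 : ∀ i j, i ≠ j → cj n2 (X i j) = X (Equiv.swap (2 : Fin 4) 3 i) (Equiv.swap (2 : Fin 4) 3 j)
  a3 : ∀ i j, i ≠ j → cj g (X i j) = X (SixOf.cyc i) (SixOf.cyc j)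
  n2mem : n2 ∈ K X 2 3
  card : Nat.card (X 0 2) = p
  iso : Nonempty (K X 0 2 ≃* SpecialLinearGroup (Fin 2) (ZMod p))
  emem : e ∈ K X 0 2
  fix : ∀ x ∈ X 0 2, e * x = x * e
  inv : ∀ x ∈ X 0 2, z * x * z⁻¹ = x⁻¹
  cK : ∀ x ∈ X 0 2, ∀ y ∈ K X 1 3, x * y = y * x
  row : ∀ x ∈ X 0 2, ∀ y ∈ X 0 3, x * y = y * x
  col : ∀ x ∈ X 0 2, ∀ y ∈ X 1 2, x * y = y * x

namespace Pre'

variable {p : ℕ} {z e n1 n2 g : G} {X : Fin 4 → Fin 4 → Subgroup G} (h : Pre' p z e n1 n2 g X)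

theorem conj_mul (s a b : G) : s * (a * b) * s⁻¹ = s * a * s⁻¹ * (s * b * s⁻¹) := by group

private theorem all4 {P : Fin 4 → Fin 4 → Prop} (h01 : P 0 1) (h02 : P 0 2) (h03 : P 0 3) (h10 : P 1 0) (h12 : P 1 2)
    (h13 : P 1 3) (h20 : P 2 0) (h21 : P 2 1) (h23 : P 2 3) (h30 : P 3 0) (h31 : P 3 1) (h32 : P 3 2) :
    ∀ i j, i ≠ j → P i j := by
  intro i j hij
  fin_cases i <;> fin_cases j <;> first | exact absurd rfl hij | assumption

private theorem sw01 : ∀ i : Fin 4, Equiv.swap (0 : Fin 4) 1 i = ![1, 0, 2, 3] i := by decide +kernel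

private theorem sw23 : ∀ i : Fin 4, Equiv.swap (2 : Fin 4) 3 i = ![0, 1, 3, 2] i := by decide +kernel

private theorem swc : ∀ i : Fin 4, SixOf.cyc i = ![2, 0, 1, 3] i := by decide +kernel

/-- conjugation on the three involutions -/
theorem zz_act {s : G} {σ : Equiv.Perm (Fin 4)} {a b : G} (ha : s * z * s⁻¹ = a) (hb : s * e * s⁻¹ = b)
    (hσ : ∀ i j, i ≠ j → zz a b i j = zz z e (σ i) (σ j)) {i j : Fin 4} (hij : i ≠ j) :
    s * zz z e i j * s⁻¹ = zz z e (σ i) (σ j) := by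
  rw [← hσ i j hij]
  have hab : s * (e * z) * s⁻¹ = b * a := by rw [conj_mul, ha, hb]
  fin_cases i <;> fin_cases j <;> first
    | exact absurd rfl hij | exact ha | exact hb | exact hab

include h

theorem act : ∀ σ, SixOf.Act X z e σ := by
  have hz2 : ∀ a : G, z * (z * a) = a := fun a => by rw [← mul_assoc, h.sqz, one_mul]
  have he2 : ∀ a : G, e * (e * a) = a := fun a => by rw [← mul_assoc, h.sqe, one_mul]
  have hze' : ∀ a : G, z * (e * a) = e * (z * a) := fun a => by rw [← mul_assoc, h.ze, mul_assoc]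
  refine SixOf.act_of_gens ?_ ?_ ?_
  · refine ⟨n1, h.a1, fun i j hij => zz_act (a := z) (b := e * z) ?_ h.n1e ?_ hij⟩
    · rw [h.n1z]; group
    · have e1 : e * z * z = e := by rw [mul_assoc, h.sqz, mul_one]
      simp only [sw01]
      exact all4 (Eq.refl z) (Eq.refl (e * z)) e1 (Eq.refl z) e1 (Eq.refl (e * z)) (Eq.refl (e * z)) e1 (Eq.refl z) e1 (Eq.refl (e * z)) (Eq.refl z)
  · refine ⟨n2, h.a2, fun i j hij => zz_act (a := z) (b := e * z) ?_ h.n2e ?_ hij⟩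
    · rw [h.n2z]; group
    · have e1 : e * z * z = e := by rw [mul_assoc, h.sqz, mul_one]
      simp only [sw23]
      exact all4 (Eq.refl z) (Eq.refl (e * z)) e1 (Eq.refl z) e1 (Eq.refl (e * z)) (Eq.refl (e * z)) e1 (Eq.refl z) e1 (Eq.refl (e * z)) (Eq.refl z)
  · refine ⟨g, h.a3, fun i j hij => zz_act (a := e) (b := z * e) h.gz h.ge ?_ hij⟩
    have e1 : z * e * e = z := by rw [mul_assoc, h.sqe, mul_one]
    have e2 : z * e = e * z := h.ze
    simp only [swc]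
    exact all4 (Eq.refl e) e2 e1 (Eq.refl e) e1 e2 e2 e1 (Eq.refl e) e1 e2 (Eq.refl e)

/-- `zz (σ 0) (σ 1)` inverts `X (σ 0) (σ 2)` -/
theorem inv_act (σ : Equiv.Perm (Fin 4)) {x : G} (hx : x ∈ X (σ 0) (σ 2)) :
    zz z e (σ 0) (σ 1) * x * (zz z e (σ 0) (σ 1))⁻¹ = x⁻¹ := by
  obtain ⟨s, hs1, hs2⟩ := h.act σ
  rw [← hs1 0 2 (by decide)] at hx
  rw [← hs2 0 1 (by decide)]
  obtain ⟨y, hy, rfl⟩ := hx
  change s * z * s⁻¹ * (s * y * s⁻¹) * (s * z * s⁻¹)⁻¹ = (s * y * s⁻¹)⁻¹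
  have h1 := h.inv y hy
  calc s * z * s⁻¹ * (s * y * s⁻¹) * (s * z * s⁻¹)⁻¹ = s * (z * y * z⁻¹) * s⁻¹ := by group
    _ = s * y⁻¹ * s⁻¹ := by rw [h1]
    _ = _ := by group

theorem card_act (σ : Equiv.Perm (Fin 4)) : Nat.card (X (σ 0) (σ 2)) = p := by
  obtain ⟨s, hs1, -⟩ := h.act σ
  rw [← hs1 0 2 (by decide), ← h.card]
  exact Nat.card_congr ((X 0 2).equivMapOfInjective _ (MulAut.conj s).injective).toEquiv.symm

/-- the permutation `0 → 0, 1 → 2, 2 → 3, 3 → 1` -/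
def p1 : Equiv.Perm (Fin 4) := Equiv.swap (1 : Fin 4) 2 * Equiv.swap (2 : Fin 4) 3

/-- the permutation `0 → 1, 1 → 3, 2 → 2, 3 → 0` -/
def p2 : Equiv.Perm (Fin 4) := Equiv.swap (0 : Fin 4) 1 * Equiv.swap (1 : Fin 4) 3

theorem inv03 {x : G} (hx : x ∈ X 0 3) : e * x * e⁻¹ = x⁻¹ := h.inv_act p1 hx

theorem inv12 {x : G} (hx : x ∈ X 1 2) : e * x * e⁻¹ = x⁻¹ := h.inv_act p2 hx

theorem card03 : Nat.card (X 0 3) = p := h.card_act p1

theorem card12 : Nat.card (X 1 2) = p := h.card_act p2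

theorem base [hp : Fact p.Prime] (h3 : 3 < p) {Q : Subgroup G} (hQ : StepFive.Core e (X 0 2) (K X 1 3) Q) :
    Base p X z e := by
  have hodd : Odd p := hp.out.odd_of_ne_two (by omega)
  have ord : ∀ (S : Subgroup G), Nat.card S = p → ∀ x ∈ S, Odd (orderOf x) := by
    intro S hS x hx
    have h1 : orderOf x ∣ p := by
      rw [← hS]
      have := orderOf_dvd_natCard (⟨x, hx⟩ : S)
      rwa [Subgroup.orderOf_mk] at this
    exact hodd.of_dvd_nat h1
  have q03 : X 0 3 ≤ Q := by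
    intro x hx
    refine hQ.mem x ?_ (ord _ h.card03 x hx) (h.inv03 hx)
    rw [StepFive.mem_cent]
    exact fun y hy => (h.row y hy x hx).symm
  have q12 : X 1 2 ≤ Q := by
    intro x hx
    refine hQ.mem x ?_ (ord _ h.card12 x hx) (h.inv12 hx)
    rw [StepFive.mem_cent]
    exact fun y hy => (h.col y hy x hx).symm
  -- the element `m = g n₂ g⁻¹ ∈ K 1 3` interchanges the labels `1`, `3`
  have hm1 : ∀ i j, i ≠ j → cj (g * n2 * g⁻¹) (X i j) = X (Equiv.swap (1 : Fin 4) 3 i) (Equiv.swap (1 : Fin 4) 3 j) := by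
    intro i j hij
    have e0 : cj g⁻¹ (X i j) = X (SixOf.cyc⁻¹ i) (SixOf.cyc⁻¹ j) := by
      have h1 := h.a3 (SixOf.cyc⁻¹ i) (SixOf.cyc⁻¹ j) (fun h2 => hij (SixOf.cyc⁻¹.injective h2))
      rw [← Equiv.Perm.mul_apply, ← Equiv.Perm.mul_apply, mul_inv_cancel, Equiv.Perm.one_apply, Equiv.Perm.one_apply] at h1
      rw [← h1, SixOf.cj_cj, inv_mul_cancel, cj_one]
    rw [← SixOf.cj_cj, ← SixOf.cj_cj, e0, h.a2 _ _ (fun h2 => hij (SixOf.cyc⁻¹.injective h2)),
      h.a3 _ _ (fun h2 => hij (SixOf.cyc⁻¹.injective ((Equiv.swap (2 : Fin 4) 3).injective h2)))]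
    have e1 : ∀ k, SixOf.cyc (Equiv.swap (2 : Fin 4) 3 (SixOf.cyc⁻¹ k)) = Equiv.swap (1 : Fin 4) 3 k := by decide
    rw [e1, e1]
  have hm2 : g * n2 * g⁻¹ ∈ K X 1 3 := by
    have h1 : K X 1 3 = cj g (K X 2 3) := by
      rw [K, K]
      change _ = Subgroup.map _ _
      rw [Subgroup.map_sup]
      change _ = cj g (X 2 3) ⊔ cj g (X 3 2)
      rw [h.a3 2 3 (by decide), h.a3 3 2 (by decide)]
      rfl
    rw [h1]
    exact ⟨n2, h.n2mem, rfl⟩
  have hmc : g * n2 * g⁻¹ ∈ Subgroup.centralizer (X 0 2 : Set G) := by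
    rw [StepFive.mem_cent]
    exact fun x hx => (h.cK x hx _ hm2).symm
  have q01 : X 0 1 ≤ Q := by
    have h1 := hm1 0 3 (by decide)
    have h2 : X 0 1 = cj (g * n2 * g⁻¹) (X 0 3) := h1.symm
    rw [h2]
    rintro _ ⟨y, hy, rfl⟩
    exact hQ.norm _ hmc y (q03 hy)
  have q32 : X 3 2 ≤ Q := by
    have h1 := hm1 1 2 (by decide)
    have h2 : X 3 2 = cj (g * n2 * g⁻¹) (X 1 2) := h1.symm
    rw [h2]
    rintro _ ⟨y, hy, rfl⟩
    exact hQ.norm _ hmc y (q12 hy)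
  exact
    { sqz := h.sqz
      sqe := h.sqe
      ze := h.ze
      act := h.act
      card := h.card
      iso := h.iso
      z_mem := h.emem
      z_ne := h.e_ne
      z_fix := h.fix
      z_row := h.inv
      row := h.row
      col := h.col
      opp := fun x hx y hy => h.cK x hx y ((le_sup_left : X 1 3 ≤ K X 1 3) hy)
      com := fun x hx y hy => hQ.comm x (q01 hx) y (q12 hy)
      core := ⟨Q, hQ.odd, fun y hy => hQ.exists_mul y (by rw [StepFive.mem_cent]; exact hy),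
        fun q hq hqe => hQ.fix q hq hqe.symm, hQ.comm, q01, q03, q12, q32⟩ }

end Pre'

end Cfsg.Agent.LFourFive.LabelsBase
end

-- part: LFourFive/Lab
section
/-!
# `CLab` from `InpFive`
-/

set_option autoImplicit false
set_option linter.unusedSectionVars false

namespace Cfsg.Agent.LFourFive

open Subgroup Cfsg.Agent.LFourR

universe u

variable {G : Type u} [Group G] {z e ρ n1 n2 h1 h2 : G} {L1 L2 U : Subgroup G}

/-- the components -/
def KK (ρ n1 : G) (L1 L2 : Subgroup G) : Fin 4 → Fin 4 → Subgroup G :=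
  ![![⊥, L1, cg ρ L1, cg n1 (cg ρ L2)], ![L1, ⊥, cg n1 (cg ρ L1), cg ρ L2],
    ![cg ρ L1, cg n1 (cg ρ L1), ⊥, L2], ![cg n1 (cg ρ L2), cg ρ L2, L2, ⊥]]

theorem KK_symm (ρ n1 : G) (L1 L2 : Subgroup G) (i j : Fin 4) : KK ρ n1 L1 L2 i j = KK ρ n1 L1 L2 j i := by
  fin_cases i <;> fin_cases j <;> rfl

namespace InpFive

variable (h : InpFive z e ρ n1 n2 h1 h2 L1 L2 U)

include h

theorem iso2 : Nonempty (L2 ≃* Matrix.SpecialLinearGroup (Fin 2) (ZMod 5)) := by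
  obtain ⟨f⟩ := h.iso1
  rw [← h.swap]
  exact ⟨(cgEquiv _ L1).symm.trans f⟩

theorem good1 : Good z e U L1 ∧ (∀ P, RR z e L1 P → cg n1 P ≠ P) ∧ ∀ P, RR z e L1 P → ∀ x ∈ P, e * x * e⁻¹ = x⁻¹ := by
  obtain ⟨A, B, r⟩ := exists_roots h.iso1 h.h1_mem h.h1_sq h.zz h.z_ne
  exact ⟨r.good h.z_L1 h.e_L1 (fun u hu => h.U_L1 hu) (fun u hu => h.U_comm u hu _ h.h1_U) h.iso1,
    fun P hP => r.move h.e_L1 h.n1_L1 h.n1_h1 hP, fun P hP => r.inv h.e_L1 hP⟩

theorem good2 : Good z e U L2 ∧ (∀ P, RR z e L2 P → cg n2 P ≠ P) := by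
  obtain ⟨A, B, r⟩ := exists_roots h.iso2 h.h2_mem h.h2_sq h.zz h.z_ne
  exact ⟨r.good h.z_L2 h.e_L2 (fun u hu => h.U_L2 hu) (fun u hu => h.U_comm u hu _ h.h2_U) h.iso2,
    fun P hP => r.move h.e_L2 h.n2_L2 h.n2_h2 hP⟩

theorem good02 : Good z e U (cg ρ L1) := h.good1.1.conj h.ρ_V h.U_ρ

theorem good13 : Good z e U (cg ρ L2) := h.good2.1.conj h.ρ_V h.U_ρ

theorem good12 : Good z e U (cg n1 (cg ρ L1)) := by
  rcases h.ρρ with ⟨h5, h6⟩ | ⟨h5, h6⟩
  · rw [← h5]; exact h.good1.1.conj h.ρρ_V h.ρρ_U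
  · rw [← h6]; exact h.good2.1.conj h.ρρ_V h.ρρ_U

theorem good03 : Good z e U (cg n1 (cg ρ L2)) := by
  rcases h.ρρ with ⟨h5, h6⟩ | ⟨h5, h6⟩
  · rw [← h6]; exact h.good2.1.conj h.ρρ_V h.ρρ_U
  · rw [← h5]; exact h.good1.1.conj h.ρρ_V h.ρρ_U

theorem good {i j : Fin 4} (hij : i ≠ j) : Good z e U (KK ρ n1 L1 L2 i j) := by
  fin_cases i <;> fin_cases j <;> [exact absurd rfl hij; exact h.good1.1; exact h.good02; exact h.good03; exact h.good1.1; exact absurd rfl hij; exact h.good12; exact h.good13;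
                                   exact h.good02; exact h.good12; exact absurd rfl hij; exact h.good2.1; exact h.good03; exact h.good13; exact h.good2.1; exact absurd rfl hij]

theorem K_n1 {i j : Fin 4} (hij : i ≠ j) :
    cg n1 (KK ρ n1 L1 L2 i j) = KK ρ n1 L1 L2 (Labels.s1 i) (Labels.s1 j) := by
  fin_cases i <;> fin_cases j <;> [exact absurd rfl hij; exact h.n1_L1; rfl; exact h.n1_K03; exact h.n1_L1; exact absurd rfl hij; exact h.n1_K12; rfl; rfl; exact h.n1_K12;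
                                   exact absurd rfl hij; exact h.n1_L2; exact h.n1_K03; rfl; exact h.n1_L2; exact absurd rfl hij]

theorem K_n2 {i j : Fin 4} (hij : i ≠ j) :
    cg n2 (KK ρ n1 L1 L2 i j) = KK ρ n1 L1 L2 (Labels.s2 i) (Labels.s2 j) := by
  fin_cases i <;> fin_cases j <;> [exact absurd rfl hij; exact h.n2_L1; exact h.n2_K02; exact h.n2_K03; exact h.n2_L1; exact absurd rfl hij; exact h.n2_K12; exact h.n2_K13;
                                   exact h.n2_K02; exact h.n2_K12; exact absurd rfl hij; exact h.n2_L2; exact h.n2_K03; exact h.n2_K13; exact h.n2_L2; exact absurd rfl hij]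

theorem K_g {g : G} (r : Rot z e ρ n1 n2 L1 L2 U g) {i j : Fin 4} (hij : i ≠ j) :
    cg g (KK ρ n1 L1 L2 i j) = KK ρ n1 L1 L2 (Labels.s3 i) (Labels.s3 j) := by
  fin_cases i <;> fin_cases j <;> [exact absurd rfl hij; exact r.g01; exact r.g02; exact r.g03; exact r.g01; exact absurd rfl hij; exact r.g12; exact r.g13; exact r.g02; exact r.g12;
                                   exact absurd rfl hij; exact r.g23; exact r.g03; exact r.g13; exact r.g23; exact absurd rfl hij]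

/-- `U` fixes the root groups -/
theorem fixU {u : G} (hu : u ∈ U) : @Labels.Fix G (Subgroup G) _ (LabelsBase.cjAct G)
    (fun i j => RR z e (KK ρ n1 L1 L2 i j)) u :=
  fun _ _ hij P hP => (h.good hij).fix u hu P hP

end InpFive

namespace Rot

variable {g : G} (r : Rot z e ρ n1 n2 L1 L2 U g) (h : InpFive z e ρ n1 n2 h1 h2 L1 L2 U)

include r h

theorem g_ze : g * (z * e) * g⁻¹ = z := by
  rw [conj_mul3, r.g_z, r.g_e, h.ze, ← mul_assoc, h.ee, one_mul]

theorem g_V : cg g (closure ({z, e} : Set G)) = closure {z, e} :=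
  h.nv r.g_z r.g_e (a' := z * e) (b' := z) (by nth_rewrite 1 [← r.g_ze h]; group) (by nth_rewrite 1 [← r.g_z]; group)
    h.e_V h.ze_V h.ze_V h.z_V

theorem ggg_U : g * g * g ∈ U := by
  have q1 : g * g * g * z = z * (g * g * g) := by
    have h3 : g * g * g * z * (g * g * g)⁻¹ = z := by
      calc g * g * g * z * (g * g * g)⁻¹ = g * (g * (g * z * g⁻¹) * g⁻¹) * g⁻¹ := by group
        _ = z := by rw [r.g_z, r.g_e, r.g_ze h]
    exact mul_inv_eq_iff_eq_mul.1 h3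
  have q2 : g * g * g * e = e * (g * g * g) := by
    have h3 : g * g * g * e * (g * g * g)⁻¹ = e := by
      calc g * g * g * e * (g * g * g)⁻¹ = g * (g * (g * e * g⁻¹) * g⁻¹) * g⁻¹ := by group
        _ = e := by rw [r.g_e, r.g_ze h, r.g_z]
    exact mul_inv_eq_iff_eq_mul.1 h3
  refine h.mem_U q1 q2 ?_ ?_
  · rw [cg_mul, r.g01, cg_mul, r.g02, r.g12]
  · rw [cg_mul, r.g02, cg_mul, r.g12, r.g01]

theorem y1_U : n1 * g * n1⁻¹ * g ∈ U := by
  have hn1 : n1⁻¹ = n1 * z := by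
    rw [inv_eq_iff_mul_eq_one, ← mul_assoc, h.n1_sq, h.zz]
  have e1 : n1⁻¹ * e * n1 = z * e := by nth_rewrite 1 [← h.n1_ze]; group
  have e2 : n1⁻¹ * (z * e) * n1 = e := by nth_rewrite 1 [← h.n1_e]; group
  have q1 : n1 * g * n1⁻¹ * g * z = z * (n1 * g * n1⁻¹ * g) := by
    have h3 : n1 * g * n1⁻¹ * g * z * (n1 * g * n1⁻¹ * g)⁻¹ = z := by
      calc n1 * g * n1⁻¹ * g * z * (n1 * g * n1⁻¹ * g)⁻¹ = n1 * (g * (n1⁻¹ * (g * z * g⁻¹) * n1) * g⁻¹) * n1⁻¹ := by group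
        _ = z := by rw [r.g_z, e1, r.g_ze h, h.n1_z, mul_inv_cancel_right]
    exact mul_inv_eq_iff_eq_mul.1 h3
  have q2 : n1 * g * n1⁻¹ * g * e = e * (n1 * g * n1⁻¹ * g) := by
    have h3 : n1 * g * n1⁻¹ * g * e * (n1 * g * n1⁻¹ * g)⁻¹ = e := by
      calc n1 * g * n1⁻¹ * g * e * (n1 * g * n1⁻¹ * g)⁻¹ = n1 * (g * (n1⁻¹ * (g * e * g⁻¹) * n1) * g⁻¹) * n1⁻¹ := by group
        _ = e := by rw [r.g_e, e2, r.g_e, h.n1_ze]
    exact mul_inv_eq_iff_eq_mul.1 h3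
  have i1 : cg n1⁻¹ (cg ρ L1) = cg n1 (cg ρ L1) := cg_inv_eq h.n1_K12
  have i2 : cg n1⁻¹ (cg n1 (cg ρ L1)) = cg ρ L1 := cg_cg_inv _ _
  refine h.mem_U q1 q2 ?_ ?_
  · rw [cg_mul, r.g01, cg_mul, i1, cg_mul, r.g12, h.n1_L1]
  · rw [cg_mul, r.g02, cg_mul, i2, cg_mul, r.g02, h.n1_K12]

theorem y2_U : (g * g * (n1 * n2))⁻¹ * (n1 * n2 * g * (n1 * n2) * g) ∈ U := by
  have hcz : ∀ x : G, n1 * n2 * z * (n1 * n2)⁻¹ = z := fun _ => by rw [h.c_z, mul_inv_cancel_right]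
  have cz : n1 * n2 * z * (n1 * n2)⁻¹ = z := by rw [h.c_z, mul_inv_cancel_right]
  have ce : n1 * n2 * e * (n1 * n2)⁻¹ = e := by rw [h.c_e, mul_inv_cancel_right]
  have cze : n1 * n2 * (z * e) * (n1 * n2)⁻¹ = z * e := by rw [conj_mul3, cz, ce]
  set c := n1 * n2 with hc
  have a1 : c * g * c * g * z * (c * g * c * g)⁻¹ = z * e := by
    calc c * g * c * g * z * (c * g * c * g)⁻¹ = c * (g * (c * (g * z * g⁻¹) * c⁻¹) * g⁻¹) * c⁻¹ := by group
      _ = z * e := by rw [r.g_z, ce, r.g_e, cze]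
  have a2 : c * g * c * g * e * (c * g * c * g)⁻¹ = z := by
    calc c * g * c * g * e * (c * g * c * g)⁻¹ = c * (g * (c * (g * e * g⁻¹) * c⁻¹) * g⁻¹) * c⁻¹ := by group
      _ = z := by rw [r.g_e, cze, r.g_ze h, cz]
  have b1 : g * g * c * z * (g * g * c)⁻¹ = z * e := by
    calc g * g * c * z * (g * g * c)⁻¹ = g * (g * (c * z * c⁻¹) * g⁻¹) * g⁻¹ := by group
      _ = z * e := by rw [cz, r.g_z, r.g_e]
  have b2 : g * g * c * e * (g * g * c)⁻¹ = z := by
    calc g * g * c * e * (g * g * c)⁻¹ = g * (g * (c * e * c⁻¹) * g⁻¹) * g⁻¹ := by group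
      _ = z := by rw [ce, r.g_e, r.g_ze h]
  have q1 : (g * g * c)⁻¹ * (c * g * c * g) * z = z * ((g * g * c)⁻¹ * (c * g * c * g)) := by
    calc (g * g * c)⁻¹ * (c * g * c * g) * z
        = (g * g * c)⁻¹ * (c * g * c * g * z * (c * g * c * g)⁻¹) * (c * g * c * g) := by group
      _ = (g * g * c)⁻¹ * (g * g * c * z * (g * g * c)⁻¹) * (c * g * c * g) := by rw [a1, b1]
      _ = _ := by group
  have q2 : (g * g * c)⁻¹ * (c * g * c * g) * e = e * ((g * g * c)⁻¹ * (c * g * c * g)) := by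
    calc (g * g * c)⁻¹ * (c * g * c * g) * e
        = (g * g * c)⁻¹ * (c * g * c * g * e * (c * g * c * g)⁻¹) * (c * g * c * g) := by group
      _ = (g * g * c)⁻¹ * (g * g * c * e * (g * g * c)⁻¹) * (c * g * c * g) := by rw [a2, b2]
      _ = _ := by group
  have c1 : cg (c * g * c * g) L1 = cg (g * g * c) L1 := by
    rw [cg_mul, r.g01, cg_mul, h.c_K02, cg_mul, r.g13, h.c_K03, cg_mul, h.c_L1, cg_mul, r.g01, r.g02]
  have c2 : cg (c * g * c * g) (cg ρ L1) = cg (g * g * c) (cg ρ L1) := by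
    rw [cg_mul, r.g02, cg_mul, h.c_K12, cg_mul, r.g03, h.c_L2, cg_mul, h.c_K02, cg_mul, r.g13, r.g03]
  refine h.mem_U q1 q2 ?_ ?_
  · rw [cg_mul, c1]; exact cg_cg_inv _ _
  · rw [cg_mul, c2]; exact cg_cg_inv _ _

theorem clab : LabelsBase.CLab n1 n2 g (fun i j => RR z e (KK ρ n1 L1 L2 i j)) := by
  let _ := LabelsBase.cjAct G
  exact
    { symm := fun i j _ P hP => by rw [KK_symm]; exact hP
      two := h.good02.two
      r1 := fun i j hij P hP => by
        have h3 := hP.conj h.n1_V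
        rw [h.K_n1 hij] at h3
        exact h3
      r2 := fun i j hij P hP => by
        have h3 := hP.conj h.n2_V
        rw [h.K_n2 hij] at h3
        exact h3
      r3 := fun i j hij P hP => by
        have h3 := hP.conj (r.g_V h)
        rw [h.K_g r hij] at h3
        exact h3
      m1 := h.good1.2.1
      f1 := fun P hP => cg_self_of_comm (fun y hy => h.comm _ h.n1_mem y (hP.le hy))
      m2 := h.good2.2
      f2 := fun P hP => cg_self_of_comm (fun y hy => (h.comm y (hP.le hy) _ h.n2_mem).symm)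
      comm := h.n1n2
      z1 := h.fixU (by rw [h.n1_sq]; exact h.z_U)
      z2 := h.fixU (by rw [h.n2_sq]; exact h.z_U)
      g3 := h.fixU (r.ggg_U h)
      y1 := h.fixU (r.y1_U h)
      y2 := h.fixU (r.y2_U h) }

end Rot

end Cfsg.Agent.LFourFive
end

-- part: LFourFive/OneTwoSL
section
/-!
# S0510, `L₄(5)`: facts about `SL(2, 5)` for steps (1), (2)

* `two_roots`: at most two subgroups of order 5 are inverted by an element `h` with `h² = -1`.
* `exists_sigma`: `h² = n² = -1`, `n h n⁻¹ = h⁻¹`: an element of order 3 maps `h → n → h n`.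
-/

set_option autoImplicit false
set_option Elab.async false
set_option linter.unusedSimpArgs false

open Matrix

namespace Cfsg.Agent.LFourFive.OneTwo

abbrev SL5 := SpecialLinearGroup (Fin 2) (ZMod 5)

theorem d_tr : ∀ s t u v : ZMod 5, s * v - t * u = 1 → s * s + t * u = -1 → s * t + t * v = 0 →
    v = -s := by
  decide +kernel

theorem d_one : ∀ s t u v : ZMod 5, s * v - t * u = 1 → s * s + t * u = 1 → s * t + t * v = 0 →
    u * s + v * u = 0 → u * t + v * v = 1 →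
    (s = 1 ∧ t = 0 ∧ u = 0 ∧ v = 1) ∨ (s = -1 ∧ t = 0 ∧ u = 0 ∧ v = -1) := by
  decide +kernel

/-- the sign of a nilpotent element anticommuting with `h` -/
def Sg (ε s t u p q r : ZMod 5) : Prop := s * p + t * r = ε * p ∧ s * q - t * p = ε * q ∧ u * p - s * r = ε * r

instance (ε s t u p q r : ZMod 5) : Decidable (Sg ε s t u p q r) := by
  unfold Sg; infer_instance

private noncomputable def _root_.Cfsg.Agent.KO90f8195.k26 : type_of% @instDecidableOr := @(fun x0 x1 x2 x3 => @Decidable.rec.{1} _ @(fun x4 => @Decidable (@Or @x0 @x1)) @(fun x4 => @Decidable.rec.{1} _ @(fun x5 => @Decidable (@Or @x0 @x1)) @(fun x5 => @Decidable.isFalse _ (@instDecidableOr._proof_1 _ _ @x4 @x5)) @(fun x5 => @Decidable.isTrue _ (@Or.inr _ _ @x5)) @x3) @(fun x4 => @Decidable.isTrue _ (@Or.inl _ _ @x4)) @x2)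
private theorem _root_.Cfsg.Agent.KO90f8195.e26 : @instDecidableOr = @_root_.Cfsg.Agent.KO90f8195.k26 := by delta _root_.Cfsg.Agent.KO90f8195.k26; rfl'

theorem d_sign : ∀ s t u : ZMod 5, s * s + t * u = -1 → ∀ p q r : ZMod 5, p * p + q * r = 0 →
    2 * s * p + t * r + u * q = 0 → Sg 2 s t u p q r ∨ Sg 3 s t u p q r := by
  (first | (refine of_decide_eq_true ?_; rewrite [Cfsg.Agent.KO90f8195.e0, Cfsg.Agent.KO90f8195.e11.{0}, Cfsg.Agent.KO90f8195.e17, Cfsg.Agent.KO90f8195.e16, Cfsg.Agent.KO90f8195.e26]; decide +kernel) | decide +kernel)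

/-- nilpotent, anticommuting with `h`, sign `ε` -/
def Ok (ε s t u p q r : ZMod 5) : Prop :=
  p * p + q * r = 0 ∧ 2 * s * p + t * r + u * q = 0 ∧ Sg ε s t u p q r

instance (ε s t u p q r : ZMod 5) : Decidable (Ok ε s t u p q r) := by
  unfold Ok; infer_instance

/-- proportional -/
def Prp (p q r p' q' r' : ZMod 5) : Prop := ∃ k : ZMod 5, p' = k * p ∧ q' = k * q ∧ r' = k * r

instance (p q r p' q' r' : ZMod 5) : Decidable (Prp p q r p' q' r') := by
  unfold Prp; infer_instance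

def B1 (ε s t u p q r : ZMod 5) : Prop :=
  ∀ p' q' r' : ZMod 5, Ok ε s t u p' q' r' → Prp p q r p' q' r'

instance (ε s t u p q r : ZMod 5) : Decidable (B1 ε s t u p q r) := by
  unfold B1; infer_instance

def B2 (ε s t u : ZMod 5) : Prop :=
  ∀ p q r : ZMod 5, Ok ε s t u p q r → ¬ (p = 0 ∧ q = 0 ∧ r = 0) → B1 ε s t u p q r

instance (ε s t u : ZMod 5) : Decidable (B2 ε s t u) := by
  unfold B2; infer_instance

private theorem eig_par {ε s t u a b c d : ZMod 5} (hε : ε = 2 ∨ ε = 3) (h1 : s * a + t * b = ε * a)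
    (h2 : u * a - s * b = ε * b) (h3 : s * c + t * d = ε * c) (h4 : u * c - s * d = ε * d) : a * d = b * c := by
  have h5 : (5 : ZMod 5) = 0 := rfl
  have h : 2 * ε * (a * d - b * c) = 0 := by linear_combination c * h2 - a * h4 - d * h1 + b * h3
  rcases hε with rfl | rfl
  · linear_combination (a * d - b * c) * h5 - h
  · linear_combination h - (a * d - b * c) * h5

theorem d_prop : ∀ ε : ZMod 5, (ε = 2 ∨ ε = 3) → ∀ s t u : ZMod 5, s * s + t * u = -1 →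
    B2 ε s t u := by
  intro ε hε s t u _ p q r ⟨_, a0, a1, a2, a3⟩ hne p' q' r' ⟨_, b0, b1, b2, b3⟩
  have a4 : u * q - s * (-p) = ε * (-p) := by linear_combination a0 - a1
  have b4 : u * q' - s * (-p') = ε * (-p') := by linear_combination b0 - b1
  have a2' : s * q + t * (-p) = ε * q := by linear_combination a2
  have b2' : s * q' + t * (-p') = ε * q' := by linear_combination b2
  have m1 : p * r' = r * p' := eig_par hε a1 a3 b1 b3
  have m2 : q * (-p') = (-p) * q' := eig_par hε a2' a4 b2' b4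
  have m3 : p * (-p') = r * q' := eig_par hε a1 a3 b2' b4
  have m4 : q * r' = (-p) * p' := eig_par hε a2' a4 b1 b3
  have hinv : ∀ x : ZMod 5, x ≠ 0 → ∃ y, y * x = 1 := by decide +kernel
  by_cases hp : p = 0
  · by_cases hq : q = 0
    · obtain ⟨y, hy⟩ := hinv r fun hr => hne ⟨hp, hq, hr⟩
      exact ⟨r' * y, by linear_combination (-y) * m1 - p' * hy, by linear_combination (-y) * m3 - y * m4 - q' * hy,
        by linear_combination (-r') * hy⟩
    · obtain ⟨y, hy⟩ := hinv q hq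
      exact ⟨q' * y, by linear_combination (-y) * m2 - p' * hy, by linear_combination (-q') * hy,
        by linear_combination y * m3 + y * m4 - r' * hy⟩
  · obtain ⟨y, hy⟩ := hinv p hp
    exact ⟨p' * y, by linear_combination (-p') * hy, by linear_combination y * m2 - q' * hy,
      by linear_combination y * m1 - r' * hy⟩

theorem d_sigma : ∀ s t u : ZMod 5, s * s + t * u = -1 → ∀ p q r : ZMod 5, p * p + q * r = -1 →
    2 * s * p + t * r + u * q = 0 →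
    ∃ a b c d : ZMod 5, a * d - b * c = 1 ∧
      (a * s + b * u = p * a + q * c ∧ a * t - b * s = p * b + q * d ∧ c * s + d * u = r * a - p * c ∧
        c * t - d * s = r * b - p * d) ∧
      (a * p + b * r = (s * p + t * r) * a + (s * q - t * p) * c ∧
        a * q - b * p = (s * p + t * r) * b + (s * q - t * p) * d ∧
        c * p + d * r = (u * p - s * r) * a + (u * q + s * p) * c ∧
        c * q - d * p = (u * p - s * r) * b + (u * q + s * p) * d) ∧ a + d = -1 := by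
  intro s t u h1 p q r h2 h3
  refine ⟨2 * (1 + s + p + (s * p + t * r)), 2 * (t + q + (s * q - t * p)),
    2 * (u + r + (u * p - s * r)), 2 * (1 - s - p + (u * q + s * p)), ?_⟩
  revert h3
  revert h2
  revert p q r
  revert h1
  revert s t u
  decide +kernel

/-! ### entries -/

instance : Fact (Nat.Prime 5) := ⟨by norm_num⟩

/-- the matrix `(1 + p, q; r, 1 - p)` -/
structure Uni (A : SL5) (p q r : ZMod 5) : Prop where
  e00 : A 0 0 = 1 + p
  e01 : A 0 1 = q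
  e10 : A 1 0 = r
  e11 : A 1 1 = 1 - p
  nil : p * p + q * r = 0

theorem det_eq (A : SL5) : A 0 0 * A 1 1 - A 0 1 * A 1 0 = 1 := by
  have h := A.det_coe
  rwa [Matrix.det_fin_two] at h

theorem ext4 {A B : SL5} (h1 : A 0 0 = B 0 0) (h2 : A 0 1 = B 0 1) (h3 : A 1 0 = B 1 0)
    (h4 : A 1 1 = B 1 1) : A = B := by
  ext i j
  fin_cases i <;> fin_cases j <;> assumption

theorem mul00 (A B : SL5) : (A * B) 0 0 = A 0 0 * B 0 0 + A 0 1 * B 1 0 := by
  have h := congrFun (congrFun (Matrix.SpecialLinearGroup.coe_mul A B) 0) 0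
  rw [Matrix.mul_apply, Fin.sum_univ_two] at h
  exact h

theorem mul01 (A B : SL5) : (A * B) 0 1 = A 0 0 * B 0 1 + A 0 1 * B 1 1 := by
  have h := congrFun (congrFun (Matrix.SpecialLinearGroup.coe_mul A B) 0) 1
  rw [Matrix.mul_apply, Fin.sum_univ_two] at h
  exact h

theorem mul10 (A B : SL5) : (A * B) 1 0 = A 1 0 * B 0 0 + A 1 1 * B 1 0 := by
  have h := congrFun (congrFun (Matrix.SpecialLinearGroup.coe_mul A B) 1) 0
  rw [Matrix.mul_apply, Fin.sum_univ_two] at h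
  exact h

theorem mul11 (A B : SL5) : (A * B) 1 1 = A 1 0 * B 0 1 + A 1 1 * B 1 1 := by
  have h := congrFun (congrFun (Matrix.SpecialLinearGroup.coe_mul A B) 1) 1
  rw [Matrix.mul_apply, Fin.sum_univ_two] at h
  exact h

theorem one00 : (1 : SL5) 0 0 = 1 := rfl
theorem one01 : (1 : SL5) 0 1 = 0 := rfl
theorem one10 : (1 : SL5) 1 0 = 0 := rfl
theorem one11 : (1 : SL5) 1 1 = 1 := rfl

/-- elements of order 5 are unipotent -/
theorem exists_uni {A : SL5} (h : A ^ 5 = 1) : ∃ p q r, Uni A p q r := by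
  have h1 : ((A : Matrix (Fin 2) (Fin 2) (ZMod 5)) - 1) ^ 5 = 0 := by
    have h2 : Commute (A : Matrix (Fin 2) (Fin 2) (ZMod 5)) 1 := Commute.one_right _
    have h3 := sub_pow_char_of_commute (p := 5) h2
    rw [h3, one_pow, sub_eq_zero]
    have h4 := congrArg (fun B : SL5 => (B : Matrix (Fin 2) (Fin 2) (ZMod 5))) h
    simpa using h4
  have h2 : IsNilpotent ((A : Matrix (Fin 2) (Fin 2) (ZMod 5)) - 1) := ⟨5, h1⟩
  have h3 := (Matrix.isNilpotent_trace_of_isNilpotent h2).eq_zero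
  rw [Matrix.trace_sub, Matrix.trace_fin_two, Matrix.trace_one] at h3
  simp at h3
  have h4 : A 0 0 + A 1 1 = 2 := by
    rw [sub_eq_zero] at h3
    exact h3
  have h5 := det_eq A
  refine ⟨A 0 0 - 1, A 0 1, A 1 0, ⟨by ring, rfl, rfl, by linear_combination h4, ?_⟩⟩
  linear_combination -h5 + (A 0 0) * h4

namespace Uni

variable {A B : SL5} {p q r : ZMod 5}

theorem pow (h : Uni A p q r) (n : ℕ) :
    (A ^ n) 0 0 = 1 + n * p ∧ (A ^ n) 0 1 = n * q ∧ (A ^ n) 1 0 = n * r ∧ (A ^ n) 1 1 = 1 - n * p := by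
  have h0 := h.nil
  induction n with
  | zero => simp [one00, one01, one10, one11]
  | succ n ih =>
    obtain ⟨i0, i1, i2, i3⟩ := ih
    rw [pow_succ, mul00, mul01, mul10, mul11, i0, i1, i2, i3, h.e00, h.e01, h.e10, h.e11]
    push_cast
    refine ⟨?_, ?_, ?_, ?_⟩
    · linear_combination (n : ZMod 5) * h0
    · ring
    · ring
    · linear_combination (n : ZMod 5) * h0

theorem ne (h : Uni A p q r) (hA : A ≠ 1) : ¬ (p = 0 ∧ q = 0 ∧ r = 0) := by
  rintro ⟨rfl, rfl, rfl⟩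
  apply hA
  apply ext4
  · rw [h.e00, one00]; ring
  · rw [h.e01, one01]
  · rw [h.e10, one10]
  · rw [h.e11, one11]; ring

theorem mem_of_prp (h : Uni A p q r) {p' q' r' : ZMod 5} (h' : Uni B p' q' r')
    (hp : Prp p q r p' q' r') : B ∈ Subgroup.zpowers A := by
  obtain ⟨k, h1, h2, h3⟩ := hp
  refine Subgroup.mem_zpowers_iff.mpr ⟨(k.val : ℤ), ?_⟩
  rw [zpow_natCast]
  obtain ⟨i0, i1, i2, i3⟩ := h.pow k.val
  have hk : ((k.val : ℕ) : ZMod 5) = k := ZMod.natCast_zmod_val k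
  rw [hk] at i0 i1 i2 i3
  apply ext4
  · rw [i0, h'.e00, h1]
  · rw [i1, h'.e01, h2]
  · rw [i2, h'.e10, h3]
  · rw [i3, h'.e11, h1]

/-- `h A h⁻¹ = A⁻¹`, `h² = -1` -/
theorem ok (h : Uni A p q r) {H : SL5} {s t u : ZMod 5} (h0 : H 0 0 = s) (h1 : H 0 1 = t)
    (h2 : H 1 0 = u) (h3 : H 1 1 = -s) (hinv : H * A * H⁻¹ = A⁻¹) :
    2 * s * p + t * r + u * q = 0 := by
  have e : A * (H * A) = H := by
    have e1 : H * A = A⁻¹ * H := by rw [← hinv]; group
    rw [e1, mul_inv_cancel_left]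
  have e0 := congrArg (fun B : SL5 => B 0 0) e
  have e3 := congrArg (fun B : SL5 => B 1 1) e
  simp only [mul00, mul01, mul10, mul11, h.e00, h.e01, h.e10, h.e11, h0, h1, h2, h3] at e0 e3
  have hn := h.nil
  have h5 : (5 : ZMod 5) = 0 := by decide
  linear_combination (3 : ZMod 5) * e0 + (3 : ZMod 5) * e3 - (2 * s * p + t * r + u * q) * h5

end Uni

theorem exists_h {H : SL5} (hH : H * H ≠ 1) (h4 : H * H * (H * H) = 1) :
    ∃ s t u, H 0 0 = s ∧ H 0 1 = t ∧ H 1 0 = u ∧ H 1 1 = -s ∧ s * s + t * u = -1 := by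
  have h1 := congrArg (fun B : SL5 => B 0 0) h4
  have h2 := congrArg (fun B : SL5 => B 0 1) h4
  have h3 := congrArg (fun B : SL5 => B 1 0) h4
  have h5 := congrArg (fun B : SL5 => B 1 1) h4
  simp only [mul00 (H * H), mul01 (H * H), mul10 (H * H), mul11 (H * H), one00, one01, one10,
    one11] at h1 h2 h3 h5
  rcases d_one _ _ _ _ (det_eq (H * H)) h1 h2 h3 h5 with ⟨a, b, c, d⟩ | ⟨a, b, c, d⟩
  · exact absurd (ext4 (a.trans one00.symm) (b.trans one01.symm) (c.trans one10.symm)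
      (d.trans one11.symm)) hH
  · rw [mul00] at a
    rw [mul01] at b
    rw [mul10] at c
    rw [mul11] at d
    have e := d_tr _ _ _ _ (det_eq H) a b
    exact ⟨H 0 0, H 0 1, H 1 0, rfl, rfl, rfl, e, a⟩

theorem two_aux {s t u : ZMod 5} (hh : s * s + t * u = -1) {A B : SL5} {p q r p' q' r' ε : ZMod 5}
    (hε : ε = 2 ∨ ε = 3) (hA : Uni A p q r) (hB : Uni B p' q' r') (h1 : Ok ε s t u p q r)
    (h2 : Ok ε s t u p' q' r') (hA1 : A ≠ 1) : B ∈ Subgroup.zpowers A :=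
  hA.mem_of_prp hB (d_prop ε hε s t u hh p q r h1 (hA.ne hA1) p' q' r' h2)

/-- At most two subgroups of order 5 are inverted by `H`. -/
theorem two_roots {H A B C : SL5} (hH : H * H ≠ 1) (h4 : H * H * (H * H) = 1) (hA : A ^ 5 = 1)
    (hA1 : A ≠ 1) (hAi : H * A * H⁻¹ = A⁻¹) (hB : B ^ 5 = 1) (hB1 : B ≠ 1)
    (hBi : H * B * H⁻¹ = B⁻¹) (hC : C ^ 5 = 1) (hCi : H * C * H⁻¹ = C⁻¹) :
    B ∈ Subgroup.zpowers A ∨ C ∈ Subgroup.zpowers A ∨ C ∈ Subgroup.zpowers B := by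
  obtain ⟨s, t, u, h0, h1, h2, h3, hh⟩ := exists_h hH h4
  have key : ∀ {D : SL5}, D ^ 5 = 1 → H * D * H⁻¹ = D⁻¹ → ∃ p q r, Uni D p q r ∧
      (Ok 2 s t u p q r ∨ Ok 3 s t u p q r) := by
    intro D hD hDi
    obtain ⟨p, q, r, hu⟩ := exists_uni hD
    have hok := hu.ok h0 h1 h2 h3 hDi
    refine ⟨p, q, r, hu, ?_⟩
    rcases d_sign s t u hh p q r hu.nil hok with h | h
    · exact Or.inl ⟨hu.nil, hok, h⟩
    · exact Or.inr ⟨hu.nil, hok, h⟩
  obtain ⟨p, q, r, uA, oA⟩ := key hA hAi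
  obtain ⟨p', q', r', uB, oB⟩ := key hB hBi
  obtain ⟨p'', q'', r'', uC, oC⟩ := key hC hCi
  rcases oA with oA | oA <;> rcases oB with oB | oB <;> rcases oC with oC | oC
  · exact Or.inl (two_aux hh (Or.inl rfl) uA uB oA oB hA1)
  · exact Or.inl (two_aux hh (Or.inl rfl) uA uB oA oB hA1)
  · exact Or.inr (Or.inl (two_aux hh (Or.inl rfl) uA uC oA oC hA1))
  · exact Or.inr (Or.inr (two_aux hh (Or.inr rfl) uB uC oB oC hB1))
  · exact Or.inr (Or.inr (two_aux hh (Or.inl rfl) uB uC oB oC hB1))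
  · exact Or.inr (Or.inl (two_aux hh (Or.inr rfl) uA uC oA oC hA1))
  · exact Or.inl (two_aux hh (Or.inr rfl) uA uB oA oB hA1)
  · exact Or.inl (two_aux hh (Or.inr rfl) uA uB oA oB hA1)

/-- The element of order 3. -/
theorem exists_sigma_sl {H N : SL5} (hH : H * H ≠ 1) (h4 : H * H * (H * H) = 1)
    (hN : N * N = H * H) (hNH : N * H * N⁻¹ = H⁻¹) :
    ∃ S : SL5, S ^ 3 = 1 ∧ S * H * S⁻¹ = N ∧ S * N * S⁻¹ = H * N := by
  obtain ⟨s, t, u, h0, h1, h2, h3, hh⟩ := exists_h hH h4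
  obtain ⟨p, q, r, n0, n1, n2, n3, hn⟩ := exists_h (H := N) (by rwa [hN]) (by rw [hN]; exact h4)
  have hanti : 2 * s * p + t * r + u * q = 0 := by
    have e : H * N * H = N := by
      have e1 : N * H = H⁻¹ * N := by rw [← hNH]; group
      rw [mul_assoc, e1, mul_inv_cancel_left]
    have e0 := congrArg (fun B : SL5 => B 0 0) e
    have e1 := congrArg (fun B : SL5 => B 0 1) e
    simp only [mul00, mul01, mul10, mul11, h0, h1, h2, h3, n0, n1, n2, n3] at e0 e1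
    linear_combination (2 * s * p + t * r + u * q) * hh - s * (e0 + p * hh) - u * (e1 + q * hh)
  obtain ⟨a, b, c, d, hdet, ⟨a1, a2, a3, a4⟩, ⟨b1, b2, b3, b4⟩, htr⟩ :=
    d_sigma s t u hh p q r hn hanti
  have hdet' : (!![a, b; c, d] : Matrix (Fin 2) (Fin 2) (ZMod 5)).det = 1 := by
    rw [Matrix.det_fin_two_of]; exact hdet
  obtain ⟨S, hS⟩ : ∃ S : SL5, S = ⟨!![a, b; c, d], hdet'⟩ := ⟨_, rfl⟩
  have s0 : S 0 0 = a := by rw [hS]; rfl
  have s1 : S 0 1 = b := by rw [hS]; rfl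
  have s2 : S 1 0 = c := by rw [hS]; rfl
  have s3 : S 1 1 = d := by rw [hS]; rfl
  have hd : d = -1 - a := by linear_combination htr
  subst hd
  refine ⟨S, ?_, ?_, ?_⟩
  · have f0 : (S * S) 0 0 = -1 - a := by
      rw [mul00, s0, s1, s2]; linear_combination -hdet
    have f1 : (S * S) 0 1 = -b := by
      rw [mul01, s0, s1, s3]; ring
    have f2 : (S * S) 1 0 = -c := by
      rw [mul10, s0, s2, s3]; ring
    have f3 : (S * S) 1 1 = a := by
      rw [mul11, s1, s2, s3]; linear_combination -hdet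
    rw [pow_succ, pow_two]
    apply ext4
    · rw [mul00, f0, f1, s0, s2, one00]; linear_combination hdet
    · rw [mul01, f0, f1, s1, s3, one01]; ring
    · rw [mul10, f2, f3, s0, s2, one10]; ring
    · rw [mul11, f2, f3, s1, s3, one11]; linear_combination hdet
  · rw [mul_inv_eq_iff_eq_mul]
    apply ext4
    · simp only [mul00, s0, s1, s2, s3, h0, h1, h2, h3, n0, n1, n2, n3]
      linear_combination a1
    · simp only [mul01, s0, s1, s2, s3, h0, h1, h2, h3, n0, n1, n2, n3]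
      linear_combination a2
    · simp only [mul10, s0, s1, s2, s3, h0, h1, h2, h3, n0, n1, n2, n3]
      linear_combination a3
    · simp only [mul11, s0, s1, s2, s3, h0, h1, h2, h3, n0, n1, n2, n3]
      linear_combination a4
  · rw [mul_inv_eq_iff_eq_mul]
    apply ext4
    · simp only [mul00, mul01, mul10, mul11, s0, s1, s2, s3, h0, h1, h2, h3, n0, n1, n2, n3]
      linear_combination b1
    · simp only [mul00, mul01, mul10, mul11, s0, s1, s2, s3, h0, h1, h2, h3, n0, n1, n2, n3]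
      linear_combination b2
    · simp only [mul00, mul01, mul10, mul11, s0, s1, s2, s3, h0, h1, h2, h3, n0, n1, n2, n3]
      linear_combination b3
    · simp only [mul00, mul01, mul10, mul11, s0, s1, s2, s3, h0, h1, h2, h3, n0, n1, n2, n3]
      linear_combination b4

end Cfsg.Agent.LFourFive.OneTwo
end

-- part: LFourFive/OneTwo
section
/-!
# S0510, `L₄(5)`: steps (1), (2)

`K = K₁₃`, `K' = K₂₄` commuting `SL(2, 5)` with the common central involution `e`, swapped by `c`, `X ≤ K` a subgroup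
of order 5 inverted by `z`: `X`, `cXc⁻¹`, `n₁Xn₁⁻¹`, `n₂Xn₂⁻¹` commute pairwise.
-/

set_option autoImplicit false

open Subgroup

namespace Cfsg.Agent.LFourFive.OneTwo

variable {G : Type*} [Group G]

/-- The input of steps (1), (2). -/
structure Inp (K K' X : Subgroup G) (z e c h h₁ n₁ n₂ σ : G) : Prop where
  iso : Nonempty (K ≃* SL5)
  comm : ∀ k ∈ K, ∀ k' ∈ K', k * k' = k' * k
  eK : e ∈ K
  eK' : e ∈ K'
  ee : e * e = 1
  e1 : e ≠ 1
  inf : ∀ a ∈ K, a ∈ K' → a = 1 ∨ a = e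
  cK : ∀ k ∈ K, c * k * c⁻¹ ∈ K'
  cK' : ∀ k ∈ K', c * k * c⁻¹ ∈ K
  cc : c * c = 1
  zc : z * c = c * z
  hK : h ∈ K
  hh : h * h = e
  zK : ∀ k ∈ K, z * k * z⁻¹ = h * k * h⁻¹
  XK : X ≤ K
  card : Nat.card X = 5
  Xz : ∀ x ∈ X, z * x * z⁻¹ = x⁻¹
  Xh : ∀ x ∈ X, h₁ * x * h₁⁻¹ ∈ X
  hz : h₁ * h₁ = z
  nz : n₁ * n₁ = z
  ch : c * h₁ * c⁻¹ = h₁⁻¹
  nh : n₁ * h₁ * n₁⁻¹ = h₁⁻¹
  cn : c = n₁ * n₂
  sz : σ * z * σ⁻¹ = z
  se : σ * e * σ⁻¹ = c
  sc : σ * c * σ⁻¹ = e * c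
  sh : σ * h₁ * σ⁻¹ = n₁
  sn : σ * n₁ * σ⁻¹ = h₁ * n₁
  s3 : σ ^ 3 = 1
  cen : ∀ p : G, p * e = e * p → p ^ 5 = 1 → ∃ a ∈ K, ∃ b ∈ K', p = a * b

namespace Inp

variable {K K' X : Subgroup G} {z e c h h₁ n₁ n₂ σ : G} (I : Inp K K' X z e c h h₁ n₁ n₂ σ)

include I

theorem cinv : c⁻¹ = c := inv_eq_of_mul_eq_one_left I.cc

theorem five {x : G} (hx : x ∈ X) : x ^ 5 = 1 := by
  have h1 := pow_card_eq_one' (x := (⟨x, hx⟩ : X))
  rw [I.card] at h1
  exact congrArg Subtype.val h1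

theorem e5 : e ^ 5 = e := by
  have h1 : e ^ 2 = 1 := by rw [pow_two, I.ee]
  calc e ^ 5 = (e ^ 2) ^ 2 * e := by rw [← pow_mul, ← pow_succ]
    _ = e := by rw [h1, one_pow, one_mul]

theorem comm' {k k' : G} (hk : k ∈ K) (hk' : k' ∈ K') : Commute k k' := I.comm k hk k' hk'

/-- `r(x) = x · cxc⁻¹` -/
theorem r_five {a : G} (ha : a ∈ K) (h5 : a ^ 5 = 1) : (a * (c * a * c⁻¹)) ^ 5 = 1 := by
  rw [(I.comm' ha (I.cK a ha)).mul_pow, h5, conj_pow, h5]
  group

theorem r_e {a : G} (ha : a ∈ K) : a * (c * a * c⁻¹) * e = e * (a * (c * a * c⁻¹)) := by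
  have h1 : c * a * c⁻¹ * e = e * (c * a * c⁻¹) := (I.comm e I.eK _ (I.cK a ha)).symm
  have h2 : a * e = e * a := I.comm a ha e I.eK'
  rw [mul_assoc, h1, ← mul_assoc, h2, mul_assoc]

theorem r_c {a : G} (ha : a ∈ K) : c * (a * (c * a * c⁻¹)) * c⁻¹ = a * (c * a * c⁻¹) := by
  have h1 : c * (a * (c * a * c⁻¹)) * c⁻¹ = (c * a * c⁻¹) * (c * c * a * (c * c)⁻¹) := by group
  rw [h1, I.cc, one_mul, inv_one, mul_one]
  exact (I.comm a ha _ (I.cK a ha)).symm

theorem zca {a : G} : z * (c * a * c⁻¹) * z⁻¹ = c * (z * a * z⁻¹) * c⁻¹ := by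
  have h1 : z * (c * a * c⁻¹) * z⁻¹ = (z * c) * a * (z * c)⁻¹ := by group
  rw [h1, I.zc]; group

theorem r_z {a : G} (ha : a ∈ K) (hz : z * a * z⁻¹ = a⁻¹) :
    z * (a * (c * a * c⁻¹)) * z⁻¹ = (a * (c * a * c⁻¹))⁻¹ := by
  have h1 : z * (a * (c * a * c⁻¹)) * z⁻¹ = (z * a * z⁻¹) * (z * (c * a * c⁻¹) * z⁻¹) := by group
  have h2 : c * a⁻¹ * c⁻¹ = (c * a * c⁻¹)⁻¹ := by group
  rw [h1, I.zca, hz, h2, (I.comm' ha (I.cK a ha)).inv_inv.eq, ← mul_inv_rev]

theorem r_pow {a : G} (ha : a ∈ K) (n : ℤ) : (a * (c * a * c⁻¹)) ^ n = a ^ n * (c * a ^ n * c⁻¹) := by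
  rw [(I.comm' ha (I.cK a ha)).mul_zpow, conj_zpow]

theorem r_one {a : G} (ha : a ∈ K) (h5 : a ^ 5 = 1) (h1 : a * (c * a * c⁻¹) = 1) : a = 1 := by
  have h2 : a ∈ K' := by
    have h3 : a = (c * a * c⁻¹)⁻¹ := eq_inv_of_mul_eq_one_left h1
    rw [h3]
    exact K'.inv_mem (I.cK a ha)
  rcases I.inf a ha h2 with h3 | h3
  · exact h3
  · rw [h3, I.e5] at h5
    exact absurd h5 I.e1

/-- an element of order 5 centralized by `e`, `c` and inverted by `z` is an `r(a)` -/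
theorem exists_r {p : G} (h5 : p ^ 5 = 1) (he : p * e = e * p) (hc : c * p * c⁻¹ = p)
    (hz : z * p * z⁻¹ = p⁻¹) :
    ∃ a ∈ K, a ^ 5 = 1 ∧ z * a * z⁻¹ = a⁻¹ ∧ p = a * (c * a * c⁻¹) := by
  have e5 : e ^ 5 = e := I.e5
  -- normalize
  obtain ⟨a, ha, b, hb, hp, ha5, hb5⟩ : ∃ a ∈ K, ∃ b ∈ K', p = a * b ∧ a ^ 5 = 1 ∧ b ^ 5 = 1 := by
    obtain ⟨a, ha, b, hb, hp⟩ := I.cen p he h5
    have h1 : a ^ 5 * b ^ 5 = 1 := by
      rw [← (I.comm' ha hb).mul_pow, ← hp, h5]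
    have h2 : a ^ 5 ∈ K' := by
      rw [eq_inv_of_mul_eq_one_left h1]
      exact K'.inv_mem (K'.pow_mem hb 5)
    rcases I.inf _ (K.pow_mem ha 5) h2 with h3 | h3
    · exact ⟨a, ha, b, hb, hp, h3, by rwa [h3, one_mul] at h1⟩
    · refine ⟨a * e, K.mul_mem ha I.eK, e * b, K'.mul_mem I.eK' hb, ?_, ?_, ?_⟩
      · calc p = a * (e * e) * b := by rw [I.ee, mul_one, hp]
          _ = a * e * (e * b) := by group
      · rw [(I.comm' ha I.eK').mul_pow, h3, e5, I.ee]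
      · rw [(I.comm' I.eK hb).mul_pow, e5]
        rwa [h3] at h1
  have key : ∀ a' ∈ K, a' ^ 5 = 1 → (a⁻¹ * a' = 1 ∨ a⁻¹ * a' = e) → a' = a := by
    intro a' _ h5' h1
    rcases h1 with h1 | h1
    · exact (inv_mul_eq_one.mp h1).symm
    · exfalso
      have h2 : a' = a * e := by rw [← h1]; group
      rw [h2, (I.comm' ha I.eK').mul_pow, ha5, e5, one_mul] at h5'
      exact I.e1 h5'
  have hcb : c * b * c⁻¹ = a := by
    apply key _ (I.cK' b hb)
    · rw [conj_pow, hb5]; group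
    · apply I.inf _ (K.mul_mem (K.inv_mem ha) (I.cK' b hb))
      have h1 : (c * b * c⁻¹) * (c * a * c⁻¹) = a * b := by
        have h2 : c * p * c⁻¹ = (c * a * c⁻¹) * (c * b * c⁻¹) := by rw [hp]; group
        rw [I.comm _ (I.cK' b hb) _ (I.cK a ha), ← h2, hc, hp]
      have h3 : a⁻¹ * (c * b * c⁻¹) = b * (c * a * c⁻¹)⁻¹ := by
        rw [eq_mul_inv_iff_mul_eq, mul_assoc, h1, inv_mul_cancel_left]
      rw [h3]
      exact K'.mul_mem hb (K'.inv_mem (I.cK a ha))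
  have hb' : b = c * a * c⁻¹ := by
    rw [← hcb]
    calc b = (c * c) * b * (c * c)⁻¹ := by rw [I.cc]; group
      _ = c * (c * b * c⁻¹) * c⁻¹ := by group
  refine ⟨a, ha, ha5, ?_, by rw [hp, ← hb']⟩
  have hzK : z * a * z⁻¹ ∈ K := by
    rw [I.zK a ha]
    exact K.mul_mem (K.mul_mem I.hK ha) (K.inv_mem I.hK)
  have hzK' : z * b * z⁻¹ ∈ K' := by
    rw [hb', I.zca]
    exact I.cK _ hzK
  have h1 : (z * a * z⁻¹)⁻¹ = a := by
    apply key _ (K.inv_mem hzK)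
    · rw [inv_pow, conj_pow, ha5]; group
    · apply I.inf _ (K.mul_mem (K.inv_mem ha) (K.inv_mem hzK))
      have h2 : (z * a * z⁻¹) * (z * b * z⁻¹) * (a * b) = 1 := by
        have e1 : (z * a * z⁻¹) * (z * b * z⁻¹) = z * p * z⁻¹ := by rw [hp]; group
        rw [e1, hz, ← hp, inv_mul_cancel]
      have h4 : (z * a * z⁻¹) * a * ((z * b * z⁻¹) * b) = 1 := by
        calc (z * a * z⁻¹) * a * ((z * b * z⁻¹) * b)
            = (z * a * z⁻¹) * (a * (z * b * z⁻¹)) * b := by group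
          _ = (z * a * z⁻¹) * ((z * b * z⁻¹) * a) * b := by rw [I.comm _ ha _ hzK']
          _ = (z * a * z⁻¹) * (z * b * z⁻¹) * (a * b) := by group
          _ = 1 := h2
      have h3 : a⁻¹ * (z * a * z⁻¹)⁻¹ = (z * b * z⁻¹) * b := by
        rw [← mul_inv_rev]
        exact inv_eq_of_mul_eq_one_right h4
      rw [h3]
      exact K'.mul_mem hzK' hb
  rw [← h1, inv_inv, h1]

/-! ### `σ` normalizes `R` -/

theorem ce : c * e * c⁻¹ = e := by
  rcases I.inf _ (I.cK' e I.eK') (I.cK e I.eK) with h1 | h1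
  · exfalso
    apply I.e1
    calc e = c⁻¹ * (c * e * c⁻¹) * c := by group
      _ = 1 := by rw [h1]; group
  · exact h1

theorem ec : e * c = c * e := by
  calc e * c = (c * e * c⁻¹) * c := by rw [I.ce]
    _ = c * e := by group

/-- the properties of `p = r(a)` are invariant under `σ` -/
theorem step {p : G} (h5 : p ^ 5 = 1) (he : p * e = e * p) (hc : c * p * c⁻¹ = p)
    (hz : z * p * z⁻¹ = p⁻¹) :
    (σ * p * σ⁻¹) ^ 5 = 1 ∧ (σ * p * σ⁻¹) * e = e * (σ * p * σ⁻¹) ∧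
      c * (σ * p * σ⁻¹) * c⁻¹ = σ * p * σ⁻¹ ∧ z * (σ * p * σ⁻¹) * z⁻¹ = (σ * p * σ⁻¹)⁻¹ := by
  have hpe : Commute p e := he
  have hpc : Commute p c := by
    change p * c = c * p
    calc p * c = (c * p * c⁻¹) * c := by rw [hc]
      _ = c * p := by group
  have conj : ∀ {a b : G}, Commute a b → Commute (σ * a * σ⁻¹) (σ * b * σ⁻¹) := by
    intro a b hab
    change σ * a * σ⁻¹ * (σ * b * σ⁻¹) = σ * b * σ⁻¹ * (σ * a * σ⁻¹)
    calc σ * a * σ⁻¹ * (σ * b * σ⁻¹) = σ * (a * b) * σ⁻¹ := by group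
      _ = σ * (b * a) * σ⁻¹ := by rw [hab.eq]
      _ = σ * b * σ⁻¹ * (σ * a * σ⁻¹) := by group
  have h1 : Commute (σ * p * σ⁻¹) c := by
    have := conj hpe
    rwa [I.se] at this
  have h2 : Commute (σ * p * σ⁻¹) (e * c) := by
    have := conj hpc
    rwa [I.sc] at this
  have h3 : Commute (σ * p * σ⁻¹) e := by
    have h4 := h2.mul_right h1.inv_right
    rwa [mul_inv_cancel_right] at h4
  refine ⟨?_, h3.eq, ?_, ?_⟩
  · rw [conj_pow, h5]; group
  · calc c * (σ * p * σ⁻¹) * c⁻¹ = (σ * p * σ⁻¹) * c * c⁻¹ := by rw [h1.eq]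
      _ = σ * p * σ⁻¹ := by group
  · calc z * (σ * p * σ⁻¹) * z⁻¹ = (σ * z * σ⁻¹) * (σ * p * σ⁻¹) * (σ * z * σ⁻¹)⁻¹ := by rw [I.sz]
      _ = σ * (z * p * z⁻¹) * σ⁻¹ := by group
      _ = (σ * p * σ⁻¹)⁻¹ := by rw [hz]; group

theorem zpow_of_mem_zpowers {a b : G} (ha : a ∈ K) (hb : b ∈ K) (h : (⟨b, hb⟩ : K) ∈ zpowers (⟨a, ha⟩ : K)) :
    b * (c * b * c⁻¹) ∈ zpowers (a * (c * a * c⁻¹)) := by
  obtain ⟨n, hn⟩ := mem_zpowers_iff.mp h
  have h1 : a ^ n = b := congrArg Subtype.val hn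
  refine mem_zpowers_iff.mpr ⟨n, ?_⟩
  rw [I.r_pow ha, h1]

/-- a generator of `X` -/
theorem exists_gen : ∃ x ∈ X, x ≠ 1 ∧ ∀ y ∈ X, y ∈ zpowers x := by
  have hp : Fact (Nat.Prime 5) := ⟨by norm_num⟩
  have hcyc : IsCyclic X := isCyclic_of_prime_card (p := 5) I.card
  obtain ⟨g, hg⟩ := hcyc.exists_generator
  refine ⟨g, g.2, ?_, ?_⟩
  · intro h1
    have h2 : ∀ y : X, y = 1 := by
      intro y
      obtain ⟨n, hn⟩ := mem_zpowers_iff.mp (hg y)
      rw [← hn]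
      apply Subtype.ext
      rw [SubgroupClass.coe_zpow, h1, one_zpow, OneMemClass.coe_one]
    have h3 : Nat.card X = 1 := by
      have : Subsingleton X := ⟨fun a b => (h2 a).trans (h2 b).symm⟩
      exact Nat.card_of_subsingleton (1 : X)
    rw [I.card] at h3
    omega
  · intro y hy
    obtain ⟨n, hn⟩ := mem_zpowers_iff.mp (hg ⟨y, hy⟩)
    refine mem_zpowers_iff.mpr ⟨n, ?_⟩
    have := congrArg Subtype.val hn
    rwa [SubgroupClass.coe_zpow] at this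

omit I in
theorem inv_mem_zpowers_of_prime {p q : G} (hq : q ^ 5 = 1) (hp : p ≠ 1) (h : p ∈ zpowers q) :
    q ∈ zpowers p := by
  have hpr : Fact (Nat.Prime 5) := ⟨by norm_num⟩
  have hq1 : q ≠ 1 := by
    rintro rfl
    rw [zpowers_one_eq_bot, mem_bot] at h
    exact hp h
  have h5 : orderOf q = 5 := orderOf_eq_prime hq hq1
  have hcard : Nat.card (zpowers q) = 5 := by rw [Nat.card_zpowers, h5]
  have hle : zpowers p ≤ zpowers q := by rwa [zpowers_le]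
  have hfin : Finite (zpowers q) := Nat.finite_of_card_ne_zero (by rw [hcard]; norm_num)
  have hd : Nat.card (zpowers p) ∣ 5 := hcard ▸ card_dvd_of_le hle
  rcases (Nat.dvd_prime hpr.out).mp hd with h1 | h1
  · exfalso
    rw [Nat.card_zpowers, orderOf_eq_one_iff] at h1
    exact hp h1
  · have h2 : zpowers p = zpowers q := Subgroup.eq_of_le_of_card_ge hle (by rw [h1, hcard])
    rw [h2]
    exact mem_zpowers q

/-- **Step (2)**: `σ r(x) σ⁻¹ ∈ R`. -/
theorem sigma_mem {x : G} (hx : x ∈ X) (hx1 : x ≠ 1) :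
    σ * (x * (c * x * c⁻¹)) * σ⁻¹ ∈ zpowers (x * (c * x * c⁻¹)) := by
  obtain ⟨f⟩ := I.iso
  have hxK := I.XK hx
  have x5 := I.five hx
  obtain ⟨p, hp⟩ : ∃ p, p = x * (c * x * c⁻¹) := ⟨_, rfl⟩
  have p5 : p ^ 5 = 1 := hp ▸ I.r_five hxK x5
  have pe : p * e = e * p := hp ▸ I.r_e hxK
  have pc : c * p * c⁻¹ = p := hp ▸ I.r_c hxK
  have pz : z * p * z⁻¹ = p⁻¹ := hp ▸ I.r_z hxK (I.Xz x hx)
  have p1 : p ≠ 1 := fun h1 => hx1 (I.r_one hxK x5 (hp ▸ h1))
  obtain ⟨q5, qe, qc, qz⟩ := I.step p5 pe pc pz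
  obtain ⟨t5, te, tc, tz⟩ := I.step q5 qe qc qz
  have q1 : σ * p * σ⁻¹ ≠ 1 := fun h1 => p1 (by
    calc p = σ⁻¹ * (σ * p * σ⁻¹) * σ := by group
      _ = 1 := by rw [h1]; group)
  have t1 : σ * (σ * p * σ⁻¹) * σ⁻¹ ≠ 1 := fun h1 => q1 (by
    calc σ * p * σ⁻¹ = σ⁻¹ * (σ * (σ * p * σ⁻¹) * σ⁻¹) * σ := by group
      _ = 1 := by rw [h1]; group)
  obtain ⟨a, ha, a5, az, hqa⟩ := I.exists_r q5 qe qc qz
  obtain ⟨b, hb, b5, bz, htb⟩ := I.exists_r t5 te tc tz
  have a1 : a ≠ 1 := by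
    rintro rfl
    apply q1
    rw [hqa]; group
  have b1 : b ≠ 1 := by
    rintro rfl
    apply t1
    rw [htb]; group
  -- transport to `SL(2, 5)`
  have hmem : ∀ {u v : G} (hu : u ∈ K) (hv : v ∈ K), f ⟨v, hv⟩ ∈ zpowers (f ⟨u, hu⟩) →
      (⟨v, hv⟩ : K) ∈ zpowers (⟨u, hu⟩ : K) := by
    intro u v hu hv h1
    obtain ⟨n, hn⟩ := mem_zpowers_iff.mp h1
    refine mem_zpowers_iff.mpr ⟨n, ?_⟩
    apply f.injective
    rw [map_zpow, hn]
  have hfive : ∀ {u : G} (hu : u ∈ K), u ^ 5 = 1 → f ⟨u, hu⟩ ^ 5 = 1 := by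
    intro u hu h1
    rw [← map_pow]
    have : (⟨u, hu⟩ : K) ^ 5 = 1 := Subtype.ext h1
    rw [this, map_one]
  have hne : ∀ {u : G} (hu : u ∈ K), u ≠ 1 → f ⟨u, hu⟩ ≠ 1 := by
    intro u hu h1 h2
    apply h1
    have : (⟨u, hu⟩ : K) = 1 := f.injective (by rw [h2, map_one])
    exact congrArg Subtype.val this
  have hinv : ∀ {u : G} (hu : u ∈ K), z * u * z⁻¹ = u⁻¹ →
      f ⟨h, I.hK⟩ * f ⟨u, hu⟩ * (f ⟨h, I.hK⟩)⁻¹ = (f ⟨u, hu⟩)⁻¹ := by
    intro u hu h1
    rw [← map_mul, ← map_inv, ← map_mul, ← map_inv]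
    congr 1
    apply Subtype.ext
    change h * u * h⁻¹ = u⁻¹
    rw [← I.zK u hu, h1]
  have hH : f ⟨h, I.hK⟩ * f ⟨h, I.hK⟩ ≠ 1 := by
    rw [← map_mul]
    have : (⟨h, I.hK⟩ : K) * ⟨h, I.hK⟩ = ⟨e, I.eK⟩ := Subtype.ext I.hh
    rw [this]
    exact hne I.eK I.e1
  have hH4 : f ⟨h, I.hK⟩ * f ⟨h, I.hK⟩ * (f ⟨h, I.hK⟩ * f ⟨h, I.hK⟩) = 1 := by
    rw [← map_mul, ← map_mul]
    have : (⟨h, I.hK⟩ : K) * ⟨h, I.hK⟩ * (⟨h, I.hK⟩ * ⟨h, I.hK⟩) = 1 := by
      apply Subtype.ext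
      change h * h * (h * h) = 1
      rw [I.hh, I.ee]
    rw [this, map_one]
  have h3 := two_roots hH hH4 (hfive hxK x5) (hne hxK hx1) (hinv hxK (I.Xz x hx)) (hfive ha a5)
    (hne ha a1) (hinv ha az) (hfive hb b5) (hinv hb bz)
  rw [← hp]
  rcases h3 with h3 | h3 | h3
  · rw [hqa, hp]
    exact I.zpow_of_mem_zpowers hxK ha (hmem _ _ h3)
  · have h4 : σ * (σ * p * σ⁻¹) * σ⁻¹ ∈ zpowers p := by
      rw [htb, hp]
      exact I.zpow_of_mem_zpowers hxK hb (hmem _ _ h3)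
    obtain ⟨n, hn⟩ := mem_zpowers_iff.mp h4
    have h5 : p ∈ zpowers (σ * p * σ⁻¹) := by
      refine mem_zpowers_iff.mpr ⟨n, ?_⟩
      rw [conj_zpow, hn]
      have e1 : σ * (σ * (σ * p * σ⁻¹) * σ⁻¹) * σ⁻¹ = (σ * σ * σ) * p * (σ * σ * σ)⁻¹ := by group
      have e2 : σ * σ * σ = 1 := by rw [← I.s3, pow_succ, pow_two]
      rw [e1, e2, one_mul, inv_one, mul_one]
    exact inv_mem_zpowers_of_prime q5 p1 h5
  · have h4 : σ * (σ * p * σ⁻¹) * σ⁻¹ ∈ zpowers (σ * p * σ⁻¹) := by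
      rw [htb, hqa]
      exact I.zpow_of_mem_zpowers ha hb (hmem _ _ h3)
    obtain ⟨n, hn⟩ := mem_zpowers_iff.mp h4
    refine mem_zpowers_iff.mpr ⟨n, ?_⟩
    rw [conj_zpow] at hn
    have e1 : σ⁻¹ * (σ * p ^ n * σ⁻¹) * σ = σ⁻¹ * (σ * (σ * p * σ⁻¹) * σ⁻¹) * σ := by rw [hn]
    calc p ^ n = σ⁻¹ * (σ * p ^ n * σ⁻¹) * σ := by group
      _ = σ⁻¹ * (σ * (σ * p * σ⁻¹) * σ⁻¹) * σ := e1
      _ = σ * p * σ⁻¹ := by group

/-! ### the four root groups commute -/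

omit I in
theorem conj_comm {g a b : G} (h : Commute a b) : Commute (g * a * g⁻¹) (g * b * g⁻¹) := by
  change g * a * g⁻¹ * (g * b * g⁻¹) = g * b * g⁻¹ * (g * a * g⁻¹)
  calc g * a * g⁻¹ * (g * b * g⁻¹) = g * (a * b) * g⁻¹ := by group
    _ = g * (b * a) * g⁻¹ := by rw [h.eq]
    _ = g * b * g⁻¹ * (g * a * g⁻¹) := by group

theorem zinv {y : G} (hy : y ∈ X) : z⁻¹ * y * z = y⁻¹ := by
  have h1 := I.Xz _ (X.inv_mem hy)
  rw [inv_inv] at h1
  calc z⁻¹ * y * z = z⁻¹ * (z * y⁻¹ * z⁻¹) * z := by rw [h1]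
    _ = y⁻¹ := by group

theorem hinv' {y : G} (hy : y ∈ X) : h₁⁻¹ * y * h₁ = h₁ * y⁻¹ * h₁⁻¹ := by
  rw [← I.zinv hy, ← I.hz]
  group

theorem h_r {y : G} (hy : y ∈ X) :
    h₁ * (y * (c * y * c⁻¹)) * h₁⁻¹ = (h₁ * y * h₁⁻¹) * (c * (h₁ * y * h₁⁻¹)⁻¹ * c⁻¹) := by
  have h1 : c⁻¹ * h₁ * c = h₁⁻¹ := by
    rw [I.cinv, ← I.ch, I.cinv]
  have h2 : h₁ * (y * (c * y * c⁻¹)) * h₁⁻¹ =
      (h₁ * y * h₁⁻¹) * (c * ((c⁻¹ * h₁ * c) * y * (c⁻¹ * h₁ * c)⁻¹) * c⁻¹) := by group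
  have h3 : h₁⁻¹ * y * h₁⁻¹⁻¹ = (h₁ * y * h₁⁻¹)⁻¹ := by
    rw [inv_inv, I.hinv' hy]; group
  rw [h2, h1, h3]

theorem X_comm {x y : G} (hx : x ∈ X) (hy : y ∈ X) : Commute x y := by
  obtain ⟨g, -, -, hg⟩ := I.exists_gen
  obtain ⟨n, hn⟩ := mem_zpowers_iff.mp (hg x hx)
  obtain ⟨m, hm⟩ := mem_zpowers_iff.mp (hg y hy)
  rw [← hn, ← hm]
  exact (Commute.refl g).zpow_zpow n m

theorem f1 {x y : G} (hx : x ∈ X) (hy : y ∈ X) :
    Commute (x * (c * x * c⁻¹)) (h₁ * (y * (c * y * c⁻¹)) * h₁⁻¹) := by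
  rw [I.h_r hy]
  have hy' := I.Xh y hy
  have h1 := I.X_comm hx hy'
  have h2 : Commute x (c * (h₁ * y * h₁⁻¹)⁻¹ * c⁻¹) :=
    I.comm' (I.XK hx) (I.cK _ (K.inv_mem (I.XK hy')))
  have h3 : Commute (c * x * c⁻¹) (h₁ * y * h₁⁻¹) := (I.comm' (I.XK hy') (I.cK _ (I.XK hx))).symm
  have h4 : Commute (c * x * c⁻¹) (c * (h₁ * y * h₁⁻¹)⁻¹ * c⁻¹) :=
    conj_comm h1.inv_right
  exact (h1.mul_right h2).mul_left (h3.mul_right h4)

/-- **Steps (1), (2)**: the four root groups commute. -/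
theorem main {x y : G} (hx : x ∈ X) (hy : y ∈ X) :
    x * (c * y * c⁻¹) = c * y * c⁻¹ * x ∧ x * (n₁ * y * n₁⁻¹) = n₁ * y * n₁⁻¹ * x ∧
      x * (n₂ * y * n₂⁻¹) = n₂ * y * n₂⁻¹ * x := by
  obtain ⟨g, hgX, hg1, hg⟩ := I.exists_gen
  obtain ⟨p, hp⟩ : ∃ p, p = g * (c * g * c⁻¹) := ⟨_, rfl⟩
  have hgK := I.XK hgX
  have p5 : p ^ 5 = 1 := hp ▸ I.r_five hgK (I.five hgX)
  have p1 : p ≠ 1 := fun h1 => hg1 (I.r_one hgK (I.five hgX) (hp ▸ h1))
  have hs := I.sigma_mem hgX hg1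
  rw [← hp] at hs
  have hr : ∀ {a : G}, a ∈ X → a * (c * a * c⁻¹) ∈ zpowers p := by
    intro a ha
    obtain ⟨n, hn⟩ := mem_zpowers_iff.mp (hg a ha)
    refine mem_zpowers_iff.mpr ⟨n, ?_⟩
    rw [hp, I.r_pow hgK, hn]
  have hR : ∀ {q : G}, q ∈ zpowers p → ∃ a ∈ X, q = a * (c * a * c⁻¹) := by
    intro q hq
    obtain ⟨n, rfl⟩ := mem_zpowers_iff.mp hq
    exact ⟨g ^ n, X.zpow_mem hgX n, by rw [hp, I.r_pow hgK]⟩
  have hs' : σ⁻¹ * p * σ ∈ zpowers p := by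
    have h1 : σ * p * σ⁻¹ ≠ 1 := fun h1 => p1 (by
      calc p = σ⁻¹ * (σ * p * σ⁻¹) * σ := by group
        _ = 1 := by rw [h1]; group)
    obtain ⟨m, hm⟩ := mem_zpowers_iff.mp (inv_mem_zpowers_of_prime p5 h1 hs)
    refine mem_zpowers_iff.mpr ⟨m, ?_⟩
    rw [conj_zpow] at hm
    calc p ^ m = σ⁻¹ * (σ * p ^ m * σ⁻¹) * σ := by group
      _ = σ⁻¹ * p * σ := by rw [hm]
  have hsR : ∀ {q : G}, q ∈ zpowers p → σ⁻¹ * q * σ ∈ zpowers p := by
    intro q hq
    obtain ⟨n, rfl⟩ := mem_zpowers_iff.mp hq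
    have e1 : σ⁻¹ * p ^ n * σ = (σ⁻¹ * p * σ) ^ n := by
      have := conj_zpow (a := σ⁻¹) (b := p) (i := n)
      rw [inv_inv] at this
      exact this.symm
    rw [e1]
    exact zpow_mem hs' n
  have F1 : ∀ {q q' : G}, q ∈ zpowers p → q' ∈ zpowers p → Commute q (h₁ * q' * h₁⁻¹) := by
    intro q q' hq hq'
    obtain ⟨a, ha, rfl⟩ := hR hq
    obtain ⟨b, hb, rfl⟩ := hR hq'
    exact I.f1 ha hb
  have F2 : ∀ {q q' : G}, q ∈ zpowers p → q' ∈ zpowers p → Commute q (n₁ * q' * n₁⁻¹) := by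
    intro q q' hq hq'
    have h1 := conj_comm (g := σ) (F1 (hsR hq) (hsR hq'))
    have e1 : σ * (σ⁻¹ * q * σ) * σ⁻¹ = q := by group
    have e2 : σ * (h₁ * (σ⁻¹ * q' * σ) * h₁⁻¹) * σ⁻¹ = (σ * h₁ * σ⁻¹) * q' * (σ * h₁ * σ⁻¹)⁻¹ := by
      group
    rwa [e1, e2, I.sh] at h1
  have F3 : ∀ {q q' : G}, q ∈ zpowers p → q' ∈ zpowers p →
      Commute q ((h₁ * n₁) * q' * (h₁ * n₁)⁻¹) := by
    intro q q' hq hq'
    have h1 := conj_comm (g := σ) (F2 (hsR hq) (hsR hq'))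
    have e1 : σ * (σ⁻¹ * q * σ) * σ⁻¹ = q := by group
    have e2 : σ * (n₁ * (σ⁻¹ * q' * σ) * n₁⁻¹) * σ⁻¹ = (σ * n₁ * σ⁻¹) * q' * (σ * n₁ * σ⁻¹)⁻¹ := by
      group
    rwa [e1, e2, I.sn] at h1
  have hzR : ∀ {q : G}, q ∈ zpowers p → z * q * z⁻¹ = q⁻¹ := by
    intro q hq
    obtain ⟨a, ha, rfl⟩ := hR hq
    exact I.r_z (I.XK ha) (I.Xz a ha)
  have nh' : n₁ * h₁ = h₁⁻¹ * n₁ := by rw [← I.nh]; group
  have nh2 : n₁ * h₁ = z⁻¹ * (h₁ * n₁) := by rw [nh', ← I.hz]; group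
  have F4 : ∀ {q q' : G}, q ∈ zpowers p → q' ∈ zpowers p →
      Commute q ((n₁ * h₁) * q' * (n₁ * h₁)⁻¹) := by
    intro q q' hq hq'
    have h1 := F3 ((zpowers p).inv_mem hq) hq'
    rw [← hzR hq] at h1
    have h2 := conj_comm (g := z⁻¹) h1
    have e1 : z⁻¹ * (z * q * z⁻¹) * z⁻¹⁻¹ = q := by group
    have e2 : z⁻¹ * ((h₁ * n₁) * q' * (h₁ * n₁)⁻¹) * z⁻¹⁻¹ = (n₁ * h₁) * q' * (n₁ * h₁)⁻¹ := by
      rw [nh2]; group
    rwa [e1, e2] at h2
  have F5 : ∀ {q q' : G}, q ∈ zpowers p → q' ∈ zpowers p →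
      Commute (h₁ * q * h₁⁻¹) (n₁ * q' * n₁⁻¹) := by
    intro q q' hq hq'
    have h1 := conj_comm (g := h₁) (F4 hq hq')
    have e2 : h₁ * ((n₁ * h₁) * q' * (n₁ * h₁)⁻¹) * h₁⁻¹ = n₁ * q' * n₁⁻¹ := by
      rw [nh']; group
    rwa [e2] at h1
  have F6 : ∀ {q q' : G}, q ∈ zpowers p → q' ∈ zpowers p →
      Commute (h₁ * q * h₁⁻¹) ((n₁ * h₁) * q' * (n₁ * h₁)⁻¹) := by
    intro q q' hq hq'
    have h1 := conj_comm (g := h₁) (F2 hq ((zpowers p).inv_mem hq'))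
    have e2 : h₁ * (n₁ * q'⁻¹ * n₁⁻¹) * h₁⁻¹ = (n₁ * h₁) * q' * (n₁ * h₁)⁻¹ := by
      rw [← hzR hq']
      have e3 : h₁ * n₁ = z * (n₁ * h₁) := by rw [nh2]; group
      have e4 : z * n₁ = n₁ * z := by rw [← I.nz]; group
      have e5 : h₁ * n₁ * z = n₁ * h₁ * (z * z) := by
        have e6 : z * h₁ = h₁ * z := by rw [← I.hz]; group
        calc h₁ * n₁ * z = z * (n₁ * h₁) * z := by rw [e3]
          _ = (z * n₁) * h₁ * z := by group
          _ = n₁ * (z * h₁) * z := by rw [e4]; group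
          _ = n₁ * h₁ * (z * z) := by rw [e6]; group
      have e7 : z * z * q' = q' * (z * z) := by
        have h2 := hzR hq'
        have h3 := hzR ((zpowers p).inv_mem hq')
        rw [inv_inv] at h3
        have h4 : z * q' = q'⁻¹ * z := by rw [← h2]; group
        have h5 : z * q'⁻¹ = q' * z := by
          calc z * q'⁻¹ = (z * q'⁻¹ * z⁻¹) * z := by group
            _ = q' * z := by rw [h3]
        calc z * z * q' = z * (z * q') := by group
          _ = (z * q'⁻¹) * z := by rw [h4]; group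
          _ = q' * (z * z) := by rw [h5]; group
      calc h₁ * (n₁ * (z * q' * z⁻¹) * n₁⁻¹) * h₁⁻¹
          = (h₁ * n₁ * z) * q' * (h₁ * n₁ * z)⁻¹ := by group
        _ = (n₁ * h₁ * (z * z)) * q' * (n₁ * h₁ * (z * z))⁻¹ := by rw [e5]
        _ = (n₁ * h₁) * (z * z * q') * (z * z)⁻¹ * (n₁ * h₁)⁻¹ := by group
        _ = (n₁ * h₁) * q' * (n₁ * h₁)⁻¹ := by rw [e7]; group
    rwa [e2] at h1
  -- the set `R (h₁ R h₁⁻¹)`
  have FP : ∀ {q q₂ q' q₂' : G}, q ∈ zpowers p → q₂ ∈ zpowers p → q' ∈ zpowers p →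
      q₂' ∈ zpowers p → Commute (q * (h₁ * q₂ * h₁⁻¹)) (n₁ * (q' * (h₁ * q₂' * h₁⁻¹)) * n₁⁻¹) := by
    intro q q₂ q' q₂' hq hq₂ hq' hq₂'
    have e1 : n₁ * (q' * (h₁ * q₂' * h₁⁻¹)) * n₁⁻¹ =
        (n₁ * q' * n₁⁻¹) * ((n₁ * h₁) * q₂' * (n₁ * h₁)⁻¹) := by group
    rw [e1]
    exact ((F2 hq hq').mul_right (F4 hq hq₂')).mul_left ((F5 hq₂ hq').mul_right (F6 hq₂ hq₂'))
  have hsix : ∀ {a : G}, a ∈ X → a ^ 3 * a ^ 3 = a := by
    intro a ha
    rw [← pow_add, pow_succ, I.five ha, one_mul]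
  have hX : ∀ {a : G}, a ∈ X → ∃ q ∈ zpowers p, ∃ q₂ ∈ zpowers p, a = q * (h₁ * q₂ * h₁⁻¹) ∧
      c * a * c⁻¹ = q * (h₁ * q₂⁻¹ * h₁⁻¹) := by
    intro a ha
    have hb : a ^ 3 ∈ X := X.pow_mem ha 3
    have hb' : h₁⁻¹ * a ^ 3 * h₁ ∈ X := by
      rw [I.hinv' hb]
      exact I.Xh _ (X.inv_mem hb)
    have e0 : h₁ * (h₁⁻¹ * a ^ 3 * h₁) * h₁⁻¹ = a ^ 3 := by group
    have e1 := I.h_r hb'
    rw [e0] at e1
    have hc2 : Commute (a ^ 3) (c * a ^ 3 * c⁻¹) := I.comm' (I.XK hb) (I.cK _ (I.XK hb))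
    refine ⟨_, hr hb, _, hr hb', ?_, ?_⟩
    · rw [e1]
      calc a = a ^ 3 * a ^ 3 := (hsix ha).symm
        _ = a ^ 3 * ((c * a ^ 3 * c⁻¹) * (c * (a ^ 3)⁻¹ * c⁻¹)) * a ^ 3 := by group
        _ = a ^ 3 * (c * a ^ 3 * c⁻¹) * ((c * (a ^ 3)⁻¹ * c⁻¹) * a ^ 3) := by group
        _ = a ^ 3 * (c * a ^ 3 * c⁻¹) * (a ^ 3 * (c * (a ^ 3)⁻¹ * c⁻¹)) := by
          have h1 : Commute (c * (a ^ 3)⁻¹ * c⁻¹) (a ^ 3) :=
            (I.comm' (I.XK hb) (I.cK _ (K.inv_mem (I.XK hb)))).symm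
          rw [h1.eq]
    · have e2 : h₁ * ((h₁⁻¹ * a ^ 3 * h₁) * (c * (h₁⁻¹ * a ^ 3 * h₁) * c⁻¹))⁻¹ * h₁⁻¹ =
          (a ^ 3 * (c * (a ^ 3)⁻¹ * c⁻¹))⁻¹ := by
        rw [← e1]; group
      rw [e2]
      calc c * a * c⁻¹ = c * (a ^ 3 * a ^ 3) * c⁻¹ := by rw [hsix ha]
        _ = (c * a ^ 3 * c⁻¹) * (c * a ^ 3 * c⁻¹) := by group
        _ = a ^ 3 * (a ^ 3)⁻¹ * ((c * a ^ 3 * c⁻¹) * (c * a ^ 3 * c⁻¹)) := by group
        _ = a ^ 3 * ((a ^ 3)⁻¹ * ((c * a ^ 3 * c⁻¹) * (c * a ^ 3 * c⁻¹))) := by group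
        _ = a ^ 3 * (((c * a ^ 3 * c⁻¹) * (c * a ^ 3 * c⁻¹)) * (a ^ 3)⁻¹) := by
          rw [((hc2.mul_right hc2).inv_left).eq]
        _ = a ^ 3 * (c * a ^ 3 * c⁻¹) * (a ^ 3 * (c * (a ^ 3)⁻¹ * c⁻¹))⁻¹ := by group
  obtain ⟨q, hq, q₂, hq₂, hxq, -⟩ := hX hx
  refine ⟨(I.comm' (I.XK hx) (I.cK _ (I.XK hy))).eq, ?_, ?_⟩
  · obtain ⟨q', hq', q₂', hq₂', hyq, -⟩ := hX hy
    have := FP hq hq₂ hq' hq₂'
    rw [← hxq, ← hyq] at this
    exact this.eq
  · obtain ⟨q', hq', q₂', hq₂', -, hyq⟩ := hX (X.inv_mem hy)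
    have h1 := FP hq hq₂ hq' ((zpowers p).inv_mem hq₂')
    rw [← hxq, ← hyq] at h1
    have e1 : n₁ * (c * y⁻¹ * c⁻¹) * n₁⁻¹ = n₂ * y * n₂⁻¹ := by
      have e2 : n₂ = n₁⁻¹ * c := by rw [I.cn]; group
      have e3 : c * y⁻¹ * c⁻¹ = z⁻¹ * (c * y * c⁻¹) * z := by
        have e4 : z⁻¹ * c = c * z⁻¹ := by
          rw [inv_mul_eq_iff_eq_mul, ← mul_assoc, I.zc, mul_inv_cancel_right]
        have e5 : c⁻¹ * z = z * c⁻¹ := by
          rw [inv_mul_eq_iff_eq_mul, ← mul_assoc, ← I.zc, mul_inv_cancel_right]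
        calc c * y⁻¹ * c⁻¹ = c * (z⁻¹ * y * z) * c⁻¹ := by rw [I.zinv hy]
          _ = (c * z⁻¹) * y * (z * c⁻¹) := by group
          _ = (z⁻¹ * c) * y * (c⁻¹ * z) := by rw [e4, e5]
          _ = z⁻¹ * (c * y * c⁻¹) * z := by group
      rw [e3, ← I.nz, e2]
      group
    rw [e1] at h1
    exact h1.eq

end Inp

/-! ### the element `σ` -/

/-- `σ` inside one factor -/
theorem exists_sigma_one {L : Subgroup G} (iso : Nonempty (L ≃* SL5)) {z h n : G} (hh : h ∈ L)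
    (hn : n ∈ L) (h2 : h * h = z) (n2 : n * n = z) (zz : z * z = 1) (z1 : z ≠ 1)
    (nh : n * h * n⁻¹ = h⁻¹) : ∃ s ∈ L, s ^ 3 = 1 ∧ s * h * s⁻¹ = n ∧ s * n * s⁻¹ = h * n := by
  obtain ⟨f⟩ := iso
  obtain ⟨H, hH⟩ : ∃ H : L, H = ⟨h, hh⟩ := ⟨_, rfl⟩
  obtain ⟨N, hN⟩ : ∃ N : L, N = ⟨n, hn⟩ := ⟨_, rfl⟩
  have e1 : ((H * H : L) : G) = z := by rw [hH]; exact h2
  have e2 : ((N * N : L) : G) = z := by rw [hN]; exact n2
  have a1 : f H * f H ≠ 1 := by
    rw [← map_mul]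
    intro h0
    apply z1
    rw [← e1]
    have : H * H = 1 := f.injective (by rw [h0, map_one])
    rw [this, OneMemClass.coe_one]
  have a2 : f H * f H * (f H * f H) = 1 := by
    rw [← map_mul, ← map_mul]
    have : H * H * (H * H) = 1 := by
      apply Subtype.ext
      rw [Subgroup.coe_mul, e1, zz, OneMemClass.coe_one]
    rw [this, map_one]
  have a3 : f N * f N = f H * f H := by
    rw [← map_mul, ← map_mul]
    congr 1
    exact Subtype.ext (e2.trans e1.symm)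
  have a4 : f N * f H * (f N)⁻¹ = (f H)⁻¹ := by
    rw [← map_mul, ← map_inv, ← map_mul, ← map_inv]
    congr 1
    apply Subtype.ext
    rw [hH, hN]
    exact nh
  obtain ⟨S, s1, s2, s3⟩ := exists_sigma_sl a1 a2 a3 a4
  obtain ⟨s, rfl⟩ := f.surjective S
  refine ⟨s, s.2, ?_, ?_, ?_⟩
  · have : s ^ 3 = 1 := f.injective (by rw [map_pow, s1, map_one])
    exact congrArg Subtype.val this
  · have : s * H * s⁻¹ = N := f.injective (by rw [map_mul, map_mul, map_inv, s2])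
    rw [hH, hN] at this
    exact congrArg Subtype.val this
  · have : s * N * s⁻¹ = H * N := f.injective (by rw [map_mul, map_mul, map_inv, map_mul, s3])
    rw [hH, hN] at this
    exact congrArg Subtype.val this

/-- **The element `σ`** of steps (1), (2): `e = h₁h₂`, `c = n₁n₂`. -/
theorem exists_sigma {L₁ L₂ : Subgroup G} (iso₁ : Nonempty (L₁ ≃* SL5))
    (iso₂ : Nonempty (L₂ ≃* SL5)) (comm : ∀ a ∈ L₁, ∀ b ∈ L₂, a * b = b * a) {z h₁ n₁ h₂ n₂ : G}
    (hh₁ : h₁ ∈ L₁) (hn₁ : n₁ ∈ L₁) (hh₂ : h₂ ∈ L₂) (hn₂ : n₂ ∈ L₂) (h1 : h₁ * h₁ = z)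
    (n1 : n₁ * n₁ = z) (h2 : h₂ * h₂ = z) (n2 : n₂ * n₂ = z) (zz : z * z = 1) (z1 : z ≠ 1)
    (nh₁ : n₁ * h₁ * n₁⁻¹ = h₁⁻¹) (nh₂ : n₂ * h₂ * n₂⁻¹ = h₂⁻¹) :
    ∃ σ ∈ L₁ ⊔ L₂, σ ^ 3 = 1 ∧ σ * z * σ⁻¹ = z ∧ σ * (h₁ * h₂) * σ⁻¹ = n₁ * n₂ ∧
      σ * (n₁ * n₂) * σ⁻¹ = h₁ * h₂ * (n₁ * n₂) ∧ σ * h₁ * σ⁻¹ = n₁ ∧ σ * n₁ * σ⁻¹ = h₁ * n₁ ∧
      σ * h₂ * σ⁻¹ = n₂ ∧ σ * n₂ * σ⁻¹ = h₂ * n₂ := by
  obtain ⟨s, hs, s3, sh, sn⟩ := exists_sigma_one iso₁ hh₁ hn₁ h1 n1 zz z1 nh₁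
  obtain ⟨t, ht, t3, th, tn⟩ := exists_sigma_one iso₂ hh₂ hn₂ h2 n2 zz z1 nh₂
  have hst : Commute s t := comm s hs t ht
  have key₁ : ∀ a ∈ L₁, (s * t) * a * (s * t)⁻¹ = s * a * s⁻¹ := by
    intro a ha
    calc (s * t) * a * (s * t)⁻¹ = s * (t * a) * t⁻¹ * s⁻¹ := by group
      _ = s * (a * t) * t⁻¹ * s⁻¹ := by rw [comm a ha t ht]
      _ = s * a * s⁻¹ := by group
  have key₂ : ∀ b ∈ L₂, (s * t) * b * (s * t)⁻¹ = t * b * t⁻¹ := by
    intro b hb
    have h0 : s * (t * b * t⁻¹) = t * b * t⁻¹ * s :=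
      comm s hs _ (L₂.mul_mem (L₂.mul_mem ht hb) (L₂.inv_mem ht))
    calc (s * t) * b * (s * t)⁻¹ = s * (t * b * t⁻¹) * s⁻¹ := by group
      _ = t * b * t⁻¹ := by rw [h0]; group
  have k1 : (s * t) * h₁ * (s * t)⁻¹ = n₁ := by rw [key₁ _ hh₁, sh]
  have k2 : (s * t) * n₁ * (s * t)⁻¹ = h₁ * n₁ := by rw [key₁ _ hn₁, sn]
  have k3 : (s * t) * h₂ * (s * t)⁻¹ = n₂ := by rw [key₂ _ hh₂, th]
  have k4 : (s * t) * n₂ * (s * t)⁻¹ = h₂ * n₂ := by rw [key₂ _ hn₂, tn]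
  refine ⟨s * t, mul_mem (mem_sup_left hs) (mem_sup_right ht), ?_, ?_, ?_, ?_, k1, k2, k3, k4⟩
  · rw [hst.mul_pow, s3, t3, one_mul]
  · have e1 : (s * t) * z * (s * t)⁻¹ = ((s * t) * h₁ * (s * t)⁻¹) * ((s * t) * h₁ * (s * t)⁻¹) := by
      rw [← h1]; group
    rw [e1, k1, n1]
  · have e1 : (s * t) * (h₁ * h₂) * (s * t)⁻¹ =
        ((s * t) * h₁ * (s * t)⁻¹) * ((s * t) * h₂ * (s * t)⁻¹) := by group
    rw [e1, k1, k3]
  · have e1 : (s * t) * (n₁ * n₂) * (s * t)⁻¹ =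
        ((s * t) * n₁ * (s * t)⁻¹) * ((s * t) * n₂ * (s * t)⁻¹) := by group
    rw [e1, k2, k4]
    have e2 := comm n₁ hn₁ h₂ hh₂
    calc h₁ * n₁ * (h₂ * n₂) = h₁ * (n₁ * h₂) * n₂ := by group
      _ = h₁ * (h₂ * n₁) * n₂ := by rw [e2]
      _ = h₁ * h₂ * (n₁ * n₂) := by group

end Cfsg.Agent.LFourFive.OneTwo
end

-- part: LFourFive/StepFiveSL
section
/-!
# `L4(5)`, step (5): the instance `X ≤ L ≅ SL(2,5)`, `C(e)` permutes `{L, L'}`, `C(L) ≤ L'`.
-/

set_option autoImplicit false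
open Cfsg

namespace Cfsg.Agent.LFourFive.StepFiveSL

open Subgroup Cfsg.Agent.Lib.SL2Mat Cfsg.Agent.Lib.AutSL2 Cfsg.Agent.LFourFive.StepFive

universe u

local notation "SL5" => Matrix.SpecialLinearGroup (Fin 2) (ZMod 5)

local instance factFive : Fact (Nat.Prime 5) := ⟨by norm_num⟩

theorem two_ne : (2 : ZMod 5) ≠ 0 := by decide

/-- an automorphism of `SL(2,5)` fixing an element `u` of order `5` is conjugation by a power of `u` -/
theorem eq_conj (α : MulAut SL5) {u : SL5} (hu : orderOf u = 5) (hα : α u = u) :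
    ∃ n : ℕ, ∀ x, α x = u ^ n * x * (u ^ n)⁻¹ := by
  have hP : IsPGroup 5 (zpowers u) := by
    apply IsPGroup.of_card (n := 1)
    rw [Nat.card_zpowers, hu, pow_one]
  obtain ⟨Q, hQ⟩ := hP.exists_le_sylow
  obtain ⟨s, hs⟩ := MulAction.exists_smul_eq SL5 (sylU (ZMod 5) 5) Q
  have huQ : u ∈ Q := hQ (mem_zpowers u)
  rw [← hs, mem_smul_sylow] at huQ
  obtain ⟨b, hb⟩ : ∃ b, up b = s⁻¹ * u * s := huQ
  have hb0 : b ≠ 0 := by
    rintro rfl
    rw [up_zero] at hb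
    have : u = 1 := by
      calc u = s * (s⁻¹ * u * s) * s⁻¹ := by group
        _ = 1 := by rw [← hb]; group
    rw [this, orderOf_one] at hu
    exact absurd hu (by norm_num)
  have hub : u = s * up b * s⁻¹ := by rw [hb]; group
  let β : MulAut SL5 := (MulAut.conj s)⁻¹ * α * MulAut.conj s
  have hβ : ∀ x, β x = s⁻¹ * α (s * x * s⁻¹) * s := by
    intro x
    change (MulAut.conj s)⁻¹ (α (MulAut.conj s x)) = _
    rw [← map_inv, MulAut.conj_apply, MulAut.conj_apply, inv_inv]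
  have hβb : β (up b) = up b := by rw [hβ, ← hub, hα, ← hb]
  obtain ⟨g, σ, hg⟩ := exists_gl_ringEquiv (MonoidHom.id SL5) (fun x => ⟨x, rfl⟩)
    (by rw [MonoidHom.ker_id]; exact bot_le) β
  have hσ : σ = RingEquiv.refl (ZMod 5) := Subsingleton.elim _ _
  have hg' : ∀ x, β x = conjGL g x := by
    intro x
    have h1 := hg x
    rw [hσ] at h1
    have h2 : fieldAut (RingEquiv.refl (ZMod 5)) x = x := by
      have : (RingEquiv.refl (ZMod 5)) = 1 := rfl
      rw [this, map_one]; rfl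
    rw [h2] at h1
    exact h1
  have hgb : g.1 * (up b).1 = (up b).1 * g.1 := by
    have h1 : (conjGL g (up b)).1 = (up b).1 := by rw [← hg', hβb]
    rw [conjGL_val] at h1
    calc g.1 * (up b).1 = (g.1 * (up b).1 * g⁻¹.1) * g.1 := by
          rw [Matrix.mul_assoc, ← Units.val_mul, inv_mul_cancel, Units.val_one, Matrix.mul_one]
      _ = (up b).1 * g.1 := by rw [h1]
  have hup : ∀ c : ZMod 5, (up c).1 = !![1, c; 0, 1] := by
    intro c
    ext i j
    fin_cases i <;> fin_cases j <;> rfl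
  have h10 : g.1 1 0 = 0 := by
    have h1 := congrFun (congrFun hgb 1) 1
    rw [hup] at h1
    simp only [Matrix.mul_apply, Fin.sum_univ_two, Matrix.of_apply, Matrix.cons_val', Matrix.cons_val_zero,
      Matrix.cons_val_one, Matrix.empty_val', Matrix.cons_val_fin_one] at h1
    have h2 : g.1 1 0 * b = 0 := by linear_combination h1
    exact (mul_eq_zero.mp h2).resolve_right hb0
  have h00 : g.1 0 0 = g.1 1 1 := by
    have h1 := congrFun (congrFun hgb 0) 1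
    rw [hup] at h1
    simp only [Matrix.mul_apply, Fin.sum_univ_two, Matrix.of_apply, Matrix.cons_val', Matrix.cons_val_zero,
      Matrix.cons_val_one, Matrix.empty_val', Matrix.cons_val_fin_one] at h1
    have h2 : (g.1 0 0 - g.1 1 1) * b = 0 := by linear_combination h1
    exact sub_eq_zero.mp ((mul_eq_zero.mp h2).resolve_right hb0)
  have hdet : g.1.det ≠ 0 := g.isUnit.map Matrix.detMonoidHom |>.ne_zero
  have ha0 : g.1 0 0 ≠ 0 := by
    intro h0
    apply hdet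
    rw [Matrix.det_fin_two, h10, h0]; ring
  set c : ZMod 5 := g.1 0 1 / g.1 0 0 with hc
  have hgc : g.1 = g.1 0 0 • (up c).1 := by
    rw [hup]
    ext i j
    fin_cases i <;> fin_cases j
    · simp
    · simp [hc, mul_div_cancel₀ _ ha0]
    · simp [h10]
    · simp [h00]
  have hconj : ∀ x, conjGL g x = up c * x * (up c)⁻¹ := by
    intro x
    apply Subtype.ext
    have h1 : (conjGL g x).1 * g.1 = g.1 * x.1 := by
      rw [conjGL_val, Matrix.mul_assoc, ← Units.val_mul, inv_mul_cancel, Units.val_one, Matrix.mul_one]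
    have h2 : (up c * x * (up c)⁻¹).1 * g.1 = g.1 * x.1 := by
      have h3 : (up c * x * (up c)⁻¹).1 * (up c).1 = (up c).1 * x.1 := by
        have : (up c * x * (up c)⁻¹) * up c = up c * x := by group
        exact congrArg Subtype.val this
      rw [hgc, Matrix.mul_smul, h3, Matrix.smul_mul]
    have h4 : (conjGL g x).1 * g.1 = (up c * x * (up c)⁻¹).1 * g.1 := by rw [h1, h2]
    exact g.isUnit.mul_right_cancel h4
  refine ⟨(c * b⁻¹).val, fun x => ?_⟩
  have hpow : (up b) ^ (c * b⁻¹).val = up c := by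
    rw [up_pow, ZMod.natCast_zmod_val, mul_assoc, inv_mul_cancel₀ hb0, mul_one]
  have hun : u ^ (c * b⁻¹).val = s * up c * s⁻¹ := by
    rw [hub, conj_pow, hpow]
  have h1 := hβ (s⁻¹ * x * s)
  rw [hg', hconj] at h1
  have h2 : s * (s⁻¹ * x * s) * s⁻¹ = x := by group
  rw [h2] at h1
  calc α x = s * (s⁻¹ * α x * s) * s⁻¹ := by group
    _ = s * (up c * (s⁻¹ * x * s) * (up c)⁻¹) * s⁻¹ := by rw [← h1]
    _ = _ := by rw [hun]; group

variable {G : Type u} [Group G]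

/-- two commuting `SL(2,5)` with common involution `e`, permuted by `C(e)`, `C(L) ≤ L'` -/
structure Pair (e : G) (L L' : Subgroup G) : Prop where
  ne : e ≠ 1
  ee : e * e = 1
  mem : e ∈ L
  mem' : e ∈ L'
  iso : Nonempty (L ≃* Matrix.SpecialLinearGroup (Fin 2) (ZMod 5))
  iso' : Nonempty (L' ≃* Matrix.SpecialLinearGroup (Fin 2) (ZMod 5))
  comm : ∀ a ∈ L, ∀ b ∈ L', a * b = b * a
  cent : ∀ g, (∀ l ∈ L, g * l = l * g) → g ∈ L'
  perm : ∀ g, g * e = e * g → L.map (MulAut.conj g).toMonoidHom = L ∨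
    L.map (MulAut.conj g).toMonoidHom = L'

variable {e : G} {L L' X : Subgroup G}

theorem eq_or_of_iso {L : Subgroup G} (f : L ≃* SL5) (he : e ∈ L) (hee : e * e = 1) (he1 : e ≠ 1)
    {k : G} (hk : k ∈ L) (hkk : k * k = 1) : k = 1 ∨ k = e := by
  have key : ∀ x : L, (x : G) * x = 1 → f x = 1 ∨ f x = -1 := by
    intro x hx
    apply Cfsg.Agent.Lib.PSL2Inv.sq_eq_one two_ne
    rw [← map_mul]
    have : x * x = 1 := Subtype.ext hx
    rw [this, map_one]
  rcases key ⟨k, hk⟩ hkk with h | h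
  · left
    have := (f.map_eq_one_iff).mp h
    exact congrArg Subtype.val this
  · right
    rcases key ⟨e, he⟩ hee with h' | h'
    · exact absurd (congrArg Subtype.val ((f.map_eq_one_iff).mp h')) he1
    · rw [← h'] at h
      exact congrArg Subtype.val (f.injective h)

theorem core_of_iso [Finite G] {L : Subgroup G} (f : L ≃* SL5) (N : Subgroup G) (hN : N ≤ L)
    (ho : Odd (Nat.card N)) (hn : ∀ k ∈ L, ∀ n ∈ N, k * n * k⁻¹ ∈ N) : N = ⊥ := by
  have h1 : ((N.subgroupOf L).map f.toMonoidHom) = ⊥ := by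
    apply Cfsg.Agent.SylowSp4.SLGen.eq_bot_of_odd (F := ZMod 5)
    · rw [ZMod.card]; decide
    · have : (N.subgroupOf L).Normal := ⟨fun n hn' g => by
        rw [mem_subgroupOf] at hn' ⊢
        exact hn g g.2 _ hn'⟩
      exact this.map _ f.surjective
    · rw [Nat.card_congr ((N.subgroupOf L).equivMapOfInjective f.toMonoidHom f.injective).toEquiv.symm,
        Nat.card_congr (subgroupOfEquivOfLe hN).toEquiv]
      exact ho
  rw [eq_bot_iff]
  intro x hx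
  have h2 : f ⟨x, hN hx⟩ ∈ ((N.subgroupOf L).map f.toMonoidHom) := ⟨⟨x, hN hx⟩, hx, rfl⟩
  rw [h1, mem_bot] at h2
  exact congrArg Subtype.val ((f.map_eq_one_iff).mp h2)

theorem orderOf_eq_five {x : G} (hX : Nat.card X = 5) (hx : x ∈ X) (h1 : x ≠ 1) : orderOf x = 5 := by
  have h2 : orderOf x ∣ 5 := by
    rw [← hX]; exact orderOf_dvd_of_pow_eq_one (pow_card_eq hx)
  rcases (Nat.dvd_prime (by norm_num)).mp h2 with h | h
  · exact absurd (orderOf_eq_one_iff.mp h) h1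
  · exact h

theorem Pair.toCen [Finite G] (h : Pair e L L') (hXL : X ≤ L) (hX : Nat.card X = 5) :
    Cen e X L' := by
  obtain ⟨f⟩ := h.iso
  obtain ⟨f'⟩ := h.iso'
  have hcyc : IsCyclic X := isCyclic_of_prime_card hX
  obtain ⟨u, hu⟩ := hcyc.exists_generator
  have huX : ∀ x ∈ X, ∃ n : ℤ, (u : G) ^ n = x := by
    intro x hx
    obtain ⟨n, hn⟩ := hu ⟨x, hx⟩
    exact ⟨n, congrArg Subtype.val hn⟩
  have hab : ∀ x ∈ X, ∀ y ∈ X, x * y = y * x := by
    intro x hx y hy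
    obtain ⟨n, rfl⟩ := huX x hx
    obtain ⟨m, rfl⟩ := huX y hy
    rw [← zpow_add, ← zpow_add, add_comm]
  have hu1 : (u : G) ≠ 1 := by
    intro h1
    have hle : X ≤ ⊥ := by
      intro x hx
      obtain ⟨n, rfl⟩ := huX x hx
      rw [h1, one_zpow]; exact one_mem _
    have h0 : X = ⊥ := le_bot_iff.mp hle
    rw [h0, Subgroup.card_bot] at hX
    exact absurd hX (by norm_num)
  have hu5 : orderOf (u : G) = 5 := orderOf_eq_five hX u.2 hu1
  have huL : (u : G) ∈ L := hXL u.2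
  have hfu5 : orderOf (f ⟨u, huL⟩) = 5 := by
    rw [MulEquiv.orderOf_eq f, ← Subgroup.orderOf_coe]; exact hu5
  refine ⟨h.ne, h.ee, by rw [hX]; decide, fun x hx => (h.comm x (hXL hx) e h.mem').symm, hab,
    fun k hk x hx => (h.comm x (hXL hx) k hk).symm, fun k hk hkk => eq_or_of_iso f' h.mem' h.ee h.ne hk hkk,
    fun N hN ho hn => core_of_iso f' N hN ho hn, ?_⟩
  intro y hy hye
  rcases h.perm y hye with hp | hp
  · have hyL : ∀ l ∈ L, y * l * y⁻¹ ∈ L := by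
      intro l hl
      rw [← hp]; exact ⟨l, hl, rfl⟩
    have hyn : y ∈ normalizer (L : Set G) := by
      rw [mem_normalizer_iff]
      intro l
      constructor
      · exact hyL l
      · intro hl
        rw [← hp] at hl
        obtain ⟨l', hl', h1⟩ := hl
        have h2 : y * l' * y⁻¹ = y * l * y⁻¹ := h1
        have h3 : l' = l := by simpa using h2
        rw [← h3]; exact hl'
    let α : MulAut SL5 := MulAut.congr f (L.normalizerMonoidHom ⟨y, hyn⟩)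
    have hα : ∀ l : L, α (f l) = f ⟨y * l * y⁻¹, hyL l l.2⟩ := by
      intro l
      change f (L.normalizerMonoidHom ⟨y, hyn⟩ (f.symm (f l))) = _
      rw [MulEquiv.symm_apply_apply]
      rfl
    have hαu : α (f ⟨u, huL⟩) = f ⟨u, huL⟩ := by
      rw [hα]
      congr 1
      apply Subtype.ext
      change y * (u : G) * y⁻¹ = u
      rw [hy u u.2, mul_inv_cancel_right]
    obtain ⟨n, hn⟩ := eq_conj α hfu5 hαu
    refine ⟨(u : G) ^ n, X.pow_mem u.2 n, ((u : G) ^ n)⁻¹ * y, ?_, by group⟩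
    apply h.cent
    intro l hl
    have h1 := hα ⟨l, hl⟩
    rw [hn, ← map_pow, ← map_inv, ← map_mul, ← map_mul] at h1
    have h2 := congrArg Subtype.val (f.injective h1)
    have h3 : (u : G) ^ n * l * ((u : G) ^ n)⁻¹ = y * l * y⁻¹ := h2
    calc ((u : G) ^ n)⁻¹ * y * l = ((u : G) ^ n)⁻¹ * (y * l * y⁻¹) * y := by group
      _ = l * (((u : G) ^ n)⁻¹ * y) := by rw [← h3]; group
  · exfalso
    have huL' : (u : G) ∈ L' := by
      rw [← hp]
      refine ⟨u, huL, ?_⟩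
      change y * (u : G) * y⁻¹ = u
      rw [hy u u.2, mul_inv_cancel_right]
    have hcen : f ⟨u, huL⟩ ∈ center SL5 := by
      rw [mem_center_iff]
      intro g
      obtain ⟨l, rfl⟩ := f.surjective g
      rw [← map_mul, ← map_mul]
      congr 1
      apply Subtype.ext
      exact h.comm l l.2 u huL'
    rcases Cfsg.Agent.ClassicalGeometry.PSL2Klein.mem_center.1 hcen with h1 | h1
    · rw [h1, orderOf_one] at hfu5
      exact absurd hfu5 (by norm_num)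
    · have : orderOf (f ⟨u, huL⟩) ∣ 2 := by
        apply orderOf_dvd_of_pow_eq_one
        rw [h1, pow_two, neg_mul_neg, one_mul]
      rw [hfu5] at this
      exact absurd this (by norm_num)

/-- the core of `C(X)` -/
theorem Pair.exists_core [Finite G] (h : Pair e L L') (hXL : X ≤ L) (hX : Nat.card X = 5) :
    ∃ Q : Subgroup G, Core e X L' Q := (h.toCen hXL hX).exists_core

/-- step (5): `a`, `b` of odd order in `C(X)`, inverted by `e`; then `[a^n, b^m] ∈ X` for `n, m ∈ C(X)` -/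
theorem Pair.comm_mem [Finite G] (h : Pair e L L') (hXL : X ≤ L) (hX : Nat.card X = 5) {a b n m : G}
    (ha : a ∈ centralizer (X : Set G)) (ha' : Odd (orderOf a)) (hae : e * a * e⁻¹ = a⁻¹)
    (hb : b ∈ centralizer (X : Set G)) (hb' : Odd (orderOf b)) (hbe : e * b * e⁻¹ = b⁻¹)
    (hn : n ∈ centralizer (X : Set G)) (hm : m ∈ centralizer (X : Set G)) :
    (n * a * n⁻¹) * (m * b * m⁻¹) * (n * a * n⁻¹)⁻¹ * (m * b * m⁻¹)⁻¹ ∈ X := by
  obtain ⟨Q, hQ⟩ := h.exists_core hXL hX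
  exact hQ.comm_mem ha ha' hae hb hb' hbe hn hm

/-- step (5) for subgroups: `[A^n, B^m] ≤ X` -/
theorem Pair.commutator_le [Finite G] (h : Pair e L L') (hXL : X ≤ L) (hX : Nat.card X = 5)
    {A B : Subgroup G} (hA : A ≤ centralizer (X : Set G)) (hA' : Odd (Nat.card A))
    (hAe : ∀ a ∈ A, e * a * e⁻¹ = a⁻¹) (hB : B ≤ centralizer (X : Set G)) (hB' : Odd (Nat.card B))
    (hBe : ∀ b ∈ B, e * b * e⁻¹ = b⁻¹) {n m : G} (hn : n ∈ centralizer (X : Set G))
    (hm : m ∈ centralizer (X : Set G)) :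
    ∀ a ∈ A.map (MulAut.conj n).toMonoidHom, ∀ b ∈ B.map (MulAut.conj m).toMonoidHom,
      a * b * a⁻¹ * b⁻¹ ∈ X := by
  rintro _ ⟨a, ha, rfl⟩ _ ⟨b, hb, rfl⟩
  exact h.comm_mem hXL hX (hA ha) (odd_orderOf hA' ha) (hAe a ha) (hB hb) (odd_orderOf hB' hb) (hBe b hb)
    hn hm

end Cfsg.Agent.LFourFive.StepFiveSL
end

-- part: LFourFive/LabPair
section
/-!
# The instances of `Gen.Data`, `Pair` and `OneTwo.Inp` from `InpFive`
-/

set_option autoImplicit false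
set_option linter.unusedSectionVars false

namespace Cfsg.Agent.LFourFive

open Subgroup Cfsg.Agent.LFourR

universe u

variable {G : Type u} [Group G] {z e ρ n1 n2 h1 h2 : G} {L1 L2 U : Subgroup G}

local instance factFive' : Fact (Nat.Prime 5) := ⟨by norm_num⟩

theorem exists_conj_of_sq {L : Subgroup G} (iso : Nonempty (L ≃* Matrix.SpecialLinearGroup (Fin 2) (ZMod 5)))
    {h h' : G} (hh : h ∈ L) (hh' : h' ∈ L) (hz : h * h = z) (hz' : h' * h' = z) (hzz : z * z = 1) (hz1 : z ≠ 1) :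
    ∃ l ∈ L, l * h' * l⁻¹ = h := by
  obtain ⟨f⟩ := iso
  have key : ∀ (h : G) (hh : h ∈ L), h * h = z → f ⟨h, hh⟩ * f ⟨h, hh⟩ = -1 := by
    intro h hh hz
    have h3 : (f ⟨h, hh⟩ * f ⟨h, hh⟩) * (f ⟨h, hh⟩ * f ⟨h, hh⟩) = 1 := by
      rw [← map_mul, ← map_mul]
      have : (⟨h, hh⟩ : L) * ⟨h, hh⟩ * (⟨h, hh⟩ * ⟨h, hh⟩) = 1 := by
        apply Subtype.ext
        change h * h * (h * h) = 1
        rw [hz, hzz]
      rw [this, map_one]
    rcases Cfsg.Agent.Lib.PSL2Inv.sq_eq_one LabSL.two_ne h3 with h4 | h4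
    · exfalso
      apply hz1
      rw [← map_mul, ← map_one f] at h4
      have := congrArg Subtype.val (f.injective h4)
      rw [← hz]; exact this
    · exact h4
  obtain ⟨s, hs⟩ := LabSL.exists_conj _ (key h hh hz)
  obtain ⟨s', hs'⟩ := LabSL.exists_conj _ (key h' hh' hz')
  obtain ⟨t, ht⟩ := f.surjective (s⁻¹ * s')
  refine ⟨t, t.2, ?_⟩
  have h5 : f (t * ⟨h', hh'⟩ * t⁻¹) = f ⟨h, hh⟩ := by
    rw [map_mul, map_mul, map_inv, ht]
    calc s⁻¹ * s' * f ⟨h', hh'⟩ * (s⁻¹ * s')⁻¹ = s⁻¹ * (s' * f ⟨h', hh'⟩ * s'⁻¹) * s := by group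
      _ = s⁻¹ * (s * f ⟨h, hh⟩ * s⁻¹) * s := by rw [hs, hs']
      _ = f ⟨h, hh⟩ := by group
  exact congrArg Subtype.val (f.injective h5)

theorem mem_sup_comm {A B : Subgroup G} (h : ∀ x ∈ A, ∀ y ∈ B, x * y = y * x) {x : G} (hx : x ∈ A ⊔ B) :
    ∃ a ∈ A, ∃ b ∈ B, x = a * b := by
  let S : Subgroup G :=
    { carrier := {x | ∃ a ∈ A, ∃ b ∈ B, x = a * b}
      one_mem' := ⟨1, one_mem _, 1, one_mem _, by rw [mul_one]⟩
      mul_mem' := by
        rintro _ _ ⟨a, ha, b, hb, rfl⟩ ⟨a', ha', b', hb', rfl⟩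
        refine ⟨a * a', mul_mem ha ha', b * b', mul_mem hb hb', ?_⟩
        calc a * b * (a' * b') = a * (b * a') * b' := by group
          _ = a * (a' * b) * b' := by rw [h a' ha' b hb]
          _ = _ := by group
      inv_mem' := by
        rintro _ ⟨a, ha, b, hb, rfl⟩
        refine ⟨a⁻¹, inv_mem ha, b⁻¹, inv_mem hb, ?_⟩
        rw [mul_inv_rev, h _ (inv_mem ha) _ (inv_mem hb)] }
  have h1 : A ⊔ B ≤ S := sup_le (fun a ha => ⟨a, ha, 1, one_mem _, by rw [mul_one]⟩)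
    (fun b hb => ⟨1, one_mem _, b, hb, by rw [one_mul]⟩)
  exact h1 hx

namespace InpFive

variable (h : InpFive z e ρ n1 n2 h1 h2 L1 L2 U)

include h

theorem inf12 {a : G} (ha : a ∈ L1) (ha' : a ∈ L2) : a = 1 ∨ a = z := by
  obtain ⟨f⟩ := h.iso1
  have hc : f ⟨a, ha⟩ ∈ center (Matrix.SpecialLinearGroup (Fin 2) (ZMod 5)) := by
    rw [mem_center_iff]
    intro g
    obtain ⟨g, rfl⟩ := f.surjective g
    rw [← map_mul, ← map_mul]
    congr 1
    exact Subtype.ext (h.comm _ g.2 _ ha')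
  obtain ⟨r, hr, hr2⟩ := Matrix.SpecialLinearGroup.mem_center_iff.1 hc
  have hsq : f ⟨a, ha⟩ * f ⟨a, ha⟩ = 1 := by
    apply Subtype.ext
    rw [Matrix.SpecialLinearGroup.coe_mul, ← hr2, ← map_mul, Matrix.SpecialLinearGroup.coe_one]
    rw [Fintype.card_fin, pow_two] at hr
    rw [hr, map_one]
  have haa : a * a = 1 := by
    rw [← map_mul, ← map_one f] at hsq
    exact congrArg Subtype.val (f.injective hsq)
  have key : ∀ (x : G) (hx : x ∈ L1), x * x = 1 → f ⟨x, hx⟩ = 1 ∨ f ⟨x, hx⟩ = -1 := by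
    intro x hx hxx
    apply Cfsg.Agent.Lib.PSL2Inv.sq_eq_one LabSL.two_ne
    rw [← map_mul]
    have : (⟨x, hx⟩ : L1) * ⟨x, hx⟩ = 1 := Subtype.ext hxx
    rw [this, map_one]
  rcases key a ha haa with h7 | h7
  · left
    rw [← map_one f] at h7
    exact congrArg Subtype.val (f.injective h7)
  · right
    rcases key z h.z_mem h.zz with h8 | h8
    · rw [← map_one f] at h8
      exact absurd (congrArg Subtype.val (f.injective h8)) h.z_ne
    · rw [← h8] at h7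
      exact congrArg Subtype.val (f.injective h7)

theorem data : Gen.Data z e ρ n1 n2 L1 L2 := by
  refine
    { ee := h.ee
      ze := h.ze
      comm := h.comm
      zL₁ := h.z_mem
      zL₂ := h.z_mem2
      z_ne := h.z_ne
      perm := fun g hg => h.perm g hg
      hn₁ := h.n1_mem
      hn₂ := h.n2_mem
      e_n₁ := ?_
      ρz := h.ρ_z
      ρe := h.ρ_e
      swap := ⟨h.swap, h.w_L2⟩
      Z := ?_
      frat := ?_ }
  · have h3 := h.n1_e
    have h4 := h.zz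
    calc e * n1 * e⁻¹ = z * z * e * n1 * e⁻¹ := by rw [h4, one_mul]
      _ = z * (z * e) * n1 * e⁻¹ := by group
      _ = z * (n1 * e * n1⁻¹) * n1 * e⁻¹ := by rw [h3]
      _ = z * n1 := by group
      _ = n1 * z := h.n1_z.symm
  · intro x hx1 hx2
    have hx : x ∈ L2 := h.cen x hx1
    refine ⟨?_, fun hxx => ?_⟩
    · rw [h.e_eq, ← mul_assoc, hx1 _ h.h1_mem, mul_assoc, hx2 _ h.h2_mem, mul_assoc]
    · obtain ⟨f⟩ := h.iso2
      exact StepFiveSL.eq_or_of_iso f h.z_mem2 h.zz h.z_ne hx hxx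
  · intro g hg
    have hsq : ∀ a : G, a * a = z → g * a * g⁻¹ * (g * a * g⁻¹) = z := by
      intro a ha
      calc g * a * g⁻¹ * (g * a * g⁻¹) = g * (a * a) * g⁻¹ := by group
        _ = z := by rw [ha, hg, mul_inv_cancel_right]
    have fin : ∀ l1 ∈ L1, ∀ l2 ∈ L2, ∀ a ∈ L1, ∀ b ∈ L2, l1 * a * l1⁻¹ = h1 → l2 * b * l2⁻¹ = h2 →
        g * e * g⁻¹ = a * b → l1 * l2 * g * e * (l1 * l2 * g)⁻¹ = e * 1 := by
      intro l1 hl1 l2 hl2 a ha b hb e1 e2 e3
      calc l1 * l2 * g * e * (l1 * l2 * g)⁻¹ = l1 * l2 * (g * e * g⁻¹) * (l1 * l2)⁻¹ := by group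
        _ = l1 * (l2 * a) * b * l2⁻¹ * l1⁻¹ := by rw [e3]; group
        _ = l1 * a * (l2 * b * l2⁻¹ * l1⁻¹) := by rw [← h.comm a ha l2 hl2]; group
        _ = l1 * a * (l1⁻¹ * (l2 * b * l2⁻¹)) := by
            rw [h.comm l1⁻¹ (inv_mem hl1) _ (mul_mem (mul_mem hl2 hb) (inv_mem hl2))]
        _ = (l1 * a * l1⁻¹) * (l2 * b * l2⁻¹) := by group
        _ = e * 1 := by rw [e1, e2, ← h.e_eq, mul_one]
    rcases h.perm g hg with ⟨p1, p2⟩ | ⟨p1, p2⟩
    · have m1 : g * h1 * g⁻¹ ∈ L1 := by rw [← p1]; exact conj_mem_cg h.h1_mem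
      have m2 : g * h2 * g⁻¹ ∈ L2 := by rw [← p2]; exact conj_mem_cg h.h2_mem
      obtain ⟨l1, hl1, e1⟩ := exists_conj_of_sq h.iso1 h.h1_mem m1 h.h1_sq (hsq _ h.h1_sq) h.zz h.z_ne
      obtain ⟨l2, hl2, e2⟩ := exists_conj_of_sq h.iso2 h.h2_mem m2 h.h2_sq (hsq _ h.h2_sq) h.zz h.z_ne
      refine ⟨l1 * l2, mul_mem (mem_sup_left hl1) (mem_sup_right hl2), 1, by simp, by simp, ?_⟩
      exact fin l1 hl1 l2 hl2 _ m1 _ m2 e1 e2 (by rw [h.e_eq, conj_mul3])
    · have m1 : g * h1 * g⁻¹ ∈ L2 := by rw [← p1]; exact conj_mem_cg h.h1_mem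
      have m2 : g * h2 * g⁻¹ ∈ L1 := by rw [← p2]; exact conj_mem_cg h.h2_mem
      obtain ⟨l1, hl1, e1⟩ := exists_conj_of_sq h.iso1 h.h1_mem m2 h.h1_sq (hsq _ h.h2_sq) h.zz h.z_ne
      obtain ⟨l2, hl2, e2⟩ := exists_conj_of_sq h.iso2 h.h2_mem m1 h.h2_sq (hsq _ h.h1_sq) h.zz h.z_ne
      refine ⟨l1 * l2, mul_mem (mem_sup_left hl1) (mem_sup_right hl2), 1, by simp, by simp, ?_⟩
      exact fin l1 hl1 l2 hl2 _ m2 _ m1 e1 e2 (by rw [h.e_eq, h.h1h2, conj_mul3])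

theorem mem_sup_of_five {p : G} (hp : p * z = z * p) (h5 : p ^ 5 = 1) : ∃ a ∈ L1, ∃ b ∈ L2, p = a * b := by
  have e5 : p * (p * (p * (p * p))) = 1 := by
    rw [← h5]
    simp only [pow_succ, pow_zero, one_mul, mul_assoc]
  have hp1 : cg p L1 = L1 := by
    rcases h.perm p hp with ⟨q1, q2⟩ | ⟨q1, q2⟩
    · exact q1
    · exfalso
      have h3 : cg (p * (p * (p * (p * p)))) L1 = L2 := by
        rw [cg_mul, cg_mul, cg_mul, cg_mul, q1, q2, q1, q2, q1]
      rw [e5, cg_one] at h3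
      exact h.L_ne h3
  obtain ⟨l1, hl1, l2, hl2, u, hu, rfl⟩ := h.str p hp hp1
  have hN : cg u (L1 ⊔ L2) = L1 ⊔ L2 := by rw [cg_sup, h.U_L1 hu, h.U_L2 hu]
  have hl : l1 * l2 ∈ L1 ⊔ L2 := mul_mem (mem_sup_left hl1) (mem_sup_right hl2)
  have hun : u ∈ normalizer ((L1 ⊔ L2 : Subgroup G) : Set G) := mem_normalizer_iff_cg.2 hN
  have key : ∀ k : ℕ, ∃ l ∈ L1 ⊔ L2, (l1 * l2 * u) ^ k = l * u ^ k := by
    intro k
    induction k with
    | zero => exact ⟨1, one_mem _, by simp⟩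
    | succ k ih =>
      obtain ⟨l, hl3, hl4⟩ := ih
      refine ⟨l * (u ^ k * (l1 * l2) * (u ^ k)⁻¹), mul_mem hl3 ?_, ?_⟩
      · exact (mem_normalizer_iff.1 (pow_mem hun k) _).1 hl
      · rw [pow_succ, hl4, pow_succ]; group
  obtain ⟨l, hl3, hl4⟩ := key 5
  rw [h5] at hl4
  have hu5 : u ^ 5 ∈ L1 ⊔ L2 := by
    have : u ^ 5 = l⁻¹ := (inv_eq_of_mul_eq_one_right hl4.symm).symm
    rw [this]; exact inv_mem hl3
  have huN : u ∈ L1 ⊔ L2 := by
    obtain ⟨m, hm⟩ := h.U_two u hu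
    have hco : IsCoprime (5 : ℤ) (2 ^ m : ℤ) := by
      apply IsCoprime.pow_right
      exact Int.isCoprime_iff_gcd_eq_one.2 (by norm_num)
    obtain ⟨a, b, hab⟩ := hco
    have h6 : u = (u ^ 5) ^ a * (u ^ (2 ^ m)) ^ b := by
      rw [← zpow_natCast, ← zpow_natCast, ← zpow_mul, ← zpow_mul, ← zpow_add]
      have : ((5 : ℕ) : ℤ) * a + ((2 ^ m : ℕ) : ℤ) * b = 1 := by
        rw [← hab]; push_cast; ring
      rw [this, zpow_one]
    rw [h6, hm, one_zpow, mul_one]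
    exact zpow_mem hu5 a
  exact mem_sup_comm h.comm (mul_mem hl huN)

theorem e_mem02 : e ∈ cg ρ L1 := by rw [mem_cg, h.ρ_inv_e]; exact h.z_mem

theorem e_mem13 : e ∈ cg ρ L2 := by rw [mem_cg, h.ρ_inv_e]; exact h.z_mem2

theorem comm02 : ∀ a ∈ cg ρ L1, ∀ b ∈ cg ρ L2, a * b = b * a := by
  rintro _ ⟨a, ha, rfl⟩ _ ⟨b, hb, rfl⟩
  change ρ * a * ρ⁻¹ * (ρ * b * ρ⁻¹) = ρ * b * ρ⁻¹ * (ρ * a * ρ⁻¹)
  rw [← conj_mul3, ← conj_mul3, h.comm a ha b hb]

theorem conj_comm_z {g : G} (hg : g * e = e * g) : ρ⁻¹ * g * ρ * z = z * (ρ⁻¹ * g * ρ) := by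
  have h3 := h.ρ_z
  calc ρ⁻¹ * g * ρ * z = ρ⁻¹ * (g * (ρ * z * ρ⁻¹)) * ρ := by group
    _ = ρ⁻¹ * ((ρ * z * ρ⁻¹) * g) * ρ := by rw [h3, hg]
    _ = _ := by group

theorem pair : StepFiveSL.Pair e (cg ρ L1) (cg ρ L2) := by
  refine ⟨h.e_ne, h.ee, h.e_mem02, h.e_mem13, h.good02.iso, h.good13.iso, h.comm02, ?_, ?_⟩
  · intro g hg
    rw [mem_cg]
    apply h.cen
    intro l hl
    have h3 := hg _ (conj_mem_cg (g := ρ) hl)
    calc ρ⁻¹ * g * ρ * l = ρ⁻¹ * (g * (ρ * l * ρ⁻¹)) * ρ := by group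
      _ = ρ⁻¹ * ((ρ * l * ρ⁻¹) * g) * ρ := by rw [h3]
      _ = _ := by group
  · intro g hg
    have h3 : g * ρ = ρ * (ρ⁻¹ * g * ρ) := by group
    rcases h.perm _ (h.conj_comm_z hg) with ⟨q1, q2⟩ | ⟨q1, q2⟩
    · left
      change cg g (cg ρ L1) = cg ρ L1
      rw [← cg_mul, h3, cg_mul, q1]
    · right
      change cg g (cg ρ L1) = cg ρ L2
      rw [← cg_mul, h3, cg_mul, q1]

/-- `z` inverts the root groups of `K02` -/
theorem z_inv02 {P : Subgroup G} (hP : RR z e (cg ρ L1) P) : ∀ x ∈ P, z * x * z⁻¹ = x⁻¹ := by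
  intro x hx
  have h3 := hP.conj_inv h.ρ_V
  have h4 : ρ⁻¹ * x * ρ ∈ cg ρ⁻¹ P := by rw [mem_cg]; have : ρ⁻¹⁻¹ * (ρ⁻¹ * x * ρ) * ρ⁻¹ = x := by group
                                         rw [this]; exact hx
  have h5 := h.good1.2.2 _ h3 _ h4
  have h6 : ρ⁻¹ * x * ρ ∈ L1 := h3.le h4
  have h7 : z * (ρ⁻¹ * x * ρ) * z⁻¹ = ρ⁻¹ * x * ρ := by rw [h.z_L1 _ h6, mul_inv_cancel_right]
  have h8 := h.ρ_ze
  calc z * x * z⁻¹ = ρ * (z * e) * ρ⁻¹ * x * (ρ * (z * e) * ρ⁻¹)⁻¹ := by rw [h8]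
    _ = ρ * (z * (e * (ρ⁻¹ * x * ρ) * e⁻¹) * z⁻¹) * ρ⁻¹ := by group
    _ = ρ * (z * (ρ⁻¹ * x * ρ) * z⁻¹)⁻¹ * ρ⁻¹ := by rw [h5]; group
    _ = x⁻¹ := by rw [h7]; group

theorem oneTwo {P : Subgroup G} (hP : RR z e (cg ρ L1) P) : ∃ σ, OneTwo.Inp (cg ρ L1) (cg ρ L2) P z e (n1 * n2)
    (ρ * h1 * ρ⁻¹) h1 n1 n2 σ := by
  obtain ⟨σ, -, s3, sz, se, sc, sh, sn, -, -⟩ := OneTwo.exists_sigma h.iso1 h.iso2 h.comm h.h1_mem h.n1_mem h.h2_mem
    h.n2_mem h.h1_sq h.n1_sq h.h2_sq h.n2_sq h.zz h.z_ne h.n1_h1 h.n2_h2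
  rw [← h.e_eq] at se sc
  refine ⟨σ,
    { iso := h.good02.iso
      comm := h.comm02
      eK := h.e_mem02
      eK' := h.e_mem13
      ee := h.ee
      e1 := h.e_ne
      inf := ?_
      cK := fun k hk => by rw [← h.c_K02]; exact conj_mem_cg hk
      cK' := fun k hk => by rw [← h.c_K13]; exact conj_mem_cg hk
      cc := h.c_c
      zc := h.c_z.symm
      hK := conj_mem_cg h.h1_mem
      hh := by rw [← conj_mul3, h.h1_sq, h.ρ_z]
      zK := ?_
      XK := hP.le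
      card := hP.card
      Xz := h.z_inv02 hP
      Xh := fun x hx => by
        have h3 := h.good02.fix _ h.h1_U P hP
        rw [← h3]; exact conj_mem_cg hx
      hz := h.h1_sq
      nz := h.n1_sq
      ch := ?_
      nh := h.n1_h1
      cn := rfl
      sz := sz
      se := se
      sc := sc
      sh := sh
      sn := sn
      s3 := s3
      cen := ?_ }⟩
  · intro a ha ha'
    rw [mem_cg] at ha ha'
    have h3 := h.ρ_z
    rcases h.inf12 ha ha' with h4 | h4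
    · left
      calc a = ρ * (ρ⁻¹ * a * ρ) * ρ⁻¹ := by group
        _ = 1 := by rw [h4]; group
    · right
      calc a = ρ * (ρ⁻¹ * a * ρ) * ρ⁻¹ := by group
        _ = e := by rw [h4, h3]
  · rintro _ ⟨l, hl, rfl⟩
    change z * (ρ * l * ρ⁻¹) * z⁻¹ = ρ * h1 * ρ⁻¹ * (ρ * l * ρ⁻¹) * (ρ * h1 * ρ⁻¹)⁻¹
    have h8 := h.ρ_ze
    have hl3 : e * l * e⁻¹ ∈ L1 := by
      rw [h.e_L1 l hl]; exact mul_mem (mul_mem h.h1_mem hl) (inv_mem h.h1_mem)
    calc z * (ρ * l * ρ⁻¹) * z⁻¹ = ρ * (z * e) * ρ⁻¹ * (ρ * l * ρ⁻¹) * (ρ * (z * e) * ρ⁻¹)⁻¹ := by rw [h8]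
      _ = ρ * (z * (e * l * e⁻¹) * z⁻¹) * ρ⁻¹ := by group
      _ = ρ * (e * l * e⁻¹) * ρ⁻¹ := by rw [h.z_L1 _ hl3, mul_inv_cancel_right]
      _ = ρ * (h1 * l * h1⁻¹) * ρ⁻¹ := by rw [h.e_L1 l hl]
      _ = _ := by group
  · calc n1 * n2 * h1 * (n1 * n2)⁻¹ = n1 * (n2 * h1) * n2⁻¹ * n1⁻¹ := by group
      _ = n1 * (h1 * n2) * n2⁻¹ * n1⁻¹ := by rw [h.h1_n2]
      _ = n1 * h1 * n1⁻¹ := by group
      _ = h1⁻¹ := h.n1_h1
  · intro p hp hp5
    have h3 : (ρ⁻¹ * p * ρ) ^ 5 = 1 := by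
      have : ρ⁻¹ * p * ρ = ρ⁻¹ * p * (ρ⁻¹)⁻¹ := by rw [inv_inv]
      rw [this, conj_pow, hp5]; group
    obtain ⟨a, ha, b, hb, hab⟩ := h.mem_sup_of_five (h.conj_comm_z hp) h3
    refine ⟨_, conj_mem_cg ha, _, conj_mem_cg hb, ?_⟩
    rw [← conj_mul3, ← hab]; group

end InpFive

end Cfsg.Agent.LFourFive
end

-- part: LFourB/RBase
section
/-!
# The recognition end of type B1: the six subgroups `K_{ij}` and `C(z1) ≤ N(G0)`
-/

set_option autoImplicit false
set_option linter.unusedSectionVars false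

namespace Cfsg.Agent.LFourB.RDefs

open Subgroup Cfsg Cfsg.Agent.LFourB Cfsg.Agent.LFourB.BOne

variable {G : Type*} [Group G] [Finite G] {P : Sylow 2 G} {m : ℕ} {f : R m → R m → R m → G} {u w : G}
  {L1 L2 : Subgroup G}

theorem perm_apply_inv (ρ : Equiv.Perm (Fin 4)) (i : Fin 4) : ρ (ρ⁻¹ i) = i := Equiv.apply_symm_apply ρ i

theorem perm_inv_apply (ρ : Equiv.Perm (Fin 4)) (i : Fin 4) : ρ⁻¹ (ρ i) = i := Equiv.symm_apply_apply ρ i

theorem Ind.mul {n n' : G} {ρ ρ' : Equiv.Perm (Fin 4)} (h : Ind f n ρ) (h' : Ind f n' ρ') :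
    Ind f (n * n') (ρ * ρ') := by
  refine ⟨Subgroup.mul_mem _ h.1 h'.1, fun i => ?_⟩
  have : n * n' * X f i * (n * n')⁻¹ = n * (n' * X f i * n'⁻¹) * n⁻¹ := by group
  rw [this, h'.2, h.2]
  rfl

theorem Ind.inv {n : G} {ρ : Equiv.Perm (Fin 4)} (h : Ind f n ρ) : Ind f n⁻¹ ρ⁻¹ := by
  refine ⟨Subgroup.inv_mem _ h.1, fun i => ?_⟩
  have h1 := h.2 (ρ⁻¹ i)
  rw [perm_apply_inv] at h1
  rw [← h1]
  group

namespace RIn

theorem z1_eq (hR : RIn P f u w L1 L2) : z1 f = X f 0 * X f 1 := by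
  change f 0 0 (N m) = f (N m) 0 0 * f (N m) 0 (N m)
  rw [hR.model.f_mul _ _ _ _ _ _ goodx1 goodx2, N_add_N, add_zero, zero_add]

theorem z2_eq (hR : RIn P f u w L1 L2) : z2 f = X f 0 * X f 2 := by
  change f (N m) (N m) 0 = f (N m) 0 0 * f 0 (N m) 0
  rw [hR.model.f_mul _ _ _ _ _ _ goodx1 goodx3, add_zero, zero_add, add_zero]

theorem z2_eq' (hR : RIn P f u w L1 L2) : z2 f = X f 1 * X f 3 := by
  change f (N m) (N m) 0 = f (N m) 0 (N m) * f 0 (N m) (N m)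
  rw [hR.model.f_mul _ _ _ _ _ _ goodx2 goodx4, add_zero, zero_add, N_add_N]

theorem z3_eq (hR : RIn P f u w L1 L2) : z3 f = X f 0 * X f 3 := by
  change f (N m) (N m) (N m) = f (N m) 0 0 * f 0 (N m) (N m)
  rw [hR.model.f_mul _ _ _ _ _ _ goodx1 goodx4, add_zero, zero_add]

theorem z3_eq' (hR : RIn P f u w L1 L2) : z3 f = z1 f * z2 f := by
  change f (N m) (N m) (N m) = f 0 0 (N m) * f (N m) (N m) 0
  rw [hR.model.f_mul _ _ _ _ _ _ good1 good2, add_zero, zero_add]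

theorem z1_sq (hR : RIn P f u w L1 L2) : z1 f * z1 f = 1 := by
  rw [z1, hR.model.f_mul _ _ _ _ _ _ good1 good1, N_add_N, add_zero, hR.model.f_zero]

theorem goodc0 : Good (0 : R m) 0 (M m) := good_of_N (Or.inl rfl) (Or.inl rfl) four_mul_M

theorem x3_eq (hR : RIn P f u w L1 L2) : X f 3 = f 0 0 (M m) * h2 f := by
  change f 0 (N m) (N m) = f 0 0 (M m) * f 0 (N m) (M m)
  rw [hR.model.f_mul _ _ _ _ _ _ goodc0 goodh2, M_add_M, add_zero, zero_add]

theorem x2_eq (hR : RIn P f u w L1 L2) : f 0 0 (M m) * X f 2 = h2 f := by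
  change f 0 0 (M m) * f 0 (N m) 0 = f 0 (N m) (M m)
  rw [hR.model.f_mul _ _ _ _ _ _ goodc0 goodx3, add_zero, add_zero, zero_add]

theorem x1_eq (hR : RIn P f u w L1 L2) : f 0 0 (M m) * X f 1 = h1 f := by
  change f 0 0 (M m) * f (N m) 0 (N m) = f (N m) 0 (-M m)
  rw [hR.model.f_mul _ _ _ _ _ _ goodc0 goodx2, add_zero, zero_add]
  congr 1
  linear_combination two_mul_M (m := m) + two_mul_N (m := m)

theorem h1_mem (hR : RIn P f u w L1 L2) : h1 f ∈ L1 := by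
  apply hR.q1
  apply Subgroup.subset_closure
  left
  exact ⟨M m, by rw [h1, two_mul_M]⟩

theorem h2_mem (hR : RIn P f u w L1 L2) : h2 f ∈ L2 := by
  apply hR.q2
  apply Subgroup.subset_closure
  left
  exact ⟨M m, by rw [h2, two_mul_M]⟩

theorem u2_mem (hR : RIn P f u w L1 L2) : ub u w * X f 2 ∈ L2 := by
  apply hR.q2
  apply Subgroup.subset_closure
  right
  rfl

theorem u1_mem (hR : RIn P f u w L1 L2) : u * X f 0 ∈ L1 := by
  apply hR.q1
  apply Subgroup.subset_closure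
  right
  rfl

theorem x3_cent (hR : RIn P f u w L1 L2) {x : G} (hx : x ∈ L1) : X f 3 * x = x * X f 3 := by
  rw [hR.x3_eq, mul_assoc, ← hR.comm x hx _ hR.h2_mem, ← mul_assoc, hR.c1 x hx, mul_assoc]

theorem x2_cent (hR : RIn P f u w L1 L2) {x : G} (hx : x ∈ L1) : X f 2 * x = x * X f 2 := by
  have h1 : X f 2 = (f 0 0 (M m))⁻¹ * h2 f := by rw [← hR.x2_eq]; group
  have h3 : (f 0 0 (M m))⁻¹ * x = x * (f 0 0 (M m))⁻¹ := by
    rw [inv_mul_eq_iff_eq_mul, ← mul_assoc, hR.c1 x hx, mul_inv_cancel_right]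
  rw [h1, mul_assoc, ← hR.comm x hx _ hR.h2_mem, ← mul_assoc, h3, mul_assoc]

theorem x1_cent (hR : RIn P f u w L1 L2) {x : G} (hx : x ∈ L2) : X f 1 * x = x * X f 1 := by
  have h1 : X f 1 = (f 0 0 (M m))⁻¹ * h1 f := by rw [← hR.x1_eq]; group
  have h3 : (f 0 0 (M m))⁻¹ * x = x * (f 0 0 (M m))⁻¹ := by
    rw [inv_mul_eq_iff_eq_mul, ← mul_assoc, hR.c2 x hx, mul_inv_cancel_right]
  rw [h1, mul_assoc, hR.comm _ hR.h1_mem x hx, ← mul_assoc, h3, mul_assoc]

theorem X_sq (hR : RIn P f u w L1 L2) (i : Fin 4) : X f i * X f i = 1 := by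
  fin_cases i
  · change f (N m) 0 0 * f (N m) 0 0 = 1
    rw [hR.model.f_mul _ _ _ _ _ _ goodx1 goodx1, N_add_N, add_zero, hR.model.f_zero]
  · change f (N m) 0 (N m) * f (N m) 0 (N m) = 1
    rw [hR.model.f_mul _ _ _ _ _ _ goodx2 goodx2, N_add_N, add_zero, hR.model.f_zero]
  · change f 0 (N m) 0 * f 0 (N m) 0 = 1
    rw [hR.model.f_mul _ _ _ _ _ _ goodx3 goodx3, N_add_N, add_zero, hR.model.f_zero]
  · change f 0 (N m) (N m) * f 0 (N m) (N m) = 1
    rw [hR.model.f_mul _ _ _ _ _ _ goodx4 goodx4, N_add_N, add_zero, hR.model.f_zero]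

theorem X_comm (hR : RIn P f u w L1 L2) (i j : Fin 4) : X f i * X f j = X f j * X f i :=
  hR.model.Tor_comm (hR.model.X_mem i) (hR.model.X_mem j)

theorem X_inv (hR : RIn P f u w L1 L2) (i : Fin 4) : (X f i)⁻¹ = X f i := inv_eq_of_mul_eq_one_left (hR.X_sq i)

theorem ub_X2 (hR : RIn P f u w L1 L2) : ub u w * X f 2 = X f 3 * ub u w := by
  have h1 := hR.model.pi_spec ⟨ub u w, hR.model.ub_mem⟩ 2
  rw [hR.model.pi_ub, Equiv.swap_apply_left] at h1
  exact mul_inv_eq_iff_eq_mul.mp h1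

theorem ub_X3 (hR : RIn P f u w L1 L2) : ub u w * X f 3 = X f 2 * ub u w := by
  have h1 := hR.model.pi_spec ⟨ub u w, hR.model.ub_mem⟩ 3
  rw [hR.model.pi_ub, Equiv.swap_apply_right] at h1
  exact mul_inv_eq_iff_eq_mul.mp h1

theorem X_ne (hR : RIn P f u w L1 L2) {i j : Fin 4} (hij : i ≠ j) : X f i ≠ X f j :=
  fun h => hij (hR.model.X_injective h)

/-- `x3`, `x4` do not centralise `L2`. -/
theorem not_cent (hR : RIn P f u w L1 L2) {i : Fin 4} (hi : i = 2 ∨ i = 3) : ¬ ∀ x ∈ L2, X f i * x = x * X f i := by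
  intro hc
  have h1 := hc _ hR.u2_mem
  apply hR.X_ne (show (2 : Fin 4) ≠ 3 by decide)
  rcases hi with rfl | rfl
  · -- X2 ub X2 = ub X2 X2
    have h2 : X f 2 * (ub u w * X f 2) = X f 2 * (X f 3 * ub u w) := by rw [hR.ub_X2]
    have h3 : ub u w * X f 2 * X f 2 = ub u w := by rw [mul_assoc, hR.X_sq, mul_one]
    rw [h2, h3, ← mul_assoc] at h1
    have h4 : X f 2 * X f 3 = 1 := mul_eq_right.mp h1
    rw [← hR.X_inv 3]
    exact eq_inv_of_mul_eq_one_left h4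
  · have h2 : ub u w * X f 2 * X f 3 = X f 3 * X f 2 * ub u w := by
      rw [mul_assoc, hR.X_comm 2 3, ← mul_assoc, hR.ub_X3, mul_assoc, hR.ub_X2, ← mul_assoc, hR.X_comm]
    have h3 : X f 3 * (ub u w * X f 2) = ub u w := by rw [hR.ub_X2, ← mul_assoc, hR.X_sq, one_mul]
    rw [h2, h3] at h1
    have h4 : X f 3 * X f 2 = 1 := mul_eq_right.mp h1.symm
    rw [← hR.X_inv 2, eq_comm]
    have h5 : X f 3 = (X f 2)⁻¹ := eq_inv_of_mul_eq_one_left h4
    rw [h5]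

theorem comm_cj {g a : G} {K : Subgroup G} (h : ∀ x ∈ K, a * x = x * a) :
    ∀ x ∈ cj g K, (g * a * g⁻¹) * x = x * (g * a * g⁻¹) := by
  intro x hx
  rw [mem_cj] at hx
  have h1 := h _ hx
  calc g * a * g⁻¹ * x = g * (a * (g⁻¹ * x * g)) * g⁻¹ := by group
    _ = g * (g⁻¹ * x * g * a) * g⁻¹ := by rw [h1]
    _ = x * (g * a * g⁻¹) := by group

theorem mem_cent_iff {g z : G} : g ∈ centralizer ({z} : Set G) ↔ g * z = z * g := mem_centralizer_singleton_iff

/-- Elements of `C(z1) ∩ C(x4)` normalise `L1` and `L2`. -/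
theorem norm_of_x3 (hR : RIn P f u w L1 L2) {g : G} (hg : g ∈ centralizer ({z1 f} : Set G))
    (hg3 : g * X f 3 = X f 3 * g) : cj g L1 = L1 ∧ cj g L2 = L2 := by
  rcases hR.norm g hg with h1 | h1
  · exact h1
  · exfalso
    apply hR.not_cent (Or.inr rfl : (3 : Fin 4) = 2 ∨ (3 : Fin 4) = 3)
    intro x hx
    rw [← h1.1] at hx
    have h2 := comm_cj (g := g) (a := X f 3) (K := L1) (fun x hx => hR.x3_cent hx) x hx
    rwa [mul_inv_eq_iff_eq_mul.mpr hg3] at h2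

/-- Elements of `N(T)` preserving `{x1, x2}` normalise `L1`. -/
theorem ind_fix (hR : RIn P f u w L1 L2) {n : G} {ρ : Equiv.Perm (Fin 4)} (hn : Ind f n ρ)
    (hρ : (ρ 0 = 0 ∧ ρ 1 = 1) ∨ (ρ 0 = 1 ∧ ρ 1 = 0)) : cj n L1 = L1 := by
  have hz : n ∈ centralizer ({z1 f} : Set G) := by
    rw [mem_cent_iff, ← mul_inv_eq_iff_eq_mul, hR.z1_eq]
    have : n * (X f 0 * X f 1) * n⁻¹ = (n * X f 0 * n⁻¹) * (n * X f 1 * n⁻¹) := by group
    rw [this, hn.2, hn.2]
    rcases hρ with ⟨h1, h2⟩ | ⟨h1, h2⟩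
    · rw [h1, h2]
    · rw [h1, h2, hR.X_comm]
  rcases hR.norm n hz with h1 | h1
  · exact h1.1
  · exfalso
    have h3 : ρ 3 = 2 ∨ ρ 3 = 3 := by
      have a0 : ρ 3 ≠ ρ 0 := fun h => absurd (ρ.injective h) (by decide)
      have a1 : ρ 3 ≠ ρ 1 := fun h => absurd (ρ.injective h) (by decide)
      generalize ρ 3 = j at *
      rcases hρ with ⟨h1, h2⟩ | ⟨h1, h2⟩ <;> rw [h1] at a0 <;> rw [h2] at a1 <;> fin_cases j <;> simp_all only [Fin.isValue,
          Fin.zero_eta, ne_eq, not_true_eq_false, Fin.mk_one, one_ne_zero, not_false_eq_true, Fin.reduceFinMk, Fin.reduceEq,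
          or_false, or_true, zero_ne_one]
    apply hR.not_cent h3
    intro x hx
    rw [← h1.1] at hx
    have h2 := comm_cj (g := n) (a := X f 3) (K := L1) (fun x hx => hR.x3_cent hx) x hx
    rwa [hn.2] at h2

theorem w_ind (hR : RIn P f u w L1 L2) : Ind f w (Equiv.swap (0 : Fin 4) 2 * Equiv.swap (1 : Fin 4) 3) :=
  ⟨hR.model.S_le_normalizer hR.model.w_mem, hR.model.conj_X_w⟩

theorem w_cent (hR : RIn P f u w L1 L2) : w ∈ centralizer ({z1 f} : Set G) := by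
  rw [mem_cent_iff, z1, hR.model.w_f _ _ _ good1, neg_N]

/-- `w` exchanges `L1` and `L2`. -/
theorem cj_w (hR : RIn P f u w L1 L2) : cj w L1 = L2 ∧ cj w L2 = L1 := by
  rcases hR.norm w hR.w_cent with h1 | h1
  · exfalso
    have e2 : w * LFourB.h1 f * w⁻¹ = LFourB.h2 f := by
      rw [mul_inv_eq_iff_eq_mul, LFourB.h1, LFourB.h2, hR.model.w_f _ _ _ goodh1, neg_neg]
    have h3 : LFourB.h2 f ∈ L1 := by
      rw [← e2, ← h1.1]
      exact conj_mem_cj hR.h1_mem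
    -- `h2` does not commute with `u2`
    have h4 := hR.comm _ h3 _ hR.u2_mem
    have h5 : ub u w * LFourB.h2 f = LFourB.h2 f * z1 f * ub u w := by
      rw [LFourB.h2, z1, hR.model.ub_f goodh2, hR.model.f_mul _ _ _ _ _ _ goodh2 good1]
      congr 2
      · rw [add_zero]
      · rw [neg_N, add_zero]
      · linear_combination - two_mul_N (m := m)
    have h6 : LFourB.h2 f * X f 2 = X f 2 * LFourB.h2 f :=
      hR.model.Tor_comm (hR.model.f_mem_Tor goodh2) (hR.model.X_mem 2)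
    have h7 : ub u w * X f 2 * LFourB.h2 f = LFourB.h2 f * z1 f * (ub u w * X f 2) := by
      rw [mul_assoc, ← h6, ← mul_assoc, h5, mul_assoc]
    rw [← h4, mul_assoc (LFourB.h2 f) (z1 f)] at h7
    have h8 : z1 f * (ub u w * X f 2) = ub u w * X f 2 := (mul_left_cancel h7).symm
    have h9 : z1 f = 1 := mul_eq_right.mp h8
    rw [z1, hR.model.f_eq_one_iff good1] at h9
    exact N_ne_zero h9.2.2
  · exact h1

/-- `K_{ij}` is well defined. -/
theorem cj_eq_cj (hR : RIn P f u w L1 L2) {n n' : G} {ρ ρ' : Equiv.Perm (Fin 4)} (hn : Ind f n ρ) (hn' : Ind f n' ρ')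
    (h : (ρ 0 = ρ' 0 ∧ ρ 1 = ρ' 1) ∨ (ρ 0 = ρ' 1 ∧ ρ 1 = ρ' 0)) : cj n L1 = cj n' L1 := by
  have h1 := hR.ind_fix (hn'.inv.mul hn) (by
    rcases h with ⟨h1, h2⟩ | ⟨h1, h2⟩
    · left
      exact ⟨by rw [Equiv.Perm.mul_apply, h1, perm_inv_apply],
        by rw [Equiv.Perm.mul_apply, h2, perm_inv_apply]⟩
    · right
      exact ⟨by rw [Equiv.Perm.mul_apply, h1, perm_inv_apply],
        by rw [Equiv.Perm.mul_apply, h2, perm_inv_apply]⟩)
  rw [← cj_cj] at h1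
  rw [← cj_cj_inv n' (cj n L1), h1]

theorem KK_eq (hR : RIn P f u w L1 L2) {n : G} {ρ : Equiv.Perm (Fin 4)} (hn : Ind f n ρ) :
    KK f L1 (ρ 0) (ρ 1) = cj n L1 := by
  apply le_antisymm
  · apply iSup_le
    rintro ⟨n', ρ', hn', h0, h1⟩
    exact le_of_eq (hR.cj_eq_cj hn' hn (Or.inl ⟨h0, h1⟩))
  · exact le_iSup (fun n : {n : G // ∃ ρ', Ind f n ρ' ∧ ρ' 0 = ρ 0 ∧ ρ' 1 = ρ 1} => cj (n : G) L1)
      ⟨n, ρ, hn, rfl, rfl⟩

theorem KK01 (hR : RIn P f u w L1 L2) : KK f L1 0 1 = L1 := by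
  have h1 : Ind f (1 : G) 1 := ⟨Subgroup.one_mem _, fun i => by simp⟩
  have h2 := hR.KK_eq h1
  rwa [cj_one] at h2

theorem KK23 (hR : RIn P f u w L1 L2) : KK f L1 2 3 = L2 := by
  have h2 := hR.KK_eq hR.w_ind
  rw [hR.cj_w.1] at h2
  exact h2

theorem exists_perm_of_ne {i j : Fin 4} (hij : i ≠ j) : ∃ ρ : Equiv.Perm (Fin 4), ρ 0 = i ∧ ρ 1 = j := by
  revert i j
  (set_option synthInstance.maxSize 9000 in open scoped Cfsg.Agent.Lib.FastPerm in decide +kernel)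

theorem KK_symm (hR : RIn P f u w L1 L2) {i j : Fin 4} (hij : i ≠ j) : KK f L1 i j = KK f L1 j i := by
  obtain ⟨ρ, rfl, rfl⟩ := exists_perm_of_ne hij
  obtain ⟨ρ', h0, h1⟩ := exists_perm_of_ne (Ne.symm hij)
  obtain ⟨n, hn⟩ := hR.perm ρ
  obtain ⟨n', hn'⟩ := hR.perm ρ'
  have e1 := hR.KK_eq hn
  have e2 := hR.KK_eq hn'
  rw [h0, h1] at e2
  rw [e1, e2]
  exact hR.cj_eq_cj hn hn' (Or.inr ⟨h1.symm, h0.symm⟩)

/-- `N(T)` permutes the `K_{ij}`. -/
theorem cj_KK (hR : RIn P f u w L1 L2) {n : G} {ρ : Equiv.Perm (Fin 4)} (hn : Ind f n ρ) {i j : Fin 4} (hij : i ≠ j) :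
    cj n (KK f L1 i j) = KK f L1 (ρ i) (ρ j) := by
  obtain ⟨τ, rfl, rfl⟩ := exists_perm_of_ne hij
  obtain ⟨t, ht⟩ := hR.perm τ
  rw [hR.KK_eq ht, cj_cj]
  exact (hR.KK_eq (hn.mul ht)).symm

/-- `x_k` centralises `K_{ij}` for `k ≠ i, j`. -/
theorem X_cent_KK (hR : RIn P f u w L1 L2) {i j k : Fin 4} (hij : i ≠ j) (hki : k ≠ i) (hkj : k ≠ j) {x : G}
    (hx : x ∈ KK f L1 i j) : X f k * x = x * X f k := by
  obtain ⟨ρ, rfl, rfl⟩ := exists_perm_of_ne hij
  obtain ⟨n, hn⟩ := hR.perm ρ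
  rw [hR.KK_eq hn] at hx
  have h1 : ρ⁻¹ k = 2 ∨ ρ⁻¹ k = 3 := by
    have a0 : ρ⁻¹ k ≠ 0 := fun h => hki (by rw [← h, perm_apply_inv])
    have a1 : ρ⁻¹ k ≠ 1 := fun h => hkj (by rw [← h, perm_apply_inv])
    generalize ρ⁻¹ k = l at *
    fin_cases l <;> simp_all only [Fin.isValue, ne_eq, EmbeddingLike.apply_eq_iff_eq, zero_ne_one, not_false_eq_true,
        Fin.zero_eta, not_true_eq_false, Fin.mk_one, one_ne_zero, Fin.reduceFinMk, Fin.reduceEq, or_false, or_true]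
  have h2 : ∀ x ∈ L1, X f (ρ⁻¹ k) * x = x * X f (ρ⁻¹ k) := by
    intro x hx
    rcases h1 with h1 | h1
    · rw [h1]; exact hR.x2_cent hx
    · rw [h1]; exact hR.x3_cent hx
  have h3 := comm_cj (g := n) h2 x hx
  rwa [hn.2, perm_apply_inv] at h3

/-- The subgroup generated by all `K_{ij}`. -/
def GZ (f : R m → R m → R m → G) (L1 : Subgroup G) : Subgroup G := ⨆ n : normalizer (Tor f : Set G), cj (n : G) L1

theorem cj_le_GZ {n : G} (hn : n ∈ normalizer (Tor f : Set G)) : cj n L1 ≤ GZ f L1 :=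
  le_iSup (fun n : normalizer (Tor f : Set G) => cj (n : G) L1) ⟨n, hn⟩

theorem L1_le_GZ : L1 ≤ GZ f L1 := by
  have h1 := cj_le_GZ (f := f) (L1 := L1) (Subgroup.one_mem _)
  rwa [cj_one] at h1

theorem L2_le_GZ (hR : RIn P f u w L1 L2) : L2 ≤ GZ f L1 := by
  rw [← hR.cj_w.1]
  exact cj_le_GZ hR.w_ind.1

/-- Elements permuting a set of generators. -/
theorem mem_normalizer_GZ {g : G} (hg : ∀ n ∈ normalizer (Tor f : Set G), cj (g * n) L1 ≤ GZ f L1)
    (hg' : ∀ n ∈ normalizer (Tor f : Set G), cj (g⁻¹ * n) L1 ≤ GZ f L1) : g ∈ normalizer (GZ f L1 : Set G) := by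
  have key : ∀ g : G, (∀ n ∈ normalizer (Tor f : Set G), cj (g * n) L1 ≤ GZ f L1) → cj g (GZ f L1) ≤ GZ f L1 := by
    intro g hg
    rw [cj, Subgroup.map_le_iff_le_comap]
    apply iSup_le
    rintro ⟨n, hn⟩
    rw [← Subgroup.map_le_iff_le_comap]
    have := hg n hn
    rwa [← cj_cj] at this
  rw [mem_normalizer_iff_cj]
  apply le_antisymm (key g hg)
  have h1 := cj_mono (g := g) (key g⁻¹ hg')
  rwa [cj_cj_inv] at h1

theorem normalizer_Tor_le : normalizer (Tor f : Set G) ≤ normalizer (GZ f L1 : Set G) := by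
  intro g hg
  exact mem_normalizer_GZ (fun n hn => cj_le_GZ (Subgroup.mul_mem _ hg hn))
    (fun n hn => cj_le_GZ (Subgroup.mul_mem _ (Subgroup.inv_mem _ hg) hn))

/-- `C(V)` normalises `G0`. -/
theorem cent_V_le (hR : RIn P f u w L1 L2) {g : G} (h1 : g * z1 f = z1 f * g) (h2 : g * z2 f = z2 f * g) :
    g ∈ normalizer (GZ f L1 : Set G) := by
  -- the products X i X j are z1, z2, z3
  have h3 : g * z3 f = z3 f * g := by rw [hR.z3_eq', ← mul_assoc, h1, mul_assoc, h2, ← mul_assoc]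
  have hV : ∀ i j : Fin 4, i ≠ j → g * (X f i * X f j) = X f i * X f j * g := by
    have e01 : X f 0 * X f 1 = z1 f := hR.z1_eq.symm
    have e02 : X f 0 * X f 2 = z2 f := hR.z2_eq.symm
    have e03 : X f 0 * X f 3 = z3 f := hR.z3_eq.symm
    have e13 : X f 1 * X f 3 = z2 f := hR.z2_eq'.symm
    have e23 : X f 2 * X f 3 = z1 f := by
      have : X f 2 * X f 3 = (X f 0 * X f 2) * (X f 0 * X f 3) := by
        rw [hR.X_comm 0 2, mul_assoc (X f 2), ← mul_assoc (X f 0) (X f 0), hR.X_sq, one_mul]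
      rw [this, e02, e03, hR.z3_eq', hR.z2_eq, hR.z1_eq]
      have e : X f 0 * X f 2 * (X f 0 * X f 1 * (X f 0 * X f 2)) =
        (X f 0 * X f 1) * ((X f 0 * X f 2) * (X f 0 * X f 2)) := by
        rw [← mul_assoc (X f 0 * X f 2) (X f 0 * X f 1)]
        rw [hR.model.Tor_comm (Subgroup.mul_mem _ (hR.model.X_mem 0) (hR.model.X_mem 2))
          (Subgroup.mul_mem _ (hR.model.X_mem 0) (hR.model.X_mem 1)), mul_assoc]
      have e' : (X f 0 * X f 2) * (X f 0 * X f 2) = 1 := by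
        rw [hR.X_comm 0 2, mul_assoc, ← mul_assoc (X f 0), hR.X_comm 0 2, mul_assoc, hR.X_sq, mul_one, hR.X_sq]
      rw [e, e', mul_one]
    have e12 : X f 1 * X f 2 = z3 f := by
      have : X f 1 * X f 2 = (X f 1 * X f 3) * (X f 2 * X f 3) := by
        rw [mul_assoc, ← mul_assoc (X f 3), hR.X_comm 3 2, mul_assoc, hR.X_sq, mul_one]
      rw [this, e13, e23, hR.z3_eq']
      have e := hR.model.Tor_comm (hR.model.f_mem_Tor good2) (hR.model.f_mem_Tor good1)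
      exact e
    intro i j hij
    have : X f i * X f j = z1 f ∨ X f i * X f j = z2 f ∨ X f i * X f j = z3 f := by
      fin_cases i <;> fin_cases j
      · exact (hij rfl).elim
      · exact Or.inl e01
      · exact Or.inr (Or.inl e02)
      · exact Or.inr (Or.inr e03)
      · exact Or.inl (by rw [← e01]; exact hR.X_comm _ _)
      · exact (hij rfl).elim
      · exact Or.inr (Or.inr e12)
      · exact Or.inr (Or.inl e13)
      · exact Or.inr (Or.inl (by rw [← e02]; exact hR.X_comm _ _))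
      · exact Or.inr (Or.inr (by rw [← e12]; exact hR.X_comm _ _))
      · exact (hij rfl).elim
      · exact Or.inl e23
      · exact Or.inr (Or.inr (by rw [← e03]; exact hR.X_comm _ _))
      · exact Or.inr (Or.inl (by rw [← e13]; exact hR.X_comm _ _))
      · exact Or.inl (by rw [← e23]; exact hR.X_comm _ _)
      · exact (hij rfl).elim
    rcases this with h | h | h <;> rw [h] <;> assumption
  have key : ∀ g : G, (∀ i j : Fin 4, i ≠ j → g * (X f i * X f j) = X f i * X f j * g) →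
      ∀ n ∈ normalizer (Tor f : Set G), cj (g * n) L1 ≤ GZ f L1 := by
    intro g hV n hn
    obtain ⟨ρ, hn'⟩ := hR.permn n hn
    have h4 : n⁻¹ * g * n ∈ centralizer ({z1 f} : Set G) := by
      rw [mem_cent_iff, hR.z1_eq]
      have h5 := hV (ρ 0) (ρ 1) (fun h => absurd (ρ.injective h) (by decide))
      rw [← hn'.2, ← hn'.2] at h5
      calc n⁻¹ * g * n * (X f 0 * X f 1) =
          n⁻¹ * (g * (n * X f 0 * n⁻¹ * (n * X f 1 * n⁻¹))) * n := by group
        _ = n⁻¹ * (n * X f 0 * n⁻¹ * (n * X f 1 * n⁻¹) * g) * n := by rw [h5]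
        _ = X f 0 * X f 1 * (n⁻¹ * g * n) := by group
    have h5 : g * n = n * (n⁻¹ * g * n) := by group
    rw [h5, ← cj_cj]
    rcases hR.norm _ h4 with h6 | h6
    · rw [h6.1]
      exact cj_le_GZ hn
    · rw [h6.1, ← hR.cj_w.1, cj_cj]
      exact cj_le_GZ (Subgroup.mul_mem _ hn hR.w_ind.1)
  apply mem_normalizer_GZ (key g hV)
  apply key g⁻¹
  intro i j hij
  rw [inv_mul_eq_iff_eq_mul, ← mul_assoc, hV i j hij, mul_inv_cancel_right]

theorem z2_eq_h (hR : RIn P f u w L1 L2) : z2 f = h1 f * h2 f := by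
  rw [z2, LFourB.h1, LFourB.h2, hR.model.f_mul _ _ _ _ _ _ goodh1 goodh2]
  simp

theorem h1_sq (hR : RIn P f u w L1 L2) : h1 f * h1 f = z1 f := by
  rw [z1, LFourB.h1, hR.model.f_mul _ _ _ _ _ _ goodh1 goodh1, N_add_N, add_zero]
  congr 1
  linear_combination - two_mul_M (m := m) - two_mul_N (m := m)

theorem h2_sq (hR : RIn P f u w L1 L2) : h2 f * h2 f = z1 f := by
  rw [z1, LFourB.h2, hR.model.f_mul _ _ _ _ _ _ goodh2 goodh2, N_add_N, add_zero, M_add_M]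

/-- **(R2)** `C(z1) = L1 L2 C(V)`. -/
theorem exists_mul_cent (hR : RIn P f u w L1 L2) {g : G} (hg : g ∈ centralizer ({z1 f} : Set G)) :
    ∃ l1 ∈ L1, ∃ l2 ∈ L2, (l1 * l2 * g) * z1 f = z1 f * (l1 * l2 * g) ∧ (l1 * l2 * g) * z2 f = z2 f * (l1 * l2 * g) := by
  have hgz := mem_cent_iff.mp hg
  have hsq : ∀ a : G, a * a = z1 f → (g * a * g⁻¹) * (g * a * g⁻¹) = z1 f := by
    intro a ha
    have : (g * a * g⁻¹) * (g * a * g⁻¹) = g * (a * a) * g⁻¹ := by group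
    rw [this, ha, hgz, mul_inv_cancel_right]
  -- in both cases `g z2 g⁻¹ = a b`
  obtain ⟨a, ha, b, hb, ha2, hb2, hab⟩ : ∃ a ∈ L1, ∃ b ∈ L2, a * a = z1 f ∧ b * b = z1 f ∧ g * z2 f * g⁻¹ = a * b := by
    have h4 : g * z2 f * g⁻¹ = (g * h1 f * g⁻¹) * (g * h2 f * g⁻¹) := by rw [hR.z2_eq_h]; group
    rcases hR.norm g hg with h5 | h5
    · refine ⟨g * h1 f * g⁻¹, ?_, g * h2 f * g⁻¹, ?_, hsq _ hR.h1_sq, hsq _ hR.h2_sq, h4⟩
      · rw [← h5.1]; exact conj_mem_cj hR.h1_mem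
      · rw [← h5.2]; exact conj_mem_cj hR.h2_mem
    · refine ⟨g * h2 f * g⁻¹, ?_, g * h1 f * g⁻¹, ?_, hsq _ hR.h2_sq, hsq _ hR.h1_sq, ?_⟩
      · rw [← h5.2]; exact conj_mem_cj hR.h2_mem
      · rw [← h5.1]; exact conj_mem_cj hR.h1_mem
      · rw [h4]
        have e1 : g * h1 f * g⁻¹ ∈ L2 := by rw [← h5.1]; exact conj_mem_cj hR.h1_mem
        have e2 : g * h2 f * g⁻¹ ∈ L1 := by rw [← h5.2]; exact conj_mem_cj hR.h2_mem
        exact (hR.comm _ e2 _ e1).symm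
  obtain ⟨l1, hl1, e1⟩ := hR.four1 a ha _ hR.h1_mem ha2 hR.h1_sq
  obtain ⟨l2, hl2, e2⟩ := hR.four2 b hb _ hR.h2_mem hb2 hR.h2_sq
  refine ⟨l1, hl1, l2, hl2, ?_, ?_⟩
  · have c1 := mem_cent_iff.mp (hR.le1 hl1)
    have c2 := mem_cent_iff.mp (hR.le2 hl2)
    rw [mul_assoc, hgz, ← mul_assoc, mul_assoc l1, c2, ← mul_assoc, c1]
    group
  · rw [← mul_inv_eq_iff_eq_mul]
    have e3 : l1 * l2 * g * z2 f * (l1 * l2 * g)⁻¹ = l1 * (l2 * (g * z2 f * g⁻¹) * l2⁻¹) * l1⁻¹ := by group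
    rw [e3, hab]
    have e4 : l2 * (a * b) * l2⁻¹ = a * (l2 * b * l2⁻¹) := by
      rw [← mul_assoc, ← hR.comm a ha l2 hl2]
      group
    rw [e4, e2]
    have e5 : l1 * (a * h2 f) * l1⁻¹ = (l1 * a * l1⁻¹) * h2 f := by
      have : h2 f * l1⁻¹ = l1⁻¹ * h2 f := (hR.comm _ (L1.inv_mem hl1) _ hR.h2_mem).symm
      rw [mul_assoc, mul_assoc a, this]
      group
    rw [e5, e1, ← hR.z2_eq_h]

/-- **(R2)** `C(z1) ≤ N(G0)`. -/
theorem cent_z1_le (hR : RIn P f u w L1 L2) : centralizer ({z1 f} : Set G) ≤ normalizer (GZ f L1 : Set G) := by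
  intro g hg
  obtain ⟨l1, hl1, l2, hl2, h1, h2⟩ := hR.exists_mul_cent hg
  have h3 := hR.cent_V_le h1 h2
  have h4 : l1 * l2 ∈ normalizer (GZ f L1 : Set G) :=
    le_normalizer (Subgroup.mul_mem _ (L1_le_GZ hl1) (hR.L2_le_GZ hl2))
  have h5 : g = (l1 * l2)⁻¹ * (l1 * l2 * g) := by group
  rw [h5]
  exact Subgroup.mul_mem _ (Subgroup.inv_mem _ h4) h3

end RIn

end Cfsg.Agent.LFourB.RDefs
end

private theorem dce_3218bd2dfcbf : _root_.True := by
  try have : _root_.True := by simp only [_root_.Cfsg.Agent.LFourR.cg.eq_1]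
  try have : _root_.True := by simp only [_root_.Cfsg.Agent.LFourB.z1.eq_1]
  try have : _root_.True := by simp only [_root_.Cfsg.Agent.LFourFive.LabSL.D.eq_1]
  try have : _root_.True := by simp only [_root_.Cfsg.Agent.LFourB.RDefs.cj.eq_1]
  try have : _root_.True := by simp only [_root_.Cfsg.Agent.LFourB.z2.eq_1]
  try have : _root_.True := by simp only [_root_.Cfsg.Agent.LFourB.RDefs.RIn.congr_simp]
  try have : _root_.True := by simp only [_root_.Cfsg.Agent.LFourB.h2.eq_1]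
  try have : _root_.True := by simp only [_root_.Cfsg.Agent.LFourB.h1.eq_1]
  exact _root_.True.intro
end

-- part: LFourB/RConD
section
set_option linter.all false
open scoped Cfsg.Agent.FastGrp

/-!
# The recognition end of type B1: the input `RIn` from `C(z1)` modulo its odd core

`exists_rin`: `C(z1)/O` contains `K₁ K₂` (two `SL(2,F)`'s), some swap involution `y` inverts `O = O(C(z1))` and `z2`
centralises `O`.
-/

set_option autoImplicit false
set_option linter.unusedSectionVars false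

namespace Cfsg.Agent.LFourB.RCon

open Subgroup Cfsg Cfsg.Agent.LFourB Cfsg.Agent.LFourB.BOne Cfsg.Agent.LFourB.RDefs Cfsg.Agent.LFourB.CzB
open Cfsg.Agent.LFourA.CzCt Cfsg.Agent.StandardComponent.CentCore

variable {G X : Type*} [Group G] [Group X] [Finite G]

section model

variable {S : Subgroup G} {m : ℕ} {f : R m → R m → R m → G} {u w : G}

theorem q_mem {a : R m} : f (2 * a) 0 (-a) ∈ Qone f u := subset_closure (Or.inl ⟨a, rfl⟩)

theorem u1_mem : u * x1 f ∈ Qone f u := subset_closure (Or.inr rfl)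

theorem card_Qone_ge (h : BOne S m f u w) : 2 ^ (m + 4) ≤ Nat.card (Qone f u) := by
  classical
  let g : R m × Bool → Qone f u := fun a =>
    ⟨f (2 * a.1) 0 (-a.1) * (if a.2 then u * x1 f else 1), mul_mem q_mem (by
      split_ifs
      · exact u1_mem
      · exact one_mem _)⟩
  have hx : x1 f = f (N m) 0 0 := rfl
  have key : ∀ a b : R m, f (2 * a) 0 (-a) ≠ f (2 * b) 0 (-b) * (u * x1 f) := by
    intro a b hab
    apply h.u_not_mem_Tor
    have h1 : u = (f (2 * b) 0 (-b))⁻¹ * f (2 * a) 0 (-a) * (x1 f)⁻¹ := by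
      rw [hab]; group
    rw [h1]
    exact mul_mem (mul_mem (inv_mem (h.f_mem_Tor (goodq1 b))) (h.f_mem_Tor (goodq1 a)))
      (inv_mem (h.f_mem_Tor goodx1))
  have hf : ∀ a b : R m, f (2 * a) 0 (-a) = f (2 * b) 0 (-b) → a = b := by
    intro a b hab
    have := ((h.f_eq_iff (goodq1 a) (goodq1 b)).1 hab).2.2
    exact neg_injective this
  have hinj : Function.Injective g := by
    rintro ⟨a, i⟩ ⟨b, j⟩ hab
    have h1 := congrArg Subtype.val hab
    simp only [g] at h1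
    cases i <;> cases j
    · simp only [Bool.false_eq_true, if_false, mul_one] at h1
      rw [hf _ _ h1]
    · simp only [Bool.false_eq_true, if_false, mul_one, if_true] at h1
      exact absurd h1 (key a b)
    · simp only [Bool.false_eq_true, if_false, mul_one, if_true] at h1
      exact absurd h1.symm (key b a)
    · simp only [if_true] at h1
      rw [hf _ _ (mul_right_cancel h1)]
  have h3 := Nat.card_le_card_of_injective g hinj
  rw [Nat.card_prod, card_R] at h3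
  have h4 : Nat.card Bool = 2 := by simp
  rw [h4] at h3
  calc 2 ^ (m + 4) = 2 ^ (m + 3) * 2 := by ring
    _ ≤ _ := h3

theorem conj_Qone (h : BOne S m f u w) : cj w (Qone f u) = Qtwo f u w := by
  unfold cj Qone Qtwo
  rw [MonoidHom.map_closure]
  congr 1
  ext x
  constructor
  · rintro ⟨y, hy, rfl⟩
    rcases hy with ⟨a, rfl⟩ | rfl
    · left
      refine ⟨a, ?_⟩
      change w * f (2 * a) 0 (-a) * w⁻¹ = _
      rw [h.w_f _ _ _ (goodq1 a), mul_inv_cancel_right, neg_neg]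
    · right
      change w * (u * x1 f) * w⁻¹ = _
      have h1 : w * (u * x1 f) * w⁻¹ = (w * u * w) * (w * x1 f) * w⁻¹ * (w⁻¹ * w⁻¹ * (w * w)) := by
        rw [h.w_inv, h.w_w]
        have : w * u * w * (w * x1 f) * w = w * u * (w * w) * x1 f * w := by group
        rw [mul_one, mul_one, this, h.w_w, mul_one]
        group
      have h2 : w⁻¹ * w⁻¹ * (w * w) = 1 := by group
      rw [h1, h2, mul_one, h.w_x1, ub, ← mul_assoc, mul_inv_cancel_right]
  · rintro (⟨a, rfl⟩ | hx)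
    · refine ⟨f (2 * a) 0 (-a), Or.inl ⟨a, rfl⟩, ?_⟩
      change w * f (2 * a) 0 (-a) * w⁻¹ = _
      rw [h.w_f _ _ _ (goodq1 a), mul_inv_cancel_right, neg_neg]
    · refine ⟨u * x1 f, Or.inr rfl, ?_⟩
      change w * (u * x1 f) * w⁻¹ = _
      rw [Set.mem_singleton_iff.1 hx]
      have h1 : w * (u * x1 f) * w⁻¹ = (w * u * w) * (w * x1 f) * w⁻¹ * (w⁻¹ * w⁻¹ * (w * w)) := by
        rw [h.w_inv, h.w_w]
        have : w * u * w * (w * x1 f) * w = w * u * (w * w) * x1 f * w := by group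
        rw [mul_one, mul_one, this, h.w_w, mul_one]
        group
      have h2 : w⁻¹ * w⁻¹ * (w * w) = 1 := by group
      rw [h1, h2, mul_one, h.w_x1, ub, ← mul_assoc, mul_inv_cancel_right]

theorem Qone_le_S (h : BOne S m f u w) : Qone f u ≤ S := by
  unfold Qone
  rw [closure_le]
  rintro x (⟨a, rfl⟩ | hx)
  · exact h.f_mem_S (goodq1 a)
  · rw [Set.mem_singleton_iff.1 hx]
    exact mul_mem h.u_mem (h.f_mem_S goodx1)

theorem Qtwo_le_S (h : BOne S m f u w) : Qtwo f u w ≤ S := by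
  rw [← conj_Qone h]
  intro x hx
  rw [mem_cj] at hx
  have h1 := mul_mem (mul_mem h.w_mem (Qone_le_S h hx)) (inv_mem h.w_mem)
  have h2 : w * (w⁻¹ * x * w) * w⁻¹ = x := by group
  rwa [h2] at h1

theorem S_comm_z1 (h : BOne S m f u w) {s : G} (hs : s ∈ S) : s * z1 f = z1 f * s := by
  obtain ⟨p, q, r, hg, d, hd, rfl⟩ := h.mem_S.1 hs
  have hz : z1 f = f 0 0 (N m) := rfl
  have hN : -N m = N m := neg_N
  have hu : u * z1 f = z1 f * u := by
    rw [hz, h.u_f _ _ _ good1]; simp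
  have hw : w * z1 f = z1 f * w := by
    rw [hz, h.w_f _ _ _ good1, hN]
  have hub : ub u w * z1 f = z1 f * ub u w := by
    rw [ub]
    have e1 : w * u * w * z1 f = w * u * (w * z1 f) := by group
    rw [e1, hw]
    have e2 : w * u * (z1 f * w) = w * (u * z1 f) * w := by group
    rw [e2, hu]
    have e3 : w * (z1 f * u) * w = (w * z1 f) * u * w := by group
    rw [e3, hw]
    group
  have hT : f p q r * z1 f = z1 f * f p q r := h.f_comm hg good1
  have hD : d * z1 f = z1 f * d := by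
    rcases hd with rfl | rfl | rfl | rfl | rfl | rfl | rfl | rfl
    · group
    · exact hu
    · exact hub
    · rw [sg, mul_assoc, hub, ← mul_assoc, hu, mul_assoc]
    · exact hw
    · rw [mul_assoc, hw, ← mul_assoc, hu, mul_assoc]
    · rw [mul_assoc, hw, ← mul_assoc, hub, mul_assoc]
    · rw [sgw, mul_assoc, hw, ← mul_assoc, mul_assoc u, hub, ← mul_assoc, hu, mul_assoc, mul_assoc, mul_assoc]
  rw [mul_assoc, hD, ← mul_assoc, hT, mul_assoc]

end model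

variable {P : Sylow 2 G} {m : ℕ} {f : R m → R m → R m → G} {u w : G}
  {p : ↥(centralizer ({z1 f} : Set G)) →* X} {K₁ K₂ : Subgroup X} {F : Type*} [Field F] [Fintype F]

theorem p_inj (_h : BOne (P : Subgroup G) m f u w) (hker : ∀ x, p x = 1 ↔ (x : G) ∈ centralizerPPrimeCore 2 (z1 f))
    {x : ↥(centralizer ({z1 f} : Set G))} (hx : (x : G) ∈ (P : Subgroup G)) (h1 : p x = 1) : (x : G) = 1 := by
  rw [hker] at h1
  have h2 := core_odd_order h1
  obtain ⟨n, hn⟩ := P.isPGroup' ⟨x, hx⟩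
  have hn' : (x : G) ^ 2 ^ n = 1 := congrArg Subtype.val hn
  have h3 : orderOf (x : G) ∣ 2 ^ n := orderOf_dvd_of_pow_eq_one hn'
  have h4 : Nat.Coprime (orderOf (x : G)) (2 ^ n) := (Nat.coprime_two_right.mpr h2).pow_right n
  exact orderOf_eq_one_iff.mp (Nat.eq_one_of_dvd_coprimes h4 dvd_rfl h3)

/-- a homomorphism from a subgroup of `S` to `X` -/
def pq (p : ↥(centralizer ({z1 f} : Set G)) →* X) {Q : Subgroup G} (hQ : Q ≤ centralizer ({z1 f} : Set G)) : Q →* X :=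
  p.comp (inclusion hQ)

theorem pq_inj (h : BOne (P : Subgroup G) m f u w)
    (hker : ∀ x, p x = 1 ↔ (x : G) ∈ centralizerPPrimeCore 2 (z1 f)) {Q : Subgroup G}
    (hQ : Q ≤ centralizer ({z1 f} : Set G)) (hQP : Q ≤ (P : Subgroup G)) : Function.Injective (pq p hQ) := by
  rw [injective_iff_map_eq_one]
  rintro ⟨x, hx⟩ h1
  exact Subtype.ext (p_inj h hker (x := ⟨x, hQ hx⟩) (hQP hx) h1)

/-- a Sylow 2-subgroup of `K₁` is the image of `Q₁` -/
theorem card_sylow_le [Finite X] (_h : BOne (P : Subgroup G) m f u w) (hz : CZB (z1 f) F p K₁ K₂)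
    (hPz : (P : Subgroup G) ≤ centralizer ({z1 f} : Set G))
    {Q₁ Q₂ : Subgroup G} (s1 : ∀ s ∈ (P : Subgroup G), s ∈ up p K₁ → s ∈ Q₁)
    (s2 : ∀ s ∈ (P : Subgroup G), s ∈ up p K₂ → s ∈ Q₂) (hc : Nat.card Q₂ = Nat.card Q₁)
    (Q : Sylow 2 K₁) : Nat.card Q ≤ Nat.card Q₁ := by
  classical
  have hfact : Fact (Nat.Prime 2) := ⟨Nat.prime_two⟩
  let PX : Sylow 2 X := (P.subtype hPz).mapSurjective hz.surj
  have hPX : ∀ x ∈ (PX : Subgroup X), ∃ s : ↥(centralizer ({z1 f} : Set G)), (s : G) ∈ (P : Subgroup G) ∧ p s = x := by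
    intro x hx
    obtain ⟨s, hs, rfl⟩ := hx
    exact ⟨s, hs, rfl⟩
  have hp : IsPGroup 2 ((Q : Subgroup K₁).map K₁.subtype) := Q.isPGroup'.map _
  obtain ⟨R, hR⟩ := hp.exists_le_sylow
  obtain ⟨g, hg⟩ := MulAction.exists_smul_eq X R PX
  have hcard : Nat.card ((Q : Subgroup K₁).map K₁.subtype) = Nat.card Q :=
    card_map_of_injective K₁.subtype_injective
  have hconj : ∀ x ∈ (Q : Subgroup K₁).map K₁.subtype, g * x * g⁻¹ ∈ (PX : Subgroup X) := by
    intro x hx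
    rw [← hg, Sylow.coe_subgroup_smul]
    exact smul_mem_pointwise_smul x (MulAut.conj g) (R : Subgroup X) (hR hx)
  have main : ∀ (A : Subgroup X) (Q' : Subgroup G), (∀ x ∈ K₁, g * x * g⁻¹ ∈ A) →
      (∀ s ∈ (P : Subgroup G), s ∈ up p A → s ∈ Q') → Nat.card Q ≤ Nat.card Q' := by
    intro A Q' hA hQ'
    rw [← hcard]
    have h1 : ∀ x : (Q : Subgroup K₁).map K₁.subtype, ∃ q : Q', ∃ hq : (q : G) ∈ centralizer ({z1 f} : Set G),
        p ⟨q, hq⟩ = g * x * g⁻¹ := by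
      rintro ⟨x, hx⟩
      obtain ⟨s, hs, hsx⟩ := hPX _ (hconj x hx)
      have hxK : x ∈ K₁ := map_subtype_le _ hx
      have h2 : (s : G) ∈ up p A := mem_up.2 ⟨s.2, by rw [show (⟨(s : G), s.2⟩ : ↥(centralizer ({z1 f} : Set G))) = s from rfl, hsx]; exact hA x hxK⟩
      exact ⟨⟨s, hQ' s hs h2⟩, s.2, hsx⟩
    choose φ hφ hφ' using h1
    refine Nat.card_le_card_of_injective φ ?_
    intro x y hxy
    have e1 := hφ' x
    have e2 := hφ' y
    have e3 : p ⟨(φ x : G), hφ x⟩ = p ⟨(φ y : G), hφ y⟩ := by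
      congr 1
      apply Subtype.ext
      exact congrArg (fun a : Q' => (a : G)) hxy
    rw [e1, e2] at e3
    exact Subtype.ext (mul_left_cancel (mul_right_cancel e3))
  rcases hz.norm g with h1 | h1
  · exact main K₁ Q₁ h1.1 s1
  · rw [← hc]
    exact main K₂ Q₂ h1.1 s2

end Cfsg.Agent.LFourB.RCon
end

-- part: LFourB/RCon
section
prune_inst 0x424304400412200000000801200003c4682000002006b0001996005020d8e5f2009022f20f8300c121820aa84603c002813540070422000002a008400011d01a084ab5206a37cac04370007c09004000000000000000000000000000000041000000000000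
set_option linter.all false
open scoped Cfsg.Agent.FastGrp

/-!
# The recognition end of type B1: construction of `RIn`
-/

set_option autoImplicit false
set_option linter.unusedSectionVars false

namespace Cfsg.Agent.LFourB.RCon

open Subgroup Cfsg Cfsg.Agent.LFourB Cfsg.Agent.LFourB.BOne Cfsg.Agent.LFourB.RDefs Cfsg.Agent.LFourB.CzB
open Cfsg.Agent.LFourA.CzCt Cfsg.Agent.StandardComponent.CentCore

variable {G X : Type*} [Group G] [Group X] [Finite G]
  {P : Sylow 2 G} {m : ℕ} {f : R m → R m → R m → G} {u w : G}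
  {p : ↥(centralizer ({z1 f} : Set G)) →* X} {K₁ K₂ : Subgroup X} {F : Type*} [Field F] [Fintype F]

/-- Everything needed about `C(z1)`. -/
structure In (P : Sylow 2 G) (m : ℕ) (f : R m → R m → R m → G) (u w : G) (F : Type*) [Field F]
    (p : ↥(centralizer ({z1 f} : Set G)) →* X) (K₁ K₂ : Subgroup X) (y : G) : Prop where
  model : BOne (P : Subgroup G) m f u w
  hz : CZB (z1 f) F p K₁ K₂
  perf₁ : ⁅K₁, K₁⁆ = K₁
  perf₂ : ⁅K₂, K₂⁆ = K₂
  q₁ : Qone f u ≤ up p K₁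
  q₂ : Qtwo f u w ≤ up p K₂
  s₁ : ∀ s ∈ (P : Subgroup G), s ∈ up p K₁ → s ∈ Qone f u
  s₂ : ∀ s ∈ (P : Subgroup G), s ∈ up p K₂ → s ∈ Qtwo f u w
  yz : y * z1 f = z1 f * y
  yy : y * y = 1
  inv : ∀ a ∈ centralizerPPrimeCore 2 (z1 f), y * a * y⁻¹ = a⁻¹
  sw₁ : ∀ x ∈ K₁, p ⟨y, mem_centralizer_singleton_iff.2 yz⟩ * x * (p ⟨y, mem_centralizer_singleton_iff.2 yz⟩)⁻¹ ∈ K₂
  sw₂ : ∀ x ∈ K₂, p ⟨y, mem_centralizer_singleton_iff.2 yz⟩ * x * (p ⟨y, mem_centralizer_singleton_iff.2 yz⟩)⁻¹ ∈ K₁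
  cz2 : ∀ a ∈ centralizerPPrimeCore 2 (z1 f), a * z2 f = z2 f * a

namespace In

variable {y : G}

theorem P_le (I : In P m f u w F p K₁ K₂ y) : (P : Subgroup G) ≤ centralizer ({z1 f} : Set G) := fun _ hs =>
  mem_centralizer_singleton_iff.2 (S_comm_z1 I.model hs)

theorem ab (I : In P m f u w F p K₁ K₂ y) : ∀ a ∈ centralizerPPrimeCore 2 (z1 f),
    ∀ b ∈ centralizerPPrimeCore 2 (z1 f), a * b = b * a := core_abelian I.inv

theorem o₁ (I : In P m f u w F p K₁ K₂ y) : ∀ a ∈ centralizerPPrimeCore 2 (z1 f), ∀ x ∈ perf (up p K₁), a * x = x * a :=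
  perf_up_comm I.hz.ker I.hz.comm I.yz I.yy I.inv I.sw₁

theorem o₂ (I : In P m f u w F p K₁ K₂ y) : ∀ a ∈ centralizerPPrimeCore 2 (z1 f), ∀ x ∈ perf (up p K₂), a * x = x * a :=
  perf_up_comm I.hz.ker (fun x hx y hy => (I.hz.comm y hy x hx).symm) I.yz I.yy I.inv I.sw₂

theorem z1_ne (I : In P m f u w F p K₁ K₂ y) : z1 f ≠ 1 := by
  intro h
  exact N_ne_zero ((I.model.f_eq_one_iff good1).1 h).2.2

theorem z1_sq (I : In P m f u w F p K₁ K₂ y) : z1 f * z1 f = 1 := by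
  have h := I.model.f_mul _ _ _ _ _ _ (good1 (m := m)) good1
  rw [add_zero, N_add_N, I.model.f_zero] at h
  exact h

theorem z1_mem_P (I : In P m f u w F p K₁ K₂ y) : z1 f ∈ (P : Subgroup G) := I.model.f_mem_S good1

theorem pz_ne (I : In P m f u w F p K₁ K₂ y) : p (self (z1 f)) ≠ 1 := fun h =>
  I.z1_ne (p_inj I.model I.hz.ker (x := self (z1 f)) I.z1_mem_P h)

theorem pz_sq (I : In P m f u w F p K₁ K₂ y) : p (self (z1 f)) * p (self (z1 f)) = 1 := by
  rw [← map_mul, ← map_one p]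
  congr 1
  exact Subtype.ext I.z1_sq

theorem card_Q (I : In P m f u w F p K₁ K₂ y) : Nat.card (Qtwo f u w) = Nat.card (Qone f u) := by
  rw [← conj_Qone I.model, card_cj]

theorem sixteen (I : In P m f u w F p K₁ K₂ y) : 16 ∣ Nat.card (Qone f u) := by
  have h1 := card_Qone_ge I.model
  have h2 : IsPGroup 2 (Qone f u) := P.isPGroup'.to_le (Qone_le_S I.model)
  obtain ⟨n, hn⟩ := IsPGroup.iff_card.1 h2
  rw [hn] at h1 ⊢
  have h3 : 4 ≤ n := by
    have := (Nat.pow_le_pow_iff_right (by norm_num : 1 < 2)).1 h1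
    omega
  have : (16 : ℕ) = 2 ^ 4 := by norm_num
  rw [this]
  exact pow_dvd_pow 2 h3

/-- the image of `Qone` in `K₁` -/
theorem exists_sylow [Finite X] (I : In P m f u w F p K₁ K₂ y) {K : Subgroup X} {Q : Subgroup G}
    (hQP : Q ≤ (P : Subgroup G)) (hQ : Q ≤ up p K) (hc : ∀ R : Sylow 2 K, Nat.card R ≤ Nat.card Q) :
    ∃ R : Sylow 2 K, ∀ x ∈ R, ∃ q ∈ Q, ∃ hq : q ∈ centralizer ({z1 f} : Set G), p ⟨q, hq⟩ = (x : X) := by
  have hQC : Q ≤ centralizer ({z1 f} : Set G) := hQP.trans I.P_le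
  have hmem : ∀ q : Q, pq p hQC q ∈ K := by
    rintro ⟨q, hq⟩
    obtain ⟨m1, h1⟩ := mem_up.1 (hQ hq)
    exact h1
  let φ : Q →* K := (pq p hQC).codRestrict K hmem
  have hφ : Function.Injective φ := by
    intro a b hab
    exact pq_inj I.model I.hz.ker hQC hQP (congrArg Subtype.val hab)
  have h1 : IsPGroup 2 φ.range := by
    have : IsPGroup 2 Q := P.isPGroup'.to_le hQP
    exact this.of_surjective φ.rangeRestrict φ.rangeRestrict_surjective
  obtain ⟨R, hR⟩ := h1.exists_le_sylow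
  have h2 : Nat.card φ.range = Nat.card Q := (Nat.card_congr (MonoidHom.ofInjective hφ).toEquiv).symm
  have h3 : φ.range = (R : Subgroup K) := eq_of_le_of_card_ge hR (by
    rw [h2]
    exact hc R)
  refine ⟨R, ?_⟩
  intro x hx
  have hx' : x ∈ φ.range := by rw [h3]; exact hx
  obtain ⟨q, rfl⟩ := hx'
  exact ⟨q, q.2, hQC q.2, rfl⟩

theorem finite_X (I : In P m f u w F p K₁ K₂ y) : Finite X := Finite.of_surjective _ I.hz.surj

theorem card_sylow (I : In P m f u w F p K₁ K₂ y) : (∀ R : Sylow 2 K₁, Nat.card R ≤ Nat.card (Qone f u)) ∧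
    ∀ R : Sylow 2 K₂, Nat.card R ≤ Nat.card (Qtwo f u w) := by
  have := I.finite_X
  refine ⟨fun R => card_sylow_le I.model I.hz I.P_le I.s₁ I.s₂ I.card_Q R, fun R => ?_⟩
  have hz' : CZB (z1 f) F p K₂ K₁ := {
    surj := I.hz.surj
    ker := I.hz.ker
    comm := fun x hx y hy => (I.hz.comm y hy x hx).symm
    z₁ := I.hz.z₂
    z₂ := I.hz.z₁
    inf := fun x hx hx' => I.hz.inf x hx' hx
    norm := fun g => (I.hz.norm g).imp (fun h => ⟨h.2, h.1⟩) (fun h => ⟨h.2, h.1⟩)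
    cent := fun g ho h1 h2 => I.hz.cent g ho h2 h1
    e₁ := I.hz.e₂
    e₂ := I.hz.e₁ }
  exact card_sylow_le I.model hz' I.P_le I.s₂ I.s₁ I.card_Q.symm R

theorem three_lt (I : In P m f u w F p K₁ K₂ y) (h2 : (2 : F) ≠ 0) : 3 < Fintype.card F := by
  obtain ⟨e⟩ := I.hz.e₁
  refine RCon.three_lt h2 e (I.sixteen.trans ?_)
  have hQC : Qone f u ≤ centralizer ({z1 f} : Set G) := (Qone_le_S I.model).trans I.P_le
  have hmem : ∀ q : Qone f u, pq p hQC q ∈ K₁ := by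
    rintro ⟨q, hq⟩
    obtain ⟨m1, h1⟩ := mem_up.1 (I.q₁ hq)
    exact h1
  have hinj : Function.Injective ((pq p hQC).codRestrict K₁ hmem) := by
    intro a b hab
    exact pq_inj I.model I.hz.ker hQC (Qone_le_S I.model) (congrArg Subtype.val hab)
  exact card_dvd_of_injective _ hinj

theorem c0_comm_q1 (h : BOne (P : Subgroup G) m f u w) : ∀ q ∈ Qone f u, f 0 0 (M m) * q = q * f 0 0 (M m) := by
  have hg : Good (0 : R m) 0 (M m) := RIn.goodc0
  have h1 : Qone f u ≤ centralizer ({f 0 0 (M m)} : Set G) := by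
    unfold Qone
    rw [closure_le]
    rintro x (⟨a, rfl⟩ | hx)
    · exact mem_centralizer_singleton_iff.2 (h.f_comm (goodq1 a) hg)
    · rw [Set.mem_singleton_iff.1 hx]
      refine mem_centralizer_singleton_iff.2 ?_
      have hu : u * f 0 0 (M m) = f 0 0 (M m) * u := by rw [h.u_f _ _ _ hg]; simp
      have hx1 : x1 f * f 0 0 (M m) = f 0 0 (M m) * x1 f := h.f_comm goodx1 hg
      rw [mul_assoc, hx1, ← mul_assoc, hu, mul_assoc]
  intro q hq
  exact (mem_centralizer_singleton_iff.1 (h1 hq)).symm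

theorem c0_comm_q2 (h : BOne (P : Subgroup G) m f u w) : ∀ q ∈ Qtwo f u w, f 0 0 (M m) * q = q * f 0 0 (M m) := by
  have hg : Good (0 : R m) 0 (M m) := RIn.goodc0
  have h1 : Qtwo f u w ≤ centralizer ({f 0 0 (M m)} : Set G) := by
    unfold Qtwo
    rw [closure_le]
    rintro x (⟨a, rfl⟩ | hx)
    · exact mem_centralizer_singleton_iff.2 (h.f_comm (goodq2 a) hg)
    · rw [Set.mem_singleton_iff.1 hx]
      refine mem_centralizer_singleton_iff.2 ?_
      have hu : ub u w * f 0 0 (M m) = f 0 0 (M m) * ub u w := by rw [h.ub_f hg]; simp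
      have hx1 : x3 f * f 0 0 (M m) = f 0 0 (M m) * x3 f := h.f_comm goodx3 hg
      rw [mul_assoc, hx1, ← mul_assoc, hu, mul_assoc]
  intro q hq
  exact (mem_centralizer_singleton_iff.1 (h1 hq)).symm

/-- an element of order four of `Qone` -/
theorem h1_sq' (h : BOne (P : Subgroup G) m f u w) : h1 f * h1 f = z1 f := by
  have hh : h1 f = f (N m) 0 (-M m) := rfl
  rw [hh, h.f_mul _ _ _ _ _ _ goodh1 goodh1, z1]
  congr 1
  · exact N_add_N
  · ring
  · rw [← neg_add, M_add_M, neg_N]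

theorem h1_mem' : h1 f ∈ Qone f u := by
  have hh : h1 f = f (2 * M m) 0 (-M m) := by rw [two_mul_M]; rfl
  rw [hh]
  exact q_mem

theorem h2_mem' : h2 f ∈ Qtwo f u w := by
  have hh : h2 f = f 0 (2 * M m) (M m) := by rw [two_mul_M]; rfl
  rw [hh]
  exact subset_closure (Or.inl ⟨_, rfl⟩)

theorem h2_sq' (h : BOne (P : Subgroup G) m f u w) : h2 f * h2 f = z1 f := by
  have hh : h2 f = f 0 (N m) (M m) := rfl
  rw [hh, h.f_mul _ _ _ _ _ _ goodh2 goodh2, z1]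
  congr 1
  · ring
  · exact N_add_N
  · exact M_add_M

/-- `c0` centralises `L1`; the general form -/
theorem comm_c0 (I : In P m f u w F p K₁ K₂ y) (h2 : (2 : F) ≠ 0) {K K' : Subgroup X} {Q : Subgroup G} {h0 : G}
    (e : Nonempty (K ≃* Matrix.SpecialLinearGroup (Fin 2) F))
    (hzc : ∀ x ∈ K, p (self (z1 f)) * x = x * p (self (z1 f)))
    (hQP : Q ≤ (P : Subgroup G)) (hQ : Q ≤ up p K) (hc : ∀ R : Sylow 2 K, Nat.card R ≤ Nat.card Q)
    (hcQ : ∀ q ∈ Q, f 0 0 (M m) * q = q * f 0 0 (M m)) (h0Q : h0 ∈ Q) (h0z : h0 * h0 = z1 f)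
    (hnorm : ∀ g : X, (∀ x ∈ K, g * x * g⁻¹ ∈ K) ∨ (∀ x ∈ K, g * x * g⁻¹ ∈ K'))
    (hinf : ∀ x ∈ K, x ∈ K' → x = 1 ∨ x = p (self (z1 f)))
    (ho : ∀ a ∈ centralizerPPrimeCore 2 (z1 f), ∀ x ∈ perf (up p K), a * x = x * a) :
    ∀ x ∈ perf (up p K), x * f 0 0 (M m) = f 0 0 (M m) * x := by
  have := I.finite_X
  have hg : Good (0 : R m) 0 (M m) := RIn.goodc0
  have hcP : f 0 0 (M m) ∈ (P : Subgroup G) := I.model.f_mem_S hg
  have hcC : f 0 0 (M m) ∈ centralizer ({z1 f} : Set G) := I.P_le hcP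
  have hcc : f 0 0 (M m) * f 0 0 (M m) = z1 f := by
    rw [I.model.f_mul _ _ _ _ _ _ hg hg, add_zero, M_add_M]; rfl
  have hpc : ∀ q ∈ Q, ∀ hq : q ∈ centralizer ({z1 f} : Set G),
      p ⟨f 0 0 (M m), hcC⟩ * p ⟨q, hq⟩ = p ⟨q, hq⟩ * p ⟨f 0 0 (M m), hcC⟩ := by
    intro q hq hqC
    rw [← map_mul, ← map_mul]
    congr 1
    exact Subtype.ext (hcQ q hq)
  have hh0C : h0 ∈ centralizer ({z1 f} : Set G) := I.P_le (hQP h0Q)
  have hnK : ∀ x ∈ K, p ⟨f 0 0 (M m), hcC⟩ * x * (p ⟨f 0 0 (M m), hcC⟩)⁻¹ ∈ K := by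
    rcases hnorm (p ⟨f 0 0 (M m), hcC⟩) with h3 | h3
    · exact h3
    · exfalso
      obtain ⟨m1, h4⟩ := mem_up.1 (hQ h0Q)
      have h5 := h3 _ h4
      rw [hpc h0 h0Q, mul_inv_cancel_right] at h5
      rcases hinf _ h4 h5 with h6 | h6
      · have h7 := p_inj I.model I.hz.ker (x := ⟨h0, m1⟩) (hQP h0Q) h6
        simp only at h7
        rw [h7, one_mul] at h0z
        exact I.z1_ne h0z.symm
      · have h7 : p (⟨h0, m1⟩ * (self (z1 f))⁻¹) = 1 := by rw [map_mul, map_inv, h6, mul_inv_cancel]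
        have h8 := p_inj I.model I.hz.ker (x := ⟨h0, m1⟩ * (self (z1 f))⁻¹)
          (mul_mem (hQP h0Q) (inv_mem I.z1_mem_P)) h7
        have h9 : h0 = z1 f := by
          have : h0 * (z1 f)⁻¹ = 1 := h8
          exact mul_inv_eq_one.1 this
        rw [h9, I.z1_sq] at h0z
        exact I.z1_ne h0z.symm
  obtain ⟨R, hR⟩ := I.exists_sylow hQP hQ hc
  obtain ⟨e⟩ := e
  have hk : ∀ k ∈ K, p ⟨f 0 0 (M m), hcC⟩ * k = k * p ⟨f 0 0 (M m), hcC⟩ := by
    refine AutSylow.commute_of_sylow h2 e (a := p ⟨f 0 0 (M m), hcC⟩) (n := 1) ?_ hnK R ?_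
    · have h5 : p ⟨f 0 0 (M m), hcC⟩ ^ 2 ^ 1 = p (self (z1 f)) := by
        rw [pow_one, pow_two, ← map_mul]
        congr 1
        exact Subtype.ext hcc
      rw [h5, mem_centralizer_iff]
      intro x hx
      exact (hzc x hx).symm
    · intro x hx
      obtain ⟨q, hq, hqC, hqx⟩ := hR x hx
      rw [← hqx]
      exact hpc q hq hqC
  exact comm_of_comm_p I.hz.ker I.ab ho hcC hk

theorem pz_comm (I : In P m f u w F p K₁ K₂ y) (x : X) : p (self (z1 f)) * x = x * p (self (z1 f)) := by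
  obtain ⟨g, rfl⟩ := I.hz.surj x
  rw [← map_mul, ← map_mul]
  congr 1
  exact Subtype.ext (mem_centralizer_singleton_iff.1 g.2).symm

/-- elements of `perf (up p K)` with square `z1` are conjugate -/
theorem four (I : In P m f u w F p K₁ K₂ y) (h2 : (2 : F) ≠ 0) {K : Subgroup X}
    (e : Nonempty (K ≃* Matrix.SpecialLinearGroup (Fin 2) F)) (hperf : ⁅K, K⁆ = K)
    (ho : ∀ a ∈ centralizerPPrimeCore 2 (z1 f), ∀ x ∈ perf (up p K), a * x = x * a) :
    ∀ a ∈ perf (up p K), ∀ b ∈ perf (up p K), a * a = z1 f → b * b = z1 f → ∃ l ∈ perf (up p K), l * a * l⁻¹ = b := by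
  intro a ha b hb haa hbb
  obtain ⟨e⟩ := e
  obtain ⟨ma, pa⟩ := mem_up.1 (perf_le _ ha)
  obtain ⟨mb, pb⟩ := mem_up.1 (perf_le _ hb)
  have hsq : ∀ c, ∀ mc : c ∈ centralizer ({z1 f} : Set G), c * c = z1 f → p ⟨c, mc⟩ * p ⟨c, mc⟩ = p (self (z1 f)) := by
    intro c mc hc
    rw [← map_mul]
    congr 1
    exact Subtype.ext hc
  obtain ⟨k, hk, hkab⟩ := conj_four h2 e pa pb I.pz_ne I.pz_sq (hsq a ma haa) (hsq b mb hbb)
  obtain ⟨l, hl, ml, hpl⟩ := exists_lift I.hz.surj hperf hk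
  refine ⟨l, hl, ?_⟩
  have h3 : p (⟨l, ml⟩ * ⟨a, ma⟩ * (⟨l, ml⟩)⁻¹) = p ⟨b, mb⟩ := by
    rw [map_mul, map_mul, map_inv, hpl, hkab]
  obtain ⟨o, hoO, hoe⟩ := exists_core I.hz.ker h3
  simp only [Subgroup.coe_mul, InvMemClass.coe_inv] at hoe
  have hc : Commute b o := (ho o hoO b hb).symm
  have h4 : (l * a * l⁻¹) * (l * a * l⁻¹) = z1 f := by
    have e1 : (l * a * l⁻¹) * (l * a * l⁻¹) = l * (a * a) * l⁻¹ := by group
    rw [e1, haa, mem_centralizer_singleton_iff.1 ml, mul_inv_cancel_right]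
  rw [hoe] at h4
  have h5 : b * o * (b * o) = (b * b) * (o * o) := by
    have := hc.eq
    calc b * o * (b * o) = b * (o * b) * o := by group
      _ = b * (b * o) * o := by rw [this]
      _ = _ := by group
  rw [h5, hbb] at h4
  have h6 : o * o = 1 := mul_eq_left.1 h4
  have h7 : o = 1 := by
    have h8 := core_odd_order hoO
    have h9 : orderOf o ∣ 2 := orderOf_dvd_of_pow_eq_one (by rw [pow_two]; exact h6)
    exact orderOf_eq_one_iff.1 (Nat.eq_one_of_dvd_coprimes (Nat.coprime_two_right.2 h8) dvd_rfl h9)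
  rw [hoe, h7, mul_one]

/-- normal subgroups of odd order of `perf (up p K)` are central -/
theorem odd (I : In P m f u w F p K₁ K₂ y) (h2 : (2 : F) ≠ 0) {K : Subgroup X}
    (e : Nonempty (K ≃* Matrix.SpecialLinearGroup (Fin 2) F)) (hperf : ⁅K, K⁆ = K)
    (ho : ∀ a ∈ centralizerPPrimeCore 2 (z1 f), ∀ x ∈ perf (up p K), a * x = x * a) :
    ∀ N ≤ perf (up p K), (∀ l ∈ perf (up p K), cj l N = N) → ¬ 2 ∣ Nat.card N →
      ∀ x ∈ N, ∀ l ∈ perf (up p K), x * l = l * x := by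
  intro N hN hn hodd x hx l hl
  obtain ⟨e⟩ := e
  have hNC : N ≤ centralizer ({z1 f} : Set G) := (hN.trans (perf_le _)).trans (up_le p K)
  let N' : Subgroup X := (pq p hNC).range
  have hN' : N' ≤ K := by
    rintro _ ⟨⟨n, hn⟩, rfl⟩
    obtain ⟨mn, pn⟩ := mem_up.1 (perf_le _ (hN hn))
    exact pn
  have h1 : ∀ k ∈ K, ∀ a ∈ N', k * a * k⁻¹ ∈ N' := by
    rintro k hk _ ⟨⟨n, hnN⟩, rfl⟩
    obtain ⟨g, hg, mg, hpg⟩ := exists_lift I.hz.surj hperf hk
    have h3 : g * n * g⁻¹ ∈ N := by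
      have := conj_mem_cj (g := g) hnN
      rwa [hn g hg] at this
    refine ⟨⟨g * n * g⁻¹, h3⟩, ?_⟩
    change p ⟨g * n * g⁻¹, _⟩ = k * p ⟨n, _⟩ * k⁻¹
    rw [← hpg, ← map_mul, ← map_inv, ← map_mul]
    rfl
  have h3 : ¬ 2 ∣ Nat.card N' := by
    intro h4
    exact hodd (h4.trans (card_range_dvd _))
  have h4 := normal_odd h2 (I.three_lt h2) e hN' h1 h3 (p ⟨x, hNC hx⟩) ⟨⟨x, hx⟩, rfl⟩
  exact ho x ((I.hz.ker ⟨x, hNC hx⟩).1 h4) l hl

/-- **Construction of the input of the recognition end.** -/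
theorem rin (I : In P m f u w F p K₁ K₂ y) (h2 : (2 : F) ≠ 0)
    (hperm : ∀ ρ : Equiv.Perm (Fin 4), ∃ n, Ind f n ρ)
    (hpermn : ∀ n ∈ normalizer (Tor f : Set G), ∃ ρ, Ind f n ρ) :
    RIn P f u w (perf (up p K₁)) (perf (up p K₂)) := by
  have htwo : ∀ x ∈ (P : Subgroup G), ∃ n : ℕ, x ^ 2 ^ n = 1 := by
    intro x hx
    obtain ⟨n, hn⟩ := P.isPGroup' ⟨x, hx⟩
    exact ⟨n, congrArg Subtype.val hn⟩
  have hq1 : Qone f u ≤ perf (up p K₁) := by
    intro x hx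
    obtain ⟨n, hn⟩ := htwo x (Qone_le_S I.model hx)
    exact mem_perf_of_pow I.hz.ker I.hz.surj I.perf₁ I.o₁ (I.q₁ hx) hn
  have hq2 : Qtwo f u w ≤ perf (up p K₂) := by
    intro x hx
    obtain ⟨n, hn⟩ := htwo x (Qtwo_le_S I.model hx)
    exact mem_perf_of_pow I.hz.ker I.hz.surj I.perf₂ I.o₂ (I.q₂ hx) hn
  have hc1 := I.comm_c0 h2 (K' := K₂) I.hz.e₁ (fun x _ => I.pz_comm x) (Qone_le_S I.model) I.q₁
    I.card_sylow.1 (c0_comm_q1 I.model) h1_mem' (h1_sq' I.model)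
    (fun g => (I.hz.norm g).imp (fun h => h.1) (fun h => h.1)) I.hz.inf I.o₁
  have hc2 := I.comm_c0 h2 (K' := K₁) I.hz.e₂ (fun x _ => I.pz_comm x) (Qtwo_le_S I.model) I.q₂
    I.card_sylow.2 (c0_comm_q2 I.model) h2_mem' (h2_sq' I.model)
    (fun g => (I.hz.norm g).imp (fun h => h.2) (fun h => h.2)) (fun x hx hx' => I.hz.inf x hx' hx) I.o₂
  refine
    { model := I.model
      perm := hperm
      permn := hpermn
      le1 := (perf_le _).trans (up_le p _)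
      le2 := (perf_le _).trans (up_le p _)
      comm := perf_comm_perf I.hz I.ab I.o₁
      norm := fun g hg => cj_perf_up I.hz (mem_centralizer_singleton_iff.1 hg)
      q1 := hq1
      q2 := hq2
      c1 := fun x hx => (hc1 x hx).symm
      c2 := fun x hx => (hc2 x hx).symm
      four1 := I.four h2 I.hz.e₁ I.perf₁ I.o₁
      four2 := I.four h2 I.hz.e₂ I.perf₂ I.o₂
      perf1 := perf_comm _
      odd1 := I.odd h2 I.hz.e₁ I.perf₁ I.o₁
      core := ?_ }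
  intro a ha ha1 ha2
  have hz1 : z1 f ∈ perf (up p K₁) := hq1 (by
    rw [← h1_sq' I.model]
    exact mul_mem h1_mem' h1_mem')
  have mC : a ∈ centralizer ({z1 f} : Set G) := mem_centralizer_singleton_iff.2 (ha1 _ hz1)
  refine I.cz2 a ((I.hz.ker ⟨a, mC⟩).1 ?_)
  have hcov : ∀ K : Subgroup X, ⁅K, K⁆ = K → (∀ x ∈ perf (up p K), a * x = x * a) →
      ∀ k ∈ K, p ⟨a, mC⟩ * k = k * p ⟨a, mC⟩ := by
    intro K hK hKa k hk
    obtain ⟨l, hl, ml, hpl⟩ := exists_lift I.hz.surj hK hk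
    rw [← hpl, ← map_mul, ← map_mul]
    congr 1
    exact Subtype.ext (hKa l hl)
  refine I.hz.cent _ ?_ (hcov K₁ I.perf₁ ha1) (hcov K₂ I.perf₂ ha2)
  have h3 : orderOf (p ⟨a, mC⟩) ∣ orderOf (⟨a, mC⟩ : ↥(centralizer ({z1 f} : Set G))) := orderOf_map_dvd p _
  rw [Subgroup.orderOf_mk] at h3
  exact Odd.of_dvd_nat ha h3

end In

end Cfsg.Agent.LFourB.RCon
end

-- part: LFourB/RCore
section
prune_inst 0x434300100752200000018801200003c66a2000002006b0001f9600502058f5f21a9462f21fa600e1219302a74283c0008135400790020000020000e00411d01a080aa5006a308a004270007809007180c00000000000000000000000000041000000000000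
set_option linter.all false
open scoped Cfsg.Agent.FastGrp

/-!
# The recognition end of type B1: `O(C(x4))` is centralised by `V` and by `K_{01}`, `K_{02}`, `K_{12}`
-/

set_option autoImplicit false
set_option linter.unusedSectionVars false

namespace Cfsg.Agent.LFourB.RDefs

open Subgroup Cfsg Cfsg.Agent.LFourB Cfsg.Agent.LFourB.BOne Cfsg.Agent.J2Sylow.Functor

variable {G : Type*} [Group G] [Finite G] {P : Sylow 2 G} {m : ℕ} {f : R m → R m → R m → G} {u w : G}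
  {L1 L2 : Subgroup G}

namespace RIn

theorem X_mem_Y (hR : RIn P f u w L1 L2) (i j : Fin 4) : X f i ∈ centralizer ({X f j} : Set G) :=
  mem_cent_iff.mpr (hR.X_comm i j)

theorem z1_mem_Y (hR : RIn P f u w L1 L2) (j : Fin 4) : z1 f ∈ centralizer ({X f j} : Set G) := by
  rw [hR.z1_eq]; exact Subgroup.mul_mem _ (hR.X_mem_Y _ _) (hR.X_mem_Y _ _)

theorem z2_mem_Y (hR : RIn P f u w L1 L2) (j : Fin 4) : z2 f ∈ centralizer ({X f j} : Set G) := by
  rw [hR.z2_eq]; exact Subgroup.mul_mem _ (hR.X_mem_Y _ _) (hR.X_mem_Y _ _)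

theorem z2_sq (hR : RIn P f u w L1 L2) : z2 f * z2 f = 1 := by
  rw [z2, hR.model.f_mul _ _ _ _ _ _ good2 good2, N_add_N, add_zero, hR.model.f_zero]

theorem z12_comm (hR : RIn P f u w L1 L2) : z1 f * z2 f = z2 f * z1 f :=
  hR.model.Tor_comm (hR.model.f_mem_Tor good1) (hR.model.f_mem_Tor good2)

theorem L1_le_Y (hR : RIn P f u w L1 L2) : L1 ≤ centralizer ({X f 3} : Set G) := fun _ hx =>
  mem_cent_iff.mpr (hR.x3_cent hx).symm

/-- `C_{O(Y)}(z1)` centralises `L1`. -/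
theorem core_L1 (hR : RIn P f u w L1 L2) {a : G} (ha : a ∈ K (X f 3)) (haz : a * z1 f = z1 f * a) :
    ∀ l ∈ L1, a * l = l * a := by
  have haY := mem_cent_iff.mp (K_le _ ha)
  have hn := (hR.norm_of_x3 (mem_cent_iff.mpr haz) haY).1
  have hN : ∀ x ∈ L1 ⊓ K (X f 3), ∀ l ∈ L1, x * l = l * x := by
    apply hR.odd1 _ inf_le_left
    · intro l hl
      apply le_antisymm
      · intro x hx
        rw [mem_cj] at hx
        have h1 := L1.mul_mem (L1.mul_mem hl hx.1) (L1.inv_mem hl)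
        have h2 := K_conj (hR.L1_le_Y hl) hx.2
        have h3 : l * (l⁻¹ * x * l) * l⁻¹ = x := by group
        rw [h3] at h1 h2
        exact ⟨h1, h2⟩
      · intro x hx
        rw [mem_cj]
        refine ⟨L1.mul_mem (L1.mul_mem (L1.inv_mem hl) hx.1) hl, ?_⟩
        have h2 := K_conj (hR.L1_le_Y (L1.inv_mem hl)) hx.2
        rwa [inv_inv] at h2
    · intro h2
      have h3 : 2 ∣ Nat.card (K (X f 3)) := h2.trans (card_dvd_of_le inf_le_right)
      have h4 := K_odd (X f 3)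
      rw [← Nat.not_even_iff_odd, even_iff_two_dvd] at h4
      exact h4 h3
  have h1 : ∀ l ∈ L1, a * l * a⁻¹ * l⁻¹ ∈ L1 ⊓ K (X f 3) := by
    intro l hl
    refine ⟨?_, ?_⟩
    · have h2 : a * l * a⁻¹ ∈ L1 := by
        have := conj_mem_cj (g := a) hl
        rwa [hn] at this
      exact L1.mul_mem h2 (L1.inv_mem hl)
    · have h2 := K_conj (hR.L1_le_Y hl) (Subgroup.inv_mem _ ha)
      have h3 : a * l * a⁻¹ * l⁻¹ = a * (l * a⁻¹ * l⁻¹) := by group
      rw [h3]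
      exact Subgroup.mul_mem _ ha h2
  -- the commutator map is a homomorphism into a central subgroup, and `L1` is perfect
  have hmul : ∀ l ∈ L1, ∀ l' ∈ L1, a * (l * l') * a⁻¹ * (l * l')⁻¹ = (a * l * a⁻¹ * l⁻¹) * (a * l' * a⁻¹ * l'⁻¹) := by
    intro l hl l' hl'
    have h2 := hN _ (h1 l' hl') l hl
    calc a * (l * l') * a⁻¹ * (l * l')⁻¹ = (a * l * a⁻¹) * (a * l' * a⁻¹ * l'⁻¹) * l⁻¹ := by group
      _ = (a * l * a⁻¹ * l⁻¹) * (l * (a * l' * a⁻¹ * l'⁻¹)) * l⁻¹ := by group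
      _ = (a * l * a⁻¹ * l⁻¹) * ((a * l' * a⁻¹ * l'⁻¹) * l) * l⁻¹ := by rw [h2]
      _ = _ := by group
  have hle : ⁅L1, L1⁆ ≤ centralizer ({a} : Set G) := by
    rw [commutator_le]
    intro x hx y hy
    change x * y * x⁻¹ * y⁻¹ ∈ centralizer ({a} : Set G)
    rw [mem_cent_iff]
    have e : ∀ l ∈ L1, a * l⁻¹ * a⁻¹ * l⁻¹⁻¹ = (a * l * a⁻¹ * l⁻¹)⁻¹ := by
      intro l hl
      have h2 := hmul l hl l⁻¹ (L1.inv_mem hl)
      rw [mul_inv_cancel, mul_one, inv_one, mul_one, mul_inv_cancel] at h2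
      exact (inv_eq_of_mul_eq_one_right h2.symm).symm
    have hx' := L1.inv_mem hx
    have hy' := L1.inv_mem hy
    have h3 : a * (x * y * x⁻¹ * y⁻¹) * a⁻¹ * (x * y * x⁻¹ * y⁻¹)⁻¹ = 1 := by
      rw [hmul _ (L1.mul_mem (L1.mul_mem hx hy) hx') _ hy',
        hmul _ (L1.mul_mem hx hy) _ hx', hmul _ hx _ hy, e _ hx, e _ hy]
      have h5 := hN _ (h1 y hy) _ (L1.inv_mem (h1 x hx).1)
      rw [mul_assoc (a * x * a⁻¹ * x⁻¹), h5]
      group
    have h4 : a * (x * y * x⁻¹ * y⁻¹) * a⁻¹ = x * y * x⁻¹ * y⁻¹ := mul_inv_eq_one.mp h3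
    exact (mul_inv_eq_iff_eq_mul.mp h4).symm
  intro l hl
  rw [← hR.perf1] at hl
  exact (mem_cent_iff.mp (hle hl)).symm

/-- `C_{O(Y)}(z1)` centralises `z2`. -/
theorem core_z2 (hR : RIn P f u w L1 L2) {a : G} (ha : a ∈ K (X f 3)) (haz : a * z1 f = z1 f * a) :
    a * z2 f = z2 f * a := by
  have haY := mem_cent_iff.mp (K_le _ ha)
  have hn := (hR.norm_of_x3 (mem_cent_iff.mpr haz) haY).2
  have hz2i : (z2 f)⁻¹ = z2 f := inv_eq_of_mul_eq_one_left hR.z2_sq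
  -- a' = z2 a⁻¹ z2⁻¹
  have ha' : z2 f * a⁻¹ * (z2 f)⁻¹ ∈ K (X f 3) := K_conj (hR.z2_mem_Y 3) (Subgroup.inv_mem _ ha)
  have ha'z : (z2 f * a⁻¹ * (z2 f)⁻¹) * z1 f = z1 f * (z2 f * a⁻¹ * (z2 f)⁻¹) := by
    have e1 : a⁻¹ * z1 f = z1 f * a⁻¹ := by
      rw [inv_mul_eq_iff_eq_mul, ← mul_assoc, haz, mul_inv_cancel_right]
    rw [hz2i]
    calc z2 f * a⁻¹ * z2 f * z1 f = z2 f * a⁻¹ * (z2 f * z1 f) := by group
      _ = z2 f * (a⁻¹ * z1 f) * z2 f := by rw [← hR.z12_comm]; group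
      _ = z2 f * z1 f * (a⁻¹ * z2 f) := by rw [e1]; group
      _ = z1 f * (z2 f * a⁻¹ * z2 f) := by rw [← hR.z12_comm]; group
  set b := a * (z2 f * a⁻¹ * (z2 f)⁻¹) with hb
  have hbK : b ∈ K (X f 3) := Subgroup.mul_mem _ ha ha'
  have hodd : Odd (orderOf b) := odd_orderOf_of_mem (K_odd _) hbK
  have hb1 : ∀ x ∈ L1, b * x = x * b := by
    intro x hx
    rw [hb, mul_assoc, hR.core_L1 ha' ha'z x hx, ← mul_assoc, hR.core_L1 ha haz x hx, mul_assoc]
  have hb2 : ∀ x ∈ L2, b * x = x * b := by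
    intro x hx
    -- z2 a⁻¹ z2⁻¹ = X1 a⁻¹ X1⁻¹
    have e1 : z2 f * a⁻¹ * (z2 f)⁻¹ = X f 1 * a⁻¹ * (X f 1)⁻¹ := by
      have e2 : a⁻¹ * (X f 3)⁻¹ = (X f 3)⁻¹ * a⁻¹ := by
        rw [← mul_inv_rev, ← mul_inv_rev, haY]
      rw [hR.z2_eq', mul_inv_rev]
      calc X f 1 * X f 3 * a⁻¹ * ((X f 3)⁻¹ * (X f 1)⁻¹) = X f 1 * (X f 3 * (a⁻¹ * (X f 3)⁻¹)) * (X f 1)⁻¹ := by group
        _ = X f 1 * a⁻¹ * (X f 1)⁻¹ := by rw [e2]; group
    have hax : a⁻¹ * x * a ∈ L2 := by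
      rw [← hn] at hx
      exact mem_cj.mp hx
    have c1 := hR.x1_cent hx
    have c2 := hR.x1_cent hax
    have e3 : b * x * b⁻¹ = x := by
      rw [hb, e1]
      calc a * (X f 1 * a⁻¹ * (X f 1)⁻¹) * x * (a * (X f 1 * a⁻¹ * (X f 1)⁻¹))⁻¹ =
          a * (X f 1 * (a⁻¹ * ((X f 1)⁻¹ * (x * X f 1)) * a) * (X f 1)⁻¹) * a⁻¹ := by group
        _ = a * (X f 1 * (a⁻¹ * x * a) * (X f 1)⁻¹) * a⁻¹ := by rw [← c1]; group
        _ = x := by rw [c2]; group
    exact mul_inv_eq_iff_eq_mul.mp e3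
  have hbz := hR.core b hodd hb1 hb2
  -- z2 inverts b
  have hinv : z2 f * b * (z2 f)⁻¹ = b⁻¹ := by
    rw [hb, hz2i]
    calc z2 f * (a * (z2 f * a⁻¹ * z2 f)) * z2 f = z2 f * a * z2 f * a⁻¹ * (z2 f * z2 f) := by group
      _ = (a * (z2 f * a⁻¹ * z2 f))⁻¹ := by
        rw [hR.z2_sq, mul_one, mul_inv_rev, mul_inv_rev, mul_inv_rev, inv_inv, hz2i, mul_assoc (z2 f)]
  have h3 : b = b⁻¹ := by
    rw [← hinv, ← hbz, mul_inv_cancel_right]
  have h4 : b = 1 := eq_one_of_odd (by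
    calc b * b = b * b⁻¹ := by rw [← h3]
      _ = 1 := mul_inv_cancel b) hodd
  rw [hb] at h4
  have h5 : z2 f * a⁻¹ * (z2 f)⁻¹ = a⁻¹ := (inv_eq_of_mul_eq_one_right h4).symm
  have h6 : z2 f * a⁻¹ = a⁻¹ * z2 f := mul_inv_eq_iff_eq_mul.mp h5
  calc a * z2 f = a * (z2 f * a⁻¹) * a := by group
    _ = a * (a⁻¹ * z2 f) * a := by rw [h6]
    _ = z2 f * a := by group

/-- commuting with `z1` and `z2` means commuting with all products `X i X j`. -/
theorem comm_XX (hR : RIn P f u w L1 L2) {g : G} (h1 : g * z1 f = z1 f * g) (h2 : g * z2 f = z2 f * g) (i j : Fin 4) :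
    g * (X f i * X f j) = X f i * X f j * g := by
  have a0 : ∀ j : Fin 4, g * (X f 0 * X f j) = X f 0 * X f j * g := by
    intro j
    fin_cases j
    · change g * (X f 0 * X f 0) = X f 0 * X f 0 * g
      rw [hR.X_sq, mul_one, one_mul]
    · change g * (X f 0 * X f 1) = X f 0 * X f 1 * g
      rw [← hR.z1_eq]; exact h1
    · change g * (X f 0 * X f 2) = X f 0 * X f 2 * g
      rw [← hR.z2_eq]; exact h2
    · change g * (X f 0 * X f 3) = X f 0 * X f 3 * g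
      rw [← hR.z3_eq, hR.z3_eq', ← mul_assoc, h1, mul_assoc, h2, ← mul_assoc]
  have e : X f i * X f j = (X f 0 * X f i) * (X f 0 * X f j) := by
    rw [hR.X_comm 0 i, mul_assoc, ← mul_assoc (X f 0) (X f 0), hR.X_sq, one_mul]
  rw [e, ← mul_assoc, a0 i, mul_assoc, a0 j, ← mul_assoc]

theorem comm_X3_of_ind (_hR : RIn P f u w L1 L2) {n : G} {ρ : Equiv.Perm (Fin 4)} (hn : Ind f n ρ) (h3 : ρ 3 = 3) :
    n ∈ centralizer ({X f 3} : Set G) := by
  have h1 := hn.2 3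
  rw [h3] at h1
  exact mem_cent_iff.mpr (mul_inv_eq_iff_eq_mul.mp h1)

/-- for `n ∈ N(T) ∩ C(x4)` and `a ∈ O(Y)` commuting with `n z1 n⁻¹`. -/
theorem core_conj (hR : RIn P f u w L1 L2) {n : G} {ρ : Equiv.Perm (Fin 4)} (hn : Ind f n ρ) (h3 : ρ 3 = 3) {a : G}
    (ha : a ∈ K (X f 3)) (haz : a * (X f (ρ 0) * X f (ρ 1)) = X f (ρ 0) * X f (ρ 1) * a) :
    a * z1 f = z1 f * a ∧ a * z2 f = z2 f * a := by
  have hnY := hR.comm_X3_of_ind hn h3
  have ha' : n⁻¹ * a * n ∈ K (X f 3) := by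
    have := K_conj (Subgroup.inv_mem _ hnY) ha
    rwa [inv_inv] at this
  have e0 : n⁻¹ * (X f (ρ 0) * X f (ρ 1)) * n = z1 f := by
    rw [hR.z1_eq, ← hn.2, ← hn.2]; group
  have h1 : (n⁻¹ * a * n) * z1 f = z1 f * (n⁻¹ * a * n) := by
    rw [← e0]
    calc n⁻¹ * a * n * (n⁻¹ * (X f (ρ 0) * X f (ρ 1)) * n) = n⁻¹ * (a * (X f (ρ 0) * X f (ρ 1))) * n := by group
      _ = n⁻¹ * (X f (ρ 0) * X f (ρ 1) * a) * n := by rw [haz]
      _ = n⁻¹ * (X f (ρ 0) * X f (ρ 1)) * n * (n⁻¹ * a * n) := by group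
  have h2 := hR.core_z2 ha' h1
  have h4 := hR.comm_XX h1 h2
  have key : ∀ i j : Fin 4, a * (X f i * X f j) = X f i * X f j * a := by
    intro i j
    have h5 := h4 (ρ⁻¹ i) (ρ⁻¹ j)
    have e : X f i * X f j = n * (X f (ρ⁻¹ i) * X f (ρ⁻¹ j)) * n⁻¹ := by
      have e1 := hn.2 (ρ⁻¹ i)
      have e2 := hn.2 (ρ⁻¹ j)
      rw [perm_apply_inv] at e1 e2
      rw [← e1, ← e2]; group
    rw [e]
    calc a * (n * (X f (ρ⁻¹ i) * X f (ρ⁻¹ j)) * n⁻¹) =
        n * ((n⁻¹ * a * n) * (X f (ρ⁻¹ i) * X f (ρ⁻¹ j))) * n⁻¹ := by group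
      _ = n * (X f (ρ⁻¹ i) * X f (ρ⁻¹ j) * (n⁻¹ * a * n)) * n⁻¹ := by rw [h5]
      _ = n * (X f (ρ⁻¹ i) * X f (ρ⁻¹ j)) * n⁻¹ * a := by group
  rw [hR.z1_eq, hR.z2_eq]
  exact ⟨key _ _, key _ _⟩

/-- **`O(C(x4))` centralises `V`.** -/
theorem core_V (hR : RIn P f u w L1 L2) {a : G} (ha : a ∈ K (X f 3)) : a * z1 f = z1 f * a ∧ a * z2 f = z2 f * a := by
  let M0 : Subgroup G := centralizer ({z1 f, z2 f} : Set G)
  have hM0 : ∀ x, x ∈ M0 ↔ x * z1 f = z1 f * x ∧ x * z2 f = z2 f * x := by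
    intro x
    rw [Subgroup.mem_centralizer_iff]
    constructor
    · intro h
      exact ⟨(h _ (by simp)).symm, (h _ (by simp)).symm⟩
    · rintro ⟨h1, h2⟩ y hy
      rcases hy with rfl | rfl
      · exact h1.symm
      · exact h2.symm
  have hmain : K (X f 3) ≤ M0 := by
    apply Lib.KleinGen.le_of_klein _ _ (K_odd _) (z1 f) (z2 f) hR.z1_sq hR.z2_sq hR.z12_comm
    · intro x hx; exact K_conj (hR.z1_mem_Y 3) hx
    · intro x hx; exact K_conj (hR.z2_mem_Y 3) hx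
    · rintro x ⟨hx, hz⟩
      have hz' := mem_cent_iff.mp hz
      exact (hM0 x).mpr ⟨hz', hR.core_z2 hx hz'⟩
    · rintro x ⟨hx, hz⟩
      have hz' := mem_cent_iff.mp hz
      obtain ⟨n, hn⟩ := hR.perm (Equiv.swap 1 2)
      refine (hM0 x).mpr (hR.core_conj hn (by decide) hx ?_)
      have e0 : (Equiv.swap (1 : Fin 4) 2) 0 = 0 := by decide
      have e1 : (Equiv.swap (1 : Fin 4) 2) 1 = 2 := by decide
      rw [e0, e1, ← hR.z2_eq]
      exact hz'
    · rintro x ⟨hx, hz⟩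
      have hz' := mem_cent_iff.mp hz
      obtain ⟨n, hn⟩ := hR.perm (Equiv.swap 0 1 * Equiv.swap 1 2)
      refine (hM0 x).mpr (hR.core_conj hn (by decide) hx ?_)
      have e0 : (Equiv.swap (0 : Fin 4) 1 * Equiv.swap 1 2 : Equiv.Perm (Fin 4)) 0 = 1 := by decide
      have e1 : (Equiv.swap (0 : Fin 4) 1 * Equiv.swap 1 2 : Equiv.Perm (Fin 4)) 1 = 2 := by decide
      rw [e0, e1]
      have e2 : X f 1 * X f 2 = z1 f * z2 f := by
        rw [hR.z1_eq, hR.z2_eq, hR.X_comm 0 1, mul_assoc, ← mul_assoc (X f 0), hR.X_sq, one_mul]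
      rw [e2]
      exact hz'
  exact (hM0 a).mp (hmain ha)

/-- **`O(C(x4))` centralises `K_{ij}` for `i, j ≠ 3`.** -/
theorem core_KK (hR : RIn P f u w L1 L2) {a : G} (ha : a ∈ K (X f 3)) {i j : Fin 4} (hij : i ≠ j) (hi : i ≠ 3)
    (hj : j ≠ 3) {x : G} (hx : x ∈ KK f L1 i j) : a * x = x * a := by
  obtain ⟨ρ, h0, h1, h3⟩ : ∃ ρ : Equiv.Perm (Fin 4), ρ 0 = i ∧ ρ 1 = j ∧ ρ 3 = 3 := by
    revert hij hi hj
    clear hx
    revert i j
    decide
  obtain ⟨n, hn⟩ := hR.perm ρ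
  have e := hR.KK_eq hn
  rw [h0, h1] at e
  rw [e, mem_cj] at hx
  have hnY := hR.comm_X3_of_ind hn h3
  have ha' : n⁻¹ * a * n ∈ K (X f 3) := by
    have := K_conj (Subgroup.inv_mem _ hnY) ha
    rwa [inv_inv] at this
  have h4 := hR.core_L1 ha' (hR.core_V ha').1 _ hx
  calc a * x = n * ((n⁻¹ * a * n) * (n⁻¹ * x * n)) * n⁻¹ := by group
    _ = n * ((n⁻¹ * x * n) * (n⁻¹ * a * n)) * n⁻¹ := by rw [h4]
    _ = x * a := by group

end RIn

namespace RIn

end RIn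

end Cfsg.Agent.LFourB.RDefs
end

-- part: LFourB/RFive
section
set_option linter.all false
open scoped Cfsg.Agent.FastGrp

/-!
# The recognition end of type B1: the primes dividing `|O(C(x4))|` divide `q - ε`

`O(C(x4))` acts on `L2` as a group of automorphisms centralising the torus `L2 ∩ C(z2)`, and faithfully when
`⟨all K_{ij}⟩ = G` and `Z(G) = 1`.
-/

set_option autoImplicit false
set_option linter.unusedSectionVars false

namespace Cfsg.Agent.LFourB.RFive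

open Subgroup Matrix Cfsg.Agent.Lib.SL2Mat Cfsg.Agent.Lib.PSL2Circle Cfsg.Agent.Lib.PSL2Inv Cfsg.Agent.Lib.PSL2Torus
  Cfsg.Agent.LFourA.AutTwo

/-! ### automorphisms of prime order of `SL(2,F)` centralising a torus -/

section sl

variable {F : Type*} [Field F] [Finite F]

/-- A nontrivial automorphism of odd prime order `r` of `SL(2,F)` that fixes `X` (of order 4) and the elements of odd
order of `C(X)`: `r ∣ q - ε`; moreover there is an element of order `r` commuting with `X`. -/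
theorem sl_dvd (h2 : (2 : F) ≠ 0) {X : Matrix.SpecialLinearGroup (Fin 2) F} (hX : X * X = -1)
    {x : MulAut (Matrix.SpecialLinearGroup (Fin 2) F)} {r : ℕ} (hr : r.Prime) (hr2 : r ≠ 2) (hx : x ^ r = 1)
    (hx1 : x ≠ 1) (hxX : x X = X) (hfix : ∀ y, y * X = X * y → Odd (orderOf y) → x y = y) :
    ((Nat.card F % 4 = 1 ∧ r ∣ Nat.card F - 1) ∨ (Nat.card F % 4 = 3 ∧ r ∣ Nat.card F + 1)) ∧
      ∃ c, c * X = X * c ∧ orderOf c = r := by
  classical
  have hfact : Fact r.Prime := ⟨hr⟩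
  have hn : Odd r := hr.odd_of_ne_two hr2
  have hcen : (Subgroup.center (Matrix.SpecialLinearGroup (Fin 2) F)).map
      (x : Matrix.SpecialLinearGroup (Fin 2) F →* Matrix.SpecialLinearGroup (Fin 2) F) =
      Subgroup.center (Matrix.SpecialLinearGroup (Fin 2) F) :=
    Subgroup.characteristic_iff_map_eq.mp inferInstance x
  set Z := Subgroup.center (Matrix.SpecialLinearGroup (Fin 2) F) with hZ
  set x' : MulAut (Matrix.ProjectiveSpecialLinearGroup (Fin 2) F) := QuotientGroup.congr Z Z x hcen with hx'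
  have hx'mk : ∀ y, x' (QuotientGroup.mk' Z y) = QuotientGroup.mk' Z (x y) := fun y => rfl
  have hmk : ∀ y z, QuotientGroup.mk' Z y = QuotientGroup.mk' Z z ↔ y = z ∨ y = -z := by
    intro y z
    have h1 : QuotientGroup.mk' Z y = QuotientGroup.mk' Z z ↔ y⁻¹ * z ∈ Z := QuotientGroup.eq
    rw [h1, mem_center_iff' h2, inv_mul_eq_iff_eq_mul, inv_mul_eq_iff_eq_mul, mul_one, mul_neg, mul_one]
    constructor
    · rintro (h | h)
      · exact Or.inl h.symm
      · right; rw [h, neg_neg]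
    · rintro (h | h)
      · exact Or.inl h.symm
      · right; rw [h, neg_neg]
  have hx'pow : ∀ (k : ℕ) (y), (x' ^ k) (QuotientGroup.mk' Z y) = QuotientGroup.mk' Z ((x ^ k) y) := by
    intro k
    induction k with
    | zero => intro y; rfl
    | succ k ih => intro y; rw [pow_succ, pow_succ, MulAut.mul_apply, MulAut.mul_apply, hx'mk, ih]
  -- odd lifts
  have hlift : ∀ (y : Matrix.SpecialLinearGroup (Fin 2) F) (m : ℕ), Odd m → (QuotientGroup.mk' Z y) ^ m = 1 →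
      ∃ w, QuotientGroup.mk' Z w = QuotientGroup.mk' Z y ∧ w ^ m = 1 := by
    intro y m hm hy
    have h3 : y ^ m = 1 ∨ y ^ m = -1 := by rw [← hmk, map_pow, hy, map_one]
    rcases h3 with h3 | h3
    · exact ⟨y, rfl, h3⟩
    · exact ⟨-y, (hmk (-y) y).mpr (Or.inr rfl), by rw [hm.neg_pow, h3, neg_neg]⟩
  -- `x'` is not trivial
  have hx'1 : x' ≠ 1 := by
    intro h1
    apply hx1
    ext1 y
    rw [MulAut.one_apply]
    have h3 : x y = y ∨ x y = -y := by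
      rw [← hmk, ← hx'mk, h1, MulAut.one_apply]
    rcases h3 with h3 | h3
    · exact h3
    · exfalso
      have h6 : x (-1) = -1 := by
        have h5 : x (-1) * x (-1) = 1 := by rw [← map_mul, neg_mul_neg, mul_one, map_one]
        rcases sq_eq_one h2 h5 with h7 | h7
        · have h8 : (-1 : Matrix.SpecialLinearGroup (Fin 2) F) = 1 := x.injective (by rw [h7, map_one])
          rw [h8, map_one]
        · exact h7
      have key : ∀ k : ℕ, (x ^ k) y = (-1) ^ k * y := by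
        intro k
        induction k with
        | zero => simp
        | succ k ih =>
          rw [pow_succ', MulAut.mul_apply, ih, map_mul, map_pow, pow_succ', h3, h6]
          rw [mul_neg, neg_one_mul, neg_mul]
      have h4 := key r
      rw [hx, MulAut.one_apply, hn.neg_one_pow] at h4
      refine one_ne_neg h2 ?_
      calc (1 : Matrix.SpecialLinearGroup (Fin 2) F) = y * y⁻¹ := by group
        _ = (-1 * y) * y⁻¹ := by rw [← h4]
        _ = -1 := by group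
  have ht1 : QuotientGroup.mk' Z X ≠ 1 := by
    intro h
    rcases (hmk X 1).mp (by rw [h, map_one]) with h3 | h3
    · rw [h3, one_mul] at hX; exact one_ne_neg h2 hX
    · rw [h3, neg_mul_neg, one_mul] at hX; exact one_ne_neg h2 hX
  have ht : QuotientGroup.mk' Z X * QuotientGroup.mk' Z X = 1 := by
    rw [← map_mul, hX, ← map_one (QuotientGroup.mk' Z), hmk]; right; rfl
  obtain ⟨c, hct, hcr, hcx⟩ := exists_inner_of_fix (n := 1) (α := x') h2
    (MulEquiv.refl (Matrix.ProjectiveSpecialLinearGroup (Fin 2) F)) (t := QuotientGroup.mk' Z X) ht1 ht hr hr2 (by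
      rw [pow_one]
      ext y
      obtain ⟨y, rfl⟩ := QuotientGroup.mk'_surjective Z y
      rw [hx'pow, hx]; rfl) (by rw [hx'mk, hxX]) (by
      intro y hy hyo
      refine ⟨0, ?_⟩
      obtain ⟨y, rfl⟩ := QuotientGroup.mk'_surjective Z y
      obtain ⟨w, hwy, hwm⟩ := hlift y _ hyo (pow_orderOf_eq_one _)
      rw [← hwy] at hy ⊢
      rw [← map_mul, ← map_mul, hmk] at hy
      have hwX := comm_of_odd h2 hyo hwm hy
      rw [hx'mk, hfix w hwX (Odd.of_dvd_nat hyo (orderOf_dvd_of_pow_eq_one hwm)), inv_mul_cancel, one_pow])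
  rw [pow_one] at hcr
  have hc1 : c ≠ 1 := by
    rintro rfl
    apply hx'1
    ext y
    rw [hcx, one_mul, inv_one, mul_one, MulAut.one_apply]
  have hco : orderOf c = r := orderOf_eq_prime hcr hc1
  constructor
  · obtain ⟨T, m, hT, hm⟩ := exists_torus h2
      (MulEquiv.refl (Matrix.ProjectiveSpecialLinearGroup (Fin 2) F)) ht1 ht
    have h5 : orderOf c ∣ Nat.card (Subgroup.centralizer ({QuotientGroup.mk' Z X} : Set _)) := by
      have h6 := orderOf_dvd_natCard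
        (⟨c, Subgroup.mem_centralizer_singleton_iff.mpr hct⟩ : Subgroup.centralizer ({QuotientGroup.mk' Z X} : Set _))
      rwa [← Subgroup.orderOf_coe] at h6
    rw [hT.card_centralizer, hco] at h5
    rcases hm with ⟨h6, h7⟩ | ⟨h6, h7⟩
    · left; exact ⟨h6, h7 ▸ h5⟩
    · right; exact ⟨h6, h7 ▸ h5⟩
  · obtain ⟨y, rfl⟩ := QuotientGroup.mk'_surjective Z c
    obtain ⟨w, hwy, hwm⟩ := hlift y _ hn hcr
    refine ⟨w, ?_, orderOf_eq_prime hwm ?_⟩
    · rw [← hwy, ← map_mul, ← map_mul, hmk] at hct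
      exact comm_of_odd h2 hn hwm hct
    · rintro rfl
      rw [map_one] at hwy
      exact hc1 hwy.symm

/-- The same for a subgroup `A ≅ SL(2,F)` of `G` and an element `g` of order `r` normalising `A`. -/
theorem sl_dvd_sub {G : Type*} [Group G] (h2 : (2 : F) ≠ 0) {A : Subgroup G}
    (e : A ≃* Matrix.SpecialLinearGroup (Fin 2) F) {X g : G}
    (hXA : X ∈ A) (hX1 : X * X ≠ 1) (hX : (X * X) * (X * X) = 1) (hg : g ∈ Subgroup.normalizer (A : Set G))
    {r : ℕ} (hr : r.Prime) (hr2 : r ≠ 2) (hgr : g ^ r = 1) (hgX : g * X = X * g)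
    (hfix : ∀ y ∈ A, y * X = X * y → Odd (orderOf y) → g * y = y * g) (hne : ¬ ∀ y ∈ A, g * y = y * g) :
    ((Nat.card F % 4 = 1 ∧ r ∣ Nat.card F - 1) ∨ (Nat.card F % 4 = 3 ∧ r ∣ Nat.card F + 1)) ∧
      ∃ c ∈ A, c * X = X * c ∧ orderOf c = r := by
  set x : MulAut A := A.normalizerMonoidHom ⟨g, hg⟩ with hxdef
  have hxr : x ^ r = 1 := conj_pow_eq_one hg hgr
  set x' : MulAut (Matrix.SpecialLinearGroup (Fin 2) F) := MulAut.congr e x with hx'
  have hx'e : ∀ y, x' (e y) = e (x y) := fun y => by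
    rw [hx']
    change e (x (e.symm (e y))) = _
    rw [e.symm_apply_apply]
  have h1 := sl_dvd h2 (X := e ⟨X, hXA⟩) (x := x') ?_ hr hr2 (by rw [hx', ← map_pow, hxr, map_one]) ?_ ?_ ?_
  · refine ⟨h1.1, ?_⟩
    obtain ⟨c, hc, hco⟩ := h1.2
    refine ⟨e.symm c, (e.symm c).2, ?_, ?_⟩
    · have h3 := congrArg e.symm hc
      rw [map_mul, map_mul, e.symm_apply_apply] at h3
      exact congrArg Subtype.val h3
    · rw [Subgroup.orderOf_coe, e.symm.orderOf_eq, hco]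
  · have h3 : (e ⟨X, hXA⟩ * e ⟨X, hXA⟩) * (e ⟨X, hXA⟩ * e ⟨X, hXA⟩) = 1 := by
      rw [← map_mul, ← map_mul, ← map_one e]
      congr 1
      exact Subtype.ext hX
    rcases sq_eq_one h2 h3 with h4 | h4
    · exfalso
      rw [← map_mul, map_eq_one_iff e e.injective] at h4
      exact hX1 (congrArg Subtype.val h4)
    · exact h4
  · intro h3
    apply hne
    intro y hy
    rw [← conj_apply_eq hg ⟨y, hy⟩, ← hxdef]
    apply e.injective
    rw [← hx'e, h3, MulAut.one_apply]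
  · rw [hx'e, (conj_apply_eq hg _).mpr hgX]
  · intro y hy hyo
    obtain ⟨y, rfl⟩ := e.surjective y
    rw [hx'e, (conj_apply_eq hg y).mpr (hfix y y.2 ?_ ?_)]
    · have h3 : y * ⟨X, hXA⟩ = ⟨X, hXA⟩ * y := e.injective (by rw [map_mul, map_mul, hy])
      exact congrArg Subtype.val h3
    · rwa [Subgroup.orderOf_coe, ← e.orderOf_eq]

end sl

/-! ### the action of `O(C(x4))` on `L2` -/

section main

open Cfsg Cfsg.Agent.LFourB Cfsg.Agent.LFourB.BOne Cfsg.Agent.J2Sylow.Functor Cfsg.Agent.LFourB.RDefs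
  Cfsg.Agent.LFourB.RDefs.RIn

variable {G : Type*} [Group G] [Finite G] {P : Sylow 2 G} {m : ℕ} {f : R m → R m → R m → G} {u w : G}
  {L1 L2 : Subgroup G}

theorem ind_u2 (hR : RIn P f u w L1 L2) : Ind f (ub u w * X f 2) (Equiv.swap 2 3) := by
  refine ⟨Subgroup.mul_mem _ (hR.model.S_le_normalizer hR.model.ub_mem) (le_normalizer (hR.model.X_mem 2)), ?_⟩
  intro i
  have h1 := hR.model.pi_spec ⟨ub u w, hR.model.ub_mem⟩ i
  rw [hR.model.pi_ub] at h1
  rw [← h1]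
  have h2 : X f 2 * X f i * (X f 2)⁻¹ = X f i := by rw [hR.X_comm 2 i, mul_inv_cancel_right]
  calc ub u w * X f 2 * X f i * (ub u w * X f 2)⁻¹ = ub u w * (X f 2 * X f i * (X f 2)⁻¹) * (ub u w)⁻¹ := by group
    _ = ub u w * X f i * (ub u w)⁻¹ := by rw [h2]

/-- `K_{ij}` contains an element of `N(T)` that induces the transposition `(i j)`. -/
theorem exists_ind_swap (hR : RIn P f u w L1 L2) {i j : Fin 4} (hij : i ≠ j) :
    ∃ n ∈ KK f L1 i j, Ind f n (Equiv.swap i j) := by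
  obtain ⟨ρ, h2, h3⟩ : ∃ ρ : Equiv.Perm (Fin 4), ρ 2 = i ∧ ρ 3 = j := by
    revert i j
    decide
  obtain ⟨n, hn⟩ := hR.perm ρ
  refine ⟨n * (ub u w * X f 2) * n⁻¹, ?_, ?_⟩
  · rw [← h2, ← h3, ← hR.cj_KK hn (show (2 : Fin 4) ≠ 3 by decide), hR.KK23]
    exact conj_mem_cj hR.u2_mem
  · have h4 := (hn.mul (ind_u2 hR)).mul hn.inv
    have h5 : ρ * Equiv.swap 2 3 * ρ⁻¹ = Equiv.swap i j := by
      rw [← h2, ← h3, Equiv.swap_apply_apply]
    rwa [h5] at h4

/-- An element centralising all `K_{ij}` is trivial. -/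
theorem eq_one_of_comm (hR : RIn P f u w L1 L2) (hG : GZ f L1 = ⊤) (hc : Subgroup.center G = ⊥) {g : G}
    (h : ∀ i j : Fin 4, i ≠ j → ∀ x ∈ KK f L1 i j, g * x = x * g) : g = 1 := by
  have h1 : GZ f L1 ≤ centralizer ({g} : Set G) := by
    apply iSup_le
    rintro ⟨n, hn⟩
    obtain ⟨ρ, hρ⟩ := hR.permn n hn
    rw [← hR.KK_eq hρ]
    intro x hx
    exact mem_cent_iff.mpr (h _ _ (fun h => absurd (ρ.injective h) (by decide)) x hx).symm
  rw [hG, top_le_iff] at h1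
  have h2 : g ∈ Subgroup.center G := by
    rw [Subgroup.mem_center_iff]
    intro x
    have h3 : x ∈ centralizer ({g} : Set G) := by rw [h1]; exact Subgroup.mem_top x
    exact mem_cent_iff.mp h3
  rwa [hc, Subgroup.mem_bot] at h2

/-- The same with the six pairs. -/
theorem eq_one_of_six (hR : RIn P f u w L1 L2) (hG : GZ f L1 = ⊤) (hc : Subgroup.center G = ⊥) {g : G}
    (h01 : ∀ x ∈ KK f L1 0 1, g * x = x * g) (h02 : ∀ x ∈ KK f L1 0 2, g * x = x * g)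
    (h03 : ∀ x ∈ KK f L1 0 3, g * x = x * g) (h12 : ∀ x ∈ KK f L1 1 2, g * x = x * g)
    (h13 : ∀ x ∈ KK f L1 1 3, g * x = x * g) (h23 : ∀ x ∈ KK f L1 2 3, g * x = x * g) : g = 1 := by
  apply eq_one_of_comm hR hG hc
  intro i j hij
  fin_cases i <;> fin_cases j
  · exact (hij rfl).elim
  · exact h01
  · exact h02
  · exact h03
  · rw [hR.KK_symm hij]; exact h01
  · exact (hij rfl).elim
  · exact h12
  · exact h13
  · rw [hR.KK_symm hij]; exact h02
  · rw [hR.KK_symm hij]; exact h12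
  · exact (hij rfl).elim
  · exact h23
  · rw [hR.KK_symm hij]; exact h03
  · rw [hR.KK_symm hij]; exact h13
  · rw [hR.KK_symm hij]; exact h23
  · exact (hij rfl).elim

/-- transport of commutation -/
theorem comm_of_cj {n g g' : G} {A B : Subgroup G} (hAB : cj n A = B) (hg : n * g * n⁻¹ = g')
    (h : ∀ x ∈ A, g * x = x * g) : ∀ x ∈ B, g' * x = x * g' := by
  rw [← hAB, ← hg]
  exact comm_cj h

theorem comm_inv {g : G} {A : Subgroup G} (h : ∀ x ∈ A, g⁻¹ * x = x * g⁻¹) : ∀ x ∈ A, g * x = x * g := by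
  intro x hx
  have h1 := h x hx
  rw [inv_mul_eq_iff_eq_mul, ← mul_assoc] at h1
  exact mul_inv_eq_iff_eq_mul.mp h1.symm

/-! ### the torus `L2 ∩ C(z2)` -/

theorem comm_x3_iff (hR : RIn P f u w L1 L2) {t : G} (ht : t ∈ L2) : t * X f 3 = X f 3 * t ↔ t * z2 f = z2 f * t := by
  have h1 := hR.x1_cent ht
  rw [hR.z2_eq', ← mul_assoc, ← h1, mul_assoc, mul_assoc]
  exact mul_left_cancel_iff.symm

theorem comm_h2_iff (hR : RIn P f u w L1 L2) {t : G} (ht : t ∈ L2) :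
    t * LFourB.h2 f = LFourB.h2 f * t ↔ t * z2 f = z2 f * t := by
  have h1 := hR.comm _ hR.h1_mem t ht
  rw [hR.z2_eq_h, ← mul_assoc, ← h1, mul_assoc, mul_assoc]
  exact mul_left_cancel_iff.symm

/-- `u2 = ub x3 ∈ L2` inverts `h2`. -/
theorem u2_h2 (hR : RIn P f u w L1 L2) :
    (ub u w * X f 2) * LFourB.h2 f * (ub u w * X f 2)⁻¹ = (LFourB.h2 f)⁻¹ := by
  have h1 : X f 2 * LFourB.h2 f = LFourB.h2 f * X f 2 :=
    hR.model.Tor_comm (hR.model.X_mem 2) (hR.model.f_mem_Tor goodh2)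
  have h2 : ub u w * LFourB.h2 f = (LFourB.h2 f)⁻¹ * ub u w := by
    rw [LFourB.h2, hR.model.ub_f goodh2, hR.model.f_inv goodh2, neg_zero]
    congr 2
    linear_combination two_mul_M (m := m)
  calc ub u w * X f 2 * LFourB.h2 f * (ub u w * X f 2)⁻¹ =
      ub u w * (X f 2 * LFourB.h2 f) * (X f 2)⁻¹ * (ub u w)⁻¹ := by group
    _ = (ub u w * LFourB.h2 f) * (ub u w)⁻¹ := by rw [h1]; group
    _ = (LFourB.h2 f)⁻¹ := by rw [h2]; group

theorem z1_ne (hR : RIn P f u w L1 L2) : z1 f ≠ 1 := by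
  intro h
  rw [z1, hR.model.f_eq_one_iff good1] at h
  exact N_ne_zero h.2.2

variable {F : Type*} [Field F] [Finite F]

/-- `u2` inverts the torus `L2 ∩ C(z2)`. -/
theorem u2_inv (hR : RIn P f u w L1 L2) (hF : (2 : F) ≠ 0) (e : L2 ≃* Matrix.SpecialLinearGroup (Fin 2) F) {t : G}
    (ht : t ∈ L2) (htz : t * z2 f = z2 f * t) : (ub u w * X f 2) * t * (ub u w * X f 2)⁻¹ = t⁻¹ := by
  have hth := (comm_h2_iff hR ht).mpr htz
  set i := e ⟨LFourB.h2 f, hR.h2_mem⟩ with hi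
  set g := e ⟨ub u w * X f 2, hR.u2_mem⟩ with hg
  have hii : i * i = -1 := by
    have h3 : (i * i) * (i * i) = 1 := by
      rw [hi, ← map_mul, ← map_mul, ← map_one e]
      congr 1
      apply Subtype.ext
      change (LFourB.h2 f * LFourB.h2 f) * (LFourB.h2 f * LFourB.h2 f) = 1
      rw [hR.h2_sq, hR.z1_sq]
    rcases sq_eq_one hF h3 with h4 | h4
    · exfalso
      rw [hi, ← map_mul, map_eq_one_iff e e.injective] at h4
      have h5 := congrArg Subtype.val h4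
      change LFourB.h2 f * LFourB.h2 f = 1 at h5
      rw [hR.h2_sq] at h5
      exact z1_ne hR h5
    · exact h4
  have hinv : i⁻¹ = -i := by rw [inv_eq_iff_mul_eq_one, mul_neg, hii, neg_neg]
  have hgi : g * i = -(i * g) := by
    have h3 : g * i * g⁻¹ = i⁻¹ := by
      rw [hg, hi, ← map_inv, ← map_mul, ← map_mul, ← map_inv]
      congr 1
      exact Subtype.ext (u2_h2 hR)
    rw [mul_inv_eq_iff_eq_mul.mp h3, hinv, neg_mul]
  have h6 := (anti hF (tr_of_sq hF hii) hgi).2 (e ⟨t, ht⟩) (by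
    rw [hi, ← map_mul, ← map_mul]
    congr 1
    exact Subtype.ext hth)
  rw [hg, ← map_inv, ← map_mul, ← map_mul, ← map_inv] at h6
  exact congrArg Subtype.val (e.injective h6)

/-- `O(C(x4)) ∩ L2 = 1`. -/
theorem eq_one_of_core_L2 (hR : RIn P f u w L1 L2) (hG : GZ f L1 = ⊤) (hc : Subgroup.center G = ⊥)
    (hF : (2 : F) ≠ 0) (e : L2 ≃* Matrix.SpecialLinearGroup (Fin 2) F) {b : G} (hb : b ∈ K (X f 3)) (hb2 : b ∈ L2) :
    b = 1 := by
  have hinv := u2_inv hR hF e hb2 (hR.core_V hb).2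
  have hn := ind_u2 hR
  have d02 : (0 : Fin 4) ≠ 2 := by decide
  have d12 : (1 : Fin 4) ≠ 2 := by decide
  have d03 : (0 : Fin 4) ≠ 3 := by decide
  have d13 : (1 : Fin 4) ≠ 3 := by decide
  have d23 : (2 : Fin 4) ≠ 3 := by decide
  have h01 : ∀ x ∈ KK f L1 0 1, b * x = x * b := by
    rw [hR.KK01]; intro x hx; exact (hR.comm x hx b hb2).symm
  have h02 : ∀ x ∈ KK f L1 0 2, b * x = x * b := fun x hx => hR.core_KK hb d02 (by decide) (by decide) hx
  have h12 : ∀ x ∈ KK f L1 1 2, b * x = x * b := fun x hx => hR.core_KK hb d12 (by decide) (by decide) hx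
  have h03 : ∀ x ∈ KK f L1 0 3, b * x = x * b :=
    comm_inv (comm_of_cj (by rw [hR.cj_KK hn d02]; rfl) hinv h02)
  have h13 : ∀ x ∈ KK f L1 1 3, b * x = x * b :=
    comm_inv (comm_of_cj (by rw [hR.cj_KK hn d12]; rfl) hinv h12)
  have h23 : ∀ x ∈ KK f L1 2 3, b * x = x * b := by
    obtain ⟨n', hn', hI⟩ := exists_ind_swap hR d03
    have h4 := h03 n' hn'
    have h5 : n' * b * n'⁻¹ = b := by rw [← h4, mul_inv_cancel_right]
    rw [hR.KK_symm d23]
    exact comm_of_cj (by rw [hR.cj_KK hI d02]; rfl) h5 h02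
  exact eq_one_of_six hR hG hc h01 h02 h03 h12 h13 h23

/-- **`O(C(x4))` centralises the torus `L2 ∩ C(z2)`.** -/
theorem core_torus (hR : RIn P f u w L1 L2) (hG : GZ f L1 = ⊤) (hc : Subgroup.center G = ⊥)
    (hF : (2 : F) ≠ 0) (e : L2 ≃* Matrix.SpecialLinearGroup (Fin 2) F) {a t : G} (ha : a ∈ K (X f 3)) (ht : t ∈ L2)
    (htz : t * z2 f = z2 f * t) : a * t = t * a := by
  have haY := mem_cent_iff.mp (K_le _ ha)
  have hn2 := (hR.norm_of_x3 (mem_cent_iff.mpr (hR.core_V ha).1) haY).2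
  have htY : t ∈ centralizer ({X f 3} : Set G) := mem_cent_iff.mpr ((comm_x3_iff hR ht).mpr htz)
  have h1 : a * t * a⁻¹ * t⁻¹ ∈ L2 := by
    have h2 : a * t * a⁻¹ ∈ L2 := by
      have := conj_mem_cj (g := a) ht
      rwa [hn2] at this
    exact L2.mul_mem h2 (L2.inv_mem ht)
  have h3 : a * t * a⁻¹ * t⁻¹ ∈ K (X f 3) := by
    have h2 := K_conj htY (Subgroup.inv_mem _ ha)
    have h3 : a * t * a⁻¹ * t⁻¹ = a * (t * a⁻¹ * t⁻¹) := by group
    rw [h3]
    exact Subgroup.mul_mem _ ha h2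
  have h4 := eq_one_of_core_L2 hR hG hc hF e h3 h1
  exact mul_inv_eq_iff_eq_mul.mp (mul_inv_eq_one.mp h4)

/-- **`O(C(x4))` acts faithfully on `L2`.** -/
theorem eq_one_of_comm_L2 (hR : RIn P f u w L1 L2) (hG : GZ f L1 = ⊤) (hc : Subgroup.center G = ⊥)
    {a : G} (ha : a ∈ K (X f 3)) (h23' : ∀ x ∈ L2, a * x = x * a) : a = 1 := by
  have hn := ind_u2 hR
  have h4 := h23' _ hR.u2_mem
  have h5 : (ub u w * X f 2) * a * (ub u w * X f 2)⁻¹ = a := by rw [← h4, mul_inv_cancel_right]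
  have d01 : (0 : Fin 4) ≠ 1 := by decide
  have d02 : (0 : Fin 4) ≠ 2 := by decide
  have d12 : (1 : Fin 4) ≠ 2 := by decide
  have h01 : ∀ x ∈ KK f L1 0 1, a * x = x * a := fun x hx => hR.core_KK ha d01 (by decide) (by decide) hx
  have h02 : ∀ x ∈ KK f L1 0 2, a * x = x * a := fun x hx => hR.core_KK ha d02 (by decide) (by decide) hx
  have h12 : ∀ x ∈ KK f L1 1 2, a * x = x * a := fun x hx => hR.core_KK ha d12 (by decide) (by decide) hx
  have h03 : ∀ x ∈ KK f L1 0 3, a * x = x * a := comm_of_cj (by rw [hR.cj_KK hn d02]; rfl) h5 h02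
  have h13 : ∀ x ∈ KK f L1 1 3, a * x = x * a := comm_of_cj (by rw [hR.cj_KK hn d12]; rfl) h5 h12
  exact eq_one_of_six hR hG hc h01 h02 h03 h12 h13 (by rw [hR.KK23]; exact h23')

/-- **[R5]** The primes dividing `|O(C(x4))|` divide `q - ε` and `|L2 ∩ C(z2)|`. -/
theorem prime_dvd (hR : RIn P f u w L1 L2) (hG : GZ f L1 = ⊤) (hc : Subgroup.center G = ⊥)
    (hF : (2 : F) ≠ 0) (e : L2 ≃* Matrix.SpecialLinearGroup (Fin 2) F) {r : ℕ} (hr : r.Prime)
    (hrK : r ∣ Nat.card (K (X f 3))) :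
    r ≠ 2 ∧ ((Nat.card F % 4 = 1 ∧ r ∣ Nat.card F - 1) ∨ (Nat.card F % 4 = 3 ∧ r ∣ Nat.card F + 1)) ∧
      r ∣ Nat.card ↥(L2 ⊓ centralizer {z2 f}) := by
  have hfact : Fact r.Prime := ⟨hr⟩
  have hr2 : r ≠ 2 := by
    rintro rfl
    have h1 := K_odd (X f 3)
    rw [← Nat.not_even_iff_odd, even_iff_two_dvd] at h1
    exact h1 hrK
  obtain ⟨a, hao⟩ := exists_prime_orderOf_dvd_card' r hrK
  obtain ⟨a, ha⟩ := a
  rw [← Subgroup.orderOf_coe] at hao
  change orderOf a = r at hao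
  have har : a ^ r = 1 := by rw [← hao, pow_orderOf_eq_one]
  have haY := mem_cent_iff.mp (K_le _ ha)
  have hn2 := (hR.norm_of_x3 (mem_cent_iff.mpr (hR.core_V ha).1) haY).2
  have hz := z1_ne hR
  have h1 := sl_dvd_sub hF e (X := LFourB.h2 f) (g := a) hR.h2_mem (by rw [hR.h2_sq]; exact hz)
    (by rw [hR.h2_sq, hR.z1_sq]) (mem_normalizer_iff_cj.mpr hn2) hr hr2 har
    (core_torus hR hG hc hF e ha hR.h2_mem ((comm_h2_iff hR hR.h2_mem).mp rfl))
    (fun y hy hyX _ => core_torus hR hG hc hF e ha hy ((comm_h2_iff hR hy).mp hyX))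
    (fun h => by
      have h2 := eq_one_of_comm_L2 hR hG hc ha h
      rw [h2, orderOf_one] at hao
      exact hr.one_lt.ne hao)
  refine ⟨hr2, h1.1, ?_⟩
  obtain ⟨c, hcL, hcX, hco⟩ := h1.2
  have h3 : c ∈ L2 ⊓ centralizer {z2 f} := ⟨hcL, mem_cent_iff.mpr ((comm_h2_iff hR hcL).mp hcX)⟩
  have h4 := orderOf_dvd_natCard (⟨c, h3⟩ : ↥(L2 ⊓ centralizer {z2 f}))
  rwa [← Subgroup.orderOf_coe, hco] at h4

end main

end Cfsg.Agent.LFourB.RFive
end

-- part: LFourB/CentXHalf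
section
prune_inst 0x424300400512200000018801220001c468200000200680001b86005020dce5f20a9472921f8300c1218b0aad4683c002813540070422000000a000c00011d01a080895206a37cac04360007801007180c00000000000000000000000000041000000000000
set_option linter.all false
open scoped Cfsg.Agent.FastGrp

/-!
# The 2-group `T ⟨u⟩` (Sylow 2-subgroup of the centraliser of `x4`): calculus
-/

set_option autoImplicit false

namespace Cfsg.Agent.LFourB

open Subgroup

/-- Coordinates on the 2-group `T ⟨u⟩`. -/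
structure Half {C : Type*} [Group C] (P : Subgroup C) (m : ℕ) (f : R m → R m → R m → C) (u : C) : Prop where
  f_mul : ∀ p q r p' q' r', Good p q r → Good p' q' r' → f p q r * f p' q' r' = f (p + p') (q + q') (r + r')
  f_inj : ∀ p q r, Good p q r → f p q r = 1 → p = 0 ∧ q = 0 ∧ r = 0
  u_u : u * u = 1
  u_f : ∀ p q r, Good p q r → u * f p q r = f (-p) q (r + p) * u
  mem_iff : ∀ g, g ∈ P ↔ ∃ p q r, Good p q r ∧ (g = f p q r ∨ g = f p q r * u)

namespace Half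

variable {C : Type*} [Group C] {P : Subgroup C} {m : ℕ} {f : R m → R m → R m → C} {u : C}

theorem f_zero (h : Half P m f u) : f 0 0 0 = 1 := by
  have h1 := h.f_mul 0 0 0 0 0 0 Good.zero Good.zero
  rw [add_zero] at h1
  exact left_eq_mul.mp h1.symm

theorem f_inv (h : Half P m f u) {p q r : R m} (hg : Good p q r) : (f p q r)⁻¹ = f (-p) (-q) (-r) := by
  rw [inv_eq_iff_mul_eq_one, h.f_mul _ _ _ _ _ _ hg hg.neg]
  simp [h.f_zero]

theorem f_comm (h : Half P m f u) {p q r p' q' r' : R m} (hg : Good p q r) (hg' : Good p' q' r') :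
    f p q r * f p' q' r' = f p' q' r' * f p q r := by
  rw [h.f_mul _ _ _ _ _ _ hg hg', h.f_mul _ _ _ _ _ _ hg' hg, add_comm p, add_comm q, add_comm r]

theorem f_eq_iff (h : Half P m f u) {p q r p' q' r' : R m} (hg : Good p q r) (hg' : Good p' q' r') :
    f p q r = f p' q' r' ↔ p = p' ∧ q = q' ∧ r = r' := by
  constructor
  · intro he
    have h1 : f (p - p') (q - q') (r - r') = 1 := by
      have := h.f_mul _ _ _ _ _ _ hg hg'.neg
      rw [← h.f_inv hg', he, mul_inv_cancel] at this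
      rw [sub_eq_add_neg, sub_eq_add_neg, sub_eq_add_neg, ← this]
    obtain ⟨h2, h3, h4⟩ := h.f_inj _ _ _ (hg.sub hg') h1
    exact ⟨sub_eq_zero.mp h2, sub_eq_zero.mp h3, sub_eq_zero.mp h4⟩
  · rintro ⟨rfl, rfl, rfl⟩
    rfl

theorem f_eq_one_iff (h : Half P m f u) {p q r : R m} (hg : Good p q r) :
    f p q r = 1 ↔ p = 0 ∧ q = 0 ∧ r = 0 := by
  constructor
  · exact h.f_inj _ _ _ hg
  · rintro ⟨rfl, rfl, rfl⟩
    exact h.f_zero

theorem f_pow (h : Half P m f u) {p q r : R m} (hg : Good p q r) (n : ℕ) :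
    f p q r ^ n = f ((n : R m) * p) ((n : R m) * q) ((n : R m) * r) := by
  induction n with
  | zero => simp [h.f_zero]
  | succ n ih =>
    rw [pow_succ, ih, h.f_mul _ _ _ _ _ _ (hg.pow n) hg]
    push_cast
    congr 1 <;> ring

theorem u_inv (h : Half P m f u) : u⁻¹ = u := inv_eq_of_mul_eq_one_left h.u_u

theorem u_f_u (h : Half P m f u) {p q r : R m} (hg : Good p q r) : u * f p q r * u = f (-p) q (r + p) := by
  rw [h.u_f _ _ _ hg, mul_assoc, h.u_u, mul_one]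

theorem mem_Tor (h : Half P m f u) {g : C} : g ∈ Tor f ↔ ∃ p q r, Good p q r ∧ g = f p q r := by
  constructor
  · intro hg
    induction hg using Subgroup.closure_induction with
    | mem x hx => exact hx
    | one => exact ⟨0, 0, 0, Good.zero, h.f_zero.symm⟩
    | mul x y _ _ hx hy =>
      obtain ⟨p, q, r, hg, rfl⟩ := hx
      obtain ⟨p', q', r', hg', rfl⟩ := hy
      exact ⟨_, _, _, hg.add hg', h.f_mul _ _ _ _ _ _ hg hg'⟩
    | inv x _ hx =>
      obtain ⟨p, q, r, hg, rfl⟩ := hx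
      exact ⟨_, _, _, hg.neg, h.f_inv hg⟩
  · intro hg
    exact Subgroup.subset_closure hg

theorem mem_Bu (h : Half P m f u) {g : C} : g ∈ Bu f ↔ ∃ q r, Good 0 q r ∧ g = f 0 q r := by
  constructor
  · intro hg
    induction hg using Subgroup.closure_induction with
    | mem x hx => exact hx
    | one => exact ⟨0, 0, Good.zero, h.f_zero.symm⟩
    | mul x y _ _ hx hy =>
      obtain ⟨q, r, hg, rfl⟩ := hx
      obtain ⟨q', r', hg', rfl⟩ := hy
      refine ⟨q + q', r + r', ?_, ?_⟩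
      · have := hg.add hg'
        rwa [add_zero] at this
      · rw [h.f_mul _ _ _ _ _ _ hg hg', add_zero]
    | inv x _ hx =>
      obtain ⟨q, r, hg, rfl⟩ := hx
      refine ⟨-q, -r, ?_, ?_⟩
      · have := hg.neg
        rwa [neg_zero] at this
      · rw [h.f_inv hg, neg_zero]
  · intro hg
    exact Subgroup.subset_closure hg

theorem f_mem_Tor (_h : Half P m f u) {p q r : R m} (hg : Good p q r) : f p q r ∈ Tor f :=
  Subgroup.subset_closure ⟨p, q, r, hg, rfl⟩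

theorem f_mem_Bu (_h : Half P m f u) {q r : R m} (hg : Good 0 q r) : f 0 q r ∈ Bu f :=
  Subgroup.subset_closure ⟨q, r, hg, rfl⟩

theorem Bu_le (h : Half P m f u) : Bu f ≤ Tor f := by
  intro g hg
  obtain ⟨q, r, hgd, rfl⟩ := h.mem_Bu.mp hg
  exact h.f_mem_Tor hgd

theorem Tor_comm (h : Half P m f u) {a b : C} (ha : a ∈ Tor f) (hb : b ∈ Tor f) : a * b = b * a := by
  obtain ⟨p, q, r, hg, rfl⟩ := h.mem_Tor.mp ha
  obtain ⟨p', q', r', hg', rfl⟩ := h.mem_Tor.mp hb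
  exact h.f_comm hg hg'

theorem Tor_le (h : Half P m f u) : Tor f ≤ P := by
  intro g hg
  obtain ⟨p, q, r, hgd, rfl⟩ := h.mem_Tor.mp hg
  exact (h.mem_iff _).2 ⟨p, q, r, hgd, Or.inl rfl⟩

theorem u_mem (h : Half P m f u) : u ∈ P :=
  (h.mem_iff _).2 ⟨0, 0, 0, Good.zero, Or.inr (by rw [h.f_zero, one_mul])⟩

theorem u_notMem (h : Half P m f u) : u ∉ Tor f := by
  intro hu
  have hg : Good (2 : R m) 0 (-1) := ⟨0, by ring⟩
  have h1 := h.Tor_comm hu (h.f_mem_Tor hg)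
  rw [h.u_f _ _ _ hg] at h1
  have h2 := mul_right_cancel h1
  have h3 := ((h.f_eq_iff hg.actu hg).1 h2).1
  have h4 : (4 : R m) = 0 := by linear_combination -h3
  have h5 : N m = 0 := by rw [N_eq, h4, zero_mul]
  exact N_ne_zero h5

theorem conj_u_mem (h : Half P m f u) {t : C} (ht : t ∈ Tor f) : u * t * u ∈ Tor f := by
  obtain ⟨p, q, r, hg, rfl⟩ := h.mem_Tor.mp ht
  rw [h.u_f_u hg]
  exact h.f_mem_Tor hg.actu

theorem mem_or (h : Half P m f u) {e : C} (he : e ∈ P) : e ∈ Tor f ∨ ∃ t ∈ Tor f, e = t * u := by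
  obtain ⟨p, q, r, hg, h1 | h1⟩ := (h.mem_iff e).1 he
  · left; rw [h1]; exact h.f_mem_Tor hg
  · right; exact ⟨_, h.f_mem_Tor hg, h1⟩

theorem tu_notMem (h : Half P m f u) {t : C} (ht : t ∈ Tor f) : t * u ∉ Tor f := by
  intro h1
  apply h.u_notMem
  have := mul_mem (inv_mem ht) h1
  rwa [inv_mul_cancel_left] at this

theorem mul_mem_iff (h : Half P m f u) {e e' : C} (he : e ∈ P) (he' : e' ∈ P) :
    e * e' ∈ Tor f ↔ (e ∈ Tor f ↔ e' ∈ Tor f) := by
  rcases h.mem_or he with h1 | ⟨t, ht, rfl⟩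
  · rw [mul_mem_cancel_left h1]
    exact ⟨fun a => iff_of_true h1 a, fun a => a.1 h1⟩
  · have h2 := h.tu_notMem ht
    rcases h.mem_or he' with h3 | ⟨t', ht', rfl⟩
    · have : ¬ (t * u * e' ∈ Tor f) := by
        rw [mul_mem_cancel_right h3]
        exact h2
      exact iff_of_false this fun a => h2 (a.2 h3)
    · have h3 := h.tu_notMem ht'
      have : t * u * (t' * u) ∈ Tor f := by
        have e1 : t * u * (t' * u) = t * (u * t' * u) := by group
        rw [e1]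
        exact mul_mem ht (h.conj_u_mem ht')
      exact iff_of_true this (iff_of_false h2 h3)

theorem commutator_mem (h : Half P m f u) {e e' : C} (he : e ∈ P) (he' : e' ∈ P) :
    e * e' * e⁻¹ * e'⁻¹ ∈ Tor f := by
  rw [h.mul_mem_iff (mul_mem (mul_mem he he') (inv_mem he)) (inv_mem he'),
    h.mul_mem_iff (mul_mem he he') (inv_mem he), h.mul_mem_iff he he', inv_mem_iff, inv_mem_iff]
  exact (fun a b : Prop => (by tauto : ((a ↔ b) ↔ a) ↔ b)) _ _

theorem Bu_comm (h : Half P m f u) {b e : C} (hb : b ∈ Bu f) (he : e ∈ P) : b * e = e * b := by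
  obtain ⟨q, r, hg, rfl⟩ := h.mem_Bu.1 hb
  rcases h.mem_or he with h1 | ⟨t, ht, rfl⟩
  · exact h.Tor_comm (h.f_mem_Tor hg) h1
  · rw [← mul_assoc, h.Tor_comm (h.f_mem_Tor hg) ht, mul_assoc, mul_assoc, h.u_f _ _ _ hg, neg_zero, add_zero]

/-- an element outside the torus acts on the torus as `u` -/
theorem conj_f (h : Half P m f u) {t : C} (ht : t ∈ Tor f) {p q r : R m} (hg : Good p q r) :
    (t * u) * f p q r * (t * u)⁻¹ = f (-p) q (r + p) := by
  have h1 : (t * u) * f p q r * (t * u)⁻¹ = t * (u * f p q r * u) * t⁻¹ := by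
    rw [mul_inv_rev, h.u_inv]; group
  rw [h1, h.u_f_u hg, h.Tor_comm ht (h.f_mem_Tor hg.actu), mul_inv_cancel_right]

theorem goodh1 (_h : Half P m f u) : Good (N m) 0 (-M m) := BOne.goodh1

theorem h1_mem (h : Half P m f u) : h1 f ∈ Tor f := h.f_mem_Tor BOne.goodh1

theorem h1_sq (h : Half P m f u) : h1 f * h1 f = z1 f := by
  rw [h1, h.f_mul _ _ _ _ _ _ BOne.goodh1 BOne.goodh1, z1, N_add_N, add_zero, ← neg_add, M_add_M, neg_N]

theorem u_h1_u (h : Half P m f u) : u * h1 f * u = h1 f * z1 f := by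
  rw [h1, z1, h.u_f_u BOne.goodh1, h.f_mul _ _ _ _ _ _ BOne.goodh1 BOne.good1, neg_N, add_zero, add_zero]

theorem z1_mem (h : Half P m f u) : z1 f ∈ Bu f := h.f_mem_Bu BOne.good1

theorem z1_sq (h : Half P m f u) : z1 f * z1 f = 1 := by
  rw [z1, h.f_mul _ _ _ _ _ _ BOne.good1 BOne.good1, N_add_N, add_zero, h.f_zero]

theorem z1_ne (h : Half P m f u) : z1 f ≠ 1 := by
  rw [z1, Ne, h.f_eq_one_iff BOne.good1]
  rintro ⟨-, -, h1⟩
  exact N_ne_zero h1

theorem x4_mem (h : Half P m f u) : x4 f ∈ Bu f := h.f_mem_Bu BOne.goodx4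

/-- the involutions of `B` -/
theorem omega (h : Half P m f u) {b : C} (hb : b ∈ Bu f) (hbb : b * b = 1) :
    b = 1 ∨ b = z1 f ∨ b = x4 f ∨ b = x4 f * z1 f := by
  obtain ⟨q, r, hg, rfl⟩ := h.mem_Bu.1 hb
  have hgg : Good (0 + 0 : R m) (q + q) (r + r) := hg.add hg
  rw [h.f_mul _ _ _ _ _ _ hg hg, h.f_eq_one_iff hgg] at hbb
  obtain ⟨-, hq, hr⟩ := hbb
  have hN : (0 : R m) + 0 = 0 := add_zero 0
  rcases eq_of_add_self hq with rfl | rfl <;> rcases eq_of_add_self hr with rfl | rfl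
  · left; exact h.f_zero
  · right; left; rfl
  · right; right; right
    rw [x4, z1, h.f_mul _ _ _ _ _ _ BOne.goodx4 BOne.good1, N_add_N, add_zero, add_zero]
  · right; right; left; rfl

end Half

end Cfsg.Agent.LFourB

private theorem dce_b489bbe22785 : _root_.True := by
  try have : _root_.True := by simp only [_root_.Cfsg.Agent.LFourB.z1.eq_1]
  try have : _root_.True := by simp only [_root_.Cfsg.Agent.LFourB.x4.eq_1]
  try have : _root_.True := by simp only [_root_.Cfsg.Agent.LFourB.h1.eq_1]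
  exact _root_.True.intro
end

-- part: LFourB/ProdBOne
section
prune_inst 0x434304500752200000018801222003c66a2000002006b000139200502058f5f20a9470f21fa300c129030aa54683c002813540170420000002a000c00011d01a080a842062264a004260007801007180c00000000000000000000000000041000000000000
set_option linter.all false
open scoped Cfsg.Agent.FastGrp

/-!
# The quaternion groups `Q1`, `Q2` in a 2-group of type `PSL 4 q`, `q = 1 mod 8`, as a central product
-/

set_option autoImplicit false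

namespace Cfsg.Agent.LFourB

open QuaternionGroup Cfsg.Agent.SylowSp4.Coord Cfsg.Agent.SylowSp4.Closed

variable {G : Type*} [Group G] {m : ℕ} {f : R m → R m → R m → G} {u w : G}

/-- The identification of the exponents. -/
def kap (m : ℕ) : ZMod (2 * 2 ^ (m + 2)) ≃+* R m := ZMod.ringEquivCongr (by rw [pow_succ 2 (m + 2), mul_comm])

theorem kap_half : kap m ((2 ^ (m + 2) : ℕ) : ZMod (2 * 2 ^ (m + 2))) = N m := by
  rw [map_natCast, N]

/-- The first factor. -/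
def qone (f : R m → R m → R m → G) (u : G) : Q (m + 2) → G
  | a i => f (2 * kap m i) 0 (-kap m i)
  | xa i => u * x1 f * f (2 * kap m i) 0 (-kap m i)

/-- The second factor. -/
def qtwo (f : R m → R m → R m → G) (u w : G) (x : Q (m + 2)) : G := w * qone f u x * w⁻¹

/-- The coordinates on `Q1 Q2`. -/
def qq (f : R m → R m → R m → G) (u w : G) (x y : Q (m + 2)) : G := qone f u x * qtwo f u w y

namespace BOne

variable {S : Subgroup G}

theorem v_mul_v (h : BOne S m f u w) : u * x1 f * (u * x1 f) = f 0 0 (N m) := by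
  have h1 : u * x1 f * (u * x1 f) = (u * x1 f) * u * x1 f := by group
  rw [h1, x1, h.u_f _ _ _ goodx1, mul_assoc (f _ _ _) u u, h.u_u, mul_one,
    h.f_mul _ _ _ _ _ _ goodx1.actu goodx1]
  congr 1
  · ring
  · ring
  · ring

theorem v_mul (h : BOne S m f u w) (c : R m) :
    u * x1 f * f (2 * c) 0 (-c) = f (2 * (-c)) 0 (-(-c)) * (u * x1 f) := by
  rw [x1, mul_assoc, h.f_comm goodx1 (goodq1 c), ← mul_assoc, h.u_f _ _ _ (goodq1 c), mul_assoc]
  congr 2 <;> ring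

theorem q_mul (h : BOne S m f u w) (c d : R m) :
    f (2 * c) 0 (-c) * f (2 * d) 0 (-d) = f (2 * (c + d)) 0 (-(c + d)) := by
  rw [h.f_mul _ _ _ _ _ _ (goodq1 c) (goodq1 d)]
  congr 1 <;> ring

theorem q_N (_h : BOne S m f u w) : f (2 * N m) 0 (-N m) = f 0 0 (N m) := by
  rw [two_mul_N, neg_N]

theorem qone_mul (h : BOne S m f u w) (x y : Q (m + 2)) : qone f u (x * y) = qone f u x * qone f u y := by
  rcases x with i | i <;> rcases y with j | j
  · rw [a_mul_a]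
    change f (2 * kap m (i + j)) 0 (-kap m (i + j)) = f (2 * kap m i) 0 (-kap m i) * f (2 * kap m j) 0 (-kap m j)
    rw [h.q_mul, map_add]
  · rw [a_mul_xa]
    change u * x1 f * f (2 * kap m (j - i)) 0 (-kap m (j - i)) =
      f (2 * kap m i) 0 (-kap m i) * (u * x1 f * f (2 * kap m j) 0 (-kap m j))
    have h1 : f (2 * kap m i) 0 (-kap m i) * (u * x1 f) = u * x1 f * f (2 * (-kap m i)) 0 (-(-kap m i)) := by
      rw [h.v_mul, neg_neg]
    rw [← mul_assoc, h1, mul_assoc (u * x1 f) (f _ _ _) (f _ _ _), h.q_mul, map_sub]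
    congr 2 <;> ring
  · rw [xa_mul_a]
    change u * x1 f * f (2 * kap m (i + j)) 0 (-kap m (i + j)) =
      u * x1 f * f (2 * kap m i) 0 (-kap m i) * f (2 * kap m j) 0 (-kap m j)
    rw [mul_assoc (u * x1 f) (f _ _ _) (f _ _ _), h.q_mul, map_add]
  · rw [xa_mul_xa]
    change f (2 * kap m (((2 ^ (m + 2) : ℕ) : ZMod (2 * 2 ^ (m + 2))) + j - i)) 0
        (-kap m (((2 ^ (m + 2) : ℕ) : ZMod (2 * 2 ^ (m + 2))) + j - i)) =
      u * x1 f * f (2 * kap m i) 0 (-kap m i) * (u * x1 f * f (2 * kap m j) 0 (-kap m j))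
    have h1 : f (2 * kap m i) 0 (-kap m i) * (u * x1 f) = u * x1 f * f (2 * (-kap m i)) 0 (-(-kap m i)) := by
      rw [h.v_mul, neg_neg]
    have h2 : u * x1 f * f (2 * kap m i) 0 (-kap m i) * (u * x1 f * f (2 * kap m j) 0 (-kap m j)) =
        (u * x1 f) * (f (2 * kap m i) 0 (-kap m i) * (u * x1 f)) * f (2 * kap m j) 0 (-kap m j) := by group
    rw [h2, h1, ← mul_assoc (u * x1 f) (u * x1 f), h.v_mul_v, ← h.q_N, h.q_mul, h.q_mul, map_sub, map_add, kap_half]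
    congr 1 <;> ring

theorem qone_one (h : BOne S m f u w) : qone f u 1 = 1 := by
  rw [one_def]
  change f (2 * kap m 0) 0 (-kap m 0) = 1
  rw [map_zero, mul_zero, neg_zero, h.f_zero]

theorem qtwo_mul (h : BOne S m f u w) (x y : Q (m + 2)) : qtwo f u w (x * y) = qtwo f u w x * qtwo f u w y := by
  rw [qtwo, qtwo, qtwo, h.qone_mul]
  group

theorem qtwo_one (h : BOne S m f u w) : qtwo f u w 1 = 1 := by
  rw [qtwo, h.qone_one]
  group

theorem w_v (h : BOne S m f u w) : w * (u * x1 f) * w⁻¹ = ub u w * x3 f := by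
  have h3 : w * x1 f = x3 f * w := by
    rw [x1, x3, h.w_f _ _ _ goodx1, neg_zero]
  calc w * (u * x1 f) * w⁻¹ = (w * u) * x1 f * w⁻¹ := by group
    _ = ub u w * (w * x1 f) * w⁻¹ := by rw [h.w_mul_u]; group
    _ = ub u w * x3 f := by rw [h3]; group

theorem qtwo_a (h : BOne S m f u w) (i : ZMod (2 * 2 ^ (m + 2))) :
    qtwo f u w (a i) = f 0 (2 * kap m i) (kap m i) := by
  change w * f (2 * kap m i) 0 (-kap m i) * w⁻¹ = _
  rw [h.w_f _ _ _ (goodq1 _), mul_inv_cancel_right, neg_neg]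

theorem qtwo_xa (h : BOne S m f u w) (i : ZMod (2 * 2 ^ (m + 2))) :
    qtwo f u w (xa i) = ub u w * x3 f * f 0 (2 * kap m i) (kap m i) := by
  change w * (u * x1 f * f (2 * kap m i) 0 (-kap m i)) * w⁻¹ = _
  have e : w * (u * x1 f * f (2 * kap m i) 0 (-kap m i)) * w⁻¹ =
      (w * (u * x1 f) * w⁻¹) * (w * f (2 * kap m i) 0 (-kap m i) * w⁻¹) := by group
  rw [e, h.w_v, h.w_f _ _ _ (goodq1 _), mul_inv_cancel_right, neg_neg]

/-- Elements commuting with the generators of the second factor. -/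
theorem comm_aux (h : BOne S m f u w) {g : G} (h1 : ∀ c : R m, g * f 0 (2 * c) c = f 0 (2 * c) c * g)
    (h2 : g * (ub u w * x3 f) = ub u w * x3 f * g) (y : Q (m + 2)) : g * qtwo f u w y = qtwo f u w y * g := by
  rcases y with i | i
  · rw [h.qtwo_a, h1]
  · rw [h.qtwo_xa, ← mul_assoc, h2, mul_assoc, h1, ← mul_assoc]

theorem u_x3_comm (h : BOne S m f u w) : u * x3 f = x3 f * u := by
  rw [x3, h.u_f _ _ _ goodx3, neg_zero, add_zero]

theorem ub_x1 (h : BOne S m f u w) : ub u w * x1 f = x1 f * ub u w := by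
  rw [x1, h.ub_f goodx1, neg_zero, sub_zero]

theorem q_comm (h : BOne S m f u w) (x y : Q (m + 2)) : qone f u x * qtwo f u w y = qtwo f u w y * qone f u x := by
  have hub : ∀ c : R m, ub u w * f (2 * c) 0 (-c) = f (2 * c) 0 (-c) * ub u w := by
    intro c
    rw [h.ub_f (goodq1 c), neg_zero, sub_zero]
  have hu : ∀ c : R m, u * f 0 (2 * c) c = f 0 (2 * c) c * u := by
    intro c
    rw [h.u_f _ _ _ (goodq2 c), neg_zero, add_zero]
  have ha : ∀ c : R m, f (2 * c) 0 (-c) * (ub u w * x3 f) = ub u w * x3 f * f (2 * c) 0 (-c) := by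
    intro c
    rw [← mul_assoc, ← hub, mul_assoc, x3, h.f_comm (goodq1 c) goodx3, ← mul_assoc]
  have hv1 : ∀ c : R m, u * x1 f * f 0 (2 * c) c = f 0 (2 * c) c * (u * x1 f) := by
    intro c
    rw [mul_assoc, x1, h.f_comm goodx1 (goodq2 c), ← mul_assoc, hu, mul_assoc]
  have hv2 : u * x1 f * (ub u w * x3 f) = ub u w * x3 f * (u * x1 f) := by
    have e1 : x1 f * x3 f = x3 f * x1 f := by
      rw [x1, x3, h.f_comm goodx1 goodx3]
    calc u * x1 f * (ub u w * x3 f) = u * (x1 f * ub u w) * x3 f := by group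
      _ = (u * ub u w) * (x1 f * x3 f) := by rw [← h.ub_x1]; group
      _ = (ub u w * u) * (x3 f * x1 f) := by rw [h.ub_mul_u, e1]
      _ = ub u w * (u * x3 f) * x1 f := by group
      _ = ub u w * x3 f * (u * x1 f) := by rw [h.u_x3_comm]; group
  rcases x with i | i
  · exact h.comm_aux (fun c => h.f_comm (goodq1 _) (goodq2 c)) (ha _) y
  · change u * x1 f * f (2 * kap m i) 0 (-kap m i) * qtwo f u w y =
      qtwo f u w y * (u * x1 f * f (2 * kap m i) 0 (-kap m i))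
    rw [mul_assoc, h.comm_aux (fun c => h.f_comm (goodq1 _) (goodq2 c)) (ha _) y, ← mul_assoc,
      h.comm_aux hv1 hv2 y, mul_assoc]

theorem qq_mul (h : BOne S m f u w) (a b c d : Q (m + 2)) :
    qq f u w a b * qq f u w c d = qq f u w (a * c) (b * d) := by
  rw [qq, qq, qq, h.qone_mul, h.qtwo_mul]
  calc qone f u a * qtwo f u w b * (qone f u c * qtwo f u w d)
      = qone f u a * (qtwo f u w b * qone f u c) * qtwo f u w d := by group
    _ = qone f u a * qone f u c * (qtwo f u w b * qtwo f u w d) := by rw [← h.q_comm]; group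

theorem qone_z (h : BOne S m f u w) : qone f u (z (m + 2)) = z1 f := by
  change f (2 * kap m ((2 ^ (m + 2) : ℕ) : ZMod (2 * 2 ^ (m + 2)))) 0
    (-kap m ((2 ^ (m + 2) : ℕ) : ZMod (2 * 2 ^ (m + 2)))) = _
  rw [kap_half, h.q_N, z1]

theorem qtwo_z (h : BOne S m f u w) : qtwo f u w (z (m + 2)) = z1 f := by
  rw [qtwo, h.qone_z, z1, h.w_f _ _ _ good1, mul_inv_cancel_right, neg_N]

theorem qq_one_right (h : BOne S m f u w) (x : Q (m + 2)) : qq f u w x 1 = qone f u x := by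
  rw [qq, h.qtwo_one, mul_one]

theorem qq_one_left (h : BOne S m f u w) (x : Q (m + 2)) : qq f u w 1 x = qtwo f u w x := by
  rw [qq, h.qone_one, one_mul]

theorem z1_mul_z1 (h : BOne S m f u w) : z1 f * z1 f = 1 := by
  rw [z1, h.f_mul _ _ _ _ _ _ good1 good1, N_add_N, add_zero, h.f_zero]

theorem qone_eq_qtwo (h : BOne S m f u w) {x y : Q (m + 2)} (e : qone f u x = qtwo f u w y) :
    (x = 1 ∧ y = 1) ∨ (x = z (m + 2) ∧ y = z (m + 2)) := by
  rcases x with i | i <;> rcases y with j | j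
  · rw [h.qtwo_a] at e
    change f (2 * kap m i) 0 (-kap m i) = _ at e
    obtain ⟨h1, h2, h3⟩ := (h.f_eq_iff (goodq1 _) (goodq2 _)).1 e
    rcases eq_of_two_mul h1 with h4 | h4
    · left
      rw [h4, neg_zero] at h3
      constructor
      · rw [(kap m).map_eq_zero_iff.1 h4, one_def]
      · rw [(kap m).map_eq_zero_iff.1 h3.symm, one_def]
    · right
      rw [h4, neg_N] at h3
      rw [← kap_half] at h3 h4
      constructor
      · rw [(kap m).injective h4, z]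
      · rw [← (kap m).injective h3, z]
  · exfalso
    rw [h.qtwo_xa] at e
    change f (2 * kap m i) 0 (-kap m i) = _ at e
    have h1 : u ^ 0 * ub u w ^ 1 ∈ Tor f := by
      rw [pow_zero, one_mul, pow_one]
      have h2 : ub u w = f (2 * kap m i) 0 (-kap m i) * (x3 f * f 0 (2 * kap m j) (kap m j))⁻¹ := by
        rw [e]; group
      rw [h2]
      exact (Tor f).mul_mem (h.f_mem_Tor (goodq1 _)) ((Tor f).inv_mem ((Tor f).mul_mem (h.f_mem_Tor goodx3)
        (h.f_mem_Tor (goodq2 _))))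
    have h3 := h.even_of_mem_Tor h1
    exact absurd h3.2 (by decide)
  · exfalso
    rw [h.qtwo_a] at e
    change u * x1 f * f (2 * kap m i) 0 (-kap m i) = _ at e
    have h1 : u ^ 1 * ub u w ^ 0 ∈ Tor f := by
      rw [pow_zero, mul_one, pow_one]
      have h2 : u = f 0 (2 * kap m j) (kap m j) * (x1 f * f (2 * kap m i) 0 (-kap m i))⁻¹ := by
        rw [← e]; group
      rw [h2]
      exact (Tor f).mul_mem (h.f_mem_Tor (goodq2 _)) ((Tor f).inv_mem ((Tor f).mul_mem (h.f_mem_Tor goodx1)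
        (h.f_mem_Tor (goodq1 _))))
    have h3 := h.even_of_mem_Tor h1
    exact absurd h3.1 (by decide)
  · exfalso
    rw [h.qtwo_xa] at e
    change u * x1 f * f (2 * kap m i) 0 (-kap m i) = _ at e
    have h1 : u ^ 1 * ub u w ^ 1 ∈ Tor f := by
      rw [pow_one, pow_one]
      have h2 : u * ub u w = (ub u w * (x3 f * f 0 (2 * kap m j) (kap m j) *
          (x1 f * f (2 * kap m i) 0 (-kap m i))⁻¹) * ub u w) := by
        have e1 : u = ub u w * x3 f * f 0 (2 * kap m j) (kap m j) * (x1 f * f (2 * kap m i) 0 (-kap m i))⁻¹ := by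
          rw [← e]; group
        calc u * ub u w = ub u w * x3 f * f 0 (2 * kap m j) (kap m j) *
              (x1 f * f (2 * kap m i) 0 (-kap m i))⁻¹ * ub u w := by rw [← e1]
          _ = _ := by group
      rw [h2]
      have h4 : x3 f * f 0 (2 * kap m j) (kap m j) * (x1 f * f (2 * kap m i) 0 (-kap m i))⁻¹ ∈ Tor f :=
        (Tor f).mul_mem ((Tor f).mul_mem (h.f_mem_Tor goodx3)
          (h.f_mem_Tor (goodq2 _))) ((Tor f).inv_mem ((Tor f).mul_mem (h.f_mem_Tor goodx1)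
          (h.f_mem_Tor (goodq1 _))))
      obtain ⟨p, q, r, hg, e2⟩ := h.mem_Tor.1 h4
      rw [e2, h.ub_f hg, mul_assoc, h.ub_mul_ub, mul_one]
      exact h.f_mem_Tor hg.actub
    have h3 := h.even_of_mem_Tor h1
    exact absurd h3.1 (by decide)

end BOne

end Cfsg.Agent.LFourB

private theorem dce_726b4fe0ed24 : _root_.True := by
  try have : _root_.True := by simp only [_root_.Cfsg.Agent.LFourB.z1.eq_1]
  try have : _root_.True := by simp only [_root_.Cfsg.Agent.LFourB.qtwo.eq_1]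
  try have : _root_.True := by simp only [_root_.Cfsg.Agent.LFourB.qq.eq_1]
  exact _root_.True.intro
end

-- part: LFourB/ProdBOneTwo
section
set_option linter.all false
open scoped Cfsg.Agent.FastGrp

/-!
# The quaternion groups `Q1`, `Q2` in a 2-group of type `PSL 4 q`, `q = 1 mod 8`: action of `S`, centraliser
-/

set_option autoImplicit false

namespace Cfsg.Agent.LFourB

open QuaternionGroup Cfsg.Agent.SylowSp4.Coord Cfsg.Agent.SylowSp4.Closed

variable {G : Type*} [Group G] {m : ℕ} {f : R m → R m → R m → G} {u w : G}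

namespace BOne

variable {S : Subgroup G}

theorem qone_inv (h : BOne S m f u w) (x : Q (m + 2)) : qone f u x⁻¹ = (qone f u x)⁻¹ := by
  apply eq_inv_of_mul_eq_one_left
  rw [← h.qone_mul, inv_mul_cancel, h.qone_one]

theorem qtwo_inv (h : BOne S m f u w) (x : Q (m + 2)) : qtwo f u w x⁻¹ = (qtwo f u w x)⁻¹ := by
  rw [qtwo, qtwo, h.qone_inv]
  group

theorem mem_Qone (h : BOne S m f u w) {g : G} : g ∈ Qone f u ↔ ∃ x, g = qone f u x := by
  constructor
  · intro hg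
    induction hg using Subgroup.closure_induction with
    | mem x hx =>
      rcases hx with ⟨c, rfl⟩ | hx
      · refine ⟨a ((kap m).symm c), ?_⟩
        change _ = f (2 * kap m ((kap m).symm c)) 0 (-kap m ((kap m).symm c))
        rw [RingEquiv.apply_symm_apply]
      · rw [Set.mem_singleton_iff.mp hx]
        refine ⟨xa 0, ?_⟩
        change _ = u * x1 f * f (2 * kap m 0) 0 (-kap m 0)
        rw [map_zero, mul_zero, neg_zero, h.f_zero, mul_one]
    | one => exact ⟨1, h.qone_one.symm⟩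
    | mul x y _ _ hx hy =>
      obtain ⟨a, rfl⟩ := hx
      obtain ⟨b, rfl⟩ := hy
      exact ⟨a * b, (h.qone_mul a b).symm⟩
    | inv x _ hx =>
      obtain ⟨a, rfl⟩ := hx
      exact ⟨a⁻¹, (h.qone_inv a).symm⟩
  · rintro ⟨x, rfl⟩
    rcases x with i | i
    · exact Subgroup.subset_closure (Or.inl ⟨kap m i, rfl⟩)
    · exact (Qone f u).mul_mem (Subgroup.subset_closure (Or.inr rfl)) (Subgroup.subset_closure (Or.inl ⟨kap m i, rfl⟩))

theorem mem_Qtwo (h : BOne S m f u w) {g : G} : g ∈ Qtwo f u w ↔ ∃ x, g = qtwo f u w x := by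
  constructor
  · intro hg
    induction hg using Subgroup.closure_induction with
    | mem x hx =>
      rcases hx with ⟨c, rfl⟩ | hx
      · refine ⟨a ((kap m).symm c), ?_⟩
        rw [h.qtwo_a, RingEquiv.apply_symm_apply]
      · rw [Set.mem_singleton_iff.mp hx]
        refine ⟨xa 0, ?_⟩
        rw [h.qtwo_xa, map_zero, mul_zero, h.f_zero, mul_one]
    | one => exact ⟨1, h.qtwo_one.symm⟩
    | mul x y _ _ hx hy =>
      obtain ⟨a, rfl⟩ := hx
      obtain ⟨b, rfl⟩ := hy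
      exact ⟨a * b, (h.qtwo_mul a b).symm⟩
    | inv x _ hx =>
      obtain ⟨a, rfl⟩ := hx
      exact ⟨a⁻¹, (h.qtwo_inv a).symm⟩
  · rintro ⟨x, rfl⟩
    rcases x with i | i
    · rw [h.qtwo_a]
      exact Subgroup.subset_closure (Or.inl ⟨kap m i, rfl⟩)
    · rw [h.qtwo_xa]
      exact (Qtwo f u w).mul_mem (Subgroup.subset_closure (Or.inr rfl))
        (Subgroup.subset_closure (Or.inl ⟨kap m i, rfl⟩))

theorem mem_QQ (h : BOne S m f u w) {g : G} : g ∈ Qone f u ⊔ Qtwo f u w ↔ ∃ x y, g = qq f u w x y := by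
  constructor
  · intro hg
    let φ : Q (m + 2) × Q (m + 2) →* G :=
      { toFun := fun x => qq f u w x.1 x.2
        map_one' := by
          change qq f u w 1 1 = 1
          rw [h.qq_one_right, h.qone_one]
        map_mul' := fun x y => (h.qq_mul _ _ _ _).symm }
    have h1 : Qone f u ⊔ Qtwo f u w ≤ φ.range := by
      apply sup_le
      · intro x hx
        obtain ⟨y, rfl⟩ := h.mem_Qone.1 hx
        exact ⟨(y, 1), h.qq_one_right y⟩
      · intro x hx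
        obtain ⟨y, rfl⟩ := h.mem_Qtwo.1 hx
        exact ⟨(1, y), h.qq_one_left y⟩
    obtain ⟨x, hx⟩ := h1 hg
    exact ⟨x.1, x.2, hx.symm⟩
  · rintro ⟨x, y, rfl⟩
    exact Subgroup.mul_mem _ (Subgroup.mem_sup_left (h.mem_Qone.2 ⟨x, rfl⟩))
      (Subgroup.mem_sup_right (h.mem_Qtwo.2 ⟨y, rfl⟩))

/-- `Q1 Q2` is a central product of two quaternion groups. -/
theorem tqq (h : BOne S m f u w) : TQQ (Qone f u ⊔ Qtwo f u w) (m + 2) (qq f u w) where
  hk := by omega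
  f_mul := h.qq_mul
  f_zz := by rw [qq, h.qone_z, h.qtwo_z, h.z1_mul_z1]
  f_inj a b c d e := by
    have e1 : qone f u (c⁻¹ * a) = qtwo f u w (d * b⁻¹) := by
      rw [h.qone_mul, h.qtwo_mul, h.qone_inv, h.qtwo_inv]
      rw [qq, qq] at e
      calc (qone f u c)⁻¹ * qone f u a
          = (qone f u c)⁻¹ * (qone f u a * qtwo f u w b) * (qtwo f u w b)⁻¹ := by group
        _ = qtwo f u w d * (qtwo f u w b)⁻¹ := by rw [e]; group
    rcases h.qone_eq_qtwo e1 with ⟨h1, h2⟩ | ⟨h1, h2⟩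
    · left
      exact ⟨(inv_mul_eq_one.1 h1).symm, (mul_inv_eq_one.1 h2).symm⟩
    · right
      constructor
      · rw [z_comm, ← h1, mul_inv_cancel_left]
      · have h3 : d = z (m + 2) * b := by rw [← h2, inv_mul_cancel_right]
        rw [h3, zz_mul]
  mem_iff _ := h.mem_QQ

theorem tqq_Q1 (h : BOne S m f u w) : h.tqq.Q1 = Qone f u := by
  ext g
  rw [TQQ.mem_Q1, h.mem_Qone]
  constructor
  · rintro ⟨x, rfl⟩
    exact ⟨x, h.qq_one_right x⟩
  · rintro ⟨x, rfl⟩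
    exact ⟨x, (h.qq_one_right x).symm⟩

theorem tqq_Q2 (h : BOne S m f u w) : h.tqq.Q2 = Qtwo f u w := by
  ext g
  rw [TQQ.mem_Q2, h.mem_Qtwo]
  constructor
  · rintro ⟨x, rfl⟩
    exact ⟨x, h.qq_one_left x⟩
  · rintro ⟨x, rfl⟩
    exact ⟨x, (h.qq_one_left x).symm⟩

/-! ### The action of `S` -/

/-- the conjugates of the generators decide -/
theorem conj_le {A B : Subgroup G} {T : Set G} (hA : A = Subgroup.closure T) {g : G}
    (hg : ∀ x ∈ T, g * x * g⁻¹ ∈ B) : ∀ x ∈ A, g * x * g⁻¹ ∈ B := by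
  have h1 : A ≤ B.comap (MulAut.conj g).toMonoidHom := by
    rw [hA, Subgroup.closure_le]
    intro x hx
    exact hg x hx
  exact fun x hx => h1 hx

theorem w_Qone (h : BOne S m f u w) : ∀ x ∈ Qone f u, w * x * w⁻¹ ∈ Qtwo f u w := by
  intro x hx
  obtain ⟨y, rfl⟩ := h.mem_Qone.1 hx
  exact h.mem_Qtwo.2 ⟨y, rfl⟩

theorem w_Qtwo (h : BOne S m f u w) : ∀ x ∈ Qtwo f u w, w * x * w⁻¹ ∈ Qone f u := by
  intro x hx
  obtain ⟨y, rfl⟩ := h.mem_Qtwo.1 hx
  refine h.mem_Qone.2 ⟨y, ?_⟩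
  rw [qtwo]
  have e : w * (w * qone f u y * w⁻¹) * w⁻¹ = w * w * qone f u y * (w * w)⁻¹ := by group
  rw [e, h.w_w]
  group

theorem gen1 (_h : BOne S m f u w) (c : R m) : f (2 * c) 0 (-c) ∈ Qone f u := Subgroup.subset_closure (Or.inl ⟨c, rfl⟩)

theorem gen2 (_h : BOne S m f u w) : u * x1 f ∈ Qone f u := Subgroup.subset_closure (Or.inr rfl)

/-- The torus normalises `Q1`. -/
theorem tor_Qone (h : BOne S m f u w) {t : G} (ht : t ∈ Tor f) : ∀ x ∈ Qone f u, t * x * t⁻¹ ∈ Qone f u := by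
  obtain ⟨p, q, r, hg, rfl⟩ := h.mem_Tor.1 ht
  apply conj_le rfl
  rintro x (⟨c, rfl⟩ | hx)
  · rw [h.f_comm hg (goodq1 c), mul_inv_cancel_right]
    exact h.gen1 c
  · rw [Set.mem_singleton_iff.mp hx]
    have e1 : f p q r * u = u * f (-p) q (r + p) := by
      have h1 := h.u_f (-p) q (r + p) hg.actu
      have h2 : u * f (-p) q (r + p) = f p q r * u := by
        rw [h1]
        congr 2 <;> ring
      exact h2.symm
    have e2 : f p q r * (u * x1 f) * (f p q r)⁻¹ = u * x1 f * f (2 * (-p)) 0 (-(-p)) := by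
      calc f p q r * (u * x1 f) * (f p q r)⁻¹ = f p q r * u * x1 f * (f p q r)⁻¹ := by group
        _ = u * f (-p) q (r + p) * x1 f * f (-p) (-q) (-r) := by rw [e1, h.f_inv hg]
        _ = u * (x1 f * f (-p) q (r + p)) * f (-p) (-q) (-r) := by
          rw [x1, mul_assoc u, h.f_comm hg.actu goodx1]
        _ = u * x1 f * (f (-p) q (r + p) * f (-p) (-q) (-r)) := by group
        _ = u * x1 f * f (2 * (-p)) 0 (-(-p)) := by
          rw [h.f_mul _ _ _ _ _ _ hg.actu hg.neg]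
          congr 2 <;> ring
    rw [e2]
    exact (Qone f u).mul_mem h.gen2 (h.gen1 _)

theorem u_Qone (h : BOne S m f u w) : ∀ x ∈ Qone f u, u * x * u⁻¹ ∈ Qone f u := by
  intro x hx
  have h1 : u = u * x1 f * (x1 f)⁻¹ := by group
  have hx1 : (x1 f)⁻¹ ∈ Tor f := (Tor f).inv_mem (h.f_mem_Tor goodx1)
  have e : u * x * u⁻¹ = u * x1 f * ((x1 f)⁻¹ * x * (x1 f)⁻¹⁻¹) * (u * x1 f)⁻¹ := by group
  rw [e]
  exact (Qone f u).mul_mem ((Qone f u).mul_mem h.gen2 (h.tor_Qone hx1 x hx)) ((Qone f u).inv_mem h.gen2)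

theorem tor_Qtwo (h : BOne S m f u w) {t : G} (ht : t ∈ Tor f) : ∀ x ∈ Qtwo f u w, t * x * t⁻¹ ∈ Qtwo f u w := by
  intro x hx
  have h1 := h.w_Qtwo x hx
  have h2 : w⁻¹ * t * w ∈ Tor f := by
    obtain ⟨p, q, r, hg, rfl⟩ := h.mem_Tor.1 ht
    have e : w⁻¹ * f p q r * w = w * f p q r * w⁻¹ := by rw [h.w_inv]
    rw [e, h.w_f _ _ _ hg, mul_inv_cancel_right]
    exact h.f_mem_Tor hg.actw
  have h3 := h.w_Qone _ (h.tor_Qone h2 _ h1)
  have e : w * (w⁻¹ * t * w * (w * x * w⁻¹) * (w⁻¹ * t * w)⁻¹) * w⁻¹ = t * (w * w * x * (w * w)⁻¹) * t⁻¹ := by group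
  rw [e, h.w_w] at h3
  simpa using h3

theorem u_Qtwo (h : BOne S m f u w) : ∀ x ∈ Qtwo f u w, u * x * u⁻¹ ∈ Qtwo f u w := by
  intro x hx
  have h1 : u = u * x1 f * (x1 f)⁻¹ := by group
  have hx1 : (x1 f)⁻¹ ∈ Tor f := (Tor f).inv_mem (h.f_mem_Tor goodx1)
  have h2 := h.tor_Qtwo hx1 x hx
  obtain ⟨y, hy⟩ := h.mem_Qtwo.1 h2
  obtain ⟨c, hc⟩ := h.mem_Qone.1 h.gen2
  have e : u * x * u⁻¹ = u * x1 f * ((x1 f)⁻¹ * x * (x1 f)⁻¹⁻¹) * (u * x1 f)⁻¹ := by group
  rw [e, hy, hc, h.q_comm, mul_inv_cancel_right]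
  exact h.mem_Qtwo.2 ⟨y, rfl⟩

theorem ub_Qone (h : BOne S m f u w) : ∀ x ∈ Qone f u, ub u w * x * (ub u w)⁻¹ ∈ Qone f u := by
  intro x hx
  have h1 := h.w_Qtwo _ (h.u_Qtwo _ (h.w_Qone x hx))
  have e : w * (u * (w * x * w⁻¹) * u⁻¹) * w⁻¹ = ub u w * x * (ub u w)⁻¹ := by
    rw [ub]
    have e1 : (w * u * w)⁻¹ = w⁻¹ * u⁻¹ * w⁻¹ := by group
    rw [e1]
    group
  rwa [e] at h1

theorem ub_Qtwo (h : BOne S m f u w) : ∀ x ∈ Qtwo f u w, ub u w * x * (ub u w)⁻¹ ∈ Qtwo f u w := by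
  intro x hx
  have h1 := h.w_Qone _ (h.u_Qone _ (h.w_Qtwo x hx))
  have e : w * (u * (w * x * w⁻¹) * u⁻¹) * w⁻¹ = ub u w * x * (ub u w)⁻¹ := by
    rw [ub]
    have e1 : (w * u * w)⁻¹ = w⁻¹ * u⁻¹ * w⁻¹ := by group
    rw [e1]
    group
  rwa [e] at h1

theorem conj_mul_mem {A B C : Subgroup G} {g g' : G} (h1 : ∀ x ∈ A, g' * x * g'⁻¹ ∈ B)
    (h2 : ∀ x ∈ B, g * x * g⁻¹ ∈ C) : ∀ x ∈ A, g * g' * x * (g * g')⁻¹ ∈ C := by
  intro x hx
  have e : g * g' * x * (g * g')⁻¹ = g * (g' * x * g'⁻¹) * g⁻¹ := by group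
  rw [e]
  exact h2 _ (h1 x hx)

/-- `T V'` normalises both factors. -/
theorem TVp_conj (h : BOne S m f u w) {t : G} (ht : t ∈ TVp f u w) :
    (∀ x ∈ Qone f u, t * x * t⁻¹ ∈ Qone f u) ∧ ∀ x ∈ Qtwo f u w, t * x * t⁻¹ ∈ Qtwo f u w := by
  obtain ⟨v, p, q, r, c, hc, i, j, rfl, -⟩ := h.mem_TVp.mp ht
  have hf : f p q r ∈ Tor f := h.f_mem_Tor ⟨c, hc⟩
  have hpow : ∀ (A : Subgroup G) (g : G), (∀ x ∈ A, g * x * g⁻¹ ∈ A) → ∀ n : ℕ, ∀ x ∈ A, g ^ n * x * (g ^ n)⁻¹ ∈ A := by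
    intro A g hg n
    induction n with
    | zero => intro x hx; simpa using hx
    | succ n ih =>
      rw [pow_succ]
      exact conj_mul_mem hg ih
  refine ⟨?_, ?_⟩
  · exact conj_mul_mem (conj_mul_mem (hpow _ _ h.ub_Qone j) (hpow _ _ h.u_Qone i)) (h.tor_Qone hf)
  · exact conj_mul_mem (conj_mul_mem (hpow _ _ h.ub_Qtwo j) (hpow _ _ h.u_Qtwo i)) (h.tor_Qtwo hf)

/-- `S` permutes the two factors. -/
theorem S_conj (h : BOne S m f u w) {s : G} (hs : s ∈ S) :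
    ((∀ x ∈ Qone f u, s * x * s⁻¹ ∈ Qone f u) ∧ ∀ x ∈ Qtwo f u w, s * x * s⁻¹ ∈ Qtwo f u w) ∨
    ((∀ x ∈ Qone f u, s * x * s⁻¹ ∈ Qtwo f u w) ∧ ∀ x ∈ Qtwo f u w, s * x * s⁻¹ ∈ Qone f u) := by
  rcases h.mem_S_cases hs with h1 | ⟨b, hb, rfl⟩
  · exact Or.inl (h.TVp_conj h1)
  · right
    exact ⟨conj_mul_mem h.w_Qone (h.TVp_conj hb).2, conj_mul_mem h.w_Qtwo (h.TVp_conj hb).1⟩

end BOne

end Cfsg.Agent.LFourB
end

-- part: LFourB/RBEnd
section
prune_inst 0x434300100050000000018801200003c46a2000000002b0001c920050204800f2109002720b80002021900a26400380028130000790000000000000600411d01a080aa02042140a004260007809804000000000000000000000000000000000000000000000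
set_option linter.all false
open scoped Cfsg.Agent.FastGrp

/-!
# The recognition end of type B1: from the six subgroups to `PSL₄(q)`, `PSU₄(q)`

`RIn.mid`: the three subgroups `K_{12}, K_{02}, K_{01}` of `Y = C(x4)` with `Y → Y / O(Y)` satisfy `Mid`.
`RIn.conclLU`: the conclusion, given the structure of `C(x4) / O(C(x4))`.
-/

set_option autoImplicit false
set_option linter.unusedSectionVars false

namespace Cfsg.Agent.LFourB.RB

open Subgroup

theorem TwoGen.subgroupOf {G : Type*} [Group G] {A H : Subgroup G} (h : TwoGen A) (hAH : A ≤ H) :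
    TwoGen (A.subgroupOf H) := by
  intro B hB
  have h1 : A ≤ B.map H.subtype := by
    apply h
    rintro x hx ⟨k, hk⟩
    exact ⟨⟨x, hAH hx⟩, hB _ (mem_subgroupOf.2 hx) ⟨k, Subtype.ext hk⟩, rfl⟩
  intro x hx
  obtain ⟨y, hy, e⟩ := h1 (mem_subgroupOf.1 hx)
  rwa [← Subtype.ext e]

theorem perfect_subgroupOf {G : Type*} [Group G] {A H : Subgroup G} (h : ⁅A, A⁆ = A) (hAH : A ≤ H) :
    ⁅A.subgroupOf H, A.subgroupOf H⁆ = A.subgroupOf H := by
  apply map_injective H.subtype_injective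
  rw [map_commutator, subgroupOf_map_subtype, inf_of_le_left hAH, h]

/-- A perfect central extension of `SL₂(F)` by an odd group is generated by 2-elements. -/
theorem twoGen_of_pi {G : Type*} [Group G] [Finite G] {F : Type*} [Field F] [Fintype F] (hF : 3 < Fintype.card F)
    {A : Subgroup G} (hA : ⁅A, A⁆ = A) (π : A →* Matrix.SpecialLinearGroup (Fin 2) F) (hπ : Function.Surjective π)
    (hk : π.ker ≤ center A) (hodd : Odd (Nat.card π.ker)) : TwoGen A := by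
  intro H hH
  -- 2-elements lift
  have h1 : (H.subgroupOf A).map π = ⊤ := by
    rw [eq_top_iff]
    apply sl_twoGen hF
    rintro y - ⟨k, hk⟩
    obtain ⟨x, rfl⟩ := hπ y
    have h2 : Nat.Coprime (Nat.card π.ker) (2 ^ k) := Nat.Coprime.pow_right k (Nat.coprime_two_right.2 hodd)
    have h3 : (π x) ^ 2 ^ k = 1 := hk
    have h4 : Nat.Coprime (orderOf (π x)) (Nat.card π.ker) :=
      (Nat.Coprime.coprime_dvd_right (orderOf_dvd_of_pow_eq_one h3) h2).symm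
    obtain ⟨m, hm⟩ := exists_pow_eq_self_of_coprime (Nat.Coprime.symm h4)
    have h5 : (x ^ Nat.card π.ker) ^ 2 ^ k = 1 := by
      rw [← pow_mul, mul_comm, pow_mul]
      have h6 : x ^ 2 ^ k ∈ π.ker := by rw [MonoidHom.mem_ker, map_pow, h3]
      have h7 := pow_card_eq_one' (G := π.ker) (x := ⟨x ^ 2 ^ k, h6⟩)
      exact congrArg Subtype.val h7
    rw [← hm]
    apply pow_mem
    rw [← map_pow]
    apply mem_map_of_mem
    rw [mem_subgroupOf]
    apply hH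
    · exact (x ^ Nat.card π.ker).2
    · exact ⟨k, congrArg Subtype.val h5⟩
  have h2 : ∀ a : A, ∃ b : A, (b : G) ∈ H ∧ ∃ z ∈ center A, a = b * z := by
    intro a
    have h3 : π a ∈ (H.subgroupOf A).map π := by rw [h1]; exact mem_top _
    obtain ⟨b, hb, e⟩ := h3
    refine ⟨b, mem_subgroupOf.1 hb, b⁻¹ * a, hk ?_, by group⟩
    rw [MonoidHom.mem_ker, map_mul, map_inv, e, inv_mul_cancel]
  have h3 : ⁅A, A⁆ ≤ H := by
    rw [commutator_le]
    intro a ha b hb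
    obtain ⟨a', ha', z, hz, ea⟩ := h2 ⟨a, ha⟩
    obtain ⟨b', hb', y, hy, eb⟩ := h2 ⟨b, hb⟩
    have ea' : a = a' * z := congrArg Subtype.val ea
    have eb' : b = b' * y := congrArg Subtype.val eb
    have cz : ∀ g : A, (z : G) * g = g * z := fun g => (congrArg Subtype.val (mem_center_iff.1 hz g)).symm
    have cy : ∀ g : A, (y : G) * g = g * y := fun g => (congrArg Subtype.val (mem_center_iff.1 hy g)).symm
    have e : a * b * a⁻¹ * b⁻¹ = a' * b' * (a' : G)⁻¹ * (b' : G)⁻¹ := by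
      rw [ea', eb']
      have c1 := cz b'
      have c2 := cy (a'⁻¹)
      have c3 := cz y
      have c2' : (y : G) * (a' : G)⁻¹ = (a' : G)⁻¹ * y := c2
      calc (a' : G) * (z : G) * ((b' : G) * (y : G)) * ((a' : G) * (z : G))⁻¹ * ((b' : G) * (y : G))⁻¹ =
          a' * (z * b') * y * (z : G)⁻¹ * (a' : G)⁻¹ * (y : G)⁻¹ * (b' : G)⁻¹ := by group
        _ = a' * b' * (z * y) * (z : G)⁻¹ * (a' : G)⁻¹ * (y : G)⁻¹ * (b' : G)⁻¹ := by rw [c1]; group
        _ = a' * b' * (y * (a' : G)⁻¹) * (y : G)⁻¹ * (b' : G)⁻¹ := by rw [c3]; group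
        _ = a' * b' * (a' : G)⁻¹ * (b' : G)⁻¹ := by rw [c2']; group
    rw [commutatorElement_def, e]
    exact mul_mem (mul_mem (mul_mem ha' hb') (inv_mem ha')) (inv_mem hb')
  rwa [hA] at h3

end Cfsg.Agent.LFourB.RB

namespace Cfsg.Agent.LFourB.RDefs

open Subgroup Cfsg Cfsg.Agent.LFourB Cfsg.Agent.LFourB.BOne Cfsg.Agent.J2Sylow.Functor Cfsg.Agent.LFourB.RB

variable {G : Type*} [Group G] [Finite G] {P : Sylow 2 G} {m : ℕ} {f : R m → R m → R m → G} {u w : G}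
  {L1 L2 : Subgroup G}

/-- the pair of points different from `c` -/
def pa (c : Fin 3) : Fin 4 := ![1, 0, 0] c
/-- the pair of points different from `c` -/
def pb (c : Fin 3) : Fin 4 := ![2, 2, 1] c

theorem pab (c : Fin 3) : pa c ≠ pb c ∧ pa c ≠ 3 ∧ pb c ≠ 3 := by revert c; decide

theorem exists_triple {i j : Fin 4} (hij : i ≠ j) (hi : i ≠ 3) (hj : j ≠ 3) :
    ∃ ρ : Equiv.Perm (Fin 4), ρ 0 = i ∧ ρ 1 = j ∧ ρ 3 = 3 := by
  revert i j; decide

/-- `C(x4)` -/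
abbrev YY (f : R m → R m → R m → G) : Subgroup G := centralizer ({X f 3} : Set G)

/-- `Y → Y / O(Y)` -/
abbrev pp (f : R m → R m → R m → G) : YY f →* YY f ⧸ Cfsg.pPrimeCore 2 (YY f) := QuotientGroup.mk' _

/-- the three subgroups -/
def KS (f : R m → R m → R m → G) (L1 : Subgroup G) (c : Fin 3) : Subgroup (YY f) :=
  (KK f L1 (pa c) (pb c)).subgroupOf (YY f)

theorem pp_eq_one {x : YY f} : pp f x = 1 ↔ (x : G) ∈ K (X f 3) := by
  rw [QuotientGroup.mk'_apply, QuotientGroup.eq_one_iff]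
  change _ ↔ (x : G) ∈ (Cfsg.pPrimeCore 2 (YY f)).map (YY f).subtype
  constructor
  · intro h; exact ⟨x, h, rfl⟩
  · rintro ⟨y, hy, e⟩
    rwa [← Subtype.ext e]

namespace RIn

theorem KK_le_Y (hR : RIn P f u w L1 L2) {i j : Fin 4} (hij : i ≠ j) (hi : i ≠ 3) (hj : j ≠ 3) :
    KK f L1 i j ≤ YY f := fun _ hx => mem_cent_iff.mpr (hR.X_cent_KK hij hi.symm hj.symm hx).symm

theorem z1_mem (hR : RIn P f u w L1 L2) : z1 f ∈ L1 := by
  rw [← hR.h1_sq]; exact L1.mul_mem hR.h1_mem hR.h1_mem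

theorem z1_mem2 (hR : RIn P f u w L1 L2) : z1 f ∈ L2 := by
  rw [← hR.h2_sq]; exact L2.mul_mem hR.h2_mem hR.h2_mem

/-- `x_i x_j ∈ K_{ij}` -/
theorem XX_mem (hR : RIn P f u w L1 L2) {i j : Fin 4} (hij : i ≠ j) : X f i * X f j ∈ KK f L1 i j := by
  obtain ⟨ρ, rfl, rfl⟩ := exists_perm_of_ne hij
  obtain ⟨n, hn⟩ := hR.perm ρ
  rw [hR.KK_eq hn, ← hn.2, ← hn.2]
  have e : n * X f 0 * n⁻¹ * (n * X f 1 * n⁻¹) = n * z1 f * n⁻¹ := by rw [hR.z1_eq]; group
  rw [e]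
  exact conj_mem_cj hR.z1_mem

theorem XX_comm (hR : RIn P f u w L1 L2) {i j : Fin 4} (hij : i ≠ j) {x : G} (hx : x ∈ KK f L1 i j) :
    x * (X f i * X f j) = X f i * X f j * x := by
  obtain ⟨ρ, rfl, rfl⟩ := exists_perm_of_ne hij
  obtain ⟨n, hn⟩ := hR.perm ρ
  rw [hR.KK_eq hn] at hx
  rw [← hn.2, ← hn.2]
  have e : n * X f 0 * n⁻¹ * (n * X f 1 * n⁻¹) = n * z1 f * n⁻¹ := by rw [hR.z1_eq]; group
  rw [e]
  refine (comm_cj (g := n) (a := z1 f) (K := L1) ?_ x hx).symm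
  intro y hy
  exact (mem_cent_iff.mp (hR.le1 hy)).symm

/-- elements of `C(x4)` commuting with `x_i x_j` normalise `K_{ij}` -/
theorem norm_KK (hR : RIn P f u w L1 L2) {i j : Fin 4} (hij : i ≠ j) (hi : i ≠ 3) (hj : j ≠ 3) {g : G} (hg : g ∈ YY f)
    (hgt : g * (X f i * X f j) = X f i * X f j * g) {x : G} (hx : x ∈ KK f L1 i j) : g * x * g⁻¹ ∈ KK f L1 i j := by
  obtain ⟨ρ, rfl, rfl, h3⟩ := exists_triple hij hi hj
  obtain ⟨n, hn⟩ := hR.perm ρ
  have hnY := hR.comm_X3_of_ind hn h3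
  have hg' : n⁻¹ * g * n ∈ YY f := mul_mem (mul_mem (inv_mem hnY) hg) hnY
  have e : X f (ρ 0) * X f (ρ 1) = n * z1 f * n⁻¹ := by rw [← hn.2, ← hn.2, hR.z1_eq]; group
  have h1 : (n⁻¹ * g * n) * z1 f = z1 f * (n⁻¹ * g * n) := by
    rw [e] at hgt
    calc n⁻¹ * g * n * z1 f = n⁻¹ * (g * (n * z1 f * n⁻¹)) * n := by group
      _ = n⁻¹ * (n * z1 f * n⁻¹ * g) * n := by rw [hgt]
      _ = z1 f * (n⁻¹ * g * n) := by group
  have h2 := (hR.norm_of_x3 (mem_cent_iff.mpr h1) (mem_cent_iff.mp hg')).1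
  rw [hR.KK_eq hn, mem_cj] at hx ⊢
  have h4 := conj_mem_cj (g := n⁻¹ * g * n) hx
  rw [h2] at h4
  have e2 : n⁻¹ * (g * x * g⁻¹) * n = n⁻¹ * g * n * (n⁻¹ * x * n) * (n⁻¹ * g * n)⁻¹ := by group
  rw [e2]
  exact h4

theorem XX_sq (hR : RIn P f u w L1 L2) (i j : Fin 4) : X f i * X f j * (X f i * X f j) = 1 := by
  have h1 : X f i * X f j * (X f i * X f j) = X f i * (X f j * X f i) * X f j := by group
  rw [h1, hR.X_comm j i, ← mul_assoc, hR.X_sq, one_mul, hR.X_sq]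

theorem XX_ne (hR : RIn P f u w L1 L2) {i j : Fin 4} (hij : i ≠ j) : X f i * X f j ≠ 1 := by
  intro h
  apply hR.X_ne hij
  rw [← hR.X_inv j]
  exact eq_inv_of_mul_eq_one_left h

/-- the three involutions -/
def ts (hR : RIn P f u w L1 L2) (c : Fin 3) : YY f :=
  ⟨X f (pa c) * X f (pb c), mul_mem (hR.X_mem_Y _ _) (hR.X_mem_Y _ _)⟩

theorem pp_ts_ne (hR : RIn P f u w L1 L2) (c : Fin 3) : pp f (hR.ts c) ≠ 1 := by
  intro h
  rw [pp_eq_one] at h
  apply hR.XX_ne (pab c).1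
  exact eq_one_of_odd (hR.XX_sq _ _) (odd_orderOf_of_mem (K_odd _) h)

/-- **The three subgroups in `C(x4)`.** -/
theorem mid (hR : RIn P f u w L1 L2) (hg : TwoGen L1) {L : Subgroup (YY f ⧸ Cfsg.pPrimeCore 2 (YY f))}
    (hL : L.Normal) (hodd : Odd (L.relIndex (Cfsg.pResidual 2 (YY f ⧸ Cfsg.pPrimeCore 2 (YY f))))) :
    Mid (pp f) L (KS f L1) hR.ts := by
  have : Fact (Nat.Prime 2) := ⟨Nat.prime_two⟩
  have hperf : ∀ c, ⁅KS f L1 c, KS f L1 c⁆ = KS f L1 c := by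
    intro c
    refine perfect_subgroupOf ?_ (hR.KK_le_Y (pab c).1 (pab c).2.1 (pab c).2.2)
    obtain ⟨ρ, h0, h1⟩ := exists_perm_of_ne (pab c).1
    obtain ⟨n, hn⟩ := hR.perm ρ
    rw [← h0, ← h1, hR.KK_eq hn, cj, ← map_commutator, hR.perf1]
  have hgen : ∀ c, TwoGen (KS f L1 c) := by
    intro c
    refine TwoGen.subgroupOf ?_ (hR.KK_le_Y (pab c).1 (pab c).2.1 (pab c).2.2)
    obtain ⟨ρ, h0, h1⟩ := exists_perm_of_ne (pab c).1
    obtain ⟨n, hn⟩ := hR.perm ρ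
    rw [← h0, ← h1, hR.KK_eq hn]
    exact hg.map _
  have hmul : hR.ts 0 * hR.ts 1 = hR.ts 2 := by
    apply Subtype.ext
    change X f 1 * X f 2 * (X f 0 * X f 2) = X f 0 * X f 1
    rw [hR.X_comm 0 2, mul_assoc, ← mul_assoc (X f 2) (X f 2), hR.X_sq, one_mul, hR.X_comm]
  have hsq : ∀ c, hR.ts c * hR.ts c = 1 := fun c => Subtype.ext (hR.XX_sq _ _)
  have hcomm : hR.ts 0 * hR.ts 1 = hR.ts 1 * hR.ts 0 := by
    have h2 := hsq 2
    rw [← hmul] at h2
    have h0 : (hR.ts 0)⁻¹ = hR.ts 0 := inv_eq_of_mul_eq_one_left (hsq 0)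
    have h1 : (hR.ts 1)⁻¹ = hR.ts 1 := inv_eq_of_mul_eq_one_left (hsq 1)
    rw [mul_eq_one_iff_eq_inv, mul_inv_rev, h0, h1] at h2
    exact h2
  refine
    { surj := QuotientGroup.mk'_surjective _
      odd := ?_
      normal := hL
      le := ?_
      perf := hperf
      gen := hgen
      mem := fun c => mem_subgroupOf.2 (hR.XX_mem (pab c).1)
      cent := fun c k hk => Subtype.ext (hR.XX_comm (pab c).1 (mem_subgroupOf.1 hk))
      sq := hsq
      ne := hR.pp_ts_ne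
      ne01 := ?_
      comm := hcomm
      mul := hmul
      kcent := ?_
      norm := ?_ }
  · rw [QuotientGroup.ker_mk']
    exact Nat.coprime_two_right.1 (Lib.Cores.pPrimeCore_coprime 2)
  · intro c
    have hn : (Cfsg.pResidual 2 (YY f ⧸ Cfsg.pPrimeCore 2 (YY f))).Normal := Transfer.Residual.pResidual_normal 2
    refine le_of_two hL hn Transfer.Residual.isPGroup_quotient_pResidual hodd ?_ ((hgen c).map _)
    rw [← map_commutator, hperf c]
  · intro e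
    have h2 : pp f (hR.ts 0 * hR.ts 1) = 1 := by
      rw [map_mul, e, ← map_mul, hsq, map_one]
    rw [hmul] at h2
    exact hR.pp_ts_ne 2 h2
  · intro c g hg k hk
    exact Subtype.ext (hR.core_KK (pp_eq_one.1 hg) (pab c).1 (pab c).2.1 (pab c).2.2 (mem_subgroupOf.1 hk))
  · intro c g hg k hk
    exact mem_subgroupOf.2 (hR.norm_KK (pab c).1 (pab c).2.1 (pab c).2.2 g.2 (congrArg Subtype.val hg)
      (mem_subgroupOf.1 hk))

theorem KS_two (hR : RIn P f u w L1 L2) {x : YY f} : x ∈ KS f L1 2 ↔ (x : G) ∈ L1 := by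
  change (x : YY f) ∈ (KK f L1 0 1).subgroupOf (YY f) ↔ _
  rw [mem_subgroupOf, hR.KK01]

section Std

variable {S Q : Type*} [Group S] [Group Q] [Finite Q] {ρ : S →* Q} {dg : Fin 3 → S} {std : Fin 3 → Subgroup S}
  {L : Subgroup (YY f ⧸ Cfsg.pPrimeCore 2 (YY f))}

/-- central elements of odd order of `L1` are trivial -/
theorem eq_one_of_central (hR : RIn P f u w L1 L2) (hG : GZ f L1 = ⊤) (hc : Subgroup.center G = ⊥)
    (hM : Mid (pp f) L (KS f L1) hR.ts) (hS : Std ρ dg std) (hQ : StdQ dg std) (hZ : StdZ std) (θ : L ≃* Q) {x : G}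
    (hx : x ∈ L1) (hxc : ∀ l ∈ L1, x * l = l * x) (hxo : Odd (orderOf x)) : x = 1 := by
  have hxY : x ∈ YY f := hR.L1_le_Y hx
  have h1 : pp f ⟨x, hxY⟩ = 1 := by
    apply hM.eq_one_of_central hS hQ θ (c := 2) (hZ 2)
    · exact hR.KS_two.2 hx
    · intro k hk
      exact Subtype.ext (hxc _ (hR.KS_two.1 hk))
    · rw [← orderOf_coe]; exact hxo
  rw [pp_eq_one] at h1
  have hx1 : x ∈ K (X f 3) := h1
  -- `x` commutes with `K_{ij}`, `i, j ≠ 3`
  have hn := RFive.ind_u2 hR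
  have hnx : (ub u w * X f 2) * x * (ub u w * X f 2)⁻¹ = x := by
    rw [mul_inv_eq_iff_eq_mul]
    exact (hR.comm x hx _ hR.u2_mem).symm
  have d01 : (0 : Fin 4) ≠ 1 := by decide
  have d02 : (0 : Fin 4) ≠ 2 := by decide
  have d12 : (1 : Fin 4) ≠ 2 := by decide
  have d03 : (0 : Fin 4) ≠ 3 := by decide
  have h01 : ∀ y ∈ KK f L1 0 1, x * y = y * x := fun y hy => hR.core_KK hx1 d01 (by decide) (by decide) hy
  have h02 : ∀ y ∈ KK f L1 0 2, x * y = y * x := fun y hy => hR.core_KK hx1 d02 (by decide) (by decide) hy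
  have h12 : ∀ y ∈ KK f L1 1 2, x * y = y * x := fun y hy => hR.core_KK hx1 d12 (by decide) (by decide) hy
  have h03 : ∀ y ∈ KK f L1 0 3, x * y = y * x := RFive.comm_of_cj (by rw [hR.cj_KK hn d02]; rfl) hnx h02
  have h13 : ∀ y ∈ KK f L1 1 3, x * y = y * x := RFive.comm_of_cj (by rw [hR.cj_KK hn d12]; rfl) hnx h12
  obtain ⟨n, hn02, hnind⟩ := RFive.exists_ind_swap hR d02
  have hnx2 : n * x * n⁻¹ = x := by
    rw [mul_inv_eq_iff_eq_mul]
    exact (h02 n hn02).symm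
  have h23 : ∀ y ∈ KK f L1 2 3, x * y = y * x := RFive.comm_of_cj (by rw [hR.cj_KK hnind d03]; rfl) hnx2 h03
  exact RFive.eq_one_of_six hR hG hc h01 h02 h03 h12 h13 h23

/-- `K_{ij} ∩ O(C(x4)) = 1` -/
theorem KS_inj (hR : RIn P f u w L1 L2) (hG : GZ f L1 = ⊤) (hc : Subgroup.center G = ⊥)
    (hM : Mid (pp f) L (KS f L1) hR.ts) (hS : Std ρ dg std) (hQ : StdQ dg std) (hZ : StdZ std) (θ : L ≃* Q)
    (c : Fin 3) {k : YY f} (hk : k ∈ KS f L1 c) (hk1 : pp f k = 1) : k = 1 := by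
  obtain ⟨ρ', h0, h1, h3⟩ := exists_triple (pab c).1 (pab c).2.1 (pab c).2.2
  obtain ⟨n, hn⟩ := hR.perm ρ'
  have hnY := hR.comm_X3_of_ind hn h3
  rw [pp_eq_one] at hk1
  have hk2 : (k : G) ∈ KK f L1 (pa c) (pb c) := mem_subgroupOf.1 hk
  rw [← h0, ← h1, hR.KK_eq hn, mem_cj] at hk2
  have h4 := K_conj (inv_mem hnY) hk1
  rw [inv_inv] at h4
  have h5 : n⁻¹ * (k : G) * n = 1 := by
    apply hR.eq_one_of_central hG hc hM hS hQ hZ θ hk2
    · exact hR.core_L1 h4 (mem_cent_iff.1 (hR.le1 hk2))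
    · exact odd_orderOf_of_mem (K_odd _) h4
  apply Subtype.ext
  have : (k : G) = n * (n⁻¹ * (k : G) * n) * n⁻¹ := by group
  rw [this, h5]
  simp

/-- primes of `|L2 ∩ C(z2)|` divide the order of the torus -/
theorem tor_dvd (hR : RIn P f u w L1 L2) (hM : Mid (pp f) L (KS f L1) hR.ts) (hS : Std ρ dg std)
    (hQ : StdQ dg std) (θ : L ≃* Q) (hinj : ∀ c, ∀ k ∈ KS f L1 c, pp f k = 1 → k = 1) {T : Subgroup S}
    (hT : ∀ s ∈ std 2, ρ s * ρ (dg 1) = ρ (dg 1) * ρ s → s ∈ T) {r : ℕ} (hr : r.Prime)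
    (hd : r ∣ Nat.card ↥(L2 ⊓ centralizer {z2 f})) : r ∣ Nat.card T := by
  have : Fact r.Prime := ⟨hr⟩
  obtain ⟨⟨a, ha⟩, hao⟩ := exists_prime_orderOf_dvd_card' r hd
  rw [← orderOf_coe] at hao
  have ha2 : a * z2 f = z2 f * a := mem_cent_iff.1 ha.2
  -- conjugate by `w`
  have hw : w * z2 f * w⁻¹ = z2 f := by
    have h1 := hR.w_ind.2
    rw [hR.z2_eq]
    have e : w * (X f 0 * X f 2) * w⁻¹ = (w * X f 0 * w⁻¹) * (w * X f 2 * w⁻¹) := by group
    rw [e, h1, h1]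
    have e0 : (Equiv.swap (0 : Fin 4) 2 * Equiv.swap 1 3 : Equiv.Perm (Fin 4)) 0 = 2 := by decide
    have e2 : (Equiv.swap (0 : Fin 4) 2 * Equiv.swap 1 3 : Equiv.Perm (Fin 4)) 2 = 0 := by decide
    rw [e0, e2, hR.X_comm]
  have hb1 : w * a * w⁻¹ ∈ L1 := by
    rw [← hR.cj_w.2]
    exact conj_mem_cj ha.1
  have hb2 : (w * a * w⁻¹) * z2 f = z2 f * (w * a * w⁻¹) := by
    rw [← hw]
    calc w * a * w⁻¹ * (w * z2 f * w⁻¹) = w * (a * z2 f) * w⁻¹ := by group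
      _ = w * (z2 f * a) * w⁻¹ := by rw [ha2]
      _ = _ := by group
  have hk : (⟨w * a * w⁻¹, hR.L1_le_Y hb1⟩ : YY f) ∈ KS f L1 2 := hR.KS_two.2 hb1
  have hkt : (⟨w * a * w⁻¹, hR.L1_le_Y hb1⟩ : YY f) * hR.ts 1 = hR.ts 1 * ⟨w * a * w⁻¹, hR.L1_le_Y hb1⟩ := by
    apply Subtype.ext
    change w * a * w⁻¹ * (X f 0 * X f 2) = X f 0 * X f 2 * (w * a * w⁻¹)
    rw [← hR.z2_eq]
    exact hb2
  have h1 := hM.order_dvd hS hQ θ hT hk hkt
  have h2 : orderOf (pp f ⟨w * a * w⁻¹, hR.L1_le_Y hb1⟩) = r := by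
    have h3 : orderOf (⟨w * a * w⁻¹, hR.L1_le_Y hb1⟩ : YY f) = r := by
      rw [← orderOf_coe]
      change orderOf (MulAut.conj w a) = r
      rw [(MulAut.conj w).orderOf_eq]
      exact hao
    have h4 : orderOf (pp f ⟨w * a * w⁻¹, hR.L1_le_Y hb1⟩) ∣ r := by
      rw [← h3]; exact orderOf_map_dvd _ _
    rcases (Nat.dvd_prime hr).1 h4 with h5 | h5
    · exfalso
      rw [orderOf_eq_one_iff] at h5
      have h6 := hinj 2 _ hk h5
      rw [h6, orderOf_one] at h3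
      exact hr.one_lt.ne h3
    · exact h5
  rwa [h2] at h1

/-- The six subgroups. -/
theorem six (hR : RIn P f u w L1 L2) (hG : GZ f L1 = ⊤) {φ : S →* YY f} (hφ : φ.ker ≤ center S)
    (hstd : ∀ c, (std c).map φ = KS f L1 c) : Six std (KK f L1) where
  symm i j := by
    rcases eq_or_ne i j with rfl | hij
    · rfl
    · exact hR.KK_symm hij
  comm i j k l hij hkl hik hil hjk hjl x hx y hy := by
    obtain ⟨σ, rfl, rfl, rfl, rfl⟩ : ∃ σ : Equiv.Perm (Fin 4), σ 0 = i ∧ σ 1 = j ∧ σ 2 = k ∧ σ 3 = l := by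
      clear hx hy
      revert i j k l; decide
    obtain ⟨n, hn⟩ := hR.perm σ
    have e1 := hR.KK_eq hn
    have e2 := hR.cj_KK hn (show (2 : Fin 4) ≠ 3 by decide)
    rw [hR.KK23] at e2
    rw [e1, mem_cj] at hx
    rw [← e2, mem_cj] at hy
    have h1 := hR.comm _ hx _ hy
    calc x * y = n * ((n⁻¹ * x * n) * (n⁻¹ * y * n)) * n⁻¹ := by group
      _ = n * ((n⁻¹ * y * n) * (n⁻¹ * x * n)) * n⁻¹ := by rw [h1]
      _ = y * x := by group
  perm σ := by
    obtain ⟨n, hn⟩ := hR.perm σ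
    exact ⟨n, fun i j hij => hR.cj_KK hn hij⟩
  phi := by
    have key : ∀ c, (std c).map ((YY f).subtype.comp φ) = KK f L1 (pa c) (pb c) := by
      intro c
      rw [← map_map, hstd c, KS, subgroupOf_map_subtype, inf_of_le_left
        (hR.KK_le_Y (pab c).1 (pab c).2.1 (pab c).2.2)]
    refine ⟨(YY f).subtype.comp φ, ?_, key 0, key 1, key 2⟩
    intro s hs
    exact hφ (Subtype.ext hs)
  gen H hH := by
    rw [eq_top_iff, ← hG]
    apply iSup_le
    rintro ⟨n, hn⟩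
    obtain ⟨σ, hσ⟩ := hR.permn n hn
    rw [← hR.KK_eq hσ]
    exact hH _ _ (fun h => absurd (σ.injective h) (by decide))

end Std

/-- 16 divides `|L1|` -/
theorem sixteen_dvd (hR : RIn P f u w L1 L2) : 16 ∣ Nat.card L1 := by
  have h1 : Nat.card (Qone f u) = 2 ^ (m + 2 + 2) := by
    rw [← hR.model.tqq_Q1]
    exact ProdTqq.card_Q1 hR.model.tqq
  have h2 : Nat.card (Qone f u) ∣ Nat.card L1 := card_dvd_of_le hR.q1
  refine Dvd.dvd.trans ?_ h2
  rw [h1]
  exact ⟨2 ^ m, by ring⟩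

/-- 16 divides the order of the image of `L1` in `C(x4) / O(C(x4))`. -/
theorem sixteen_dvd_map (hR : RIn P f u w L1 L2) : 16 ∣ Nat.card ((KS f L1 2).map (pp f)) := by
  have h1 : Nat.card (KS f L1 2) = Nat.card L1 := by
    have e : KS f L1 2 = L1.subgroupOf (YY f) := by
      change (KK f L1 0 1).subgroupOf (YY f) = _
      rw [hR.KK01]
    rw [e]
    exact Nat.card_congr (subgroupOfEquivOfLe hR.L1_le_Y).toEquiv
  have h2 := hR.sixteen_dvd
  rw [← h1] at h2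
  -- the kernel of the restriction has odd order
  let g : KS f L1 2 →* YY f ⧸ Cfsg.pPrimeCore 2 (YY f) := (pp f).comp (KS f L1 2).subtype
  have h3 : g.range = (KS f L1 2).map (pp f) := by
    rw [MonoidHom.range_comp, range_subtype]
  have h4 : Nat.card (KS f L1 2) = Nat.card g.range * Nat.card g.ker := by
    rw [← Subgroup.card_mul_index g.ker, Subgroup.index_ker, mul_comm]
  have h5 : Odd (Nat.card g.ker) := by
    have h6 : Nat.card g.ker ∣ Nat.card (Cfsg.pPrimeCore 2 (YY f)) := by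
      have h7 : (g.ker).map (KS f L1 2).subtype ≤ Cfsg.pPrimeCore 2 (YY f) := by
        rintro _ ⟨x, hx, rfl⟩
        have h8 : pp f (x : YY f) = 1 := hx
        rwa [QuotientGroup.mk'_apply, QuotientGroup.eq_one_iff] at h8
      have h9 := card_dvd_of_le h7
      rwa [card_map_of_injective (subtype_injective _)] at h9
    have h7 : Odd (Nat.card (Cfsg.pPrimeCore 2 (YY f))) := Nat.coprime_two_right.1 (Lib.Cores.pPrimeCore_coprime 2)
    exact Odd.of_dvd_nat h7 h6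
  rw [h3] at h4
  rw [h4] at h2
  have h6 : Nat.Coprime 16 (Nat.card g.ker) := by
    have : (16 : ℕ) = 2 ^ 4 := by norm_num
    rw [this]
    exact Nat.Coprime.pow_left 4 (Nat.coprime_two_left.2 h5)
  exact h6.dvd_of_dvd_mul_right h2

/-- **The six subgroups**, from the structure of `C(x4)`. -/
theorem exists_six (hR : RIn P f u w L1 L2) (hG : GZ f L1 = ⊤) (hc : Subgroup.center G = ⊥)
    {F₀ : Type*} [Field F₀] [Finite F₀] (h20 : (2 : F₀) ≠ 0) (h30 : 3 < Nat.card F₀)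
    {π : L1 →* Matrix.SpecialLinearGroup (Fin 2) F₀} (hπ : Function.Surjective π) (hπk : π.ker ≤ center L1)
    (hπo : Odd (Nat.card π.ker)) {L : Subgroup (YY f ⧸ Cfsg.pPrimeCore 2 (YY f))}
    (hL : L.Normal) (hodd : Odd (L.relIndex (Cfsg.pResidual 2 (YY f ⧸ Cfsg.pPrimeCore 2 (YY f)))))
    {S Q C : Type*} [Group S] [Finite S] [Group Q] [Finite Q] [CommGroup C] [IsCyclic C] {T : LThreeExt.Tri S C}
    {q e : ℤ} (hN : T.NumData q e) {ρ : S →* Q} {dg : Fin 3 → S} (hS : Std ρ dg T.std) (hQ : StdQ dg T.std)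
    (hZ : StdZ T.std) (hT : ∀ s ∈ T.std 2, ρ s * ρ (dg 1) = ρ (dg 1) * ρ s → s ∈ (T.t 2).range) (θ : L ≃* Q) :
    Six T.std (KK f L1) := by
  have : Fintype F₀ := Fintype.ofFinite F₀
  have hg : TwoGen L1 := twoGen_of_pi (by rwa [← Nat.card_eq_fintype_card]) hR.perf1 π hπ hπk hπo
  have hM := hR.mid hg hL hodd
  have hinj := hR.KS_inj hG hc hM hS hQ hZ θ
  -- `L1 ≃* SL₂(F₀)`
  have hπi : Function.Injective π := by
    rw [injective_iff_map_eq_one]
    intro x hx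
    have h1 := hπk (MonoidHom.mem_ker.2 hx)
    apply Subtype.ext
    apply hR.eq_one_of_central hG hc hM hS hQ hZ θ x.2
    · intro l hl
      exact (congrArg Subtype.val (mem_center_iff.1 h1 ⟨l, hl⟩)).symm
    · have h2 : orderOf (x : G) ∣ Nat.card π.ker := by
        have h3 := orderOf_dvd_natCard (⟨x, MonoidHom.mem_ker.2 hx⟩ : π.ker)
        rwa [← orderOf_coe, ← orderOf_coe] at h3
      exact Odd.of_dvd_nat hπo h2
  have e1 : L1 ≃* Matrix.SpecialLinearGroup (Fin 2) F₀ := MulEquiv.ofBijective π ⟨hπi, hπ⟩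
  have e2 : L2 ≃* Matrix.SpecialLinearGroup (Fin 2) F₀ := by
    refine MulEquiv.trans ?_ e1
    have h1 : L2 = L1.map (MulAut.conj w).toMonoidHom := hR.cj_w.1.symm
    rw [h1]
    exact ((MulAut.conj w).subgroupMap L1).symm
  obtain ⟨φ, hφ, hφs, -⟩ := (hM.pos hinj hS hQ θ).exists_hom hN hS θ (by
    intro r hr hrd
    have h1 : r ∣ Nat.card (K (X f 3)) := by
      have h2 : Nat.card (K (X f 3)) = Nat.card (pp f).ker := by
        rw [QuotientGroup.ker_mk']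
        exact card_map_of_injective (subtype_injective _)
      rw [h2]
      exact hrd.trans (card_dvd_of_le inf_le_right)
    obtain ⟨h3, -, h4⟩ := RFive.prime_dvd hR hG hc h20 e2 hr h1
    refine ⟨h3, ?_⟩
    have h5 := hR.tor_dvd hM hS hQ θ hinj hT hr h4
    have h6 : Nat.card (T.t 2).range ∣ Nat.card C := card_range_dvd (T.t 2)
    have h7 : ((r : ℕ) : ℤ) ∣ ((Nat.card C : ℕ) : ℤ) := by exact_mod_cast h5.trans h6
    rwa [hN.cardC] at h7)
  exact hR.six hG hφ hφs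

theorem card_le_of_dvd (hR : RIn P f u w L1 L2) (hg : TwoGen L1) {L : Subgroup (YY f ⧸ Cfsg.pPrimeCore 2 (YY f))}
    (hL : L.Normal) (hodd : Odd (L.relIndex (Cfsg.pResidual 2 (YY f ⧸ Cfsg.pPrimeCore 2 (YY f)))))
    {S Q : Type*} [Group S] [Group Q] [Finite Q] {ρ : S →* Q} {dg : Fin 3 → S} {std : Fin 3 → Subgroup S}
    (hS : Std ρ dg std) (θ : L ≃* Q) : 16 ∣ Nat.card (std 2) :=
  hR.sixteen_dvd_map.trans ((hR.mid hg hL hodd).card_dvd hS θ 2)

theorem two_ne_zero_of_odd_card {F : Type*} [Field F] [Fintype F] (hF : Odd (Fintype.card F)) : (2 : F) ≠ 0 := by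
  intro h
  have h1 : ringChar F = 2 := by
    have h2 : ringChar F ∣ 2 := (ringChar.spec F 2).1 (by exact_mod_cast h)
    rcases (Nat.dvd_prime Nat.prime_two).1 h2 with h3 | h3
    · exact absurd h3 (CharP.ringChar_ne_one)
    · exact h3
  have h3 : Fintype.card F % 2 = 0 := FiniteField.even_card_iff_char_two.1 h1
  obtain ⟨k, hk⟩ := hF
  omega

/-- **`PSL₄(q)`.** -/
theorem psl [IsSimpleGroup G] (hR : RIn P f u w L1 L2) (hG : GZ f L1 = ⊤) (hc : Subgroup.center G = ⊥)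
    {F₀ : Type*} [Field F₀] [Finite F₀] (h20 : (2 : F₀) ≠ 0) (h30 : 3 < Nat.card F₀)
    {π : L1 →* Matrix.SpecialLinearGroup (Fin 2) F₀} (hπ : Function.Surjective π) (hπk : π.ker ≤ center L1)
    (hπo : Odd (Nat.card π.ker)) {L : Subgroup (YY f ⧸ Cfsg.pPrimeCore 2 (YY f))}
    (hL : L.Normal) (hodd : Odd (L.relIndex (Cfsg.pResidual 2 (YY f ⧸ Cfsg.pPrimeCore 2 (YY f)))))
    {F : Type*} [Field F] [Fintype F] (hF : Odd (Fintype.card F))
    (θ : L ≃* Matrix.ProjectiveSpecialLinearGroup (Fin 3) F) :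
    ∃ (F' : Type) (_ : Field F') (_ : Fintype F'), Odd (Fintype.card F') ∧
      Nonempty (G ≃* Matrix.ProjectiveSpecialLinearGroup (Fin 4) F') := by
  have : Fintype F₀ := Fintype.ofFinite F₀
  have hg : TwoGen L1 := twoGen_of_pi (by rwa [← Nat.card_eq_fintype_card]) hR.perf1 π hπ hπk hπo
  have h2 : (2 : F) ≠ 0 := two_ne_zero_of_odd_card hF
  have hF3 : 3 < Fintype.card F := by
    have h1 : 1 < Fintype.card F := Fintype.one_lt_card
    by_contra h3
    have h4 : Fintype.card F = 3 := by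
      obtain ⟨k, hk⟩ := hF
      omega
    have h5 := hR.card_le_of_dvd hg hL hodd (std_sl h2) θ
    rw [LThreeExt.SL3.card_stdc, h4] at h5
    omega
  have hsix := hR.exists_six hG hc h20 h30 hπ hπk hπo hL hodd (LThreeExt.SL3.numData hF3) (std_sl h2) (stdQ_sl hF3)
    stdZ_sl (fun s hs hs' => stdT_sl h2 hs hs') θ
  obtain ⟨F', h1, h2, h3, h4⟩ := Six.psl (by rwa [Nat.card_eq_fintype_card]) hsix
  refine ⟨F', h1, h2, ?_, h4⟩
  rw [h3, Nat.card_eq_fintype_card]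
  exact hF

/-- **`PSU₄(q)`.** -/
theorem psu [IsSimpleGroup G] (hR : RIn P f u w L1 L2) (hG : GZ f L1 = ⊤) (hc : Subgroup.center G = ⊥)
    {F₀ : Type*} [Field F₀] [Finite F₀] (h20 : (2 : F₀) ≠ 0) (h30 : 3 < Nat.card F₀)
    {π : L1 →* Matrix.SpecialLinearGroup (Fin 2) F₀} (hπ : Function.Surjective π) (hπk : π.ker ≤ center L1)
    (hπo : Odd (Nat.card π.ker)) {L : Subgroup (YY f ⧸ Cfsg.pPrimeCore 2 (YY f))}
    (hL : L.Normal) (hodd : Odd (L.relIndex (Cfsg.pResidual 2 (YY f ⧸ Cfsg.pPrimeCore 2 (YY f)))))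
    {F : Type*} [Field F] [Fintype F] {q : ℕ} (hF : Fintype.card F = q ^ 2) (hq : Odd q) (θ : L ≃* Cfsg.PSU 3 F q) :
    Nonempty (G ≃* Cfsg.PSU 4 F q) := by
  have : Fintype F₀ := Fintype.ofFinite F₀
  have hg : TwoGen L1 := twoGen_of_pi (by rwa [← Nat.card_eq_fintype_card]) hR.perf1 π hπ hπk hπo
  have h2 : (2 : F) ≠ 0 := two_ne_zero_of_odd_card (by rw [hF]; exact hq.pow)
  have hq1 : 1 < q := by
    have h1 : 1 < Fintype.card F := Fintype.one_lt_card
    rw [hF] at h1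
    by_contra h3
    have : q ≤ 1 := by omega
    interval_cases q <;> simp at h1
  have hq3 : 3 ≤ q := by obtain ⟨k, hk⟩ := hq; omega
  have hq4 : 3 < q := by
    by_contra h3
    have h4 : q = 3 := by omega
    have h5 := hR.card_le_of_dvd hg hL hodd (std_su hF h2 hq3) θ
    rw [LThreeModel.SU3.card_std, LThreeModel.SU3.card_SU2_nat hF, h4] at h5
    omega
  have hsix := hR.exists_six hG hc h20 h30 hπ hπk hπo hL hodd (LThreeExt.SU3.numData hF hq4) (std_su hF h2 hq3)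
    (stdQ_su hF hq4) (stdZ_su hF) (fun s hs hs' => stdT_su hF h2 hs hs') θ
  refine Six.psu hF hq (by obtain ⟨k, hk⟩ := hq; omega) hsix (z := z1 f) hR.z1_sq (RFive.z1_ne hR) ?_ ?_
  · rw [hR.KK01]; exact hR.z1_mem
  · rw [hR.KK23]; exact hR.z1_mem2

/-- **The recognition end of type B1.** -/
theorem conclLU [IsSimpleGroup G] (hR : RIn P f u w L1 L2) (hG : GZ f L1 = ⊤) (hc : Subgroup.center G = ⊥)
    {F₀ : Type*} [Field F₀] [Finite F₀] (h20 : (2 : F₀) ≠ 0) (h30 : 3 < Nat.card F₀)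
    {π : L1 →* Matrix.SpecialLinearGroup (Fin 2) F₀} (hπ : Function.Surjective π) (hπk : π.ker ≤ center L1)
    (hπo : Odd (Nat.card π.ker)) {L : Subgroup (YY f ⧸ Cfsg.pPrimeCore 2 (YY f))}
    (hL : L.Normal) (hodd : Odd (L.relIndex (Cfsg.pResidual 2 (YY f ⧸ Cfsg.pPrimeCore 2 (YY f)))))
    (hL3 : (∃ (F : Type) (_ : Field F) (_ : Fintype F), Odd (Fintype.card F) ∧
        Nonempty (L ≃* Matrix.ProjectiveSpecialLinearGroup (Fin 3) F)) ∨
      (∃ (F : Type) (_ : Field F) (_ : Fintype F) (q : ℕ), Fintype.card F = q ^ 2 ∧ Odd q ∧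
        Nonempty (L ≃* Cfsg.PSU 3 F q))) : LFour.ConclLU G := by
  rcases hL3 with ⟨F, _, _, hF, ⟨θ⟩⟩ | ⟨F, _, _, q, hF, hq, ⟨θ⟩⟩
  · exact Or.inl (hR.psl hG hc h20 h30 hπ hπk hπo hL hodd hF θ)
  · exact Or.inr ⟨F, _, _, q, hF, hq, hR.psu hG hc h20 h30 hπ hπk hπo hL hodd hF hq θ⟩

end RIn

end Cfsg.Agent.LFourB.RDefs

private theorem dce_c3c98cbf6c99 : _root_.True := by
  try have : _root_.True := by simp only [_root_.Cfsg.Agent.LFourB.RDefs.KS.eq_1]
  exact _root_.True.intro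
end

-- part: LFourB/EFactA
section
prune_inst 0x434304500752200000818801220003c66a200000200684001f86005020dcf5f20a9472921fa300c1218b0aad4683c002813540070422000002a000c00011d01a080aa5204a37cac04360007801007180c00000000000000000000000000041000000000000
set_option linter.all false
open scoped Cfsg.Agent.FastGrp

/-!
# Elementary abelian subgroups of order 16, part 1

Commutators with the torus, involutions of `S`, the permutation `pi` of an element.
-/

set_option autoImplicit false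

namespace Cfsg.Agent.LFourB

open Subgroup FusA

variable {G : Type*} [Group G] {S : Subgroup G} {m : ℕ} {f : R m → R m → R m → G} {u w : G}

namespace EF

/-- `g` lies in the coset `T d`. -/
def Ov (f : R m → R m → R m → G) (d g : G) : Prop := ∃ p q r, Good p q r ∧ g = f p q r * d

end EF

open EF

namespace BOne

/-! ### `Z2` in coordinates -/

theorem e_z3_eq (h : BOne S m f u w) : z1 f * z2 f = z3 f := by
  rw [z1, z2, z3, h.f_mul _ _ _ _ _ _ good1 good2]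
  simp

theorem e_Z2_iff (h : BOne S m f u w) {p q r : R m} (hg : Good p q r) :
    Z2 (z1 f) (z2 f) (f p q r) ↔ p = q ∧ 2 * p = 0 ∧ 2 * r = 0 := by
  constructor
  · rintro (e | e | e | e)
    · obtain ⟨rfl, rfl, rfl⟩ := (h.f_eq_one_iff hg).1 e
      simp
    · obtain ⟨rfl, rfl, rfl⟩ := (h.f_eq_iff hg good1).1 e
      simp [two_mul_N]
    · obtain ⟨rfl, rfl, rfl⟩ := (h.f_eq_iff hg good2).1 e
      simp [two_mul_N]
    · rw [h.e_z3_eq] at e
      obtain ⟨rfl, rfl, rfl⟩ := (h.f_eq_iff hg good3).1 e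
      simp [two_mul_N]
  · rintro ⟨rfl, hp, hr⟩
    rcases eq_of_two_mul hp with rfl | rfl <;> rcases eq_of_two_mul hr with rfl | rfl
    · exact Or.inl h.f_zero
    · exact Or.inr (Or.inl rfl)
    · exact Or.inr (Or.inr (Or.inl rfl))
    · exact Or.inr (Or.inr (Or.inr h.e_z3_eq.symm))

theorem e_Z2_coord (h : BOne S m f u w) {g : G} (hg : Z2 (z1 f) (z2 f) g) :
    ∃ p r, Good p p r ∧ 2 * p = 0 ∧ 2 * r = 0 ∧ g = f p p r := by
  have hN := two_mul_N (m := m)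
  rcases hg with rfl | rfl | rfl | rfl
  · exact ⟨0, 0, Good.zero, by simp, by simp, h.f_zero.symm⟩
  · exact ⟨0, N m, good1, by simp, hN, rfl⟩
  · exact ⟨N m, 0, good2, hN, by simp, rfl⟩
  · exact ⟨N m, N m, good3, hN, hN, h.e_z3_eq⟩

theorem e_mem_Ttwo (h : BOne S m f u w) {g : G} :
    g ∈ Ttwo f ↔ ∃ p q r, 4 * p = 0 ∧ 2 * (q - p) = 0 ∧ 4 * r = 0 ∧ g = f p q r := by
  have good : ∀ p q r : R m, 4 * p = 0 → 2 * (q - p) = 0 → 4 * r = 0 → Good p q r := by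
    intro p q r h1 h2 h3
    have h4 : Good 0 (q - p) r := good_of_N (Or.inl rfl) (eq_of_two_mul h2) h3
    have h5 : Good p p 0 := by
      have h6 : 2 * (2 * p) = 0 := by linear_combination h1
      rcases eq_of_two_mul h6 with h7 | h7
      · exact ⟨0, by linear_combination h7⟩
      · exact ⟨((2 ^ m : ℕ) : R m), by rw [← N_eq]; linear_combination h7⟩
    have h6 := h4.add h5
    rwa [zero_add, sub_add_cancel, add_zero] at h6
  constructor
  · intro hg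
    induction hg using Subgroup.closure_induction with
    | mem x hx => exact hx
    | one => exact ⟨0, 0, 0, by simp, by simp, by simp, h.f_zero.symm⟩
    | mul x y _ _ hx hy =>
      obtain ⟨p, q, r, h1, h2, h3, rfl⟩ := hx
      obtain ⟨p', q', r', h1', h2', h3', rfl⟩ := hy
      exact ⟨p + p', q + q', r + r', by linear_combination h1 + h1', by linear_combination h2 + h2',
        by linear_combination h3 + h3', h.f_mul _ _ _ _ _ _ (good _ _ _ h1 h2 h3) (good _ _ _ h1' h2' h3')⟩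
    | inv x _ hx =>
      obtain ⟨p, q, r, h1, h2, h3, rfl⟩ := hx
      exact ⟨-p, -q, -r, by linear_combination -h1, by linear_combination -h2,
        by linear_combination -h3, h.f_inv (good _ _ _ h1 h2 h3)⟩
  · intro hg
    exact Subgroup.subset_closure hg

theorem e_good_Ttwo {p q r : R m} (h1 : 4 * p = 0) (h2 : 2 * (q - p) = 0) (h3 : 4 * r = 0) : Good p q r := by
  have h4 : Good 0 (q - p) r := good_of_N (Or.inl rfl) (eq_of_two_mul h2) h3
  have h5 : Good p p 0 := by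
    have h6 : 2 * (2 * p) = 0 := by linear_combination h1
    rcases eq_of_two_mul h6 with h7 | h7
    · exact ⟨0, by linear_combination h7⟩
    · exact ⟨((2 ^ m : ℕ) : R m), by rw [← N_eq]; linear_combination h7⟩
  have h6 := h4.add h5
  rwa [zero_add, sub_add_cancel, add_zero] at h6

theorem e_Ttwo_le (h : BOne S m f u w) : Ttwo f ≤ Tor f := by
  intro g hg
  obtain ⟨p, q, r, h1, h2, h3, rfl⟩ := h.e_mem_Ttwo.1 hg
  exact h.f_mem_Tor (e_good_Ttwo h1 h2 h3)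

/-! ### Commutators with elements of the torus -/

section Conj

variable {P Q R' p q r : R m}

theorem e_conj_sg (h : BOne S m f u w) (hG : Good P Q R') (hg : Good p q r) :
    f P Q R' * (f p q r * sg u w) * (f P Q R')⁻¹ = f (2 * P) (2 * Q) (Q - P) * (f p q r * sg u w) := by
  have h1 : Good (2 * P) (2 * Q) (Q - P) := ⟨Q, by ring⟩
  rw [mul_inv_eq_iff_eq_mul, mul_assoc (f (2 * P) (2 * Q) (Q - P)), mul_assoc (f p q r) (sg u w) (f P Q R'),
    h.sg_f hG, ← mul_assoc, h.f_mul _ _ _ _ _ _ hG hg, ← mul_assoc (f p q r), h.f_mul _ _ _ _ _ _ hg hG.actsg,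
    ← mul_assoc, h.f_mul _ _ _ _ _ _ h1 (hg.add hG.actsg)]
  congr 2 <;> ring

theorem e_conj_w (h : BOne S m f u w) (hG : Good P Q R') (hg : Good p q r) :
    f P Q R' * (f p q r * w) * (f P Q R')⁻¹ = f (P - Q) (Q - P) (2 * R') * (f p q r * w) := by
  have h1 : Good (P - Q) (Q - P) (2 * R') := ⟨R', by ring⟩
  rw [mul_inv_eq_iff_eq_mul, mul_assoc (f (P - Q) (Q - P) (2 * R')), mul_assoc (f p q r) w (f P Q R'),
    h.w_f _ _ _ hG, ← mul_assoc, h.f_mul _ _ _ _ _ _ hG hg, ← mul_assoc (f p q r), h.f_mul _ _ _ _ _ _ hg hG.actw,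
    ← mul_assoc, h.f_mul _ _ _ _ _ _ h1 (hg.add hG.actw)]
  congr 2 <;> ring

theorem e_conj_sgw (h : BOne S m f u w) (hG : Good P Q R') (hg : Good p q r) :
    f P Q R' * (f p q r * sgw u w) * (f P Q R')⁻¹ = f (P + Q) (P + Q) (2 * R' + P - Q) * (f p q r * sgw u w) := by
  have h1 : Good (P + Q) (P + Q) (2 * R' + P - Q) := ⟨P + R', by ring⟩
  rw [mul_inv_eq_iff_eq_mul, mul_assoc (f (P + Q) (P + Q) (2 * R' + P - Q)), mul_assoc (f p q r) (sgw u w) (f P Q R'),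
    h.sgw_f hG, ← mul_assoc, h.f_mul _ _ _ _ _ _ hG hg, ← mul_assoc (f p q r), h.f_mul _ _ _ _ _ _ hg hG.actsgw,
    ← mul_assoc, h.f_mul _ _ _ _ _ _ h1 (hg.add hG.actsgw)]
  congr 2 <;> ring

theorem e_conj_u (h : BOne S m f u w) (hG : Good P Q R') (hg : Good p q r) :
    f P Q R' * (f p q r * u) * (f P Q R')⁻¹ = f (2 * P) 0 (-P) * (f p q r * u) := by
  have h1 : Good (2 * P) 0 (-P) := ⟨0, by ring⟩
  rw [mul_inv_eq_iff_eq_mul, mul_assoc (f (2 * P) 0 (-P)), mul_assoc (f p q r) u (f P Q R'),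
    h.u_f _ _ _ hG, ← mul_assoc, h.f_mul _ _ _ _ _ _ hG hg, ← mul_assoc (f p q r), h.f_mul _ _ _ _ _ _ hg hG.actu,
    ← mul_assoc, h.f_mul _ _ _ _ _ _ h1 (hg.add hG.actu)]
  congr 2 <;> ring

theorem e_conj_Tor (h : BOne S m f u w) {s t : G} (hs : s ∈ Tor f) (ht : t ∈ Tor f) : t * s * t⁻¹ = s := by
  rw [h.Tor_comm ht hs, mul_inv_cancel_right]

end Conj

/-! ### Squares -/

section Sq

variable {p q r : R m}

theorem e_sq_sg (h : BOne S m f u w) (hg : Good p q r) :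
    (f p q r * sg u w) * (f p q r * sg u w) = f 0 0 (2 * r + p - q) := by
  rw [mul_assoc, ← mul_assoc (sg u w), h.sg_f hg, mul_assoc (f (-p) (-q) (r + p - q)), h.sg_mul_sg, mul_one,
    h.f_mul _ _ _ _ _ _ hg hg.actsg]
  congr 1 <;> ring

theorem e_sq_w (h : BOne S m f u w) (hg : Good p q r) :
    (f p q r * w) * (f p q r * w) = f (p + q) (p + q) 0 := by
  rw [mul_assoc, ← mul_assoc w, h.w_f _ _ _ hg, mul_assoc (f q p (-r)), h.w_w, mul_one,
    h.f_mul _ _ _ _ _ _ hg hg.actw]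
  congr 1 <;> ring

theorem e_sq_sgw (h : BOne S m f u w) (hg : Good p q r) :
    (f p q r * sgw u w) * (f p q r * sgw u w) = f (p - q) (q - p) (q - p) := by
  rw [mul_assoc, ← mul_assoc (sgw u w), h.sgw_f hg, mul_assoc (f (-q) (-p) (-r + q - p)), h.sgw_mul_sgw, mul_one,
    h.f_mul _ _ _ _ _ _ hg hg.actsgw]
  congr 1 <;> ring

theorem e_sq_f (h : BOne S m f u w) (hg : Good p q r) : f p q r * f p q r = f (2 * p) (2 * q) (2 * r) := by
  rw [h.f_mul _ _ _ _ _ _ hg hg]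
  congr 1 <;> ring

end Sq

section SqIff

variable {p q r : R m}

theorem e_sq_f_iff (h : BOne S m f u w) (hg : Good p q r) :
    f p q r * f p q r = 1 ↔ 2 * p = 0 ∧ 2 * q = 0 ∧ 2 * r = 0 := by
  rw [h.f_mul _ _ _ _ _ _ hg hg, h.f_eq_one_iff (hg.add hg), two_mul, two_mul, two_mul]

theorem e_sq_sg_iff (h : BOne S m f u w) (hg : Good p q r) :
    (f p q r * sg u w) * (f p q r * sg u w) = 1 ↔ 2 * r + p - q = 0 := by
  have h1 : Good 0 0 (2 * r + p - q) := by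
    obtain ⟨c, hc⟩ := hg
    exact ⟨2 * c - q, by linear_combination 2 * hc⟩
  rw [h.e_sq_sg hg, h.f_eq_one_iff h1]
  simp

theorem e_sq_w_iff (h : BOne S m f u w) (hg : Good p q r) :
    (f p q r * w) * (f p q r * w) = 1 ↔ q = -p := by
  have h1 : Good (p + q) (p + q) 0 := by
    obtain ⟨c, hc⟩ := hg
    exact ⟨2 * c - r, by linear_combination 2 * hc⟩
  rw [h.e_sq_w hg, h.f_eq_one_iff h1]
  constructor
  · rintro ⟨h1, -, -⟩
    linear_combination h1
  · rintro rfl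
    simp

theorem e_sq_sgw_iff (h : BOne S m f u w) (hg : Good p q r) :
    (f p q r * sgw u w) * (f p q r * sgw u w) = 1 ↔ q = p := by
  have h1 : Good (p - q) (q - p) (q - p) := by
    obtain ⟨c, hc⟩ := hg
    exact ⟨2 * c - r - p, by linear_combination 2 * hc⟩
  rw [h.e_sq_sgw hg, h.f_eq_one_iff h1]
  constructor
  · rintro ⟨-, h1, -⟩
    linear_combination h1
  · rintro rfl
    simp

end SqIff

end BOne

end Cfsg.Agent.LFourB

private theorem dce_c9832e9ad21f : _root_.True := by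
  try have : _root_.True := by simp only [_root_.Cfsg.Agent.LFourB.z1.eq_1]
  try have : _root_.True := by simp only [_root_.Cfsg.Agent.LFourB.z3.eq_1]
  try have : _root_.True := by simp only [_root_.Cfsg.Agent.LFourB.z2.eq_1]
  exact _root_.True.intro
end

-- part: LFourB/EFactB
section
prune_inst 0x4343045006522000000188012200020242000000200600001d8600502094f5320290329014a000c121874aa80004400200254007040100000000004000005012080aa5204a37c0c04260007801007180c00000000000000000000000000041000000000000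
set_option linter.all false
open scoped Cfsg.Agent.FastGrp

/-!
# Elementary abelian subgroups of order 16, part 2: structure
-/

set_option autoImplicit false

namespace Cfsg.Agent.LFourB

open Subgroup FusA

variable {G : Type*} [Group G] {S : Subgroup G} {m : ℕ} {f : R m → R m → R m → G} {u w : G}

namespace EF

/-- The normal four-group. -/
def Vs : Subgroup (Equiv.Perm (Fin 4)) where
  carrier := {σ | ∃ i k : Bool, σ = d8 i i k}
  one_mem' := ⟨false, false, by decide⟩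
  mul_mem' := by
    rintro _ _ ⟨i, k, rfl⟩ ⟨i', k', rfl⟩
    revert i k i' k'
    decide
  inv_mem' := by
    rintro _ ⟨i, k, rfl⟩
    revert i k
    decide

/-- The group generated by two transpositions. -/
def Vt : Subgroup (Equiv.Perm (Fin 4)) where
  carrier := {σ | ∃ i k : Bool, σ = d8 i k false}
  one_mem' := ⟨false, false, by decide⟩
  mul_mem' := by
    rintro _ _ ⟨i, k, rfl⟩ ⟨i', k', rfl⟩
    revert i k i' k'
    decide
  inv_mem' := by
    rintro _ ⟨i, k, rfl⟩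
    revert i k
    decide

theorem card_Vs : Nat.card Vs = 4 := by
  let F : Bool × Bool → Vs := fun a => ⟨d8 a.1 a.1 a.2, ⟨a.1, a.2, rfl⟩⟩
  have hF : Function.Bijective F := by
    constructor
    · rintro ⟨a, b⟩ ⟨a', b'⟩ hab
      have h1 : d8 a a b = d8 a' a' b' := congrArg Subtype.val hab
      revert h1
      revert a b a' b'
      decide
    · rintro ⟨_, i, k, rfl⟩
      exact ⟨(i, k), rfl⟩
  rw [← Nat.card_eq_of_bijective F hF]
  simp [Nat.card_eq_fintype_card]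

theorem card_Vt : Nat.card Vt = 4 := by
  let F : Bool × Bool → Vt := fun a => ⟨d8 a.1 a.2 false, ⟨a.1, a.2, rfl⟩⟩
  have hF : Function.Bijective F := by
    constructor
    · rintro ⟨a, b⟩ ⟨a', b'⟩ hab
      have h1 : d8 a b false = d8 a' b' false := congrArg Subtype.val hab
      revert h1
      revert a b a' b'
      decide
    · rintro ⟨_, i, k, rfl⟩
      exact ⟨(i, k), rfl⟩
  rw [← Nat.card_eq_of_bijective F hF]
  simp [Nat.card_eq_fintype_card]

theorem d8_sq : ∀ i j k : Bool, d8 i j k * d8 i j k = 1 → i = j ∨ k = false := by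
  decide

theorem d8_comm_u : ∀ i j k : Bool, d8 i j k * d8 true false false = d8 true false false * d8 i j k → k = false := by
  decide

theorem d8_comm_ub : ∀ i j k : Bool, d8 i j k * d8 false true false = d8 false true false * d8 i j k → k = false := by
  decide

theorem d8_inj : ∀ i j k i' j' k' : Bool, d8 i j k = d8 i' j' k' → i = i' ∧ j = j' ∧ k = k' := by
  decide

end EF

open EF

namespace BOne

theorem e_pi_over (h : BOne S m f u w) {p q r : R m} (hg : Good p q r) {d : G} (hd : d ∈ S) :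
    h.pi ⟨f p q r * d, S.mul_mem (h.f_mem_S hg) hd⟩ = h.pi ⟨d, hd⟩ := by
  have h1 : (⟨f p q r * d, S.mul_mem (h.f_mem_S hg) hd⟩ : S) = ⟨f p q r, h.f_mem_S hg⟩ * ⟨d, hd⟩ := rfl
  rw [h1, map_mul, h.pi_Tor (h.f_mem_Tor hg), one_mul]

theorem e_over_of_pi (h : BOne S m f u w) {g d : G} (hg : g ∈ S) (hd : d ∈ S) (e : h.pi ⟨g, hg⟩ = h.pi ⟨d, hd⟩) :
    Ov f d g := by
  have h1 : h.pi (⟨g, hg⟩ * ⟨d, hd⟩⁻¹) = 1 := by rw [map_mul, map_inv, e, mul_inv_cancel]
  rw [h.pi_eq_one_iff] at h1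
  obtain ⟨p, q, r, hgd, h2⟩ := h.mem_Tor.1 h1
  refine ⟨p, q, r, hgd, ?_⟩
  rw [← h2]
  simp

theorem e_pi_sg (h : BOne S m f u w) : h.pi ⟨sg u w, h.sg_mem⟩ = d8 true true false := by
  have h1 : (⟨sg u w, h.sg_mem⟩ : S) = ⟨u, h.u_mem⟩ * ⟨ub u w, h.ub_mem⟩ := rfl
  rw [h1, map_mul, h.pi_u, h.pi_ub]
  decide

theorem e_pi_w' (h : BOne S m f u w) : h.pi ⟨w, h.w_mem⟩ = d8 false false true := by
  rw [h.pi_w]; decide

theorem e_pi_u' (h : BOne S m f u w) : h.pi ⟨u, h.u_mem⟩ = d8 true false false := by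
  rw [h.pi_u]; decide

theorem e_pi_ub' (h : BOne S m f u w) : h.pi ⟨ub u w, h.ub_mem⟩ = d8 false true false := by
  rw [h.pi_ub]; decide

theorem e_pi_sgw (h : BOne S m f u w) : h.pi ⟨sgw u w, h.sgw_mem⟩ = d8 true true true := by
  have h1 : (⟨sgw u w, h.sgw_mem⟩ : S) = ⟨sg u w, h.sg_mem⟩ * ⟨w, h.w_mem⟩ := rfl
  rw [h1, map_mul, h.e_pi_sg, h.pi_w]
  decide

theorem e_exists_d8 (h : BOne S m f u w) (s : S) : ∃ i j k, h.pi s = d8 i j k := by
  obtain ⟨t, ht, i, j, l, hst⟩ := h.exists_rep s.2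
  refine ⟨i, j, l, ?_⟩
  have h1 : s = ⟨t * rep u w i j l, S.mul_mem (h.Tor_le ht) (h.rep_mem i j l)⟩ := Subtype.ext hst
  rw [h1, h.pi_mul_rep ht, h.pi_rep]
  rfl

/-- The restriction of `pi`. -/
noncomputable def e_rho (h : BOne S m f u w) {D : Subgroup G} (hD : D ≤ S) : D →* Equiv.Perm (Fin 4) :=
  h.pi.comp (Subgroup.inclusion hD)

theorem e_card_eq (h : BOne S m f u w) {D : Subgroup G} (hD : D ≤ S) :
    Nat.card D = Nat.card ↥(D ⊓ Tor f) * Nat.card (h.e_rho hD).range := by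
  rw [← Subgroup.index_ker, ← (h.e_rho hD).ker.card_mul_index]
  congr 1
  have h1 : (h.e_rho hD).ker = (Tor f).subgroupOf D := by
    ext x
    rw [MonoidHom.mem_ker, mem_subgroupOf]
    exact h.pi_eq_one_iff
  rw [h1]
  have h2 : ((Tor f).subgroupOf D).map D.subtype = D ⊓ Tor f := by
    rw [subgroupOf_map_subtype, inf_comm]
  rw [← h2]
  exact (Nat.card_congr (((Tor f).subgroupOf D).equivMapOfInjective D.subtype D.subtype_injective).toEquiv)

theorem e_mem_range_rho (h : BOne S m f u w) {D : Subgroup G} (hD : D ≤ S) {σ : Equiv.Perm (Fin 4)} :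
    σ ∈ (h.e_rho hD).range ↔ ∃ x, ∃ hx : x ∈ D, h.pi ⟨x, hD hx⟩ = σ := by
  constructor
  · rintro ⟨⟨x, hx⟩, rfl⟩
    exact ⟨x, hx, rfl⟩
  · rintro ⟨x, hx, rfl⟩
    exact ⟨⟨x, hx⟩, rfl⟩

/-! ### Small subgroups of the torus -/

section Small

variable {K : Subgroup G}

theorem e_mem_Z2_of_comm (h : BOne S m f u w) {k : G} (hk : k ∈ Tor f) (hkk : k * k = 1) {d : G}
    (hd : d = sg u w ∨ d = w ∨ d = sgw u w) (hkd : k * d = d * k) : Z2 (z1 f) (z2 f) k := by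
  obtain ⟨p, q, r, hg, rfl⟩ := h.mem_Tor.1 hk
  obtain ⟨h1, h2, h3⟩ := (h.e_sq_f_iff hg).1 hkk
  rw [h.e_Z2_iff hg]
  rcases hd with rfl | rfl | rfl
  · obtain ⟨h4, h5⟩ := (h.f_sg_comm_iff hg).1 hkd
    exact ⟨h5.symm, h1, h3⟩
  · obtain ⟨h4, h5⟩ := (h.f_w_comm_iff hg).1 hkd
    exact ⟨h4.symm, h1, h3⟩
  · obtain ⟨h4, h5⟩ := (h.f_sgw_comm_iff hg).1 hkd
    exact ⟨by linear_combination h1 - h4, h1, h3⟩

theorem e_card_le_of_Z2 (hK : ∀ k ∈ K, Z2 (z1 f) (z2 f) k) : Nat.card K ≤ 4 := by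
  have h1 : Nat.card K ≤ Nat.card (Bool × Bool) := card_le_of_surj
    (fun b : Bool × Bool => (if b.1 then z1 f else 1) * (if b.2 then z2 f else 1)) (fun k hk => by
      rcases hK k hk with rfl | rfl | rfl | rfl
      · exact ⟨(false, false), by simp⟩
      · exact ⟨(true, false), by simp⟩
      · exact ⟨(false, true), by simp⟩
      · exact ⟨(true, true), by simp⟩)
  have h2 : Nat.card (Bool × Bool) = 4 := by simp [Nat.card_eq_fintype_card]
  rwa [h2] at h1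

theorem e_card_le_eight (h : BOne S m f u w) (hK : K ≤ Tor f) (hKK : ∀ k ∈ K, k * k = 1) : Nat.card K ≤ 8 := by
  have h1 : Nat.card K ≤ Nat.card (Bool × Bool × Bool) := card_le_of_surj
    (fun b : Bool × Bool × Bool => f (if b.1 then N m else 0) (if b.2.1 then N m else 0)
      (if b.2.2 then N m else 0)) (fun k hk => by
      obtain ⟨p, q, r, hg, rfl⟩ := h.mem_Tor.1 (hK hk)
      obtain ⟨h1, h2, h3⟩ := (h.e_sq_f_iff hg).1 (hKK _ hk)
      rcases eq_of_two_mul h1 with rfl | rfl <;> rcases eq_of_two_mul h2 with rfl | rfl <;>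
        rcases eq_of_two_mul h3 with rfl | rfl
      · exact ⟨(false, false, false), by simp⟩
      · exact ⟨(false, false, true), by simp⟩
      · exact ⟨(false, true, false), by simp⟩
      · exact ⟨(false, true, true), by simp⟩
      · exact ⟨(true, false, false), by simp⟩
      · exact ⟨(true, false, true), by simp⟩
      · exact ⟨(true, true, false), by simp⟩
      · exact ⟨(true, true, true), by simp⟩)
  have h2 : Nat.card (Bool × Bool × Bool) = 8 := by simp [Nat.card_eq_fintype_card]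
  rwa [h2] at h1

theorem e_card_le_four_u (h : BOne S m f u w) (hK : K ≤ Tor f) (hKK : ∀ k ∈ K, k * k = 1)
    (hc : (∀ k ∈ K, k * u = u * k) ∨ (∀ k ∈ K, k * ub u w = ub u w * k)) : Nat.card K ≤ 4 := by
  rcases hc with hc | hc
  · have h1 : Nat.card K ≤ Nat.card (Bool × Bool) := card_le_of_surj
      (fun b : Bool × Bool => f 0 (if b.1 then N m else 0) (if b.2 then N m else 0)) (fun k hk => by
        obtain ⟨p, q, r, hg, rfl⟩ := h.mem_Tor.1 (hK hk)
        obtain ⟨h1, h2, h3⟩ := (h.e_sq_f_iff hg).1 (hKK _ hk)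
        obtain rfl := (h.f_u_comm_iff hg).1 (hc _ hk)
        rcases eq_of_two_mul h2 with rfl | rfl <;> rcases eq_of_two_mul h3 with rfl | rfl
        · exact ⟨(false, false), by simp⟩
        · exact ⟨(false, true), by simp⟩
        · exact ⟨(true, false), by simp⟩
        · exact ⟨(true, true), by simp⟩)
    have h2 : Nat.card (Bool × Bool) = 4 := by simp [Nat.card_eq_fintype_card]
    rwa [h2] at h1
  · have h1 : Nat.card K ≤ Nat.card (Bool × Bool) := card_le_of_surj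
      (fun b : Bool × Bool => f (if b.1 then N m else 0) 0 (if b.2 then N m else 0)) (fun k hk => by
        obtain ⟨p, q, r, hg, rfl⟩ := h.mem_Tor.1 (hK hk)
        obtain ⟨h1, h2, h3⟩ := (h.e_sq_f_iff hg).1 (hKK _ hk)
        obtain rfl := (h.f_ub_comm_iff hg).1 (hc _ hk)
        rcases eq_of_two_mul h1 with rfl | rfl <;> rcases eq_of_two_mul h3 with rfl | rfl
        · exact ⟨(false, false), by simp⟩
        · exact ⟨(false, true), by simp⟩
        · exact ⟨(true, false), by simp⟩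
        · exact ⟨(true, true), by simp⟩)
    have h2 : Nat.card (Bool × Bool) = 4 := by simp [Nat.card_eq_fintype_card]
    rwa [h2] at h1

theorem e_card_le_two_u (h : BOne S m f u w) (hK : K ≤ Tor f) (hKK : ∀ k ∈ K, k * k = 1)
    (hc : ∀ k ∈ K, k * u = u * k) (hc' : ∀ k ∈ K, k * ub u w = ub u w * k) : Nat.card K ≤ 2 := by
  have h1 : Nat.card K ≤ Nat.card Bool := card_le_of_surj
    (fun b : Bool => f 0 0 (if b then N m else 0)) (fun k hk => by
      obtain ⟨p, q, r, hg, rfl⟩ := h.mem_Tor.1 (hK hk)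
      obtain ⟨h1, h2, h3⟩ := (h.e_sq_f_iff hg).1 (hKK _ hk)
      obtain rfl := (h.f_u_comm_iff hg).1 (hc _ hk)
      obtain rfl := (h.f_ub_comm_iff hg).1 (hc' _ hk)
      rcases eq_of_two_mul h3 with rfl | rfl
      · exact ⟨false, by simp⟩
      · exact ⟨true, by simp⟩)
  have h2 : Nat.card Bool = 2 := by simp
  rwa [h2] at h1

end Small

/-- An element of the torus commuting with an element over `d` commutes with `d`. -/
theorem e_comm_of_over (h : BOne S m f u w) {k d x : G} (hk : k ∈ Tor f) (hx : Ov f d x) (hc : k * x = x * k) :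
    k * d = d * k := by
  obtain ⟨p, q, r, hg, rfl⟩ := hx
  exact (h.comm_mul_iff (h.f_mem_Tor hg) hk).1 hc

/-- Structure of the elementary abelian subgroups of order 16 of `S`. -/
theorem e16_struct (h : BOne S m f u w) {F : Subgroup G} (hF : E16 S F) :
    (∀ c, Z2 (z1 f) (z2 f) c → c ∈ F) ∧ (∀ g ∈ F, g ∈ Tor f → Z2 (z1 f) (z2 f) g) ∧
      (h.e_rho hF.le).range = Vs := by
  set R := (h.e_rho hF.le).range with hR
  set K := F ⊓ Tor f with hK
  have hKF : ∀ k ∈ K, k ∈ F := fun k hk => hk.1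
  have hKT : K ≤ Tor f := inf_le_right
  have hKK : ∀ k ∈ K, k * k = 1 := fun k hk => hF.sq k hk.1
  have hcard : 16 = Nat.card K * Nat.card R := by rw [← hF.card, h.e_card_eq hF.le]
  -- commuting with the elements over `d`
  have hcomm : ∀ d (hd : d ∈ S), h.pi ⟨d, hd⟩ ∈ R → ∀ k ∈ K, k * d = d * k := by
    intro d hd hdR k hk
    obtain ⟨x, hx, hxd⟩ := (h.e_mem_range_rho hF.le).1 hdR
    exact h.e_comm_of_over hk.2 (h.e_over_of_pi _ hd hxd) (hF.comm hk.1 hx)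
  have hRsq : ∀ σ ∈ R, σ * σ = 1 := by
    intro σ hσ
    obtain ⟨x, hx, rfl⟩ := (h.e_mem_range_rho hF.le).1 hσ
    rw [← map_mul]
    have : (⟨x, hF.le hx⟩ * ⟨x, hF.le hx⟩ : S) = 1 := Subtype.ext (hF.sq x hx)
    rw [this, map_one]
  have hRcomm : ∀ σ ∈ R, ∀ τ ∈ R, σ * τ = τ * σ := by
    intro σ hσ τ hτ
    obtain ⟨x, hx, rfl⟩ := (h.e_mem_range_rho hF.le).1 hσ
    obtain ⟨y, hy, rfl⟩ := (h.e_mem_range_rho hF.le).1 hτ
    rw [← map_mul, ← map_mul]
    congr 1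
    exact Subtype.ext (hF.comm hx hy)
  have hRd8 : ∀ σ ∈ R, ∃ i j k, σ = d8 i j k := by
    intro σ hσ
    obtain ⟨x, hx, rfl⟩ := (h.e_mem_range_rho hF.le).1 hσ
    exact h.e_exists_d8 _
  -- no transpositions
  have hno : ¬ (d8 true false false ∈ R ∨ d8 false true false ∈ R) := by
    intro hor
    have hRV : R ≤ Vt := by
      intro σ hσ
      obtain ⟨i, j, k, rfl⟩ := hRd8 σ hσ
      have : k = false := by
        rcases hor with h1 | h1
        · exact d8_comm_u i j k (hRcomm _ hσ _ h1)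
        · exact d8_comm_ub i j k (hRcomm _ hσ _ h1)
      subst this
      exact ⟨i, j, rfl⟩
    have hK4 : Nat.card K ≤ 4 := by
      apply h.e_card_le_four_u hKT hKK
      rcases hor with h1 | h1
      · left; exact hcomm u h.u_mem (by rw [h.e_pi_u']; exact h1)
      · right; exact hcomm (ub u w) h.ub_mem (by rw [h.e_pi_ub']; exact h1)
    have hR4 : Nat.card R ≤ 4 :=
      (Nat.card_le_card_of_injective (Subgroup.inclusion hRV) (Subgroup.inclusion_injective hRV)).trans card_Vt.le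
    have hR4' : Nat.card R = 4 := by nlinarith
    have hRV' : R = Vt := Subgroup.eq_of_le_of_card_ge hRV (by rw [card_Vt, hR4'])
    have h1 : d8 true false false ∈ R := by rw [hRV']; exact ⟨true, false, rfl⟩
    have h2 : d8 false true false ∈ R := by rw [hRV']; exact ⟨false, true, rfl⟩
    have hK2 : Nat.card K ≤ 2 := h.e_card_le_two_u hKT hKK (hcomm u h.u_mem (by rw [h.e_pi_u']; exact h1))
      (hcomm (ub u w) h.ub_mem (by rw [h.e_pi_ub']; exact h2))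
    rw [hR4'] at hcard
    omega
  have hRV : R ≤ Vs := by
    intro σ hσ
    obtain ⟨i, j, k, rfl⟩ := hRd8 σ hσ
    rcases d8_sq i j k (hRsq _ hσ) with rfl | rfl
    · exact ⟨i, k, rfl⟩
    · cases i <;> cases j
      · exact ⟨false, false, rfl⟩
      · exact (hno (Or.inr hσ)).elim
      · exact (hno (Or.inl hσ)).elim
      · exact ⟨true, false, rfl⟩
  have hRne : R ≠ ⊥ := by
    intro hbot
    rw [hbot, Subgroup.card_bot, mul_one] at hcard
    have := h.e_card_le_eight hKT hKK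
    omega
  have hKZ : ∀ k ∈ K, Z2 (z1 f) (z2 f) k := by
    obtain ⟨σ, hσ, hσ1'⟩ : ∃ σ ∈ R, σ ≠ 1 := by
      by_contra hcon
      push Not at hcon
      exact hRne ((Subgroup.eq_bot_iff_forall _).2 hcon)
    obtain ⟨i, k, hik⟩ := hRV hσ
    intro x hx
    rw [hik] at hσ hσ1'
    cases i <;> cases k
    · exact (hσ1' (by decide)).elim
    · exact h.e_mem_Z2_of_comm hx.2 (hKK x hx) (Or.inr (Or.inl rfl)) (hcomm w h.w_mem (by rw [h.e_pi_w']; exact hσ) x hx)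
    · exact h.e_mem_Z2_of_comm hx.2 (hKK x hx) (Or.inl rfl) (hcomm _ h.sg_mem (by rw [h.e_pi_sg]; exact hσ) x hx)
    · exact h.e_mem_Z2_of_comm hx.2 (hKK x hx) (Or.inr (Or.inr rfl))
        (hcomm _ h.sgw_mem (by rw [h.e_pi_sgw]; exact hσ) x hx)
  have hK4 : Nat.card K ≤ 4 := e_card_le_of_Z2 hKZ
  have hR4 : Nat.card R ≤ 4 :=
    (Nat.card_le_card_of_injective (Subgroup.inclusion hRV) (Subgroup.inclusion_injective hRV)).trans card_Vs.le
  have hR4' : Nat.card R = 4 := by nlinarith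
  have hRV' : R = Vs := Subgroup.eq_of_le_of_card_ge hRV (by rw [card_Vs, hR4'])
  have hK4' : Nat.card K = 4 := by rw [hR4'] at hcard; omega
  refine ⟨?_, fun g hg hgT => hKZ g ⟨hg, hgT⟩, hRV'⟩
  -- `K` is everything
  intro c hc
  by_contra hcF
  have hne : ∀ k : K, (k : G) ≠ c := fun k e => hcF (e ▸ k.2.1)
  -- an injection of `K` into three elements
  have hlt : Nat.card K < Nat.card (Bool × Bool) := by
    have hsur : ∀ k : K, ∃ b : Bool × Bool, (if b.1 then z1 f else 1) * (if b.2 then z2 f else 1) = (k : G) := by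
      intro k
      rcases hKZ k k.2 with e | e | e | e
      · exact ⟨(false, false), by simp [e]⟩
      · exact ⟨(true, false), by simp [e]⟩
      · exact ⟨(false, true), by simp [e]⟩
      · exact ⟨(true, true), by simp [e]⟩
    choose j hj using hsur
    have hinj : Function.Injective j := fun a b hab => Subtype.ext (by rw [← hj a, ← hj b, hab])
    obtain ⟨b, hb⟩ : ∃ b : Bool × Bool, (if b.1 then z1 f else 1) * (if b.2 then z2 f else 1) = c := by
      rcases hc with e | e | e | e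
      · exact ⟨(false, false), by simp [e]⟩
      · exact ⟨(true, false), by simp [e]⟩
      · exact ⟨(false, true), by simp [e]⟩
      · exact ⟨(true, true), by simp [e]⟩
    have : Finite K := Finite.of_injective j hinj
    have := Fintype.ofFinite K
    rw [Nat.card_eq_fintype_card, Nat.card_eq_fintype_card]
    exact Fintype.card_lt_of_injective_of_notMem j hinj (b := b) (by
      rintro ⟨k, hk⟩
      exact hne k (by rw [← hj k, hk, hb]))
  have h2 : Nat.card (Bool × Bool) = 4 := by simp [Nat.card_eq_fintype_card]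
  omega

end BOne

end Cfsg.Agent.LFourB
end

-- part: LFourB/EFactC
section
set_option linter.all false
open scoped Cfsg.Agent.FastGrp

/-!
# Elementary abelian subgroups of order 16, part 3: the action of `T2`
-/

set_option autoImplicit false

namespace Cfsg.Agent.LFourB

open Subgroup FusA

variable {G : Type*} [Group G] {S : Subgroup G} {m : ℕ} {f : R m → R m → R m → G} {u w : G}

namespace EF

theorem d8_one : (1 : Equiv.Perm (Fin 4)) = d8 false false false := by decide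

end EF

open EF

namespace BOne

theorem e_mem_Tor_iff_pi (h : BOne S m f u w) {g : G} (hg : g ∈ S) : g ∈ Tor f ↔ h.pi ⟨g, hg⟩ = d8 false false false := by
  rw [← d8_one, h.pi_eq_one_iff]

theorem e_pi_of_Ov (h : BOne S m f u w) {g d : G} (hd : d ∈ S) (hg : g ∈ S) (hgd : Ov f d g) :
    h.pi ⟨g, hg⟩ = h.pi ⟨d, hd⟩ := by
  obtain ⟨p, q, r, hgd, rfl⟩ := hgd
  exact h.e_pi_over hgd hd

theorem e_mem_S_of_Ov (h : BOne S m f u w) {g d : G} (hd : d ∈ S) (hgd : Ov f d g) : g ∈ S := by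
  obtain ⟨p, q, r, hgd, rfl⟩ := hgd
  exact S.mul_mem (h.f_mem_S hgd) hd

theorem e_not_Tor_sg (h : BOne S m f u w) {g : G} (hg : Ov f (sg u w) g) : g ∉ Tor f := by
  have hS := h.e_mem_S_of_Ov h.sg_mem hg
  rw [h.e_mem_Tor_iff_pi hS, h.e_pi_of_Ov h.sg_mem hS hg, h.e_pi_sg]
  decide

theorem e_not_Tor_w (h : BOne S m f u w) {g : G} (hg : Ov f w g) : g ∉ Tor f := by
  have hS := h.e_mem_S_of_Ov h.w_mem hg
  rw [h.e_mem_Tor_iff_pi hS, h.e_pi_of_Ov h.w_mem hS hg, h.e_pi_w']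
  decide

theorem e_not_Tor_sgw (h : BOne S m f u w) {g : G} (hg : Ov f (sgw u w) g) : g ∉ Tor f := by
  have hS := h.e_mem_S_of_Ov h.sgw_mem hg
  rw [h.e_mem_Tor_iff_pi hS, h.e_pi_of_Ov h.sgw_mem hS hg, h.e_pi_sgw]
  decide

/-! ### `J` and `S0` -/

theorem e_S_norm (h : BOne S m f u w) : ∀ s ∈ S, ∀ t ∈ Tor f, s * t * s⁻¹ ∈ Tor f := by
  intro s hs t ht
  have h1 := h.pi_eq_one_iff (s := ⟨s, hs⟩ * ⟨t, h.Tor_le ht⟩ * ⟨s, hs⟩⁻¹)
  rw [map_mul, map_mul, h.pi_Tor ht, mul_one, ← map_mul, mul_inv_cancel, map_one] at h1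
  exact h1.1 rfl

theorem e_mem_J (h : BOne S m f u w) {g : G} : g ∈ Tor f ⊔ zpowers (sg u w) ↔ g ∈ Tor f ∨ Ov f (sg u w) g := by
  rw [mem_sup_zpowers h.sg_mul_sg (fun b hb => by
    have := h.e_S_norm _ h.sg_mem b hb
    rwa [h.sg_inv] at this)]
  constructor
  · rintro ⟨b, hb, rfl | rfl⟩
    · exact Or.inl hb
    · obtain ⟨p, q, r, hg, rfl⟩ := h.mem_Tor.1 hb
      exact Or.inr ⟨p, q, r, hg, rfl⟩
  · rintro (hb | ⟨p, q, r, hg, rfl⟩)
    · exact ⟨g, hb, Or.inl rfl⟩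
    · exact ⟨_, h.f_mem_Tor hg, Or.inr rfl⟩

theorem e_TVp_pi (h : BOne S m f u w) {g : G} (hg : g ∈ TVp f u w) : ∃ hS : g ∈ S, ∃ i j, h.pi ⟨g, hS⟩ = d8 i j false := by
  have h1 : TVp f u w ≤ (Vt.comap h.pi).map S.subtype := by
    rw [TVp, sup_le_iff]
    constructor
    · intro x hx
      exact ⟨⟨x, h.Tor_le hx⟩, ⟨false, false, by rw [h.pi_Tor hx]; decide⟩, rfl⟩
    · rw [closure_le]
      rintro x (rfl | hx)
      · exact ⟨⟨x, h.u_mem⟩, ⟨true, false, by rw [h.e_pi_u']⟩, rfl⟩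
      · rw [Set.mem_singleton_iff.1 hx]
        exact ⟨⟨ub u w, h.ub_mem⟩, ⟨false, true, by rw [h.e_pi_ub']⟩, rfl⟩
  obtain ⟨⟨x, hx⟩, ⟨i, j, hij⟩, rfl⟩ := h1 hg
  exact ⟨hx, i, j, hij⟩

theorem e_mem_TVp_of_pi (h : BOne S m f u w) {g : G} (hS : g ∈ S) {i j : Bool} (hg : h.pi ⟨g, hS⟩ = d8 i j false) :
    g ∈ TVp f u w := by
  have hT : Tor f ≤ TVp f u w := le_sup_left
  have hu : u ∈ TVp f u w := (le_sup_right : _ ≤ TVp f u w) (Subgroup.subset_closure (by simp))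
  have hub : ub u w ∈ TVp f u w := (le_sup_right : _ ≤ TVp f u w) (Subgroup.subset_closure (by simp))
  cases i <;> cases j
  · rw [← h.e_mem_Tor_iff_pi hS] at hg
    exact hT hg
  · rw [← h.e_pi_ub'] at hg
    obtain ⟨p, q, r, hgd, rfl⟩ := h.e_over_of_pi hS h.ub_mem hg
    exact mul_mem (hT (h.f_mem_Tor hgd)) hub
  · rw [← h.e_pi_u'] at hg
    obtain ⟨p, q, r, hgd, rfl⟩ := h.e_over_of_pi hS h.u_mem hg
    exact mul_mem (hT (h.f_mem_Tor hgd)) hu
  · rw [← h.e_pi_sg] at hg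
    obtain ⟨p, q, r, hgd, rfl⟩ := h.e_over_of_pi hS h.sg_mem hg
    exact mul_mem (hT (h.f_mem_Tor hgd)) (mul_mem hu hub)

/-! ### Elements of an `E16` -/

theorem e16_cases (h : BOne S m f u w) {F : Subgroup G} (hF : E16 S F) {g : G} (hg : g ∈ F) :
    g ∈ Tor f ∨ Ov f (sg u w) g ∨ Ov f w g ∨ Ov f (sgw u w) g := by
  obtain ⟨-, -, h3⟩ := h.e16_struct hF
  have h4 : h.pi ⟨g, hF.le hg⟩ ∈ (h.e_rho hF.le).range := (h.e_mem_range_rho hF.le).2 ⟨g, hg, rfl⟩
  rw [h3] at h4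
  obtain ⟨i, k, hik⟩ := h4
  cases i <;> cases k
  · exact Or.inl ((h.e_mem_Tor_iff_pi (hF.le hg)).2 hik)
  · exact Or.inr (Or.inr (Or.inl (h.e_over_of_pi _ h.w_mem (by rw [h.e_pi_w']; exact hik))))
  · exact Or.inr (Or.inl (h.e_over_of_pi _ h.sg_mem (by rw [h.e_pi_sg]; exact hik)))
  · exact Or.inr (Or.inr (Or.inr (h.e_over_of_pi _ h.sgw_mem (by rw [h.e_pi_sgw]; exact hik))))

theorem e16_sg (h : BOne S m f u w) {F : Subgroup G} (hF : E16 S F) : ∃ a ∈ F, Ov f (sg u w) a := by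
  obtain ⟨-, -, h3⟩ := h.e16_struct hF
  have h4 : d8 true true false ∈ (h.e_rho hF.le).range := by rw [h3]; exact ⟨true, false, rfl⟩
  obtain ⟨x, hx, hxd⟩ := (h.e_mem_range_rho hF.le).1 h4
  exact ⟨x, hx, h.e_over_of_pi _ h.sg_mem (by rw [h.e_pi_sg]; exact hxd)⟩

theorem e16_w (h : BOne S m f u w) {F : Subgroup G} (hF : E16 S F) : ∃ a ∈ F, Ov f w a := by
  obtain ⟨-, -, h3⟩ := h.e16_struct hF
  have h4 : d8 false false true ∈ (h.e_rho hF.le).range := by rw [h3]; exact ⟨false, true, rfl⟩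
  obtain ⟨x, hx, hxd⟩ := (h.e_mem_range_rho hF.le).1 h4
  exact ⟨x, hx, h.e_over_of_pi _ h.w_mem (by rw [h.e_pi_w']; exact hxd)⟩

/-! ### The fields -/

theorem e_TT (h : BOne S m f u w) {F : Subgroup G} (hF : E16 S F) : ∀ t ∈ Ttwo f, ∀ g ∈ F,
    ∃ a, Z2 (z1 f) (z2 f) a ∧ t * g * t⁻¹ = a * g := by
  intro t ht g hg
  obtain ⟨P, Q, R', hP, hQ, hR, rfl⟩ := h.e_mem_Ttwo.1 ht
  have hG := e_good_Ttwo hP hQ hR
  rcases h.e16_cases hF hg with hg' | ⟨p, q, r, hgd, rfl⟩ | ⟨p, q, r, hgd, rfl⟩ | ⟨p, q, r, hgd, rfl⟩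
  · exact ⟨1, Z2_one _ _, by rw [h.e_conj_Tor hg' (h.f_mem_Tor hG), one_mul]⟩
  · refine ⟨_, ?_, h.e_conj_sg hG hgd⟩
    rw [h.e_Z2_iff ⟨Q, by ring⟩]
    exact ⟨by linear_combination -hQ, by linear_combination hP, hQ⟩
  · refine ⟨_, ?_, h.e_conj_w hG hgd⟩
    rw [h.e_Z2_iff ⟨R', by ring⟩]
    exact ⟨by linear_combination -hQ, by linear_combination -hQ, by linear_combination hR⟩
  · refine ⟨_, ?_, h.e_conj_sgw hG hgd⟩
    rw [h.e_Z2_iff ⟨P + R', by ring⟩]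
    exact ⟨rfl, by linear_combination hP + hQ, by linear_combination hR - hQ⟩

theorem e_f_mem_Ttwo (h : BOne S m f u w) {p q r : R m} (h1 : 4 * p = 0) (h2 : 2 * (q - p) = 0) (h3 : 4 * r = 0) :
    f p q r ∈ Ttwo f := h.e_mem_Ttwo.2 ⟨p, q, r, h1, h2, h3, rfl⟩

theorem e_tr (h : BOne S m f u w) {F : Subgroup G} (hF : E16 S F) : ∀ g ∈ F, g ∉ Tor f → ∀ a, Z2 (z1 f) (z2 f) a →
    ∃ t ∈ Ttwo f, t * g * t⁻¹ = a * g := by
  have hN := two_mul_N (m := m)
  have hM := two_mul_M (m := m)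
  have h4M := four_mul_M (m := m)
  intro g hg hgT a ha
  rcases ha with rfl | rfl | rfl | rfl
  · exact ⟨1, one_mem _, by simp⟩
  · rcases h.e16_cases hF hg with hg' | ⟨p, q, r, hgd, rfl⟩ | ⟨p, q, r, hgd, rfl⟩ | ⟨p, q, r, hgd, rfl⟩
    · exact absurd hg' hgT
    · refine ⟨f 0 (N m) 0, h.e_f_mem_Ttwo (by ring) (by linear_combination hN) (by ring), ?_⟩
      rw [h.e_conj_sg goodx3 hgd, z1]
      congr 2
      · ring
      · ring
    · have hm := h.e_f_mem_Ttwo (p := 0) (q := 0) (r := M m) (by ring) (by ring) h4M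
      refine ⟨_, hm, ?_⟩
      rw [h.e_conj_w (e_good_Ttwo (by ring) (by ring) h4M) hgd, z1]
      congr 2
      · ring
      · ring
    · have hm := h.e_f_mem_Ttwo (p := 0) (q := 0) (r := M m) (by ring) (by ring) h4M
      refine ⟨_, hm, ?_⟩
      rw [h.e_conj_sgw (e_good_Ttwo (by ring) (by ring) h4M) hgd, z1]
      congr 2
      · ring
      · ring
      · linear_combination hM
  · rcases h.e16_cases hF hg with hg' | ⟨p, q, r, hgd, rfl⟩ | ⟨p, q, r, hgd, rfl⟩ | ⟨p, q, r, hgd, rfl⟩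
    · exact absurd hg' hgT
    · have hm := h.e_f_mem_Ttwo (p := M m) (q := M m) (r := 0) h4M (by ring) (by ring)
      refine ⟨_, hm, ?_⟩
      rw [h.e_conj_sg (e_good_Ttwo h4M (by ring) (by ring)) hgd, z2]
      congr 2
      · ring
    · have hm := h.e_f_mem_Ttwo (p := 0) (q := N m) (r := 0) (by ring) (by linear_combination hN) (by ring)
      refine ⟨_, hm, ?_⟩
      rw [h.e_conj_w (e_good_Ttwo (by ring) (by linear_combination hN) (by ring)) hgd, z2]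
      congr 2
      · linear_combination neg_N (m := m)
      · ring
      · ring
    · have hm := h.e_f_mem_Ttwo (p := 0) (q := N m) (r := M m) (by ring) (by linear_combination hN) h4M
      refine ⟨_, hm, ?_⟩
      rw [h.e_conj_sgw (e_good_Ttwo (by ring) (by linear_combination hN) h4M) hgd, z2]
      congr 2
      · ring
      · ring
      · linear_combination hM
  · rw [h.e_z3_eq]
    rcases h.e16_cases hF hg with hg' | ⟨p, q, r, hgd, rfl⟩ | ⟨p, q, r, hgd, rfl⟩ | ⟨p, q, r, hgd, rfl⟩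
    · exact absurd hg' hgT
    · have hm := h.e_f_mem_Ttwo (p := M m) (q := M m + N m) (r := 0) h4M (by linear_combination hN) (by ring)
      refine ⟨_, hm, ?_⟩
      rw [h.e_conj_sg (e_good_Ttwo h4M (by linear_combination hN) (by ring)) hgd, z3]
      congr 2
      · linear_combination hM + hN
      · ring
    · have hm := h.e_f_mem_Ttwo (p := 0) (q := N m) (r := M m) (by ring) (by linear_combination hN) h4M
      refine ⟨_, hm, ?_⟩
      rw [h.e_conj_w (e_good_Ttwo (by ring) (by linear_combination hN) h4M) hgd, z3]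
      congr 2
      · linear_combination neg_N (m := m)
      · ring
    · have hm := h.e_f_mem_Ttwo (p := 0) (q := N m) (r := 0) (by ring) (by linear_combination hN) (by ring)
      refine ⟨_, hm, ?_⟩
      rw [h.e_conj_sgw (e_good_Ttwo (by ring) (by linear_combination hN) (by ring)) hgd, z3]
      congr 2
      · ring
      · ring
      · linear_combination neg_N (m := m)

end BOne

end Cfsg.Agent.LFourB

private theorem dce_2c8b771f8861 : _root_.True := by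
  try have : _root_.True := by simp only [_root_.Cfsg.Agent.LFourB.TVp.eq_1]
  exact _root_.True.intro
end

-- part: LFourB/EFactD
section
set_option linter.all false
open scoped Cfsg.Agent.FastGrp

/-!
# Elementary abelian subgroups of order 16, part 4: normalisers
-/

set_option autoImplicit false

namespace Cfsg.Agent.LFourB

open Subgroup FusA

variable {G : Type*} [Group G] {S : Subgroup G} {m : ℕ} {f : R m → R m → R m → G} {u w : G}

open EF

namespace BOne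

theorem e_J (h : BOne S m f u w) {F : Subgroup G} (hF : E16 S F) : ∀ g ∈ F, g ∉ Tor f →
    (g ∈ Tor f ⊔ zpowers (sg u w) ↔ ∀ t ∈ Ttwo f, t * g = g * t → t * t = 1 ∨ t * t = z1 f) := by
  have hN := two_mul_N (m := m)
  have hM := two_mul_M (m := m)
  have h4M := four_mul_M (m := m)
  intro g hg hgT
  constructor
  · intro hgJ t ht htg
    obtain ⟨P, Q, R', hP, hQ, hR, rfl⟩ := h.e_mem_Ttwo.1 ht
    have hG := e_good_Ttwo hP hQ hR
    obtain ⟨h1, rfl⟩ := (h.f_sg_comm_iff hG).1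
      (h.e_comm_of_over (h.f_mem_Tor hG) ((h.e_mem_J.1 hgJ).resolve_left hgT) htg)
    rw [h.e_sq_f hG, h1]
    have h2 : 2 * (2 * R') = 0 := by linear_combination hR
    rcases eq_of_two_mul h2 with h3 | h3
    · left; rw [h3, h.f_zero]
    · right; rw [h3, z1]
  · intro hall
    rw [h.e_mem_J]
    rcases h.e16_cases hF hg with hg' | hg' | ⟨p, q, r, hgd, rfl⟩ | ⟨p, q, r, hgd, rfl⟩
    · exact Or.inl hg'
    · exact Or.inr hg'
    · exfalso
      have hG : Good (M m) (M m) 0 := e_good_Ttwo h4M (by ring) (by ring)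
      have hm := h.e_f_mem_Ttwo (p := M m) (q := M m) (r := 0) h4M (by ring) (by ring)
      have hc : f (M m) (M m) 0 * w = w * f (M m) (M m) 0 := (h.f_w_comm_iff hG).2 ⟨rfl, by ring⟩
      have := hall _ hm ((h.comm_mul_iff (h.f_mem_Tor hgd) (h.f_mem_Tor hG)).2 hc)
      rw [h.e_sq_f hG, hM, mul_zero] at this
      rcases this with h1 | h1
      · exact N_ne_zero ((h.f_eq_one_iff good2).1 h1).1
      · exact N_ne_zero ((h.f_eq_iff good2 good1).1 h1).1
    · exfalso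
      have hG : Good (M m) (-M m) (-M m) := e_good_Ttwo h4M (by linear_combination -h4M) (by linear_combination -h4M)
      have hm := h.e_f_mem_Ttwo (p := M m) (q := -M m) (r := -M m) h4M (by linear_combination -h4M)
        (by linear_combination -h4M)
      have hc : f (M m) (-M m) (-M m) * sgw u w = sgw u w * f (M m) (-M m) (-M m) :=
        (h.f_sgw_comm_iff hG).2 ⟨rfl, by ring⟩
      have := hall _ hm ((h.comm_mul_iff (h.f_mem_Tor hgd) (h.f_mem_Tor hG)).2 hc)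
      rw [h.e_sq_f hG] at this
      have hG2 : Good (2 * M m) (2 * -M m) (2 * -M m) := by
        have := hG.add hG
        rwa [← two_mul, ← two_mul] at this
      rcases this with h1 | h1
      · have h2 := ((h.f_eq_one_iff hG2).1 h1).1
        rw [hM] at h2
        exact N_ne_zero h2
      · have h2 := ((h.f_eq_iff hG2 good1).1 h1).1
        rw [hM] at h2
        exact N_ne_zero h2

theorem e_S0 (h : BOne S m f u w) {F : Subgroup G} (hF : E16 S F) : ∀ g ∈ F, g ∈ TVp f u w →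
    g ∈ Tor f ⊔ zpowers (sg u w) := by
  intro g hg hgS
  rw [h.e_mem_J]
  obtain ⟨hS, i, j, hij⟩ := h.e_TVp_pi hgS
  rcases h.e16_cases hF hg with hg' | hg' | hg' | hg'
  · exact Or.inl hg'
  · exact Or.inr hg'
  · have h1 := h.e_pi_of_Ov h.w_mem hS hg'
    rw [hij, h.e_pi_w'] at h1
    have := (d8_inj _ _ _ _ _ _ h1).2.2
    exact absurd this (by decide)
  · have h1 := h.e_pi_of_Ov h.sgw_mem hS hg'
    rw [hij, h.e_pi_sgw] at h1
    have := (d8_inj _ _ _ _ _ _ h1).2.2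
    exact absurd this (by decide)

/-- Elements of an `E16` outside `J`. -/
theorem e16_notJ (h : BOne S m f u w) {F : Subgroup G} (hF : E16 S F) {g : G} (hg : g ∈ F)
    (hgJ : g ∉ Tor f ⊔ zpowers (sg u w)) : Ov f w g ∨ Ov f (sgw u w) g := by
  rw [h.e_mem_J] at hgJ
  rcases h.e16_cases hF hg with hg' | hg' | hg' | hg'
  · exact absurd (Or.inl hg') hgJ
  · exact absurd (Or.inr hg') hgJ
  · exact Or.inl hg'
  · exact Or.inr hg'

theorem e_k (h : BOne S m f u w) {F : Subgroup G} (hF : E16 S F) :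
    ∃ t ∈ Ttwo f, (∀ g ∈ F, g ∈ Tor f ⊔ zpowers (sg u w) → t * g * t⁻¹ = g) ∧
      (∀ g ∈ F, g ∉ Tor f ⊔ zpowers (sg u w) → t * g * t⁻¹ = z1 f * g) := by
  have hM := two_mul_M (m := m)
  have h4M := four_mul_M (m := m)
  have hG : Good 0 0 (M m) := e_good_Ttwo (by ring) (by ring) h4M
  refine ⟨f 0 0 (M m), h.e_f_mem_Ttwo (by ring) (by ring) h4M, ?_, ?_⟩
  · intro g _ hgJ
    rcases h.e_mem_J.1 hgJ with hg' | ⟨p, q, r, hgd, rfl⟩
    · exact h.e_conj_Tor hg' (h.f_mem_Tor hG)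
    · rw [h.e_conj_sg hG hgd]
      simp [h.f_zero]
  · intro g hg hgJ
    rcases h.e16_notJ hF hg hgJ with ⟨p, q, r, hgd, rfl⟩ | ⟨p, q, r, hgd, rfl⟩
    · rw [h.e_conj_w hG hgd, hM, z1]
      simp
    · rw [h.e_conj_sgw hG hgd, hM, z1]
      simp

theorem e_z1_mem_T (h : BOne S m f u w) : z1 f ∈ Tor f := h.f_mem_Tor good1

theorem e_z_cent (h : BOne S m f u w) : ∀ s ∈ S, s * z1 f = z1 f * s := by
  intro s hs
  rw [h.closure_eq] at hs
  induction hs using Subgroup.closure_induction with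
  | mem x hx =>
    rcases hx with hx | rfl | rfl
    · exact h.Tor_comm hx h.e_z1_mem_T
    · exact ((h.f_u_comm_iff good1).2 rfl).symm
    · exact ((h.f_w_comm_iff good1).2 ⟨rfl, two_mul_N⟩).symm
  | one => simp
  | mul x y _ _ hx hy => rw [mul_assoc, hy, ← mul_assoc, hx, mul_assoc]
  | inv x _ hx =>
    have h1 : x⁻¹ * (x * z1 f) * x⁻¹ = x⁻¹ * (z1 f * x) * x⁻¹ := by rw [hx]
    calc x⁻¹ * z1 f = x⁻¹ * (z1 f * x) * x⁻¹ := by group
      _ = x⁻¹ * (x * z1 f) * x⁻¹ := by rw [hx]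
      _ = z1 f * x⁻¹ := by group

/-- Commuting with both `a` over `sg` and `b` over `w` forces `pi` to be in `Vs`. -/
theorem e_d8_comm_V : ∀ i j k : Bool, d8 i j k * d8 false false true = d8 false false true * d8 i j k → i = j := by
  decide

theorem e_ker (h : BOne S m f u w) {F : Subgroup G} (hF : E16 S F) :
    ∀ p ∈ S, (∀ g ∈ F, p * g * p⁻¹ = g ∨ p * g * p⁻¹ = z1 f * g) → ∀ g ∈ F,
      g ∈ Tor f ⊔ zpowers (sg u w) → p * g * p⁻¹ = g := by
  intro x hx hxF g hg hgJ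
  -- `x = t f0`
  obtain ⟨b, hb, hbw⟩ := h.e16_w hF
  obtain ⟨-, hZ, hR⟩ := h.e16_struct hF
  have hpix : ∃ i k, h.pi ⟨x, hx⟩ = d8 i i k := by
    obtain ⟨i, j, k, hijk⟩ := h.e_exists_d8 ⟨x, hx⟩
    have h1 : h.pi ⟨x, hx⟩ * h.pi ⟨b, hF.le hb⟩ * (h.pi ⟨x, hx⟩)⁻¹ = h.pi ⟨b, hF.le hb⟩ := by
      rw [← map_inv, ← map_mul, ← map_mul]
      rcases hxF b hb with h2 | h2
      · congr 1
        exact Subtype.ext h2
      · have h3 : (⟨x, hx⟩ * ⟨b, hF.le hb⟩ * ⟨x, hx⟩⁻¹ : S) = ⟨z1 f, h.Tor_le h.e_z1_mem_T⟩ * ⟨b, hF.le hb⟩ :=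
          Subtype.ext h2
        rw [h3, map_mul, h.pi_Tor h.e_z1_mem_T, one_mul]
    rw [h.e_pi_of_Ov h.w_mem _ hbw, h.e_pi_w', hijk, mul_inv_eq_iff_eq_mul] at h1
    obtain rfl := e_d8_comm_V i j k h1
    exact ⟨i, k, hijk⟩
  obtain ⟨i, k, hik⟩ := hpix
  have h4 : d8 i i k ∈ (h.e_rho hF.le).range := by rw [hR]; exact ⟨i, k, rfl⟩
  obtain ⟨y, hy, hyd⟩ := (h.e_mem_range_rho hF.le).1 h4
  have hxy : x * y⁻¹ ∈ Tor f := by
    have h5 := h.pi_eq_one_iff (s := ⟨x, hx⟩ * ⟨y, hF.le hy⟩⁻¹)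
    rw [map_mul, map_inv, hik, hyd, mul_inv_cancel] at h5
    exact h5.1 rfl
  -- `t = x y⁻¹` acts as `x` on `F`
  have hact : ∀ g' ∈ F, (x * y⁻¹) * g' * (x * y⁻¹)⁻¹ = x * g' * x⁻¹ := by
    intro g' hg'
    have h5 : y⁻¹ * g' * y = g' := by
      rw [hF.comm (F.inv_mem hy) hg', inv_mul_cancel_right]
    calc (x * y⁻¹) * g' * (x * y⁻¹)⁻¹ = x * (y⁻¹ * g' * y) * x⁻¹ := by group
      _ = x * g' * x⁻¹ := by rw [h5]
  obtain ⟨P, Q, R', hG, ht⟩ := h.mem_Tor.1 hxy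
  rw [ht] at hact
  rcases h.e_mem_J.1 hgJ with hgT | ⟨p, q, r, hgd, rfl⟩
  · rw [← hact g hg]
    exact h.e_conj_Tor hgT (h.f_mem_Tor hG)
  · -- P = Q from `b`
    obtain ⟨p', q', r', hgd', rfl⟩ := hbw
    have hPQ : P - Q = 0 := by
      have h6 := hxF _ hb
      rw [← hact _ hb, h.e_conj_w hG hgd'] at h6
      have hgg : Good (P - Q) (Q - P) (2 * R') := ⟨R', by ring⟩
      rcases h6 with h6 | h6
      · exact ((h.f_eq_one_iff hgg).1 (mul_eq_right.1 h6)).1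
      · exact ((h.f_eq_iff hgg good1).1 (mul_right_cancel h6)).1
    have hPQ' : Q = P := by linear_combination -hPQ
    have h6 := hxF _ hg
    rw [← hact _ hg, h.e_conj_sg hG hgd] at h6 ⊢
    have hgg : Good (2 * P) (2 * Q) (Q - P) := ⟨Q, by ring⟩
    rcases h6 with h6 | h6
    · exact h6
    · have h7 := ((h.f_eq_iff hgg good1).1 (mul_right_cancel h6)).2.2
      rw [hPQ', sub_self] at h7
      exact absurd h7.symm N_ne_zero

/-- The elements of `T` normalising an `E16`. -/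
theorem e_norm_inf_Tor [Finite G] (h : BOne S m f u w) {F : Subgroup G} (hF : E16 S F) :
    (S ⊓ normalizer (F : Set G)) ⊓ Tor f = Ttwo f := by
  obtain ⟨hZF, hZ, hR⟩ := h.e16_struct hF
  apply le_antisymm
  · rintro t ⟨⟨htS, htN⟩, htT⟩
    obtain ⟨a, ha, p, q, r, hgd, rfl⟩ := h.e16_sg hF
    obtain ⟨b, hb, p', q', r', hgd', rfl⟩ := h.e16_w hF
    obtain ⟨P, Q, R', hG, rfl⟩ := h.mem_Tor.1 htT
    have h1 : f P Q R' * (f p q r * sg u w) * (f P Q R')⁻¹ ∈ F := (mem_normalizer_iff.1 htN _).1 ha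
    have h2 : f P Q R' * (f p' q' r' * w) * (f P Q R')⁻¹ ∈ F := (mem_normalizer_iff.1 htN _).1 hb
    rw [h.e_conj_sg hG hgd] at h1
    rw [h.e_conj_w hG hgd'] at h2
    have hg1 : Good (2 * P) (2 * Q) (Q - P) := ⟨Q, by ring⟩
    have hg2 : Good (P - Q) (Q - P) (2 * R') := ⟨R', by ring⟩
    have h3 := hZ _ ((F.mul_mem_cancel_right ha).1 h1) (h.f_mem_Tor hg1)
    have h4 := hZ _ ((F.mul_mem_cancel_right hb).1 h2) (h.f_mem_Tor hg2)
    rw [h.e_Z2_iff hg1] at h3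
    rw [h.e_Z2_iff hg2] at h4
    obtain ⟨h5, h6, h7⟩ := h3
    obtain ⟨h8, h9, h10⟩ := h4
    exact h.e_f_mem_Ttwo (by linear_combination h6) h7 (by linear_combination h10)
  · intro t ht
    refine ⟨⟨h.Tor_le (h.e_Ttwo_le ht), ?_⟩, h.e_Ttwo_le ht⟩
    refine Cfsg.Agent.Transfer.FusionBasic.mem_normalizer_of_conj_mem ?_
    intro g hg
    obtain ⟨a, ha, hta⟩ := h.e_TT hF t ht g hg
    rw [hta]
    exact F.mul_mem (hZF a ha) hg

/-- Elements of an `E16` in terms of `a` over `sg` and `b` over `w`. -/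
theorem e16_gen (h : BOne S m f u w) {F : Subgroup G} (hF : E16 S F) {a b : G} (ha : a ∈ F)
    (hasg : Ov f (sg u w) a) (hb : b ∈ F) (hbw : Ov f w b) {x : G} (hx : x ∈ F) :
    ∃ c, Z2 (z1 f) (z2 f) c ∧ (x = c ∨ x = c * a ∨ x = c * b ∨ x = c * (a * b)) := by
  obtain ⟨hZF, hZ, hR⟩ := h.e16_struct hF
  have key : ∀ y, ∀ hy : y ∈ F, h.pi ⟨x, hF.le hx⟩ = h.pi ⟨y, hF.le hy⟩ → Z2 (z1 f) (z2 f) (x * y⁻¹) := by
    intro y hy hxy
    refine hZ _ (F.mul_mem hx (F.inv_mem hy)) ?_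
    have h5 := h.pi_eq_one_iff (s := ⟨x, hF.le hx⟩ * ⟨y, hF.le hy⟩⁻¹)
    rw [map_mul, map_inv, hxy, mul_inv_cancel] at h5
    exact h5.1 rfl
  have hpa : h.pi ⟨a, hF.le ha⟩ = d8 true true false := by rw [h.e_pi_of_Ov h.sg_mem _ hasg, h.e_pi_sg]
  have hpb : h.pi ⟨b, hF.le hb⟩ = d8 false false true := by rw [h.e_pi_of_Ov h.w_mem _ hbw, h.e_pi_w']
  rcases h.e16_cases hF hx with hx' | hx' | hx' | hx'
  · exact ⟨x, hZ x hx hx', Or.inl rfl⟩
  · refine ⟨x * a⁻¹, key a ha ?_, Or.inr (Or.inl (by group))⟩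
    rw [h.e_pi_of_Ov h.sg_mem _ hx', h.e_pi_sg, hpa]
  · refine ⟨x * b⁻¹, key b hb ?_, Or.inr (Or.inr (Or.inl (by group)))⟩
    rw [h.e_pi_of_Ov h.w_mem _ hx', h.e_pi_w', hpb]
  · refine ⟨x * (a * b)⁻¹, key (a * b) (F.mul_mem ha hb) ?_, Or.inr (Or.inr (Or.inr (by group)))⟩
    rw [h.e_pi_of_Ov h.sgw_mem _ hx', h.e_pi_sgw]
    have h6 : (⟨a * b, hF.le (F.mul_mem ha hb)⟩ : S) = ⟨a, hF.le ha⟩ * ⟨b, hF.le hb⟩ := rfl
    rw [h6, map_mul, hpa, hpb]
    decide

end BOne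

end Cfsg.Agent.LFourB
end

-- part: LFourB/EFactE
section
prune_inst 0x434304500752200000018801220003c668200000200680001f86005020dcf5f20a9472921fa300c120830aad4603c0028135400704010000020000c00011d01a080ab5206a37cac04360007801007100000000000000000000000000000041000000000000
set_option linter.all false
open scoped Cfsg.Agent.FastGrp

/-!
# Elementary abelian subgroups of order 16, part 5: orders
-/

set_option autoImplicit false

namespace Cfsg.Agent.LFourB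

open Subgroup FusA

variable {G : Type*} [Group G] {S : Subgroup G} {m : ℕ} {f : R m → R m → R m → G} {u w : G}

namespace EF

/-- The dihedral group of order 8. -/
def Ds : Subgroup (Equiv.Perm (Fin 4)) where
  carrier := {σ | ∃ i j k : Bool, σ = d8 i j k}
  one_mem' := ⟨false, false, false, by decide⟩
  mul_mem' := by
    rintro _ _ ⟨i, j, k, rfl⟩ ⟨i', j', k', rfl⟩
    revert i j k i' j' k'
    decide
  inv_mem' := by
    rintro _ ⟨i, j, k, rfl⟩
    revert i j k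
    decide

theorem card_Ds : Nat.card Ds = 8 := by
  let F : Bool × Bool × Bool → Ds := fun a => ⟨d8 a.1 a.2.1 a.2.2, ⟨a.1, a.2.1, a.2.2, rfl⟩⟩
  have hF : Function.Bijective F := by
    constructor
    · rintro ⟨a, b, c⟩ ⟨a', b', c'⟩ hab
      have h1 : d8 a b c = d8 a' b' c' := congrArg Subtype.val hab
      obtain ⟨rfl, rfl, rfl⟩ := d8_inj _ _ _ _ _ _ h1
      rfl
    · rintro ⟨_, i, j, k, rfl⟩
      exact ⟨(i, j, k), rfl⟩
  rw [← Nat.card_eq_of_bijective F hF]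
  simp [Nat.card_eq_fintype_card]

/-- A subgroup of `Ds` containing `sg`, `w`, `u` is everything. -/
theorem eq_Ds {K : Subgroup (Equiv.Perm (Fin 4))} (hK : K ≤ Ds) (h1 : d8 true true false ∈ K)
    (h2 : d8 false false true ∈ K) (h3 : d8 true false false ∈ K) : K = Ds := by
  apply le_antisymm hK
  rintro _ ⟨i, j, k, rfl⟩
  have h4 : d8 false true false ∈ K := by
    have := K.mul_mem h3 h1
    have e : d8 true false false * d8 true true false = d8 false true false := by decide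
    rwa [e] at this
  have e : d8 i j k = (if i then d8 true false false else 1) * (if j then d8 false true false else 1) *
      (if k then d8 false false true else 1) := by
    revert i j k
    decide
  rw [e]
  refine K.mul_mem (K.mul_mem ?_ ?_) ?_
  · split_ifs
    · exact h3
    · exact K.one_mem
  · split_ifs
    · exact h4
    · exact K.one_mem
  · split_ifs
    · exact h2
    · exact K.one_mem

end EF

open EF

namespace BOne

theorem e_range_le_Ds (h : BOne S m f u w) {D : Subgroup G} (hD : D ≤ S) : (h.e_rho hD).range ≤ Ds := by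
  intro σ hσ
  obtain ⟨x, hx, rfl⟩ := (h.e_mem_range_rho hD).1 hσ
  exact h.e_exists_d8 _

theorem e_u_conj_Z2 (h : BOne S m f u w) {c : G} (hc : Z2 (z1 f) (z2 f) c) : Z2 (z1 f) (z2 f) (u * c * u⁻¹) := by
  obtain ⟨p, r, hg, hp, hr, rfl⟩ := h.e_Z2_coord hc
  rw [h.u_f _ _ _ hg, mul_inv_cancel_right, h.e_Z2_iff hg.actu]
  exact ⟨by linear_combination -hp, by linear_combination -hp, by linear_combination hr + hp⟩

/-- An element over `u` normalising an `E16`. -/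
theorem e_exists_norm_u [Finite G] (h : BOne S m f u w) {F : Subgroup G} (hF : E16 S F) :
    ∃ n ∈ S ⊓ normalizer (F : Set G), Ov f u n := by
  obtain ⟨a, ha, hasg⟩ := h.e16_sg hF
  obtain ⟨b, hb, hbw⟩ := h.e16_w hF
  have hasg' := hasg
  have hbw' := hbw
  obtain ⟨hZF, -, -⟩ := h.e16_struct hF
  obtain ⟨p, q, r, hg, ea⟩ := hasg'
  obtain ⟨p', q', r', hg', eb⟩ := hbw'
  have h1 : 2 * r + p - q = 0 := (h.e_sq_sg_iff hg).1 (by rw [← ea]; exact hF.sq a ha)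
  have h2 : q' = -p' := (h.e_sq_w_iff hg').1 (by rw [← eb]; exact hF.sq b hb)
  subst h2
  have hsgw : sgw u w = sg u w * w := rfl
  have hsg : sg u w = u * ub u w := rfl
  -- the commutation
  have hab : a * b = f (p - p') (q + p') (r + r' + 2 * p') * sgw u w := by
    rw [ea, eb, mul_assoc, ← mul_assoc (sg u w), h.sg_f hg', mul_assoc (f (-p') (- -p') (r' + p' - -p')),
      ← mul_assoc, h.f_mul _ _ _ _ _ _ hg hg'.actsg, hsgw]
    congr 2 <;> ring
  have hba : b * a = f (p' + q) (-p' + p) (r' - r) * sgw u w := by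
    rw [ea, eb, mul_assoc, ← mul_assoc w, h.w_f _ _ _ hg, mul_assoc (f q p (-r)),
      ← mul_assoc, h.f_mul _ _ _ _ _ _ hg' hg.actw, h.w_mul_sg, hsgw]
    congr 2
    ring
  have hgab : Good (p - p') (q + p') (r + r' + 2 * p') := by
    obtain ⟨c, hc⟩ := hg
    obtain ⟨c', hc'⟩ := hg'
    exact ⟨c + c' + p', by linear_combination hc + hc'⟩
  have hgba : Good (p' + q) (-p' + p) (r' - r) := by
    obtain ⟨c, hc⟩ := hg
    obtain ⟨c', hc'⟩ := hg'
    exact ⟨c + c' - r, by linear_combination hc + hc'⟩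
  have hcomm : p - p' = p' + q ∧ q + p' = -p' + p ∧ r + r' + 2 * p' = r' - r := by
    rw [← h.f_eq_iff hgab hgba]
    apply mul_right_cancel (b := sgw u w)
    rw [← hab, ← hba, hF.comm ha hb]
  obtain ⟨h3, -, h4⟩ := hcomm
  have hr : 2 * r + 2 * p' = 0 := by linear_combination h4
  have hq : q = p - 2 * p' := by linear_combination -h3
  -- `p` is even
  have hpe : par m p = 0 := by
    obtain ⟨c, hc⟩ := hg
    apply even_of_two_mul (c := c + p')
    rw [hq] at hc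
    linear_combination hc - hr
  obtain ⟨c, hc⟩ := par_eq_zero_iff.1 hpe
  -- `R' = -c`
  have hG : Good p 0 (-c) := ⟨0, by linear_combination hc⟩
  have hn : Ov f u (f p 0 (-c) * u) := ⟨p, 0, -c, hG, rfl⟩
  refine ⟨f p 0 (-c) * u, ⟨S.mul_mem (h.f_mem_S hG) h.u_mem, ?_⟩, hn⟩
  have hna : (f p 0 (-c) * u) * a = a * (f p 0 (-c) * u) := by
    have e1 : (f p 0 (-c) * u) * a = f 0 q (-c + r + p) * (u * sg u w) := by
      rw [ea, mul_assoc, ← mul_assoc u, h.u_f _ _ _ hg, mul_assoc (f (-p) q (r + p)), ← mul_assoc,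
        h.f_mul _ _ _ _ _ _ hG hg.actu]
      congr 2 <;> ring
    have e2 : a * (f p 0 (-c) * u) = f 0 q (r - c + p) * (sg u w * u) := by
      rw [ea, mul_assoc, ← mul_assoc (sg u w), h.sg_f hG, mul_assoc (f (-p) (-0) (-c + p - 0)), ← mul_assoc,
        h.f_mul _ _ _ _ _ _ hg hG.actsg]
      congr 2 <;> ring
    have e3 : sg u w * u = u * sg u w := by
      rw [hsg, mul_assoc, h.ub_mul_u]
    rw [e1, e2, e3]
    congr 2
    ring
  have hnb : (f p 0 (-c) * u) * b = f 0 0 (-p' - r) * (a * b) * (f p 0 (-c) * u) := by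
    have e1 : (f p 0 (-c) * u) * b = f (p - p') (-p') (-c + r' + p') * (u * w) := by
      rw [eb, mul_assoc, ← mul_assoc u, h.u_f _ _ _ hg', mul_assoc (f (-p') (-p') (r' + p')), ← mul_assoc,
        h.f_mul _ _ _ _ _ _ hG hg'.actu]
      congr 2 <;> ring
    have hgz : Good 0 0 (-p' - r) := by
      refine ⟨0, ?_⟩
      linear_combination -hr
    have e2 : f 0 0 (-p' - r) * (a * b) * (f p 0 (-c) * u) =
        f (p - p') (q + p' - p) (r' + p' + c - p) * (sgw u w * u) := by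
      rw [hab, ← mul_assoc (f 0 0 (-p' - r)), h.f_mul _ _ _ _ _ _ hgz hgab, mul_assoc, ← mul_assoc (sgw u w),
        h.sgw_f hG, mul_assoc (f (-0) (-p) (- -c + 0 - p)), ← mul_assoc,
        h.f_mul _ _ _ _ _ _ (hgz.add hgab) hG.actsgw]
      congr 2 <;> ring
    have e3 : sgw u w * u = u * w := by
      rw [hsgw, mul_assoc, h.w_mul_u, hsg, mul_assoc, ← mul_assoc (ub u w), h.ub_mul_ub, one_mul]
    rw [e1, e2, e3]
    congr 2
    · rw [hq]; ring
    · linear_combination hc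
  have hz : Z2 (z1 f) (z2 f) (f 0 0 (-p' - r)) := by
    rw [h.e_Z2_iff (⟨0, by linear_combination -hr⟩)]
    exact ⟨rfl, by ring, by linear_combination -hr⟩
  set n := f p 0 (-c) * u with hndef
  have hnZ : ∀ c', Z2 (z1 f) (z2 f) c' → n * c' * n⁻¹ ∈ F := by
    intro c' hc'
    apply hZF
    have h5 := h.e_u_conj_Z2 hc'
    have e : n * c' * n⁻¹ = u * c' * u⁻¹ := by
      have h6 : u * c' * u⁻¹ ∈ Tor f := by
        obtain ⟨p1, r1, hg1, -, -, e1⟩ := h.e_Z2_coord h5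
        rw [e1]
        exact h.f_mem_Tor hg1
      calc n * c' * n⁻¹ = f p 0 (-c) * (u * c' * u⁻¹) * (f p 0 (-c))⁻¹ := by rw [hndef]; group
        _ = u * c' * u⁻¹ := h.e_conj_Tor h6 (h.f_mem_Tor hG)
    rw [e]
    exact h5
  have hna' : n * a * n⁻¹ ∈ F := by
    rw [hna, mul_inv_cancel_right]; exact ha
  have hnb' : n * b * n⁻¹ ∈ F := by
    rw [hnb, mul_inv_cancel_right]
    exact F.mul_mem (hZF _ hz) (F.mul_mem ha hb)
  refine Cfsg.Agent.Transfer.FusionBasic.mem_normalizer_of_conj_mem ?_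
  intro x hx
  obtain ⟨c', hc', hx' | hx' | hx' | hx'⟩ := h.e16_gen hF ha hasg hb hbw hx
  · rw [hx']; exact hnZ c' hc'
  · have e : n * x * n⁻¹ = (n * c' * n⁻¹) * (n * a * n⁻¹) := by rw [hx']; group
    rw [e]
    exact F.mul_mem (hnZ c' hc') hna'
  · have e : n * x * n⁻¹ = (n * c' * n⁻¹) * (n * b * n⁻¹) := by rw [hx']; group
    rw [e]
    exact F.mul_mem (hnZ c' hc') hnb'
  · have e : n * x * n⁻¹ = (n * c' * n⁻¹) * ((n * a * n⁻¹) * (n * b * n⁻¹)) := by rw [hx']; group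
    rw [e]
    exact F.mul_mem (hnZ c' hc') (F.mul_mem hna' hnb')

theorem e_card [Finite G] (h : BOne S m f u w) {F : Subgroup G} (hF : E16 S F) :
    Nat.card ↥(S ⊓ normalizer (F : Set G)) = Nat.card (Ttwo f) * 8 := by
  have hle : S ⊓ normalizer (F : Set G) ≤ S := inf_le_left
  rw [h.e_card_eq hle, h.e_norm_inf_Tor hF]
  congr 1
  rw [← card_Ds]
  congr 1
  have hFN : F ≤ S ⊓ normalizer (F : Set G) := le_inf hF.le le_normalizer
  obtain ⟨a, ha, hasg⟩ := h.e16_sg hF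
  obtain ⟨b, hb, hbw⟩ := h.e16_w hF
  obtain ⟨n, hn, hnu⟩ := h.e_exists_norm_u hF
  rw [eq_Ds (h.e_range_le_Ds hle)]
  · rw [h.e_mem_range_rho]
    exact ⟨a, hFN ha, by rw [h.e_pi_of_Ov h.sg_mem _ hasg, h.e_pi_sg]⟩
  · rw [h.e_mem_range_rho]
    exact ⟨b, hFN hb, by rw [h.e_pi_of_Ov h.w_mem _ hbw, h.e_pi_w']⟩
  · rw [h.e_mem_range_rho]
    exact ⟨n, hn, by rw [h.e_pi_of_Ov h.u_mem _ hnu, h.e_pi_u']⟩

end BOne

end Cfsg.Agent.LFourB
end

-- part: LFourB/EFactF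
section
prune_inst 0x434304500752200000000801220002064200000000060000198600502090f5320090229004a200c121824aa801004002812540070400000000000000000050120802a5204836c0c04260001801007180c00000000000000000000000000041000000000000
set_option linter.all false
open scoped Cfsg.Agent.FastGrp

/-!
# Elementary abelian subgroups of order 16, part 6: `T2` is the only abelian subgroup of its order
-/

set_option autoImplicit false

namespace Cfsg.Agent.LFourB

open Subgroup FusA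

variable {G : Type*} [Group G] {S : Subgroup G} {m : ℕ} {f : R m → R m → R m → G} {u w : G}

namespace EF

/-- The embedding of `Z/4`. -/
def mu (m : ℕ) : ZMod 4 →+ R m :=
  ZMod.lift 4 ⟨(zmultiplesHom (R m) (M m)), by
    have h1 : (4 : R m) * M m = 0 := four_mul_M
    simpa only [zmultiplesHom_apply, _root_.Nat.cast_ofNat, _root_.zsmul_eq_mul, _root_.Int.cast_ofNat] using h1⟩

theorem mu_one (m : ℕ) : mu m 1 = M m := by
  have h1 : mu m ((1 : ℤ) : ZMod 4) = (zmultiplesHom (R m) (M m)) 1 := ZMod.lift_coe 4 _ 1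
  simpa only [_root_.Int.cast_one, _root_.zmultiplesHom_apply, _root_.one_smul] using h1

theorem mu_two (m : ℕ) : mu m 2 = N m := by
  have : (2 : ZMod 4) = 1 + 1 := by decide
  rw [this, map_add, mu_one, M_add_M]

theorem mu_three (m : ℕ) : mu m 3 = -M m := by
  have : (3 : ZMod 4) = -1 := by decide
  rw [this, map_neg, mu_one]

theorem mu_inj (m : ℕ) : Function.Injective (mu m) := by
  rw [injective_iff_map_eq_zero]
  intro a ha
  have h4 : ∀ a : ZMod 4, a = 0 ∨ a = 1 ∨ a = 2 ∨ a = 3 := by decide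
  rcases h4 a with rfl | rfl | rfl | rfl
  · rfl
  · rw [mu_one] at ha; exact absurd ha M_ne_zero
  · rw [mu_two] at ha; exact absurd ha N_ne_zero
  · rw [mu_three, neg_eq_zero] at ha; exact absurd ha M_ne_zero

theorem mu_surj {a : R m} (ha : 4 * a = 0) : ∃ i, a = mu m i := by
  rcases eq_of_four_mul ha with rfl | rfl | rfl | rfl
  · exact ⟨0, by rw [map_zero]⟩
  · exact ⟨2, by rw [mu_two]⟩
  · exact ⟨1, by rw [mu_one]⟩
  · exact ⟨3, by rw [mu_three]⟩

theorem four_mu (m : ℕ) (i : ZMod 4) : 4 * mu m i = 0 := by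
  have h1 : 4 * mu m i = mu m (i + i + i + i) := by
    rw [map_add, map_add, map_add]; ring
  have h2 : ∀ i : ZMod 4, i + i + i + i = 0 := by decide
  rw [h1, h2, map_zero]

theorem two_mu (m : ℕ) (i : ZMod 4) : 2 * mu m i = mu m (2 * i) := by
  have : 2 * i = i + i := by ring
  rw [this, map_add]; ring

theorem mu_eq_zero {i : ZMod 4} : mu m i = 0 ↔ i = 0 := by
  constructor
  · intro h; exact mu_inj m (by rw [h, map_zero])
  · rintro rfl; exact map_zero _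

abbrev V3 : Type := ZMod 4 × ZMod 4 × ZMod 4

/-- The condition for centralising `rep i j k`. -/
def cd (i j k : Bool) (v : V3) : Bool :=
  match i, j, k with
  | false, false, false => true
  | true, false, false => v.1 = 0
  | false, true, false => v.2.1 = 0
  | true, true, false => 2 * v.1 = 0 ∧ v.2.1 = v.1
  | false, false, true => v.2.1 = v.1 ∧ 2 * v.2.2 = 0
  | true, true, true => v.2.1 = -v.1 ∧ 2 * v.2.2 + 2 * v.1 = 0
  | true, false, true => 2 * v.1 = 0 ∧ v.2.1 = v.1 ∧ 2 * v.2.2 = v.1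
  | false, true, true => 2 * v.1 = 0 ∧ v.2.1 = v.1 ∧ 2 * v.2.2 = v.1

/-- Membership in `T2`. -/
def inT (v : V3) : Bool := 2 * (v.2.1 - v.1) = 0

set_option maxRecDepth 10000 in
theorem count_T : (Finset.univ.filter fun v : V3 => inT v = true).card = 32 := by decide +kernel

set_option maxRecDepth 10000 in
theorem count_one : ∀ i j k : Bool, (i = true ∨ j = true ∨ k = true) →
    (Finset.univ.filter fun v : V3 => inT v = true ∧ cd i j k v = true).card ≤ 8 := by decide +kernel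

set_option maxRecDepth 10000 in
theorem count_two : ∀ i j k : Bool, (i = true ∨ j = true ∨ k = true) → ∀ i' j' k' : Bool,
    (i' = true ∨ j' = true ∨ k' = true) → (i ≠ i' ∨ j ≠ j' ∨ k ≠ k') →
    (Finset.univ.filter fun v : V3 => inT v = true ∧ cd i j k v = true ∧ cd i' j' k' v = true).card ≤ 4 := by
  decide +kernel

/-- The element with coordinates in `Z/4`. -/
def tt (f : R m → R m → R m → G) (v : V3) : G := f (mu m v.1) (mu m v.2.1) (mu m v.2.2)

end EF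

open EF

namespace BOne

theorem e_inT_iff {v : V3} : inT v = true ↔ 2 * (mu m v.2.1 - mu m v.1) = 0 := by
  rw [← map_sub, two_mu, mu_eq_zero]
  simp only [inT, _root_.decide_eq_true_eq]

theorem e_tt_good {v : V3} (hv : inT v = true) : Good (mu m v.1) (mu m v.2.1) (mu m v.2.2) :=
  e_good_Ttwo (four_mu m _) (e_inT_iff.1 hv) (four_mu m _)

theorem e_mem_Ttwo_tt (h : BOne S m f u w) {g : G} : g ∈ Ttwo f ↔ ∃ v : V3, inT v = true ∧ g = tt f v := by
  rw [h.e_mem_Ttwo]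
  constructor
  · rintro ⟨p, q, r, h1, h2, h3, rfl⟩
    obtain ⟨i, rfl⟩ := mu_surj h1
    obtain ⟨j, rfl⟩ := mu_surj (a := q) (by linear_combination h1 + 2 * h2)
    obtain ⟨k, rfl⟩ := mu_surj h3
    exact ⟨(i, j, k), e_inT_iff.2 h2, rfl⟩
  · rintro ⟨v, hv, rfl⟩
    exact ⟨_, _, _, four_mu m _, e_inT_iff.1 hv, four_mu m _, rfl⟩

theorem e_card_Ttwo (h : BOne S m f u w) : Nat.card (Ttwo f) = 32 := by
  let F : {v : V3 // v ∈ Finset.univ.filter fun v : V3 => inT v = true} → Ttwo f := fun v =>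
    ⟨tt f v.1, h.e_mem_Ttwo_tt.2 ⟨v.1, (Finset.mem_filter.1 v.2).2, rfl⟩⟩
  have hF : Function.Bijective F := by
    constructor
    · intro a b hab
      have h1 : tt f a.1 = tt f b.1 := congrArg Subtype.val hab
      have h2 := (h.f_eq_iff (e_tt_good (Finset.mem_filter.1 a.2).2) (e_tt_good (Finset.mem_filter.1 b.2).2)).1 h1
      apply Subtype.ext
      exact Prod.ext (mu_inj m h2.1) (Prod.ext (mu_inj m h2.2.1) (mu_inj m h2.2.2))
    · rintro ⟨g, hg⟩
      obtain ⟨v, hv, rfl⟩ := h.e_mem_Ttwo_tt.1 hg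
      exact ⟨⟨v, Finset.mem_filter.2 ⟨Finset.mem_univ _, hv⟩⟩, rfl⟩
  rw [← Nat.card_eq_of_bijective F hF, Nat.card_eq_fintype_card, Fintype.card_coe]
  exact count_T

/-- Centralising a representative. -/
theorem e_cd_of_comm (h : BOne S m f u w) {v : V3} (hv : inT v = true) {i j k : Bool}
    (hc : tt f v * rep u w i j k = rep u w i j k * tt f v) : cd i j k v = true := by
  have hg := e_tt_good (m := m) hv
  cases i <;> cases j <;> cases k
  · rfl
  · have h1 : rep u w false false true = w := by simp [rep]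
    rw [h1] at hc
    obtain ⟨h2, h3⟩ := (h.f_w_comm_iff hg).1 hc
    rw [two_mu, mu_eq_zero] at h3
    have := mu_inj m h2
    simp [cd, this, h3]
  · have h1 : rep u w false true false = ub u w := by simp [rep]
    rw [h1] at hc
    have h2 := (h.f_ub_comm_iff hg).1 hc
    rw [mu_eq_zero] at h2
    simp [cd, h2]
  · have h1 : rep u w false true true = ub u w * w := by simp [rep]
    rw [h1] at hc
    obtain ⟨h2, h3, h4⟩ := (h.f_ubw_comm_iff hg).1 hc
    rw [two_mu, mu_eq_zero] at h2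
    rw [two_mu] at h4
    have h5 := mu_inj m h3
    have h6 := mu_inj m h4
    simp [cd, h2, h5, h6]
  · have h1 : rep u w true false false = u := by simp [rep]
    rw [h1] at hc
    have h2 := (h.f_u_comm_iff hg).1 hc
    rw [mu_eq_zero] at h2
    simp [cd, h2]
  · have h1 : rep u w true false true = u * w := by simp [rep]
    rw [h1] at hc
    obtain ⟨h2, h3, h4⟩ := (h.f_uw_comm_iff hg).1 hc
    rw [two_mu, mu_eq_zero] at h2
    rw [two_mu] at h4
    have h5 := mu_inj m h3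
    have h6 := mu_inj m h4
    simp [cd, h2, h5, h6]
  · have h1 : rep u w true true false = sg u w := by simp [rep, sg]
    rw [h1] at hc
    obtain ⟨h2, h3⟩ := (h.f_sg_comm_iff hg).1 hc
    rw [two_mu, mu_eq_zero] at h2
    have h5 := mu_inj m h3
    simp [cd, h2, h5]
  · have h1 : rep u w true true true = sgw u w := by simp [rep, sgw]
    rw [h1] at hc
    obtain ⟨h2, h3⟩ := (h.f_sgw_comm_iff hg).1 hc
    rw [← map_neg] at h2
    rw [two_mu, two_mu, ← map_add, mu_eq_zero] at h3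
    have h5 := mu_inj m h2
    simp [cd, h3, h5]

theorem e_card_le_filter (h : BOne S m f u w) {K : Subgroup G} (P : V3 → Prop) [DecidablePred P]
    (hK : ∀ k ∈ K, k ∈ Ttwo f ∧ ∀ v, inT v = true → k = tt f v → P v) :
    Nat.card K ≤ (Finset.univ.filter fun v : V3 => P v).card := by
  have h1 : Nat.card K ≤ Nat.card {v : V3 // v ∈ Finset.univ.filter fun v : V3 => P v} := by
    apply card_le_of_surj (fun v => tt f v.1)
    intro k hk
    obtain ⟨h2, h3⟩ := hK k hk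
    obtain ⟨v, hv, rfl⟩ := h.e_mem_Ttwo_tt.1 h2
    exact ⟨⟨v, Finset.mem_filter.2 ⟨Finset.mem_univ _, h3 v hv rfl⟩⟩, rfl⟩
  rwa [Nat.card_eq_fintype_card (α := {v : V3 // _}), Fintype.card_coe] at h1

theorem e_pi_rep' (h : BOne S m f u w) (i j k : Bool) : h.pi ⟨rep u w i j k, h.rep_mem i j k⟩ = d8 i j k := h.pi_rep i j k

theorem e_uniq [Finite G] (h : BOne S m f u w) {F : Subgroup G} (hF : E16 S F) (D : Subgroup G)
    (hD : D ≤ S ⊓ normalizer (F : Set G)) (hDc : ∀ a ∈ D, ∀ b ∈ D, a * b = b * a)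
    (hDT : Nat.card D = Nat.card (Ttwo f)) : D = Ttwo f := by
  have hDS : D ≤ S := hD.trans inf_le_left
  have hK : D ⊓ Tor f ≤ Ttwo f := by
    rw [← h.e_norm_inf_Tor hF]
    exact inf_le_inf_right _ hD
  by_cases hDle : D ≤ Tor f
  · have h1 : D ≤ Ttwo f := (le_inf le_rfl hDle).trans hK
    exact Subgroup.eq_of_le_of_card_ge h1 hDT.ge
  exfalso
  set K := D ⊓ Tor f with hKdef
  set R := (h.e_rho hDS).range with hR
  have hcard : Nat.card D = Nat.card K * Nat.card R := h.e_card_eq hDS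
  rw [hDT, h.e_card_Ttwo] at hcard
  have hRDs : R ≤ Ds := h.e_range_le_Ds hDS
  have hRcomm : ∀ σ ∈ R, ∀ τ ∈ R, σ * τ = τ * σ := by
    intro σ hσ τ hτ
    obtain ⟨x, hx, rfl⟩ := (h.e_mem_range_rho hDS).1 hσ
    obtain ⟨y, hy, rfl⟩ := (h.e_mem_range_rho hDS).1 hτ
    rw [← map_mul, ← map_mul]
    congr 1
    exact Subtype.ext (hDc x hx y hy)
  have hcomm : ∀ i j k, d8 i j k ∈ R → ∀ x ∈ K, ∀ v, inT v = true → x = tt f v → cd i j k v = true := by
    intro i j k hijk x hx v hv hxv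
    apply h.e_cd_of_comm hv
    obtain ⟨y, hy, hyd⟩ := (h.e_mem_range_rho hDS).1 hijk
    rw [← hxv]
    exact h.e_comm_of_over hx.2 (h.e_over_of_pi _ (h.rep_mem i j k) (by rw [h.e_pi_rep', hyd])) (hDc x hx.1 y hy)
  -- the range has order at most 4
  have hR4 : Nat.card R ≤ 4 := by
    have hdvd : Nat.card R ∣ 8 := by
      have := Subgroup.card_dvd_of_le hRDs
      rwa [card_Ds] at this
    have hne : Nat.card R ≠ 8 := by
      intro h8
      have h9 : R = Ds := Subgroup.eq_of_le_of_card_ge hRDs (by rw [card_Ds, h8])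
      have h10 := hRcomm (d8 true false false) (by rw [h9]; exact ⟨_, _, _, rfl⟩) (d8 false false true)
        (by rw [h9]; exact ⟨_, _, _, rfl⟩)
      revert h10
      decide
    have h11 : Nat.card R ≤ 8 := Nat.le_of_dvd (by norm_num) hdvd
    have h12 : Nat.card R ∈ Nat.divisors 8 := by simp only [hdvd, _root_.Nat.mem_divisors, _root_.ne_eq, _root_.OfNat.ofNat_ne_zero, _root_.not_false_eq_true, _root_.and_self]
    have h13 : Nat.divisors 8 = {1, 2, 4, 8} := by decide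
    rw [h13] at h12
    simp only [Finset.mem_insert, Finset.mem_singleton] at h12
    omega
  -- a nontrivial element
  obtain ⟨x, hxD, hxT⟩ := SetLike.not_le_iff_exists.1 hDle
  obtain ⟨i, j, k, hijk⟩ := h.e_exists_d8 ⟨x, hDS hxD⟩
  have hxR : d8 i j k ∈ R := (h.e_mem_range_rho hDS).2 ⟨x, hxD, hijk⟩
  have hnt : i = true ∨ j = true ∨ k = true := by
    by_contra hcon
    push Not at hcon
    obtain ⟨h1, h2, h3⟩ := hcon
    simp only [ne_eq, Bool.not_eq_true] at h1 h2 h3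
    subst h1 h2 h3
    exact hxT ((h.e_mem_Tor_iff_pi (hDS hxD)).2 hijk)
  have hK8 : Nat.card K ≤ 8 := by
    refine (h.e_card_le_filter (fun v => inT v = true ∧ cd i j k v = true) ?_).trans (count_one i j k hnt)
    intro y hy
    exact ⟨hK hy, fun v hv hyv => ⟨hv, hcomm i j k hxR y hy v hv hyv⟩⟩
  by_cases hall : ∀ τ ∈ R, τ = 1 ∨ τ = d8 i j k
  · have hR2 : Nat.card R ≤ 2 := by
      have h1 : Nat.card R ≤ Nat.card Bool := card_le_of_surj (fun b : Bool => if b then d8 i j k else 1)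
        (fun τ hτ => by
          rcases hall τ hτ with rfl | rfl
          · exact ⟨false, by simp⟩
          · exact ⟨true, by simp⟩)
      have h2 : Nat.card Bool = 2 := by simp
      exact h1.trans h2.le
    nlinarith only [hcard, hK8, hR2]
  · push Not at hall
    obtain ⟨τ, hτ, hτ1, hτ2⟩ := hall
    obtain ⟨i', j', k', rfl⟩ := hRDs hτ
    have hnt' : i' = true ∨ j' = true ∨ k' = true := by
      by_contra hcon
      push Not at hcon
      obtain ⟨h1, h2, h3⟩ := hcon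
      simp only [ne_eq, Bool.not_eq_true] at h1 h2 h3
      subst h1 h2 h3
      exact hτ1 (by decide)
    have hne : i ≠ i' ∨ j ≠ j' ∨ k ≠ k' := by
      by_contra hcon
      push Not at hcon
      obtain ⟨rfl, rfl, rfl⟩ := hcon
      exact hτ2 rfl
    have hK4 : Nat.card K ≤ 4 := by
      refine (h.e_card_le_filter (fun v => inT v = true ∧ cd i j k v = true ∧ cd i' j' k' v = true) ?_).trans
        (count_two i j k hnt i' j' k' hnt' hne)
      intro y hy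
      exact ⟨hK hy, fun v hv hyv => ⟨hv, hcomm i j k hxR y hy v hv hyv, hcomm i' j' k' hτ y hy v hv hyv⟩⟩
    nlinarith only [hcard, hR4, hK4]

end BOne

end Cfsg.Agent.LFourB

private theorem dce_3c874ec45735 : _root_.True := by
  try have : _root_.True := by simp only [_root_.Cfsg.Agent.LFourB.EF.cd.eq_4]
  try have : _root_.True := by simp only [_root_.Cfsg.Agent.LFourB.EF.cd.eq_8]
  try have : _root_.True := by simp only [_root_.Cfsg.Agent.LFourB.EF.cd.eq_1]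
  try have : _root_.True := by simp only [_root_.Cfsg.Agent.LFourB.EF.cd.eq_2]
  try have : _root_.True := by simp only [_root_.Cfsg.Agent.LFourB.EF.cd.eq_3]
  try have : _root_.True := by simp only [_root_.Cfsg.Agent.LFourB.EF.inT.eq_1]
  try have : _root_.True := by simp only [_root_.Cfsg.Agent.LFourB.EF.cd.eq_6]
  try have : _root_.True := by simp only [_root_.Cfsg.Agent.LFourB.EF.cd.eq_5]
  try have : _root_.True := by simp only [_root_.Cfsg.Agent.LFourB.EF.cd.eq_7]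
  exact _root_.True.intro
end

-- part: LFourB/EFactG
section
set_option linter.all false
open scoped Cfsg.Agent.FastGrp

/-!
# The facts `SF` for a 2-group of type `PSL 4 q`, `q = 1 mod 8`
-/

set_option autoImplicit false

namespace Cfsg.Agent.LFourB

open Subgroup FusA

variable {G : Type*} [Group G] {S : Subgroup G} {m : ℕ} {f : R m → R m → R m → G} {u w : G}

open EF

namespace BOne

theorem e_N_mul (p : R m) : (par m p = 0 → N m * p = 0) ∧ (par m p ≠ 0 → N m * p = N m) := by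
  constructor
  · intro hp
    obtain ⟨c, rfl⟩ := par_eq_zero_iff.1 hp
    linear_combination c * two_mul_N (m := m)
  · intro hp
    have h1 : par m (p - 1) = 0 := by
      rw [map_sub, map_one]
      have h2 : ∀ a : ZMod 2, a ≠ 0 → a - 1 = 0 := by decide
      exact h2 _ hp
    obtain ⟨c, hc⟩ := par_eq_zero_iff.1 h1
    have h3 : p = 1 + 2 * c := by linear_combination hc
    rw [h3]
    linear_combination c * two_mul_N (m := m)

theorem e_Z2_char (h : BOne S m f u w) : ∀ a, (∃ t ∈ Tor f, t ^ (2 ^ (m + 2)) = a) ↔ Z2 (z1 f) (z2 f) a := by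
  have hN : ((2 ^ (m + 2) : ℕ) : R m) = N m := rfl
  intro a
  constructor
  · rintro ⟨t, ht, rfl⟩
    obtain ⟨p, q, r, hg, rfl⟩ := h.mem_Tor.1 ht
    rw [h.f_pow hg, h.e_Z2_iff (hg.pow _), hN]
    have hpar : par m p = par m q := by
      obtain ⟨c, hc⟩ := hg
      have h1 : p - q = 2 * (2 * c - r - q) := by linear_combination hc
      have h2 : par m (p - q) = 0 := par_eq_zero_iff.2 ⟨_, h1⟩
      rw [map_sub, sub_eq_zero] at h2
      exact h2
    refine ⟨?_, by linear_combination p * two_mul_N (m := m), by linear_combination r * two_mul_N (m := m)⟩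
    by_cases hp : par m p = 0
    · rw [(e_N_mul p).1 hp, (e_N_mul q).1 (by rw [← hpar]; exact hp)]
    · rw [(e_N_mul p).2 hp, (e_N_mul q).2 (by rw [← hpar]; exact hp)]
  · rintro (rfl | rfl | rfl | rfl)
    · exact ⟨1, one_mem _, one_pow _⟩
    · have hg : Good (2 : R m) 0 1 := ⟨1, by ring⟩
      refine ⟨f 2 0 1, h.f_mem_Tor hg, ?_⟩
      rw [h.f_pow hg, hN, z1]
      congr 1
      · linear_combination two_mul_N (m := m)
      · ring
      · ring
    · have hg : Good (1 : R m) (-1) 0 := ⟨0, by ring⟩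
      refine ⟨f 1 (-1) 0, h.f_mem_Tor hg, ?_⟩
      rw [h.f_pow hg, hN, z2]
      congr 1
      · ring
      · linear_combination neg_N (m := m)
      · ring
    · have hg : Good (1 : R m) 1 1 := ⟨1, by ring⟩
      refine ⟨f 1 1 1, h.f_mem_Tor hg, ?_⟩
      rw [h.f_pow hg, hN, h.e_z3_eq, z3]
      congr 1
      · ring
      · ring
      · ring

theorem e_T_inv (h : BOne S m f u w) : ∀ a ∈ Tor f, a * a = 1 → Z2 (z1 f) (z2 f) a ∨ ∃ i, a = X f i := by
  intro a ha haa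
  obtain ⟨p, q, r, hg, rfl⟩ := h.mem_Tor.1 ha
  obtain ⟨h1, h2, h3⟩ := (h.e_sq_f_iff hg).1 haa
  rw [h.e_Z2_iff hg]
  rcases eq_of_two_mul h1 with rfl | rfl <;> rcases eq_of_two_mul h2 with rfl | rfl <;>
    rcases eq_of_two_mul h3 with rfl | rfl
  · left; exact ⟨rfl, h1, h3⟩
  · left; exact ⟨rfl, h1, h3⟩
  · right; exact ⟨2, rfl⟩
  · right; exact ⟨3, rfl⟩
  · right; exact ⟨0, rfl⟩
  · right; exact ⟨1, rfl⟩
  · left; exact ⟨rfl, h1, h3⟩
  · left; exact ⟨rfl, h1, h3⟩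

theorem e_X_sq (h : BOne S m f u w) : ∀ i, X f i * X f i = 1 := by
  intro i
  fin_cases i
  · exact (h.e_sq_f_iff goodx1).2 ⟨two_mul_N, by ring, by ring⟩
  · exact (h.e_sq_f_iff goodx2).2 ⟨two_mul_N, by ring, two_mul_N⟩
  · exact (h.e_sq_f_iff goodx3).2 ⟨by ring, two_mul_N, by ring⟩
  · exact (h.e_sq_f_iff goodx4).2 ⟨by ring, two_mul_N, two_mul_N⟩

theorem e_X_not (h : BOne S m f u w) : ∀ i, ¬ Z2 (z1 f) (z2 f) (X f i) := by
  have hN : N m ≠ 0 := N_ne_zero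
  intro i hi
  fin_cases i
  · exact hN ((h.e_Z2_iff goodx1).1 hi).1
  · exact hN ((h.e_Z2_iff goodx2).1 hi).1
  · exact hN ((h.e_Z2_iff goodx3).1 hi).1.symm
  · exact hN ((h.e_Z2_iff goodx4).1 hi).1.symm

/-- The facts about `S` used in Steps 1, 3, 4. -/
theorem sf [Finite G] (h : BOne S m f u w)
    (hmax : ∀ D : Subgroup G, D ≤ S → (∀ a ∈ D, ∀ b ∈ D, a * b = b * a) → Nat.card D = Nat.card (Tor f) → D = Tor f) :
    SF S (Tor f) (Ttwo f) (Tor f ⊔ zpowers (sg u w)) (TVp f u w) (z1 f) (z2 f) (X f) where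
  T_le := h.Tor_le
  T_comm := fun a ha b hb => h.Tor_comm ha hb
  S_norm := h.e_S_norm
  T_max := hmax
  z_mem := h.e_z1_mem_T
  z'_mem := h.f_mem_Tor good2
  z_sq := (h.e_sq_f_iff good1).2 ⟨by ring, by ring, two_mul_N⟩
  z'_sq := (h.e_sq_f_iff good2).2 ⟨two_mul_N, two_mul_N, by ring⟩
  z_ne := fun e => N_ne_zero ((h.f_eq_one_iff good1).1 e).2.2
  z'_ne := fun e => N_ne_zero ((h.f_eq_one_iff good2).1 e).1
  z'_ne_z := fun e => N_ne_zero ((h.f_eq_iff good2 good1).1 e).1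
  z_cent := h.e_z_cent
  swap := ⟨u, h.u_mem, by
    rw [h.e_z3_eq, z2, z3, h.u_f _ _ _ good2, mul_inv_cancel_right, neg_N, zero_add]⟩
  Z2_char := ⟨2 ^ (m + 2), h.e_Z2_char⟩
  X_mem := h.X_mem
  X_sq := h.e_X_sq
  X_not := h.e_X_not
  X_inj := h.X_injective
  X01 := by
    change x1 f * x2 f = z1 f
    rw [x1, x2, z1, h.f_mul _ _ _ _ _ _ goodx1 goodx2, N_add_N]
    simp
  X23 := by
    change x3 f * x4 f = z1 f
    rw [x3, x4, z1, h.f_mul _ _ _ _ _ _ goodx3 goodx4, N_add_N]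
    simp
  X02 := by
    change x1 f * x3 f = z2 f
    rw [x1, x3, z2, h.f_mul _ _ _ _ _ _ goodx1 goodx3]
    simp
  T_inv := h.e_T_inv
  tau := ⟨u, h.u_mem, h.conj_X_u 0, h.conj_X_u 1, h.conj_X_u 2, h.conj_X_u 3⟩
  sg' := ⟨w, h.w_mem, h.conj_X_w 0, h.conj_X_w 1, h.conj_X_w 2, h.conj_X_w 3⟩
  cent_X := fun s hs hc => h.mem_Tor_of_comm hs hc
  TT_le := h.e_Ttwo_le
  J_le := by
    intro g hg
    rcases h.e_mem_J.1 hg with hg' | hg'
    · exact (le_sup_left : Tor f ≤ TVp f u w) hg'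
    · have hS := h.e_mem_S_of_Ov h.sg_mem hg'
      refine h.e_mem_TVp_of_pi hS (i := true) (j := true) ?_
      rw [h.e_pi_of_Ov h.sg_mem hS hg', h.e_pi_sg]
  T_le_J := le_sup_left
  S0_le := fun g hg => (h.e_TVp_pi hg).1
  e_z := fun F hF => (h.e16_struct hF).1 _ (Z2_z _ _)
  e_z' := fun F hF => (h.e16_struct hF).1 _ (Z2_z' _ _)
  e_T := fun F hF => (h.e16_struct hF).2.1
  e_card := ⟨Nat.card (Ttwo f) * 8, fun F hF => h.e_card hF⟩
  e_TT := fun F hF => h.e_TT hF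
  e_uniq := fun F hF D hD hDc hDT => h.e_uniq hF D hD hDc hDT
  e_tr := fun F hF => h.e_tr hF
  e_J := fun F hF => h.e_J hF
  e_S0 := fun F hF => h.e_S0 hF
  e_k := fun F hF => h.e_k hF
  e_ker := fun F hF => h.e_ker hF

end BOne

end Cfsg.Agent.LFourB
end

-- part: LFourB/EFactH
section
set_option linter.all false
open scoped Cfsg.Agent.FastGrp

/-!
# Fusion in `PSL 4 q`, `q = 1 mod 8`: Steps 1, 3, 4 for `BOne`
-/

set_option autoImplicit false

namespace Cfsg.Agent.LFourB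

open Subgroup FusA EF

variable {G : Type*} [Group G] {S : Subgroup G} {m : ℕ} {f : R m → R m → R m → G} {u w : G}

/-- Adjoining an involution doubles the order. -/
theorem EF.card_sup_zpowers {H : Subgroup G} {v : G} (hv : v * v = 1) (hn : ∀ b ∈ H, v * b * v ∈ H) (hvH : v ∉ H) :
    Nat.card ↥(H ⊔ zpowers v) = 2 * Nat.card H := by
  let F : Bool × H → ↥(H ⊔ zpowers v) := fun a =>
    ⟨if a.1 then (a.2 : G) * v else a.2, (mem_sup_zpowers hv hn).2 ⟨a.2, a.2.2, by cases a.1 <;> simp⟩⟩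
  have hF : Function.Bijective F := by
    constructor
    · rintro ⟨i, b⟩ ⟨j, c⟩ hab
      have h1 : (if i then (b : G) * v else b) = if j then (c : G) * v else c := congrArg Subtype.val hab
      have key : ∀ b c : H, (b : G) = (c : G) * v → False := by
        intro b c hbc
        apply hvH
        have : v = (c : G)⁻¹ * b := by rw [hbc]; group
        rw [this]
        exact H.mul_mem (H.inv_mem c.2) b.2
      rcases i with _ | _ <;> rcases j with _ | _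
      · have h2 : (b : G) = c := h1
        rw [Subtype.ext h2]
      · have h2 : (b : G) = c * v := h1
        exact (key _ _ h2).elim
      · have h2 : (b : G) * v = c := h1
        exact (key _ _ h2.symm).elim
      · have h2 : (b : G) * v = c * v := h1
        rw [Subtype.ext (mul_right_cancel h2)]
    · rintro ⟨g, hg⟩
      obtain ⟨b, hb, hgb | hgb⟩ := (mem_sup_zpowers hv hn).1 hg
      · exact ⟨(false, ⟨b, hb⟩), Subtype.ext hgb.symm⟩
      · exact ⟨(true, ⟨b, hb⟩), Subtype.ext hgb.symm⟩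
  rw [← Nat.card_eq_of_bijective F hF, Nat.card_prod]
  simp

namespace BOne

/-- The facts about `S` used in Steps 1, 3, 4. -/
theorem e_sf [Finite G] (h : BOne S m f u w) :
    SF S (Tor f) (Ttwo f) (Tor f ⊔ zpowers (sg u w)) (TVp f u w) (z1 f) (z2 f) (X f) :=
  h.sf fun D hD hab hc => h.eq_Tor hD hab (by rw [hc, h.card_Tor])

/-- The four-group `Z2` as a subgroup. -/
def e_Zg (h : BOne S m f u w) : Subgroup G where
  carrier := {c | Z2 (z1 f) (z2 f) c}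
  one_mem' := Z2_one _ _
  mul_mem' := by
    intro a b ha hb
    obtain ⟨s, hs, rfl⟩ := (h.e_Z2_char a).2 ha
    obtain ⟨t, ht, rfl⟩ := (h.e_Z2_char b).2 hb
    refine (h.e_Z2_char _).1 ⟨s * t, mul_mem hs ht, ?_⟩
    exact (show Commute s t from h.Tor_comm hs ht).mul_pow _
  inv_mem' := by
    intro a ha
    obtain ⟨s, hs, rfl⟩ := (h.e_Z2_char a).2 ha
    exact (h.e_Z2_char _).1 ⟨s⁻¹, inv_mem hs, by rw [inv_pow]⟩

theorem e_card_Zg (h : BOne S m f u w) : Nat.card h.e_Zg = 4 := by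
  let F : Bool × Bool → h.e_Zg := fun b => ⟨f (if b.1 then N m else 0) (if b.1 then N m else 0) (if b.2 then N m else 0), by
    change Z2 (z1 f) (z2 f) _
    have hN := two_mul_N (m := m)
    rw [h.e_Z2_iff (good_of_N (by cases b.1 <;> simp) (by cases b.1 <;> simp) (by
      cases b.2
      · simp
      · simp only [if_true]; linear_combination 2 * hN))]
    refine ⟨rfl, ?_, ?_⟩
    · cases b.1
      · simp
      · simpa using hN
    · cases b.2
      · simp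
      · simpa using hN⟩
  have hgd : ∀ a b : Bool, Good (if a then N m else 0) (if a then N m else 0) (if b then N m else 0) := by
    intro a b
    have hN := two_mul_N (m := m)
    refine good_of_N (by cases a <;> simp) (by cases a <;> simp) ?_
    cases b
    · simp
    · simp only [if_true]; linear_combination 2 * hN
  have hF : Function.Bijective F := by
    constructor
    · rintro ⟨a, b⟩ ⟨a', b'⟩ hab
      have h1 := congrArg Subtype.val hab
      have h2 := (h.f_eq_iff (hgd a b) (hgd a' b')).1 h1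
      obtain ⟨h3, -, h4⟩ := h2
      have hN : N m ≠ 0 := N_ne_zero
      cases a <;> cases a' <;> cases b <;> cases b' <;> simp_all
    · rintro ⟨c, hc⟩
      obtain ⟨p, r, hg, hp, hr, rfl⟩ := h.e_Z2_coord hc
      rcases eq_of_two_mul hp with rfl | rfl <;> rcases eq_of_two_mul hr with rfl | rfl
      · exact ⟨(false, false), Subtype.ext (by simp [F])⟩
      · exact ⟨(false, true), Subtype.ext (by simp [F])⟩
      · exact ⟨(true, false), Subtype.ext (by simp [F])⟩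
      · exact ⟨(true, true), Subtype.ext (by simp [F])⟩
  rw [← Nat.card_eq_of_bijective F hF]
  simp [Nat.card_eq_fintype_card]

theorem e_Zg_le (h : BOne S m f u w) : h.e_Zg ≤ Tor f := by
  intro c hc
  obtain ⟨p, r, hg, -, -, rfl⟩ := h.e_Z2_coord hc
  exact h.f_mem_Tor hg

/-- Elements over `V` centralise `Z2`. -/
theorem e_Z2_comm (h : BOne S m f u w) {c g : G} (hc : Z2 (z1 f) (z2 f) c)
    (hg : Ov f (sg u w) g ∨ Ov f w g ∨ Ov f (sgw u w) g) : c * g = g * c := by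
  obtain ⟨p, r, hgd, hp, hr, rfl⟩ := h.e_Z2_coord hc
  rcases hg with ⟨p', q', r', hgd', rfl⟩ | ⟨p', q', r', hgd', rfl⟩ | ⟨p', q', r', hgd', rfl⟩
  · exact (h.comm_mul_iff (h.f_mem_Tor hgd') (h.f_mem_Tor hgd)).2 ((h.f_sg_comm_iff hgd).2 ⟨hp, rfl⟩)
  · exact (h.comm_mul_iff (h.f_mem_Tor hgd') (h.f_mem_Tor hgd)).2 ((h.f_w_comm_iff hgd).2 ⟨rfl, hr⟩)
  · refine (h.comm_mul_iff (h.f_mem_Tor hgd') (h.f_mem_Tor hgd)).2 ((h.f_sgw_comm_iff hgd).2 ⟨?_, ?_⟩)
    · linear_combination hp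
    · linear_combination hp + hr

/-- Two commuting involutions over `sg` and `w` lie in an `E16`. -/
theorem e_exists_E16 (h : BOne S m f u w) {a b : G} (ha : Ov f (sg u w) a) (hb : Ov f w b) (haa : a * a = 1)
    (hbb : b * b = 1) (hab : a * b = b * a) : ∃ F, E16 S F ∧ a ∈ F ∧ b ∈ F := by
  have hca : ∀ c ∈ h.e_Zg, c * a = a * c := fun c hc => h.e_Z2_comm hc (Or.inl ha)
  have hcb : ∀ c ∈ h.e_Zg, c * b = b * c := fun c hc => h.e_Z2_comm hc (Or.inr (Or.inl hb))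
  have hcc : ∀ c ∈ h.e_Zg, ∀ c' ∈ h.e_Zg, c * c' = c' * c := fun c hc c' hc' =>
    h.Tor_comm (h.e_Zg_le hc) (h.e_Zg_le hc')
  have hcsq : ∀ c ∈ h.e_Zg, c * c = 1 := by
    intro c hc
    obtain ⟨p, r, hgd, hp, hr, rfl⟩ := h.e_Z2_coord hc
    exact (h.e_sq_f_iff hgd).2 ⟨hp, hp, hr⟩
  have hn1 : ∀ c ∈ h.e_Zg, a * c * a ∈ h.e_Zg := by
    intro c hc
    rw [← hca c hc, mul_assoc, haa, mul_one]
    exact hc
  have hmem1 : ∀ g, g ∈ h.e_Zg ⊔ zpowers a ↔ ∃ c ∈ h.e_Zg, g = c ∨ g = c * a := fun g => mem_sup_zpowers haa hn1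
  have hb1 : ∀ g ∈ h.e_Zg ⊔ zpowers a, g * b = b * g := by
    intro g hg
    obtain ⟨c, hc, rfl | rfl⟩ := (hmem1 g).1 hg
    · exact hcb _ hc
    · rw [mul_assoc, hab, ← mul_assoc, hcb c hc, mul_assoc]
  have hn2 : ∀ g ∈ h.e_Zg ⊔ zpowers a, b * g * b ∈ h.e_Zg ⊔ zpowers a := by
    intro g hg
    rw [← hb1 g hg, mul_assoc, hbb, mul_one]
    exact hg
  have hmem2 : ∀ g, g ∈ (h.e_Zg ⊔ zpowers a) ⊔ zpowers b ↔ ∃ c ∈ h.e_Zg ⊔ zpowers a, g = c ∨ g = c * b :=
    fun g => mem_sup_zpowers hbb hn2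
  have hsq1 : ∀ g ∈ h.e_Zg ⊔ zpowers a, g * g = 1 := by
    intro g hg
    obtain ⟨c, hc, rfl | rfl⟩ := (hmem1 g).1 hg
    · exact hcsq _ hc
    · calc c * a * (c * a) = c * (a * c) * a := by group
        _ = c * (c * a) * a := by rw [hca c hc]
        _ = (c * c) * (a * a) := by group
        _ = 1 := by rw [hcsq c hc, haa, one_mul]
  have hsq2 : ∀ g ∈ (h.e_Zg ⊔ zpowers a) ⊔ zpowers b, g * g = 1 := by
    intro g hg
    obtain ⟨c, hc, rfl | rfl⟩ := (hmem2 g).1 hg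
    · exact hsq1 _ hc
    · calc c * b * (c * b) = c * (b * c) * b := by group
        _ = c * (c * b) * b := by rw [hb1 c hc]
        _ = (c * c) * (b * b) := by group
        _ = 1 := by rw [hsq1 c hc, hbb, one_mul]
  have haZ : a ∉ h.e_Zg := fun hh => h.e_not_Tor_sg ha (h.e_Zg_le hh)
  have haS : a ∈ S := h.e_mem_S_of_Ov h.sg_mem ha
  have hbS : b ∈ S := h.e_mem_S_of_Ov h.w_mem hb
  have hbZ : b ∉ h.e_Zg ⊔ zpowers a := by
    intro hh
    obtain ⟨c, hc, h1 | h1⟩ := (hmem1 b).1 hh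
    · exact h.e_not_Tor_w hb (h1 ▸ h.e_Zg_le hc)
    · have h2 : (⟨b, hbS⟩ : S) = ⟨c, h.Tor_le (h.e_Zg_le hc)⟩ * ⟨a, haS⟩ := Subtype.ext h1
      have h3 := congrArg h.pi h2
      rw [map_mul, h.pi_Tor (h.e_Zg_le hc), one_mul, h.e_pi_of_Ov h.w_mem hbS hb, h.e_pi_of_Ov h.sg_mem haS ha,
        h.e_pi_w', h.e_pi_sg] at h3
      revert h3
      decide
  refine ⟨(h.e_Zg ⊔ zpowers a) ⊔ zpowers b, ⟨?_, ?_, hsq2⟩, ?_, ?_⟩
  · refine sup_le (sup_le (h.e_Zg_le.trans h.Tor_le) ?_) ?_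
    · rw [zpowers_le]; exact haS
    · rw [zpowers_le]; exact hbS
  · rw [EF.card_sup_zpowers hbb hn2 hbZ, EF.card_sup_zpowers haa hn1 haZ, h.e_card_Zg]
  · exact (hmem2 a).2 ⟨a, (hmem1 a).2 ⟨1, one_mem _, Or.inr (one_mul a).symm⟩, Or.inl rfl⟩
  · exact (hmem2 b).2 ⟨1, one_mem _, Or.inr (one_mul b).symm⟩

/-- **Every involution over `V` lies in an `E16`.** -/
theorem e_E16_of_overV (h : BOne S m f u w) {e : G} (he : Ov f (sg u w) e ∨ Ov f w e ∨ Ov f (sgw u w) e)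
    (hee : e * e = 1) : ∃ F, E16 S F ∧ e ∈ F := by
  have hsgw : sgw u w = sg u w * w := rfl
  rcases he with he | he | he
  · obtain ⟨p, q, r, hg, rfl⟩ := id he
    have h1 : 2 * r + p - q = 0 := (h.e_sq_sg_iff hg).1 hee
    have hgb : Good (-r) r 0 := ⟨0, by ring⟩
    have hbb := (h.e_sq_w_iff hgb).2 (by ring)
    obtain ⟨F, hF, haF, -⟩ := h.e_exists_E16 he ⟨-r, r, 0, hgb, rfl⟩ hee hbb (by
      rw [mul_assoc, ← mul_assoc (sg u w), h.sg_f hgb, mul_assoc (f (- -r) (-r) (0 + -r - r)), ← mul_assoc,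
        h.f_mul _ _ _ _ _ _ hg hgb.actsg, mul_assoc (f (-r) r 0), ← mul_assoc w, h.w_f _ _ _ hg,
        mul_assoc (f q p (-r)), ← mul_assoc (f (-r) r 0), h.f_mul _ _ _ _ _ _ hgb hg.actw, h.w_mul_sg]
      congr 2
      · linear_combination h1
      · linear_combination -h1
      · ring)
    exact ⟨F, hF, haF⟩
  · obtain ⟨p, q, r, hg, rfl⟩ := id he
    obtain rfl := (h.e_sq_w_iff hg).1 hee
    have hga : Good (2 * p) 0 (-p) := ⟨0, by ring⟩
    have haa := (h.e_sq_sg_iff hga).2 (by ring)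
    obtain ⟨F, hF, -, hbF⟩ := h.e_exists_E16 ⟨2 * p, 0, -p, hga, rfl⟩ he haa hee (by
      rw [mul_assoc, ← mul_assoc (sg u w), h.sg_f hg, mul_assoc (f (-p) (- -p) (r + p - -p)), ← mul_assoc,
        h.f_mul _ _ _ _ _ _ hga hg.actsg, mul_assoc (f p (-p) r), ← mul_assoc w, h.w_f _ _ _ hga,
        mul_assoc (f 0 (2 * p) (- -p)), ← mul_assoc (f p (-p) r), h.f_mul _ _ _ _ _ _ hg hga.actw, h.w_mul_sg]
      congr 2
      · ring
      · ring
      · ring)
    exact ⟨F, hF, hbF⟩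
  · obtain ⟨p, q, r, hg, rfl⟩ := id he
    obtain rfl := (h.e_sq_sgw_iff hg).1 hee
    have hga : Good (2 * q) 0 (-q) := ⟨0, by ring⟩
    have haa := (h.e_sq_sg_iff hga).2 (by ring)
    have hgb : Good q (-q) (r - q) := by
      obtain ⟨c, hc⟩ := hg
      exact ⟨c - q, by linear_combination hc⟩
    have hbb := (h.e_sq_w_iff hgb).2 rfl
    have hsw : sg u w * sgw u w = w := by rw [hsgw, ← mul_assoc, h.sg_mul_sg, one_mul]
    have hae : f (2 * q) 0 (-q) * sg u w * (f q q r * sgw u w) = f q (-q) (r - q) * w := by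
      rw [mul_assoc, ← mul_assoc (sg u w), h.sg_f hg, mul_assoc (f (-q) (-q) (r + q - q)), hsw, ← mul_assoc,
        h.f_mul _ _ _ _ _ _ hga hg.actsg]
      congr 2 <;> ring
    obtain ⟨F, hF, haF, hbF⟩ := h.e_exists_E16 ⟨2 * q, 0, -q, hga, rfl⟩ ⟨q, -q, r - q, hgb, rfl⟩ haa hbb (by
      rw [mul_assoc, ← mul_assoc (sg u w), h.sg_f hgb, mul_assoc (f (-q) (- -q) (r - q + q - -q)), ← mul_assoc,
        h.f_mul _ _ _ _ _ _ hga hgb.actsg, mul_assoc (f q (-q) (r - q)), ← mul_assoc w, h.w_f _ _ _ hga,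
        mul_assoc (f 0 (2 * q) (- -q)), ← mul_assoc (f q (-q) (r - q)), h.f_mul _ _ _ _ _ _ hgb hga.actw, h.w_mul_sg]
      congr 2
      · ring
      · ring
      · ring)
    refine ⟨F, hF, ?_⟩
    rw [← hae] at hbF
    exact (F.mul_mem_cancel_left haF).1 hbF

/-- `OverV` in the present notation. -/
theorem e_overV (h : BOne S m f u w) {g : G} (hg : OverV f u w g) :
    Ov f (sg u w) g ∨ Ov f w g ∨ Ov f (sgw u w) g := by
  obtain ⟨t, ht, hgt⟩ := hg
  obtain ⟨p, q, r, hgd, rfl⟩ := h.mem_Tor.1 ht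
  rcases hgt with rfl | rfl | rfl
  · exact Or.inl ⟨p, q, r, hgd, rfl⟩
  · exact Or.inr (Or.inl ⟨p, q, r, hgd, rfl⟩)
  · exact Or.inr (Or.inr ⟨p, q, r, hgd, rfl⟩)

/-- Involutions of `S` outside `T V'` lie in an `E16`. -/
theorem e_E16_of_not_mem (h : BOne S m f u w) : ∀ e ∈ S, e * e = 1 → e ∉ TVp f u w → ∃ F, E16 S F ∧ e ∈ F := by
  intro e he hee heS
  have hT : e ∉ Tor f := fun hh => heS ((le_sup_left : Tor f ≤ TVp f u w) hh)
  rcases h.involution_cases he hT hee with h1 | h1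
  · exfalso
    apply heS
    obtain ⟨t, ht, h2⟩ := h1
    have hle : Tor f ≤ TVp f u w := le_sup_left
    have hu : u ∈ TVp f u w := (le_sup_right : _ ≤ TVp f u w) (Subgroup.subset_closure (by simp))
    have hub : ub u w ∈ TVp f u w := (le_sup_right : _ ≤ TVp f u w) (Subgroup.subset_closure (by simp))
    rcases h2 with rfl | rfl
    · exact mul_mem (hle ht) hu
    · exact mul_mem (hle ht) hub
  · exact h.e_E16_of_overV (h.e_overV h1) hee

end BOne

end Cfsg.Agent.LFourB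
end

-- part: LFourB/EFactI
section
set_option linter.all false
open scoped Cfsg.Agent.FastGrp

/-!
# Fusion in `PSL 4 q`, `q = 1 mod 8`: Steps 1, 3, 4 for `BOne`, final form
-/

set_option autoImplicit false
set_option linter.unusedSectionVars false

namespace Cfsg.Agent.LFourB

open Subgroup FusA EF

variable {G : Type*} [Group G] {m : ℕ} {f : R m → R m → R m → G} {u w : G}

namespace BOne

section

variable [Finite G] {P : Sylow 2 G}

theorem fus_z1_X (h : BOne (P : Subgroup G) m f u w) (g : G) (i : Fin 4) : g * z1 f * g⁻¹ ≠ X f i :=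
  z_not_conj_X h.e_sf g i

/-- **Step 3**: `z1` and `z2` are conjugate. -/
theorem fus_isConj [IsSimpleGroup G] (h : BOne (P : Subgroup G) m f u w)
    (hU : (∃ i, IsConj u (X f i)) ∨ IsConj u (z2 f))
    (hU' : (∃ i, IsConj (x4 f * u) (X f i)) ∨ IsConj (x4 f * u) (z2 f)) : ∃ g : G, g * z1 f * g⁻¹ = z2 f := by
  refine isConj_z h.e_sf (exists_mem_conj h.e_sf) ?_
  intro e he hee
  by_cases heT : e ∈ Tor f
  · exact Or.inl heT
  right
  rcases h.involution_cases he heT hee with h1 | h1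
  · obtain ⟨s, -, hs⟩ := h.exists_conj_overU h1 hee
    have key : ∀ v, e = s * v * s⁻¹ → ((∃ i, IsConj v (X f i)) ∨ IsConj v (z2 f)) →
        ((∃ i, IsConj e (X f i)) ∨ IsConj e (z2 f)) := by
      intro v hv hv'
      have h2 : IsConj e v := by
        rw [isConj_comm, isConj_iff]
        exact ⟨s, hv.symm⟩
      rcases hv' with ⟨i, hi⟩ | hi
      · exact Or.inl ⟨i, h2.trans hi⟩
      · exact Or.inr (h2.trans hi)
    rcases hs with hs | hs
    · rcases key u hs hU with h2 | h2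
      · exact Or.inl h2
      · exact Or.inr (Or.inl h2)
    · rcases key _ hs hU' with h2 | h2
      · exact Or.inl h2
      · exact Or.inr (Or.inl h2)
  · exact Or.inr (Or.inr (h.e_E16_of_overV (h.e_overV h1) hee))

/-- **Step 3**: every permutation of `x1, .., x4` is induced by `N(T)`. -/
theorem fus_perm (h : BOne (P : Subgroup G) m f u w) (hz : ∃ g : G, g * z1 f * g⁻¹ = z2 f)
    (ρ : Equiv.Perm (Fin 4)) : ∃ n ∈ normalizer (Tor f : Set G), ∀ i, n * X f i * n⁻¹ = X f (ρ i) :=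
  exists_norm_perm h.e_sf hz ρ

/-- Elements of `N(T)` fixing `x1, .., x4` centralise `T`. -/
theorem fus_cent (h : BOne (P : Subgroup G) m f u w) {n : G} (hn : n ∈ normalizer (Tor f : Set G))
    (hX : ∀ i, n * X f i = X f i * n) : ∀ t ∈ Tor f, n * t = t * n :=
  cent_of_X h.e_sf hn hX

/-- The subgroup `T V'` has index 2. -/
theorem e_relIndex (h : BOne (P : Subgroup G) m f u w) : (TVp f u w).relIndex (P : Subgroup G) = 2 := by
  have hle : TVp f u w ≤ (P : Subgroup G) := fun g hg => (h.e_TVp_pi hg).1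
  have hwn : w ∉ TVp f u w := by
    intro hw
    obtain ⟨hS, i, j, hij⟩ := h.e_TVp_pi hw
    rw [h.e_pi_w'] at hij
    have := (d8_inj _ _ _ _ _ _ hij).2.2
    exact absurd this (by decide)
  rw [relIndex, Subgroup.index_eq_two_iff]
  refine ⟨⟨w, h.w_mem⟩, ?_⟩
  rintro ⟨x, hx⟩
  obtain ⟨i, j, k, hijk⟩ := h.e_exists_d8 ⟨x, hx⟩
  rw [mem_subgroupOf, mem_subgroupOf]
  have h1 : ∀ y (hy : y ∈ (P : Subgroup G)) (i j k : Bool), h.pi ⟨y, hy⟩ = d8 i j k → (y ∈ TVp f u w ↔ k = false) := by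
    intro y hy i j k hyk
    constructor
    · intro hh
      obtain ⟨_, i', j', h2⟩ := h.e_TVp_pi hh
      rw [hyk] at h2
      exact (d8_inj _ _ _ _ _ _ h2).2.2
    · rintro rfl
      exact h.e_mem_TVp_of_pi hy hyk
  have h3 : ∃ i' j', h.pi ⟨x * w, mul_mem hx h.w_mem⟩ = d8 i' j' (!k) := by
    have h4 : h.pi ⟨x * w, mul_mem hx h.w_mem⟩ = h.pi ⟨x, hx⟩ * h.pi ⟨w, h.w_mem⟩ := by
      rw [← map_mul]; rfl
    rw [h4, hijk, h.e_pi_w']
    have h5 : ∀ i j k : Bool, ∃ i' j', d8 i j k * d8 false false true = d8 i' j' (!k) := by decide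
    exact h5 i j k
  obtain ⟨i', j', h3⟩ := h3
  have h6 := h1 x hx i j k hijk
  have h7 := h1 (x * w) (mul_mem hx h.w_mem) i' j' (!k) h3
  change Xor (x * w ∈ TVp f u w) (x ∈ TVp f u w)
  rw [h6, h7]
  cases k <;> simp [Xor]

/-- The subgroup `T V'` is generated by `Q1`, `Q2`, and `t0`. -/
theorem e_TVp_le (h : BOne (P : Subgroup G) m f u w) : TVp f u w ≤ closure
    ((({g | ∃ a, g = f (2 * a) 0 (-a)} ∪ {u * x1 f}) ∪ ({g | ∃ a, g = f 0 (2 * a) a} ∪ {ub u w * x3 f})) ∪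
      {f 1 (-1) 0}) := by
  set C := closure ((({g | ∃ a, g = f (2 * a) 0 (-a)} ∪ {u * x1 f}) ∪ ({g | ∃ a, g = f 0 (2 * a) a} ∪
    {ub u w * x3 f})) ∪ {f 1 (-1) 0}) with hC
  have hT : Tor f ≤ C := by
    intro g hg
    obtain ⟨p, q, r, ⟨c, hc⟩, rfl⟩ := h.mem_Tor.1 hg
    have h1 : f (2 * (c - r)) 0 (-(c - r)) ∈ C := subset_closure (Or.inl (Or.inl (Or.inl ⟨_, rfl⟩)))
    have h2 : f 0 (2 * c) c ∈ C := subset_closure (Or.inl (Or.inr (Or.inl ⟨_, rfl⟩)))
    have h3 : f 1 (-1) 0 ∈ C := subset_closure (Or.inr rfl)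
    have hg3 : Good (1 : R m) (-1) 0 := ⟨0, by ring⟩
    have h4 : f 1 (-1) 0 ^ (p - 2 * c + 2 * r).val ∈ C := pow_mem h3 _
    rw [h.f_pow hg3, ZMod.natCast_zmod_val] at h4
    have hg4 : Good ((p - 2 * c + 2 * r) * 1) ((p - 2 * c + 2 * r) * -1) ((p - 2 * c + 2 * r) * 0) := by
      have := hg3.pow (p - 2 * c + 2 * r).val
      rwa [ZMod.natCast_zmod_val] at this
    have h5 := mul_mem (mul_mem h4 h1) h2
    rw [h.f_mul _ _ _ _ _ _ hg4 (goodq1 _), h.f_mul _ _ _ _ _ _ (hg4.add (goodq1 _)) (goodq2 _)] at h5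
    have e1 : (p - 2 * c + 2 * r) * 1 + 2 * (c - r) + 0 = p := by ring
    have e2 : (p - 2 * c + 2 * r) * -1 + 0 + 2 * c = q := by linear_combination -hc
    have e3 : (p - 2 * c + 2 * r) * 0 + -(c - r) + c = r := by ring
    rwa [e1, e2, e3] at h5
  rw [TVp, sup_le_iff]
  refine ⟨hT, ?_⟩
  rw [closure_le]
  rintro x (rfl | hx)
  · have h1 : x * x1 f ∈ C := subset_closure (Or.inl (Or.inl (Or.inr rfl)))
    exact (C.mul_mem_cancel_right (hT (h.f_mem_Tor goodx1))).1 h1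
  · rw [Set.mem_singleton_iff.1 hx]
    have h1 : ub u w * x3 f ∈ C := subset_closure (Or.inl (Or.inr (Or.inr rfl)))
    exact (C.mul_mem_cancel_right (hT (h.f_mem_Tor goodx3))).1 h1

/-- **Step 4**: if no homomorphism of `C(z1)` onto `±1` is nontrivial on `u x1`, then `C(z1)` has a normal
subgroup of index 2 meeting `S` in `T V'`. -/
theorem fus_index_two (h : BOne (P : Subgroup G) m f u w)
    (hu : ∀ φ : ↥(centralizer ({z1 f} : Set G)) →* ℤˣ, ∀ hx : u * x1 f ∈ centralizer ({z1 f} : Set G),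
      φ ⟨u * x1 f, hx⟩ = 1) :
    ∃ H0 : Subgroup G, H0 ≤ centralizer ({z1 f} : Set G) ∧ H0.relIndex (centralizer ({z1 f} : Set G)) = 2 ∧
      centralizer ({z1 f} : Set G) ≤ normalizer (H0 : Set G) ∧ (P : Subgroup G) ⊓ H0 = TVp f u w := by
  have hPL : (P : Subgroup G) ≤ centralizer ({z1 f} : Set G) := P_le_cent h.e_sf
  have hle : TVp f u w ≤ (P : Subgroup G) := fun g hg => (h.e_TVp_pi hg).1
  have hT : Tor f ≤ TVp f u w := le_sup_left
  have huT : u ∈ TVp f u w := (le_sup_right : _ ≤ TVp f u w) (Subgroup.subset_closure (by simp))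
  have hubT : ub u w ∈ TVp f u w := (le_sup_right : _ ≤ TVp f u w) (Subgroup.subset_closure (by simp))
  have hg0 : Good (1 : R m) (-1) 0 := ⟨0, by ring⟩
  refine exists_index_two h.e_sf h.e_relIndex (Q := ({g | ∃ a, g = f (2 * a) 0 (-a)} ∪ {u * x1 f}) ∪
    ({g | ∃ a, g = f 0 (2 * a) a} ∪ {ub u w * x3 f})) (t0 := f 1 (-1) 0) (u0 := w) ?_ h.e_TVp_le
    (hT (h.f_mem_Tor hg0)) ?_ h.w_mem ?_ h.w_w ?_ h.e_E16_of_not_mem
  · rintro x ((⟨a, rfl⟩ | rfl) | (⟨a, rfl⟩ | rfl))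
    · exact hT (h.f_mem_Tor (goodq1 a))
    · exact mul_mem huT (hT (h.f_mem_Tor goodx1))
    · exact hT (h.f_mem_Tor (goodq2 a))
    · exact mul_mem hubT (hT (h.f_mem_Tor goodx3))
  · intro φ q hq hqc
    -- commutators are killed
    have hcomm : ∀ a b x : G, a ∈ (P : Subgroup G) → b ∈ (P : Subgroup G) → a * b * a⁻¹ = x * b →
        ∀ hx : x ∈ centralizer ({z1 f} : Set G), φ ⟨x, hx⟩ = 1 := by
      intro a b x ha hb hab hx
      have h1 : (⟨a, hPL ha⟩ * ⟨b, hPL hb⟩ * ⟨a, hPL ha⟩⁻¹ : ↥(centralizer ({z1 f} : Set G))) = ⟨x, hx⟩ * ⟨b, hPL hb⟩ :=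
        Subtype.ext hab
      have h2 := congrArg φ h1
      rw [map_mul, map_mul, map_mul, map_inv] at h2
      have h3 : φ ⟨a, hPL ha⟩ * φ ⟨b, hPL hb⟩ * (φ ⟨a, hPL ha⟩)⁻¹ = φ ⟨b, hPL hb⟩ := by
        rw [mul_comm (φ ⟨a, hPL ha⟩), mul_inv_cancel_right]
      rw [h3] at h2
      exact (mul_eq_right.1 h2.symm)
    have hq1 : ∀ a : R m, ∀ hx : f (2 * a) 0 (-a) ∈ centralizer ({z1 f} : Set G), φ ⟨f (2 * a) 0 (-a), hx⟩ = 1 := by
      intro a hx
      have hg : Good a (-a) 0 := ⟨0, by ring⟩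
      refine hcomm (f a (-a) 0) u _ (h.f_mem_S hg) h.u_mem ?_ hx
      have := h.e_conj_u hg Good.zero
      rwa [h.f_zero, one_mul] at this
    have hconj : ∀ a b x : G, a ∈ (P : Subgroup G) → a * b * a⁻¹ = x →
        ∀ (hb : b ∈ centralizer ({z1 f} : Set G)) (hx : x ∈ centralizer ({z1 f} : Set G)), φ ⟨b, hb⟩ = 1 →
        φ ⟨x, hx⟩ = 1 := by
      intro a b x ha hab hb hx hb1
      have h1 : (⟨a, hPL ha⟩ * ⟨b, hb⟩ * ⟨a, hPL ha⟩⁻¹ : ↥(centralizer ({z1 f} : Set G))) = ⟨x, hx⟩ :=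
        Subtype.ext hab
      rw [← h1, map_mul, map_mul, map_inv, hb1, mul_one, mul_inv_cancel]
    rcases hq with (⟨a, rfl⟩ | hq) | (⟨a, rfl⟩ | hq)
    · exact hq1 a _
    · have hq' : q = u * x1 f := hq
      subst hq'
      exact hu φ _
    · refine hconj w (f (2 * a) 0 (-a)) _ h.w_mem ?_ (hPL (h.f_mem_S (goodq1 _))) _ (hq1 a _)
      rw [h.w_f _ _ _ (goodq1 _), mul_inv_cancel_right, neg_neg]
    · have hq' : q = ub u w * x3 f := hq
      subst hq'
      refine hconj w (u * x1 f) _ h.w_mem ?_ (hPL (mul_mem h.u_mem (h.f_mem_S goodx1))) _ (hu φ _)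
      have : w * (u * x1 f) * w⁻¹ = (w * u * w⁻¹) * (w * x1 f * w⁻¹) := by group
      rw [this, h.w_mul_u, h.w_x1, mul_inv_cancel_right, mul_inv_cancel_right]
  · intro hw
    obtain ⟨hS, i, j, hij⟩ := h.e_TVp_pi hw
    rw [h.e_pi_w'] at hij
    have := (d8_inj _ _ _ _ _ _ hij).2.2
    exact absurd this (by decide)
  · exact (h.e_sq_w_iff hg0).2 rfl

end

end BOne

end Cfsg.Agent.LFourB
end

-- part: LFourB/EFactJ
section
set_option linter.all false
open scoped Cfsg.Agent.FastGrp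

/-!
# Fusion in `PSL 4 q`, `q = 1 mod 8`: Steps 3, 4 from the element `d`
-/

set_option autoImplicit false
set_option linter.unusedSectionVars false

namespace Cfsg.Agent.LFourB

open Subgroup FusA EF

variable {G : Type*} [Group G] {m : ℕ} {f : R m → R m → R m → G} {u w : G}

namespace BOne

section

variable [Finite G] {P : Sylow 2 G} {d : G}

/-- `d` fuses `x1` to `u`. -/
theorem fus_d_u (h : BOne (P : Subgroup G) m f u w) (hb : ∀ b ∈ Bu f, d * b = b * d)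
    (h1 : d * h1 f * d⁻¹ = u * x1 f) : IsConj u (X f 0) := by
  have hgM : Good (0 : R m) 0 (M m) := e_good_Ttwo (by ring) (by ring) four_mul_M
  have hbM : f 0 0 (M m) ∈ Bu f := h.mem_Bu.2 ⟨0, M m, hgM, rfl⟩
  have e1 : x1 f = LFourB.h1 f * f 0 0 (M m) := by
    rw [x1, LFourB.h1, h.f_mul _ _ _ _ _ _ goodh1 hgM]
    congr 1 <;> ring
  have e2 : d * x1 f * d⁻¹ = u * x1 f * f 0 0 (M m) := by
    rw [e1]
    calc d * (LFourB.h1 f * f 0 0 (M m)) * d⁻¹ = (d * LFourB.h1 f * d⁻¹) * (d * f 0 0 (M m) * d⁻¹) := by group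
      _ = u * x1 f * f 0 0 (M m) := by rw [h1, hb _ hbM, mul_inv_cancel_right]
      _ = u * (LFourB.h1 f * f 0 0 (M m)) * f 0 0 (M m) := by rw [← e1]
  have e3 : u * x1 f * f 0 0 (M m) = f (N m) 0 (M m + N m) * u := by
    have hg : Good (N m) 0 (M m) := good_of_N (Or.inr rfl) (Or.inl rfl) four_mul_M
    rw [mul_assoc, x1, h.f_mul _ _ _ _ _ _ goodx1 hgM]
    have e4 : N m + 0 = N m := by ring
    have e5 : (0 : R m) + 0 = 0 := by ring
    have e6 : (0 : R m) + M m = M m := by ring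
    rw [e4, e5, e6, h.u_f _ _ _ hg, neg_N]
  have hg : Good (N m) 0 (M m + N m) := good_of_N (Or.inr rfl) (Or.inl rfl)
    (by linear_combination four_mul_M (m := m) + 2 * two_mul_N (m := m))
  -- conjugate to `u`
  have hgc : Good (-M m) (M m) 0 := ⟨0, by ring⟩
  have e7 : f (-M m) (M m) 0 * (f (N m) 0 (M m + N m) * u) * (f (-M m) (M m) 0)⁻¹ = u := by
    have hg8 : Good (2 * -M m) 0 (- -M m) := ⟨0, by ring⟩
    rw [h.e_conj_u hgc hg, ← mul_assoc, h.f_mul _ _ _ _ _ _ hg8 hg]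
    have e8 : 2 * -M m + N m = 0 := by linear_combination -two_mul_M (m := m)
    have e9 : - -M m + (M m + N m) = 0 := by linear_combination two_mul_M (m := m) + two_mul_N (m := m)
    rw [e8, e9, add_zero, h.f_zero, one_mul]
  have h3 : IsConj (x1 f) (f (N m) 0 (M m + N m) * u) := isConj_iff.2 ⟨d, by rw [e2, e3]⟩
  have h4 : IsConj (f (N m) 0 (M m + N m) * u) u := isConj_iff.2 ⟨_, e7⟩
  exact (h3.trans h4).symm

/-- `d` fuses `z2` to `x4 u`. -/
theorem fus_d_xu (h : BOne (P : Subgroup G) m f u w) (hb : ∀ b ∈ Bu f, d * b = b * d)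
    (h1 : d * h1 f * d⁻¹ = u * x1 f) : IsConj (x4 f * u) (z2 f) := by
  have hgM : Good (0 : R m) (N m) (M m) := goodh2
  have hbM : f 0 (N m) (M m) ∈ Bu f := h.mem_Bu.2 ⟨N m, M m, hgM, rfl⟩
  have e1 : z2 f = LFourB.h1 f * f 0 (N m) (M m) := by
    rw [z2, LFourB.h1, h.f_mul _ _ _ _ _ _ goodh1 hgM]
    congr 1 <;> ring
  have e2 : d * z2 f * d⁻¹ = u * x1 f * f 0 (N m) (M m) := by
    rw [e1]
    calc d * (LFourB.h1 f * f 0 (N m) (M m)) * d⁻¹ = (d * LFourB.h1 f * d⁻¹) * (d * f 0 (N m) (M m) * d⁻¹) := by group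
      _ = u * x1 f * f 0 (N m) (M m) := by rw [h1, hb _ hbM, mul_inv_cancel_right]
  have e3 : u * x1 f * f 0 (N m) (M m) = f (N m) (N m) (M m + N m) * u := by
    have hg : Good (N m) (N m) (M m) := good_of_N (Or.inr rfl) (Or.inr rfl) four_mul_M
    rw [mul_assoc, x1, h.f_mul _ _ _ _ _ _ goodx1 hgM]
    have e4 : N m + 0 = N m := by ring
    have e5 : (0 : R m) + N m = N m := by ring
    have e6 : (0 : R m) + M m = M m := by ring
    rw [e4, e5, e6, h.u_f _ _ _ hg, neg_N]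
  have hg : Good (N m) (N m) (M m + N m) := good_of_N (Or.inr rfl) (Or.inr rfl)
    (by linear_combination four_mul_M (m := m) + 2 * two_mul_N (m := m))
  have hgc : Good (M m) (-M m) 0 := ⟨0, by ring⟩
  have e7 : f (M m) (-M m) 0 * (f (N m) (N m) (M m + N m) * u) * (f (M m) (-M m) 0)⁻¹ = x4 f * u := by
    have hg8 : Good (2 * M m) 0 (-M m) := ⟨0, by ring⟩
    rw [h.e_conj_u hgc hg, ← mul_assoc, h.f_mul _ _ _ _ _ _ hg8 hg]
    have e8 : 2 * M m + N m = 0 := by linear_combination two_mul_M (m := m) + two_mul_N (m := m)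
    have e9 : -M m + (M m + N m) = N m := by ring
    rw [e8, e9, zero_add, x4]
  have h3 : IsConj (z2 f) (f (N m) (N m) (M m + N m) * u) := isConj_iff.2 ⟨d, by rw [e2, e3]⟩
  have h4 : IsConj (f (N m) (N m) (M m + N m) * u) (x4 f * u) := isConj_iff.2 ⟨_, e7⟩
  exact (h3.trans h4).symm

/-- Homomorphisms of `C(z1)` into `±1` kill `u x1`. -/
theorem fus_d_hom (h : BOne (P : Subgroup G) m f u w) (hb : ∀ b ∈ Bu f, d * b = b * d)
    (h1 : d * h1 f * d⁻¹ = u * x1 f) (h2 : d * (u * x1 f) * d⁻¹ = LFourB.h1 f * (u * x1 f))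
    (φ : ↥(centralizer ({z1 f} : Set G)) →* ℤˣ) (hx : u * x1 f ∈ centralizer ({z1 f} : Set G)) :
    φ ⟨u * x1 f, hx⟩ = 1 := by
  have hPL : (P : Subgroup G) ≤ centralizer ({z1 f} : Set G) := P_le_cent h.e_sf
  have hdc : d ∈ centralizer ({z1 f} : Set G) := mem_centralizer_singleton_iff.2
    (hb _ (h.mem_Bu.2 ⟨0, N m, good1, rfl⟩))
  have hh : LFourB.h1 f ∈ centralizer ({z1 f} : Set G) := hPL (h.f_mem_S goodh1)
  have e1 : (⟨d, hdc⟩ * ⟨LFourB.h1 f, hh⟩ * ⟨d, hdc⟩⁻¹ : ↥(centralizer ({z1 f} : Set G))) = ⟨u * x1 f, hx⟩ :=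
    Subtype.ext h1
  have e2 : (⟨d, hdc⟩ * ⟨u * x1 f, hx⟩ * ⟨d, hdc⟩⁻¹ : ↥(centralizer ({z1 f} : Set G))) =
      ⟨LFourB.h1 f, hh⟩ * ⟨u * x1 f, hx⟩ := Subtype.ext h2
  have e3 := congrArg φ e1
  have e4 := congrArg φ e2
  rw [map_mul, map_mul, map_inv, mul_comm (φ ⟨d, hdc⟩), mul_inv_cancel_right] at e3
  rw [map_mul, map_mul, map_mul, map_inv, mul_comm (φ ⟨d, hdc⟩), mul_inv_cancel_right] at e4
  have e5 : φ ⟨LFourB.h1 f, hh⟩ = 1 := mul_eq_right.1 e4.symm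
  rw [← e3, e5]

/-- **Steps 3 and 4, final form.** -/
theorem fus_main [IsSimpleGroup G] (h : BOne (P : Subgroup G) m f u w) (hb : ∀ b ∈ Bu f, d * b = b * d)
    (h1 : d * h1 f * d⁻¹ = u * x1 f) (h2 : d * (u * x1 f) * d⁻¹ = LFourB.h1 f * (u * x1 f)) :
    (∃ g : G, g * z1 f * g⁻¹ = z2 f) ∧
    (∀ ρ : Equiv.Perm (Fin 4), ∃ n ∈ normalizer (Tor f : Set G), ∀ i, n * X f i * n⁻¹ = X f (ρ i)) ∧
    (∃ H0 : Subgroup G, H0 ≤ centralizer ({z1 f} : Set G) ∧ H0.relIndex (centralizer ({z1 f} : Set G)) = 2 ∧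
      centralizer ({z1 f} : Set G) ≤ normalizer (H0 : Set G) ∧ (P : Subgroup G) ⊓ H0 = TVp f u w) := by
  have h3 := h.fus_isConj (Or.inl ⟨0, h.fus_d_u hb h1⟩) (Or.inr (h.fus_d_xu hb h1))
  exact ⟨h3, h.fus_perm h3, h.fus_index_two (fun φ hx => h.fus_d_hom hb h1 h2 φ hx)⟩

end

end BOne

end Cfsg.Agent.LFourB

private theorem dce_0f9921ea0acb : _root_.True := by
  try have : _root_.True := by simp only [_root_.Cfsg.Agent.LFourB.h1.eq_1]
  exact _root_.True.intro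
end

-- part: LFourB/ClBFus
section
set_option linter.all false
open scoped Cfsg.Agent.FastGrp

/-!
# Closing of type `B1`: fusion of involutions in a subgroup containing `C(z1)`, `C(x4)` and `N(T)`
-/

set_option autoImplicit false

namespace Cfsg.Agent.LFourB

open Subgroup

variable {G : Type*} [Group G] {S : Subgroup G} {m : ℕ} {f : R m → R m → R m → G} {u w : G}

/-- The odd element fusing `h1` and `f 0 q M * u` (the output of `EssOne.exists_d`). -/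
structure DD {G : Type*} [Group G] {m : ℕ} (f : R m → R m → R m → G) (u d : G) (q : R m) : Prop where
  q_eq : q = 0 ∨ q = N m
  odd : ¬ 2 ∣ orderOf d
  comm : ∀ b ∈ Bu f, d * b = b * d
  h1 : d * h1 f * d⁻¹ = f 0 q (M m) * u
  e1 : d * (f 0 q (M m) * u) * d⁻¹ = LFourB.h1 f * (f 0 q (M m) * u) ∨
    d * (f 0 q (M m) * u) * d⁻¹ = LFourB.h1 f * (f 0 q (M m) * u) * z1 f
  cent : ∀ c : G, (∀ b ∈ Bu f, c * b = b * c) → c * LFourB.h1 f = LFourB.h1 f * c → c * u = u * c →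
    ∀ n : ℕ, c ^ 2 ^ n = 1 → c ∈ Bu f

namespace ClB

theorem comm_conj {g c x : G} (h : c * (g * x * g⁻¹) = g * x * g⁻¹ * c) : g⁻¹ * c * g * x = x * (g⁻¹ * c * g) := by
  calc g⁻¹ * c * g * x = g⁻¹ * (c * (g * x * g⁻¹)) * g := by group
    _ = g⁻¹ * (g * x * g⁻¹ * c) * g := by rw [h]
    _ = x * (g⁻¹ * c * g) := by group

theorem kap {g e x y : G} (h1 : e * x = x * e) (h2 : e * y = y * e) (hg : g * x * g⁻¹ = y) :
    g⁻¹ * e * g * e⁻¹ * x = x * (g⁻¹ * e * g * e⁻¹) := by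
  have h3 : e⁻¹ * x = x * e⁻¹ := by rw [inv_mul_eq_iff_eq_mul, ← mul_assoc, h1, mul_inv_cancel_right]
  calc g⁻¹ * e * g * e⁻¹ * x = g⁻¹ * e * g * (e⁻¹ * x) := by group
    _ = g⁻¹ * e * (g * x * g⁻¹) * g * e⁻¹ := by rw [h3]; group
    _ = g⁻¹ * (e * y) * g * e⁻¹ := by rw [hg]; group
    _ = g⁻¹ * (g * x * g⁻¹) * e * g * e⁻¹ := by rw [h2, hg]; group
    _ = x * (g⁻¹ * e * g * e⁻¹) := by group

/-- The centraliser of `B`, `x`, `y`. -/
def CC (B : Subgroup G) (x y : G) : Subgroup G := centralizer ((B : Set G) ∪ {x, y})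

theorem mem_CC {B : Subgroup G} {x y c : G} :
    c ∈ CC B x y ↔ (∀ b ∈ B, c * b = b * c) ∧ c * x = x * c ∧ c * y = y * c := by
  rw [CC, mem_centralizer_iff]
  constructor
  · intro h
    exact ⟨fun b hb => (h b (Or.inl hb)).symm, (h x (Or.inr (by simp))).symm, (h y (Or.inr (by simp))).symm⟩
  · rintro ⟨h1, h2, h3⟩ b (hb | hb)
    · exact (h1 b hb).symm
    · rcases hb with rfl | rfl
      · exact h2.symm
      · exact h3.symm

end ClB

namespace BOne

theorem good_qM {q : R m} (hq : q = 0 ∨ q = N m) : Good 0 q (M m) := by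
  rcases hq with rfl | rfl
  · exact good_of_N (Or.inl rfl) (Or.inl rfl) four_mul_M
  · exact goodh2

theorem comm_Bu_Tor (h : BOne S m f u w) {b t : G} (hb : b ∈ Bu f) (ht : t ∈ Tor f) : b * t = t * b :=
  h.Tor_comm (h.mem_Bu_iff.mp hb).1 ht

theorem h1_mem_Tor (h : BOne S m f u w) : LFourB.h1 f ∈ Tor f := h.f_mem_Tor goodh1

theorem h1_mul_h1 (h : BOne S m f u w) : LFourB.h1 f * LFourB.h1 f = z1 f := by
  rw [LFourB.h1, h.f_mul _ _ _ _ _ _ goodh1 goodh1, N_add_N, add_zero, z1]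
  congr 1
  rw [← neg_add, M_add_M, neg_N]

/-- The odd element can be chosen in the centraliser of `e`. -/
theorem exists_comm_e [Finite G] (h : BOne S m f u w) {d : G} {q : R m} (D : DD f u d q) {t : G} (ht : t ∈ Tor f)
    {e : G} (heB : ∀ b ∈ Bu f, e * b * e⁻¹ ∈ Bu f) (hee : e * e ∈ Bu f) (he1 : e * h1 f = h1 f * e)
    (he2 : e * (t * (f 0 q (M m) * u) * t⁻¹) = t * (f 0 q (M m) * u) * t⁻¹ * e) :
    ∃ d', (∀ b ∈ Bu f, d' * b = b * d') ∧ d' * h1 f * d'⁻¹ = t * (f 0 q (M m) * u) * t⁻¹ ∧ e * d' = d' * e := by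
  set e1 := t * (f 0 q (M m) * u) * t⁻¹ with he1d
  set dt := t * d * t⁻¹ with hdt
  have hBt : ∀ b ∈ Bu f, b * t = t * b := fun b hb => h.comm_Bu_Tor hb ht
  have hBt' : ∀ b ∈ Bu f, t⁻¹ * b = b * t⁻¹ := fun b hb => by
    rw [inv_mul_eq_iff_eq_mul, ← mul_assoc, ← hBt b hb, mul_inv_cancel_right]
  have hh1t : h1 f * t = t * h1 f := h.Tor_comm h.h1_mem_Tor ht
  have hh1t' : t⁻¹ * h1 f = h1 f * t⁻¹ := by
    rw [inv_mul_eq_iff_eq_mul, ← mul_assoc, ← hh1t, mul_inv_cancel_right]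
  have hz1t' : t⁻¹ * z1 f = z1 f * t⁻¹ := by
    rw [← h.h1_mul_h1, ← mul_assoc, hh1t', mul_assoc, hh1t', mul_assoc]
  have hdB : ∀ b ∈ Bu f, dt * b = b * dt := by
    intro b hb
    calc dt * b = t * d * (t⁻¹ * b) := by rw [hdt]; group
      _ = t * (d * b) * t⁻¹ := by rw [hBt' b hb]; group
      _ = t * b * d * t⁻¹ := by rw [D.comm b hb]; group
      _ = b * dt := by rw [← hBt b hb, hdt]; group
  have hdh1 : dt * h1 f * dt⁻¹ = e1 := by
    calc dt * h1 f * dt⁻¹ = t * d * (t⁻¹ * h1 f) * t * d⁻¹ * t⁻¹ := by rw [hdt]; group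
      _ = t * (d * h1 f * d⁻¹) * t⁻¹ := by rw [hh1t']; group
      _ = e1 := by rw [D.h1]
  have hde1 : ∃ ζ, (ζ = 1 ∨ ζ = z1 f) ∧ dt * e1 * dt⁻¹ = h1 f * e1 * ζ := by
    have h0 : dt * e1 * dt⁻¹ = t * (d * (f 0 q (M m) * u) * d⁻¹) * t⁻¹ := by rw [hdt, he1d]; group
    rcases D.e1 with k | k
    · refine ⟨1, Or.inl rfl, ?_⟩
      rw [h0, k, mul_one, he1d]
      rw [← mul_assoc t (h1 f), ← hh1t]
      group
    · refine ⟨z1 f, Or.inr rfl, ?_⟩
      rw [h0, k, he1d]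
      calc t * (h1 f * (f 0 q (M m) * u) * z1 f) * t⁻¹ = t * h1 f * (f 0 q (M m) * u) * (z1 f * t⁻¹) := by group
        _ = h1 f * (t * (f 0 q (M m) * u) * t⁻¹) * z1 f := by rw [← hz1t', ← hh1t]; group
  obtain ⟨ζ, hζ, hde1⟩ := hde1
  -- commuting with `ζ`
  have hcζ : ∀ c : G, c * h1 f = h1 f * c → c * ζ = ζ * c := by
    intro c hc
    rcases hζ with rfl | rfl
    · rw [mul_one, one_mul]
    · rw [← h.h1_mul_h1, ← mul_assoc, hc, mul_assoc, hc, mul_assoc]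
  have heB' : ∀ b ∈ Bu f, e⁻¹ * b * e ∈ Bu f := by
    intro b hb
    have h1 : e⁻¹ * b * e = (e * e)⁻¹ * (e * b * e⁻¹) * (e * e) := by group
    rw [h1]
    exact (Bu f).mul_mem ((Bu f).mul_mem ((Bu f).inv_mem hee) (heB b hb)) hee
  set C := ClB.CC (Bu f) (h1 f) e1 with hC
  have hprod : ∀ c : G, c * h1 f = h1 f * c → c * e1 = e1 * c → c * (h1 f * e1 * ζ) = h1 f * e1 * ζ * c := by
    intro c h1 h2
    calc c * (LFourB.h1 f * e1 * ζ) = c * LFourB.h1 f * e1 * ζ := by group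
      _ = LFourB.h1 f * (c * e1) * ζ := by rw [h1]; group
      _ = LFourB.h1 f * e1 * (c * ζ) := by rw [h2]; group
      _ = LFourB.h1 f * e1 * ζ * c := by rw [hcζ c h1]; group
  obtain ⟨c, hc, hce⟩ := ClB.exists_comm (G := G) (d := dt) (e := e) (B := Bu f) (C := C) (n := orderOf d)
    (a := 2 * m + 4) (by rw [hdt, conj_pow, pow_orderOf_eq_one, mul_one, mul_inv_cancel]) D.odd h.card_Bu hdB heB hee
    (by
      intro b hb
      rw [hC, ClB.mem_CC]
      refine ⟨fun b' hb' => h.comm_Bu_Tor hb (h.mem_Bu_iff.mp hb').1, h.comm_Bu_Tor hb h.h1_mem_Tor, ?_⟩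
      have h3 : b * (f 0 q (M m) * u) = f 0 q (M m) * u * b := by
        rw [← mul_assoc, h.comm_Bu_Tor hb (h.f_mem_Tor (good_qM D.q_eq)), mul_assoc, (h.mem_Bu_iff.mp hb).2, mul_assoc]
      calc b * e1 = b * t * (f 0 q (M m) * u) * t⁻¹ := by rw [he1d]; group
        _ = t * (b * (f 0 q (M m) * u)) * t⁻¹ := by rw [hBt b hb]; group
        _ = t * (f 0 q (M m) * u) * (b * t⁻¹) := by rw [h3]; group
        _ = e1 * b := by rw [← hBt' b hb, he1d]; group)
    (by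
      intro b hb c hc
      rw [hC, ClB.mem_CC] at hc
      exact (hc.1 b hb).symm)
    (by
      intro c hc k hk
      rw [hC, ClB.mem_CC] at hc
      obtain ⟨hc1, hc2, hc3⟩ := hc
      have h0 : t⁻¹ * c * t ∈ Bu f := by
        have hf : t⁻¹ * c * t * (f 0 q (M m) * u) = f 0 q (M m) * u * (t⁻¹ * c * t) := ClB.comm_conj hc3
        have hb : ∀ b ∈ Bu f, t⁻¹ * c * t * b = b * (t⁻¹ * c * t) := by
          intro b hb
          apply ClB.comm_conj
          rw [← hBt b hb, mul_inv_cancel_right]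
          exact hc1 b hb
        apply D.cent (t⁻¹ * c * t) hb _ _ k
        · have h4 : t⁻¹ * c * t = t⁻¹ * c * (t⁻¹)⁻¹ := by rw [inv_inv]
          rw [h4, conj_pow, hk, mul_one, mul_inv_cancel]
        · apply ClB.comm_conj
          rw [← hh1t, mul_inv_cancel_right]
          exact hc2
        · have h5 := hb _ (h.mem_Bu.mpr ⟨q, M m, good_qM D.q_eq, rfl⟩)
          have h6 : f 0 q (M m) * (t⁻¹ * c * t * u) = f 0 q (M m) * (u * (t⁻¹ * c * t)) := by
            rw [← mul_assoc, ← h5, mul_assoc, hf, mul_assoc]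
          exact mul_left_cancel h6
      have h1 : c = t * (t⁻¹ * c * t) * t⁻¹ := by group
      rw [h1, ← hBt _ h0, mul_inv_cancel_right]
      exact h0)
    (by
      intro c hc
      rw [hC, ClB.mem_CC] at hc ⊢
      obtain ⟨hc1, hc2, hc3⟩ := hc
      refine ⟨fun b hb => ClB.comm_conj ?_, ClB.comm_conj ?_, ClB.comm_conj ?_⟩
      · rw [hdB b hb, mul_inv_cancel_right]
        exact hc1 b hb
      · rw [hdh1]
        exact hc3
      · rw [hde1]
        exact hprod c hc2 hc3)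
    (by
      intro c hc
      rw [hC, ClB.mem_CC] at hc ⊢
      obtain ⟨hc1, hc2, hc3⟩ := hc
      have key : ∀ x, c * (e⁻¹ * x * e) = e⁻¹ * x * e * c → e * c * e⁻¹ * x = x * (e * c * e⁻¹) := by
        intro x hx
        have h1 := ClB.comm_conj (g := e⁻¹) (c := c) (x := x) (by rw [inv_inv]; exact hx)
        rwa [inv_inv] at h1
      refine ⟨fun b hb => key b (hc1 _ (heB' b hb)), key _ ?_, key _ ?_⟩
      · rw [mul_assoc, ← he1, inv_mul_cancel_left]
        exact hc2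
      · rw [mul_assoc, ← he2, inv_mul_cancel_left]
        exact hc3)
    (by
      rw [hC, ClB.mem_CC]
      refine ⟨?_, ClB.kap he1 he2 hdh1, ClB.kap he2 (hprod e he1 he2) hde1⟩
      intro b hb
      have hb' := heB' b hb
      calc dt⁻¹ * e * dt * e⁻¹ * b = dt⁻¹ * e * (dt * (e⁻¹ * b * e)) * e⁻¹ := by group
        _ = dt⁻¹ * b * e * dt * e⁻¹ := by rw [hdB _ hb']; group
        _ = dt⁻¹ * (b * dt) * dt⁻¹ * e * dt * e⁻¹ := by group
        _ = b * (dt⁻¹ * e * dt * e⁻¹) := by rw [← hdB b hb]; group)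
  rw [hC, ClB.mem_CC] at hc
  obtain ⟨hc1, hc2, hc3⟩ := hc
  refine ⟨dt * c, fun b hb => ?_, ?_, hce⟩
  · rw [mul_assoc, hc1 b hb, ← mul_assoc, hdB b hb, mul_assoc]
  · calc dt * c * h1 f * (dt * c)⁻¹ = dt * (c * h1 f) * c⁻¹ * dt⁻¹ := by group
      _ = dt * h1 f * dt⁻¹ := by rw [hc2]; group
      _ = e1 := hdh1

end BOne

end Cfsg.Agent.LFourB

private theorem dce_27815e109eb8 : _root_.True := by
  try have : _root_.True := by simp only [_root_.Cfsg.Agent.LFourB.ClB.CC.eq_1]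
  exact _root_.True.intro
end

-- part: LFourB/ClBFus_mg
section

end

-- part: LFourFive/SixEnd
section
set_option linter.all false
open scoped Cfsg.Agent.FastGrp

/-!
# The end of the pencil: `G ≃* PSL₄(p)`

`psl4` : from `Sys p X z e`, the elements `g`, `n₂` and generation; `psl4_of_base`, `concl` (`p = 5`).
-/

set_option autoImplicit false
set_option linter.unusedVariables false
set_option linter.unusedSectionVars false

namespace Cfsg.Agent.LFourFive.SixEnd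

open Matrix Cfsg.Agent.LFourFive.SixAbs
open Cfsg.Agent.CTFrame.SL3 (S3)

universe u

variable {p : ℕ} [Fact p.Prime] {G : Type u} [Group G] [Finite G] {X : Fin 4 → Fin 4 → Subgroup G} {z e : G}

/-- the two elements used by the assembly -/
structure Two (X : Fin 4 → Fin 4 → Subgroup G) (g n : G) : Prop where
  g1 : cj g (K X 0 1) = K X 0 2
  g2 : cj g (K X 0 2) = K X 1 2
  g3 : cj g (K X 1 2) = K X 0 1
  g4 : cj g (K X 2 3) = K X 1 3
  g5 : cj g (K X 1 3) = K X 0 3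
  g6 : cj g (K X 0 3) = K X 2 3
  mem : n ∈ K X 2 3
  n1 : cj n (K X 0 2) = K X 0 3
  n2 : cj n (K X 1 2) = K X 1 3

/-- `K 0 1` and `K 2 3` commute -/
theorem comm_K (h : Sys p X z e) : ∀ x ∈ K X 0 1, ∀ y ∈ K X 2 3, x * y = y * x := by
  have key : ∀ i j k l : Fin 4, i ≠ j → i ≠ k → i ≠ l → j ≠ k → j ≠ l → k ≠ l →
      X i j ≤ Subgroup.centralizer (K X k l : Set G) := by
    intro i j k l h1 h2 h3 h4 h5 h6 x hx
    have h7 : K X k l ≤ Subgroup.centralizer {x} := by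
      refine sup_le ?_ ?_
      · intro y hy
        rw [Subgroup.mem_centralizer_singleton_iff]
        exact (h.opp i j k l h1 h2 h3 h4 h5 h6 x hx y hy).symm
      · intro y hy
        rw [Subgroup.mem_centralizer_singleton_iff]
        exact (h.opp i j l k h1 h3 h2 h5 h4 h6.symm x hx y hy).symm
    rw [Subgroup.mem_centralizer_iff]
    intro y hy
    exact Subgroup.mem_centralizer_singleton_iff.1 (h7 hy)
  have h1 : K X 0 1 ≤ Subgroup.centralizer (K X 2 3 : Set G) :=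
    sup_le (key 0 1 2 3 (by decide) (by decide) (by decide) (by decide) (by decide) (by decide))
      (key 1 0 2 3 (by decide) (by decide) (by decide) (by decide) (by decide) (by decide))
  intro x hx y hy
  exact (Subgroup.mem_centralizer_iff.1 (h1 hx) y hy).symm

theorem cj_eq (g : G) (H : Subgroup G) : LFourR.AssemPlus.cj g H = cj g H := rfl

theorem inp (hp : 3 < p) (h : Sys p X z e) {g n : G} (t : Two X g n) :
    ∃ φ : S3 (ZMod p) →* G, LFourR.AssemPlus.In φ (K X 0 1) (K X 2 3) g n := by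
  obtain ⟨φ, h1, h2⟩ := exists_hom hp h
  refine ⟨φ, ?_⟩
  have e1 : cj (g * g) (K X 0 1) = K X 1 2 := by
    rw [← SixOf.cj_cj, t.g1, t.g2]
  have e2 : cj (g * g) (K X 2 3) = K X 0 3 := by
    rw [← SixOf.cj_cj, t.g4, t.g5]
  exact
    { ker := by
        rw [(MonoidHom.ker_eq_bot_iff φ).2 h1]
        exact bot_le
      s01 := h2 0 1 (by decide)
      s02 := by rw [h2 0 2 (by decide), cj_eq, t.g1]; rfl
      s12 := by rw [h2 1 2 (by decide), cj_eq, e1]; rfl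
      comm := comm_K h
      g1 := by
        rw [cj_eq, mul_assoc, ← SixOf.cj_cj, e1, t.g3]
      g2 := by
        rw [cj_eq, mul_assoc, ← SixOf.cj_cj, e2, t.g6]
      n1 := fun x hx => (comm_K h x hx n t.mem).symm
      n02 := by rw [cj_eq, cj_eq, cj_eq, t.g1, t.n1, e2]
      n12 := by rw [cj_eq, cj_eq, cj_eq, e1, t.n2, t.g4] }

/-- **The end of the pencil.** -/
theorem psl4 [IsSimpleGroup G] (hp : 3 < p) (h : Sys p X z e) {g n : G} (t : Two X g n) {n1 : G} (hn1 : n1 ∈ K X 0 1)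
    (h13 : cj n1 (K X 0 2) = K X 1 2) (hgen : K X 0 1 ⊔ K X 2 3 ⊔ K X 0 2 = ⊤) :
    Nonempty (G ≃* ProjectiveSpecialLinearGroup (Fin 4) (ZMod p)) := by
  obtain ⟨φ, hφ⟩ := inp hp h t
  have e1 : cj (g * g) (K X 0 1) = K X 1 2 := by
    rw [← SixOf.cj_cj, t.g1, t.g2]
  refine LFourR.AssemPlus.psl4' hφ ?_ t.mem hn1 ?_ ?_
  · rw [Nat.card_zmod]
    exact (Fact.out : p.Prime).odd_of_ne_two (by omega)
  · rw [cj_eq, cj_eq, cj_eq, t.g1, e1, h13]
  · rw [cj_eq, t.g1, hgen]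

end Cfsg.Agent.LFourFive.SixEnd
end

-- part: LFourFive/Concl
section
set_option linter.all false
open scoped Cfsg.Agent.FastGrp

/-!
# Statement S0510, type B5, `|F| = 5`: `InpFive` implies `G ≃* PSL₄(5)`
-/

set_option autoImplicit false
set_option linter.unusedSectionVars false

namespace Cfsg.Agent.LFourFive

open Subgroup Cfsg.Agent.LFourR

universe u

variable {G : Type u} [Group G] {z e ρ n1 n2 h1 h2 : G} {L1 L2 U : Subgroup G}

namespace InpFive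

variable (h : InpFive z e ρ n1 n2 h1 h2 L1 L2 U)

include h

/-- **The system of the twelve root groups.** -/
theorem exists_base [Finite G] : ∃ (X : Fin 4 → Fin 4 → Subgroup G) (g : G), Base 5 X z e ∧
    Rot z e ρ n1 n2 L1 L2 U g ∧ (∀ i j, i ≠ j → K X i j = KK ρ n1 L1 L2 i j) := by
  have hfact : Fact (Nat.Prime 5) := ⟨by norm_num⟩
  obtain ⟨g, r⟩ := h.exists_rot
  obtain ⟨P, Q, hP, hQ, hPQ⟩ := h.good02.ex
  obtain ⟨X, x02, x20, x12, x03, x13, x21, x30, x31, hR, hne, a1, a2, a3⟩ :=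
    LabelsBase.exists_labels (r.clab h) hP hQ hPQ
  have hK : ∀ i j, i ≠ j → K X i j = KK ρ n1 L1 L2 i j := by
    intro i j hij
    refine (h.good hij).sup _ _ (hR i j hij) ?_ (hne i j hij)
    have h3 := hR j i hij.symm
    rw [KK_symm] at h3
    exact h3
  obtain ⟨σ, I⟩ := h.oneTwo hP
  have hcol : ∀ x ∈ P, ∀ y ∈ cj n1 P, x * y = y * x := by
    rintro x hx _ ⟨y, hy, rfl⟩
    exact (I.main hx hy).2.1
  have hrow : ∀ x ∈ P, ∀ y ∈ cj n2 P, x * y = y * x := by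
    rintro x hx _ ⟨y, hy, rfl⟩
    exact (I.main hx hy).2.2
  have K02 : K X 0 2 = cg ρ L1 := hK 0 2 (by decide)
  have K13 : K X 1 3 = cg ρ L2 := hK 1 3 (by decide)
  have K23 : K X 2 3 = L2 := hK 2 3 (by decide)
  have hpre : LabelsBase.Pre' 5 z e n1 n2 g X :=
    { sqz := h.zz
      sqe := h.ee
      e_ne := h.e_ne
      ze := h.ze
      n1z := h.n1_z
      n1e := by rw [h.n1_e, h.ze]
      n2z := h.n2_z
      n2e := by rw [h.n2_e, h.ze]
      gz := r.g_z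
      ge := r.g_e
      a1 := a1
      a2 := a2
      a3 := a3
      n2mem := by rw [K23]; exact h.n2_mem
      card := by rw [x02]; exact hP.card
      iso := by rw [K02]; exact h.good02.iso
      emem := by rw [K02]; exact h.e_mem02
      fix := by
        rw [x02]
        exact fun x hx => (h.comm02 x (hP.le hx) e h.e_mem13).symm
      inv := by rw [x02]; exact h.z_inv02 hP
      cK := by
        rw [x02, K13]
        exact fun x hx y hy => h.comm02 x (hP.le hx) y hy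
      row := by rw [x02, x03]; exact hrow
      col := by rw [x02, x12]; exact hcol }
  obtain ⟨Q', hQ'⟩ := h.pair.exists_core hP.le hP.card
  refine ⟨X, g, hpre.base (by norm_num) (Q := Q') ?_, r, hK⟩
  rw [x02, K13]
  exact hQ'

/-- **`G ≃* PSL₄(5)`.** -/
theorem psl4 [Finite G] [IsSimpleGroup G] :
    Nonempty (G ≃* Matrix.ProjectiveSpecialLinearGroup (Fin 4) (ZMod 5)) := by
  have hfact : Fact (Nat.Prime 5) := ⟨by norm_num⟩
  obtain ⟨X, g, hB, r, hK⟩ := h.exists_base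
  have k01 : K X 0 1 = L1 := hK 0 1 (by decide)
  have k02 : K X 0 2 = cg ρ L1 := hK 0 2 (by decide)
  have k12 : K X 1 2 = cg n1 (cg ρ L1) := hK 1 2 (by decide)
  have k13 : K X 1 3 = cg ρ L2 := hK 1 3 (by decide)
  have k23 : K X 2 3 = L2 := hK 2 3 (by decide)
  have k03 : K X 0 3 = cg n1 (cg ρ L2) := hK 0 3 (by decide)
  refine SixEnd.psl4 (p := 5) (g := g) (n := n2) (n1 := n1) (by norm_num) (SixOf.sys_of_base hB) ?_ ?_ ?_ ?_
  · refine ⟨?_, ?_, ?_, ?_, ?_, ?_, ?_, ?_, ?_⟩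
    · rw [k01, k02]; exact r.g01
    · rw [k02, k12]; exact r.g02
    · rw [k12, k01]; exact r.g12
    · rw [k23, k13]; exact r.g23
    · rw [k13, k03]; exact r.g13
    · rw [k03, k23]; exact r.g03
    · rw [k23]; exact h.n2_mem
    · rw [k02, k03]; exact h.n2_K02
    · rw [k12, k13]; exact h.n2_K12
  · rw [k01]; exact h.n1_mem
  · rw [k02, k12]; rfl
  · rw [k01, k23, k02]
    exact h.data.sup_eq_top h.closed

/-- conclusion of S0510 -/
theorem concl [Finite G] [IsSimpleGroup G] : LFour.ConclLU G := by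
  refine Or.inl ⟨ZMod 5, inferInstance, inferInstance, ?_, h.psl4⟩
  rw [ZMod.card]
  decide

end InpFive

end Cfsg.Agent.LFourFive
end
end
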